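import Cfsg.Agent.H91.Rank3.Family

/-!
An invariant elementary subgroup of order `p ^ 3` on which conjugation is a transvection: the common axis of the
transvections is a central line, inverted-and-fixed by an element of `Γ`; such lines are unique.
-/

set_option autoImplicit false
set_option linter.unusedSectionVars false
set_option linter.style.haveILetI false

namespace Cfsg.Agent.H91.Rank3

open Subgroup
open Cfsg.Agent.H91.Small (TvData)
open scoped commutatorElement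

section Count

variable {M : Type*} [Group M] [Finite M] {p : ℕ} [hp : Fact p.Prime]

theorem card_zpowers_prime {x : M} (hx : x ^ p = 1) (h1 : x ≠ 1) : Nat.card (zpowers x) = p := by
  rw [Nat.card_zpowers]; exact orderOf_eq_prime hx h1

/-- A proper subgroup is smaller by a factor at least `p`. -/
theorem mul_card_le (hM : IsPGroup p M) {A B : Subgroup M} (h : A < B) : p * Nat.card A ≤ Nat.card B := by
  obtain ⟨i, hi⟩ := IsPGroup.iff_card.1 (hM.to_subgroup A)
  obtain ⟨j, hj⟩ := IsPGroup.iff_card.1 (hM.to_subgroup B)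
  have hlt : Nat.card A < Nat.card B := by
    by_contra hge
    exact h.ne (Subgroup.eq_of_le_of_card_ge h.le (not_lt.1 hge))
  rw [hi, hj] at hlt ⊢
  rw [← pow_succ']
  exact Nat.pow_le_pow_right hp.out.pos ((Nat.pow_lt_pow_iff_right hp.out.one_lt).1 hlt)

/-- Coordinates in a subgroup of order at most `p ^ 2` containing two independent central elements. -/
theorem exists_pair (hM : IsPGroup p M) {H : Subgroup M} (hH : Nat.card H ≤ p ^ 2) {c d : M} (hc : c ∈ H)
    (hd : d ∈ H) (hcd : c ∉ zpowers d) (hd1 : d ≠ 1) (hdp : d ^ p = 1) (hcomm : Commute c d) {x : M}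
    (hx : x ∈ H) : ∃ a k : ℕ, x = c ^ a * d ^ k := by
  have hle : zpowers c ⊔ zpowers d ≤ H := sup_le (zpowers_le.2 hc) (zpowers_le.2 hd)
  have heq : zpowers c ⊔ zpowers d = H := by
    refine Subgroup.eq_of_le_of_card_ge hle (hH.trans ?_)
    have := mul_card_le hM (A := zpowers d) (B := zpowers c ⊔ zpowers d)
      (lt_of_le_not_ge le_sup_right fun h => hcd (h (mem_sup_left (mem_zpowers c))))
    rwa [card_zpowers_prime hdp hd1, ← pow_two] at this
  have hnorm : zpowers c ≤ normalizer (zpowers d : Set M) := zpowers_le.2 (by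
    refine Cfsg.Agent.FusionSys.mem_normalizer_of_maps fun y hy => ?_
    obtain ⟨i, rfl⟩ := hy
    simp only
    rw [(hcomm.zpow_right i).eq, mul_inv_cancel_right]
    exact zpow_mem (mem_zpowers d) i)
  rw [← heq, ← SetLike.mem_coe, Subgroup.coe_mul_of_left_le_normalizer_right _ _ hnorm] at hx
  obtain ⟨_, hu, _, hv, rfl⟩ := hx
  obtain ⟨a, rfl⟩ := (isOfFinOrder_of_finite c).mem_powers_iff_mem_zpowers.2 hu
  obtain ⟨k, rfl⟩ := (isOfFinOrder_of_finite d).mem_powers_iff_mem_zpowers.2 hv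
  exact ⟨a, k, rfl⟩

end Count

namespace Fam

variable {M : Type*} [Group M] [Finite M] {p : ℕ} [hp : Fact p.Prime] {F : Fam p M} {E : Subgroup M}

/-- Two elements inverting `d` fix the same line. -/
theorem line_eq {d c c' : M} (hdp : d ^ p = 1) (hdz : d ∈ center M) (hcz : c ∈ center M) {γ γ' : MulAut M}
    (hγ : γ ∈ F.Γ) (hγ' : γ' ∈ F.Γ) (h1 : γ d = d⁻¹) (h2 : γ c = c) (h1' : γ' d = d⁻¹) (h2' : γ' c' = c')
    {a k : ℕ} (hc' : c' = c ^ a * d ^ k) : c' ∈ zpowers c := by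
  set x := c ^ a
  have hδd : (γ' * γ) d = d := by rw [MulAut.mul_apply, h1, map_inv, h1', inv_inv]
  have hx : x = c' * (d ^ k)⁻¹ := by rw [hc', mul_inv_cancel_right]
  have hδx : (γ' * γ) x = x * d ^ (2 * k) := by
    rw [MulAut.mul_apply, map_pow γ, h2, show c ^ a = x from rfl]
    conv_lhs => rw [hx, map_mul, map_inv, map_pow, h1', h2', inv_pow, inv_inv, hc', mul_assoc, ← pow_add,
      ← two_mul]
  have hiter : ∀ n : ℕ, ((γ' * γ) ^ n) x = x * d ^ (2 * k * n) := by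
    intro n
    induction n with
    | zero => simp
    | succ n ih =>
      rw [pow_succ', MulAut.mul_apply, ih, map_mul, hδx, map_pow, hδd, mul_assoc, ← pow_add, Nat.mul_succ,
        add_comm (2 * k)]
  obtain ⟨g, hg⟩ := F.pow _ (mul_mem hγ' hγ)
  have hxz : x ∈ center M := pow_mem hcz a
  have hr := hiter F.r
  rw [hg, MulAut.conj_apply, Subgroup.mem_center_iff.1 hxz g, mul_inv_cancel_right, left_eq_mul] at hr
  rcases eq_or_ne d 1 with rfl | hd1
  · rw [hc', one_pow, mul_one]; exact pow_mem (mem_zpowers c) a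
  have hdvd : p ∣ 2 * k * F.r :=
    (orderOf_eq_prime hdp hd1).symm.dvd.trans (orderOf_dvd_of_pow_eq_one hr)
  have hk : p ∣ k := by
    rcases (Nat.Prime.dvd_mul hp.out).1 hdvd with h | h
    · rcases (Nat.Prime.dvd_mul hp.out).1 h with h | h
      · exact absurd ((Nat.prime_dvd_prime_iff_eq hp.out Nat.prime_two).1 h) F.odd
      · exact h
    · exact absurd h F.coprime
  obtain ⟨q, rfl⟩ := hk
  rw [hc', pow_mul, hdp, one_pow, mul_one]
  exact pow_mem (mem_zpowers c) a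

/-- The fixed line of an element inverting `d` is invariant. -/
theorem gInv_line {d c : M} (hdp : d ^ p = 1) (hd1 : d ≠ 1) (hdz : d ∈ center M) (hcz : c ∈ center M)
    (hdline : F.GInv (zpowers d)) {H : Subgroup M} (hH : F.GInv H) (hHc : Nat.card H ≤ p ^ 2) (hc : c ∈ H)
    (hd : d ∈ H) (hcd : c ∉ zpowers d) {γ : MulAut M} (hγ : γ ∈ F.Γ) (h1 : γ d = d⁻¹) (h2 : γ c = c) :
    F.GInv (zpowers c) := by
  intro α hα x hx
  obtain ⟨i, rfl⟩ := hx
  simp only
  rw [map_zpow]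
  refine zpow_mem ?_ i
  obtain ⟨a, k, hak⟩ := exists_pair F.isP hHc hc hd hcd hd1 hdp (Subgroup.mem_center_iff.1 hdz c)
    (hH α hα c hc)
  refine line_eq hdp hdz hcz hγ (mul_mem (mul_mem hα hγ) (inv_mem hα)) h1 h2 ?_ ?_ hak
  · obtain ⟨j, hj⟩ := hdline α⁻¹ (inv_mem hα) d (mem_zpowers d)
    simp only at hj
    rw [MulAut.mul_apply, MulAut.mul_apply, ← hj, map_zpow, h1, inv_zpow, hj, map_inv, MulAut.apply_inv_self]
  · rw [MulAut.mul_apply, MulAut.mul_apply, MulAut.inv_apply_self, h2]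

/-- The axis. -/
theorem exists_axis (hE : F.Ess E) {W : Subgroup M} (hW : F.Inv W E) (hWE : W ≤ E) (hcard : Nat.card W = p ^ 3)
    (hcomm : ∀ w ∈ W, ∀ e ∈ E, Commute e w) (hexp : ∀ w ∈ W, w ^ p = 1) {d : M} (hd1 : d ≠ 1) (hd : d ∈ W)
    (hdz : d ∈ center M) (hline : ∀ m : M, ∀ w ∈ W, ⁅m, w⁆ ∈ zpowers d) (hne : ¬ F.Inv (W ⊓ center M) E) :
    Nat.card (W ⊓ center M : Subgroup M) = p ^ 2 ∧
      ∃ c ∈ W, c ∈ om p M ∧ c ∉ zpowers d ∧ F.Inv (zpowers c) E ∧ ∃ γ ∈ F.Γ, γ d = d⁻¹ ∧ γ c = c := by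
  classical
  letI : CommGroup W :=
    { (inferInstance : Group W) with
      mul_comm := fun u v => Subtype.ext (hcomm v v.2 u (hWE u.2)).eq }
  haveI := F.finite_G E
  haveI := finite_aut (G := W)
  let res : F.G E → MulAut W := fun α =>
    { toFun := fun w => ⟨((α : MulAut E) ⟨w, hWE w.2⟩ : M), hW _ α.2 _ w.2⟩
      invFun := fun w => ⟨((α : MulAut E)⁻¹ ⟨w, hWE w.2⟩ : M), hW _ (inv_mem α.2) _ w.2⟩
      left_inv := fun w => Subtype.ext (by simp)
      right_inv := fun w => Subtype.ext (by simp)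
      map_mul' := fun u v => Subtype.ext (by
        show ((α : MulAut E) ⟨((u * v : W) : M), hWE (u * v).2⟩ : M) = _
        rw [show (⟨((u * v : W) : M), hWE (u * v).2⟩ : E) = ⟨u, hWE u.2⟩ * ⟨v, hWE v.2⟩ from rfl, map_mul]
        rfl) }
  let ρ : F.G E →* MulAut W := MonoidHom.mk' res fun α β => MulEquiv.ext fun w => Subtype.ext rfl
  have hρ : ∀ (α : F.G E) (w : W), ((ρ α w : W) : M) = ((α : MulAut E) ⟨w, hWE w.2⟩ : M) := fun α w => rfl
  obtain ⟨n, hn⟩ := exists_not_mem hE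
  obtain ⟨A0, hA0⟩ := exists_sylow hE
  set X := ρ.range
  have hsurj : Function.Surjective ρ.rangeRestrict := ρ.rangeRestrict_surjective
  set z : X := ρ.rangeRestrict ⟨cj hE n, cjG hE n⟩
  have hzap : ∀ w : W, (((z : MulAut W) w : W) : M) = n * w * n⁻¹ := fun w => rfl
  have htriv : ∀ e ∈ E, ρ ⟨cj hE e, cjG hE e⟩ = 1 := fun e he => MulEquiv.ext fun w => Subtype.ext (by
    rw [hρ, coe_cj]
    simp [(hcomm w w.2 e he).eq])
  set A := A0.mapSurjective hsurj
  have hA : (A : Subgroup X) = zpowers z := by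
    rw [Sylow.coe_mapSurjective, hA0]
    refine le_antisymm ?_ (zpowers_le.2 ⟨_, Subgroup.mem_subgroupOf.2 (cj_mem hE n), rfl⟩)
    rintro _ ⟨⟨f, hf⟩, hfi, rfl⟩
    obtain ⟨m, rfl⟩ := eq_cj hE (Subgroup.mem_subgroupOf.1 hfi)
    obtain ⟨e, he, i, rfl⟩ := exists_dec hE hn m
    refine ⟨i, Subtype.ext ?_⟩
    simp only
    rw [zpow_natCast, SubmonoidClass.coe_pow]
    show ρ ⟨cj hE n, _⟩ ^ i = ρ ⟨cj hE (e * n ^ i), _⟩
    have : (⟨cj hE (e * n ^ i), cjG hE _⟩ : F.G E) = ⟨cj hE e, cjG hE e⟩ * ⟨cj hE n, cjG hE n⟩ ^ i :=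
      Subtype.ext (by simp)
    rw [this, map_mul, map_pow, htriv e he, one_mul]
  have hzfix : ∀ w : W, (z : MulAut W) w = w ↔ (w : M) ∈ center M := fun w => by
    rw [Subtype.ext_iff, hzap, mul_inv_eq_iff_eq_mul]
    exact ⟨fun h => mem_center_of hE hn (fun e he => (hcomm w w.2 e he).symm) h.symm,
      fun h => Subgroup.mem_center_iff.1 h n⟩
  have hz1 : z ≠ 1 := fun h => hne fun α hα x hx => ⟨hW α hα x hx.1, by
    have := (hzfix ⟨(α x : M), hW α hα x hx.1⟩).1 (by rw [h]; rfl)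
    exact this⟩
  have hzp : z ^ p = 1 := Subtype.ext (by
    rw [SubmonoidClass.coe_pow, OneMemClass.coe_one]
    show ρ ⟨cj hE n, _⟩ ^ p = 1
    rw [← map_pow, show (⟨cj hE n, cjG hE n⟩ : F.G E) ^ p = ⟨cj hE (n ^ p), cjG hE _⟩ from
      Subtype.ext (by simp), htriv _ (pow_mem' hE n)])
  have hAc : Nat.card (A : Subgroup X) = p := by
    rw [hA, Nat.card_zpowers]; exact orderOf_eq_prime hzp hz1
  set Y := normalizer ((A : Subgroup X) : Set X)
  have hYz : ∀ y ∈ Y, ∃ e : ℕ, y * z * y⁻¹ = z ^ e := fun y hy => by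
    obtain ⟨e, he⟩ := (isOfFinOrder_of_finite z).mem_powers_iff_mem_zpowers.2
      (hA ▸ (Subgroup.mem_normalizer_iff.1 hy z).1 (hA ▸ mem_zpowers z))
    exact ⟨e, he.symm⟩
  have hY : Y ≠ ⊤ := fun h => hne fun α hα x hx => ⟨hW α hα x hx.1, by
    set w : W := ⟨x, hx.1⟩
    set h' : X := ρ.rangeRestrict ⟨α, hα⟩
    obtain ⟨e, he⟩ := hYz h'⁻¹ (h ▸ mem_top _)
    rw [inv_inv] at he
    have h1 : ((z ^ e : X) : MulAut W) w = w := by
      rw [SubmonoidClass.coe_pow]; exact fix_pow ((hzfix w).2 hx.2) e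
    rw [← he, Subgroup.coe_mul, Subgroup.coe_mul, Subgroup.coe_inv, MulAut.mul_apply, MulAut.mul_apply] at h1
    have h2 : (z : MulAut W) ((h' : MulAut W) w) = (h' : MulAut W) w := by
      conv_rhs => rw [← h1, MulAut.apply_inv_self]
    exact (hzfix _).1 h2⟩
  have hemb : ∀ Q : Subgroup X, Q ≤ (A : Subgroup X) → Q ≠ ⊥ → normalizer (Q : Set X) ≤ Y := by
    intro Q hQ hQne
    rcases (Nat.dvd_prime hp.out).1 (hAc ▸ Subgroup.card_dvd_of_le hQ) with h | h
    · exact absurd (Subgroup.card_eq_one.1 h) hQne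
    · rw [Subgroup.eq_of_le_of_card_ge hQ (by rw [hAc, h])]
  set a : W := ⟨d, hd⟩
  have D : TvData p X A Y z a := ⟨fun v => Subtype.ext (hexp v v.2), hY, hemb, hA ▸ mem_zpowers z, hz1,
    (hzfix a).2 hdz, fun v => by
      obtain ⟨i, hi⟩ := hline n (v : M)⁻¹ (inv_mem v.2)
      refine ⟨-i, Subtype.ext ?_⟩
      simp only at hi ⊢
      rw [SubgroupClass.coe_zpow, zpow_neg, hi, Subgroup.coe_mul, Subgroup.coe_inv, hzap, commutatorElement_def]
      group⟩
  obtain ⟨g, τ, s, m, hg, -, hm, hτa, hτa', -, -, -, hfix, hdec⟩ := exists_frame D (-1)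
  set v' : X := g * z * g⁻¹
  set K : Subgroup W := TvData.fixed (z : MulAut W) ⊓ TvData.fixed (v' : MulAut W)
  have hfz : Nat.card (TvData.fixed (z : MulAut W)) = p ^ 2 := by
    have := Subgroup.card_mul_index (TvData.fixed (z : MulAut W))
    rw [D.index_fixed, hcard, pow_succ] at this
    exact Nat.eq_of_mul_eq_mul_right hp.out.pos this
  have haK : a ∉ K := fun h => hg (D.mem_of_fix h.2)
  have hKcard : Nat.card K = p := by
    have hlt : K < TvData.fixed (z : MulAut W) := lt_of_le_not_ge inf_le_left fun h => haK (h D.fix)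
    have h1 := mul_card_le (F.isP.to_subgroup W) hlt
    rw [hfz, pow_two] at h1
    have h2 : K.index ≤ p * p := by
      refine (Subgroup.index_inf_le ..).trans (Nat.mul_le_mul D.index_fixed.le (le_of_eq ?_))
      rw [show TvData.fixed (v' : MulAut W)
          = (TvData.fixed (z : MulAut W)).comap ((g : MulAut W)⁻¹ : MulAut W).toMonoidHom from by
        ext v
        show (v' : MulAut W) v = v ↔ (z : MulAut W) ((g : MulAut W)⁻¹ v) = (g : MulAut W)⁻¹ v
        rw [Subgroup.coe_mul, Subgroup.coe_mul, Subgroup.coe_inv, MulAut.mul_apply, MulAut.mul_apply]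
        exact ⟨fun h => by conv_rhs => rw [← h, MulAut.inv_apply_self],
          fun h => by rw [h, MulAut.apply_inv_self]⟩,
        Subgroup.index_comap_of_surjective _ ((g : MulAut W)⁻¹ : MulAut W).surjective, D.index_fixed]
    have h3 := Subgroup.card_mul_index K
    rw [hcard] at h3
    refine le_antisymm (Nat.le_of_mul_le_mul_left h1 hp.out.pos) ?_
    refine Nat.le_of_mul_le_mul_right (c := p * p) ?_ (Nat.mul_pos hp.out.pos hp.out.pos)
    calc p * (p * p) = p ^ 3 := by ring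
      _ = Nat.card K * K.index := h3.symm
      _ ≤ Nat.card K * (p * p) := Nat.mul_le_mul_left _ h2
  obtain ⟨⟨cW, hcK⟩, hc1'⟩ := (Subgroup.ne_bot_iff_exists_ne_one (H := K)).1 fun h => by
    rw [h, Subgroup.card_bot] at hKcard
    exact hp.out.one_lt.ne hKcard
  have hc1 : cW ≠ 1 := fun h => hc1' (Subtype.ext h)
  have hKc : K = zpowers cW := (Subgroup.eq_of_le_of_card_ge (zpowers_le.2 hcK) (by
    rw [hKcard, card_zpowers_prime (D.exp cW) hc1])).symm
  have hcz : (cW : M) ∈ center M := (hzfix cW).1 hcK.1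
  refine ⟨?_, (cW : M), cW.2, ⟨hcz, hexp _ cW.2⟩, ?_⟩
  · rw [← hfz]
    refine Nat.card_congr ⟨fun x => ⟨⟨x, x.2.1⟩, (hzfix _).2 x.2.2⟩,
      fun x => ⟨x.1, x.1.2, (hzfix _).1 x.2⟩, fun x => rfl, fun x => rfl⟩
  have hinv : ∀ b : W, b ^ ((((-1 : (ZMod p)ˣ)) : ZMod p)).val = b⁻¹ := fun b => by
    refine eq_inv_of_mul_eq_one_left ?_
    rw [← pow_succ, ← orderOf_dvd_iff_pow_eq_one]
    refine (orderOf_dvd_of_pow_eq_one (D.exp b)).trans ((ZMod.natCast_eq_zero_iff _ _).1 ?_)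
    simp
  have hneg : ((((-1 : (ZMod p)ˣ))⁻¹ : (ZMod p)ˣ) : ZMod p) = ((-1 : (ZMod p)ˣ) : ZMod p) := by simp
  rw [hinv] at hτa
  rw [hneg, hinv] at hτa'
  set a' := (g : MulAut W) a
  -- the torus commutes with `z`
  have hτz : τ * z = z * τ := by
    refine Subtype.ext (MulEquiv.ext fun v => ?_)
    obtain ⟨i, j, c', rfl, h1, h2⟩ := hdec v
    obtain ⟨hτc, -⟩ := hfix c' h1 h2
    obtain ⟨k, hk⟩ := D.diff a'
    simp only at hk
    have hza' : (z : MulAut W) a' = a' * a ^ k := by rw [hk, mul_inv_cancel_left]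
    simp only [Subgroup.coe_mul, MulAut.mul_apply, map_mul, map_pow, map_zpow, D.fix, hza', hτa, hτa', hτc,
      h1, map_inv]
    congr 2
    rw [mul_inv_rev, inv_zpow, mul_comm]
  obtain ⟨⟨α0, hα0⟩, hα0e⟩ := hsurj τ
  obtain ⟨k, hk, hkG, hkn⟩ := exists_normalising hE (K := ((A : Subgroup X).comap ρ.rangeRestrict).map
      (F.G E).subtype) (Subgroup.map_subtype_le _)
    (fun f hf => ⟨⟨f, F.indG hE hf⟩, Subgroup.mem_comap.2 (by
      rw [Sylow.coe_mapSurjective]
      exact ⟨_, hA0.ge (Subgroup.mem_subgroupOf.2 hf), rfl⟩), rfl⟩) hα0 (by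
    rintro _ ⟨f, hf, rfl⟩
    refine ⟨⟨α0, hα0⟩ * f * ⟨α0, hα0⟩⁻¹, ?_, rfl⟩
    rw [SetLike.mem_coe, Subgroup.mem_comap, map_mul, map_mul, map_inv, hα0e]
    obtain ⟨i, hi⟩ := hA ▸ (Subgroup.mem_comap.1 hf)
    simp only at hi
    rw [← hi, (Commute.zpow_right hτz i : Commute τ (z ^ i)).eq, mul_inv_cancel_right, hA]
    exact zpow_mem (mem_zpowers z) i)
  obtain ⟨γ, hγ, hγe⟩ := F.ext hE _ hkG hkn
  obtain ⟨kk, hkk, rfl⟩ := hk
  obtain ⟨i, hi⟩ := hA ▸ (Subgroup.mem_comap.1 hkk)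
  simp only at hi
  have hap : ∀ w : W, (z : MulAut W) ((τ : MulAut W) w) = (τ : MulAut W) w →
      γ (w : M) = (((τ : MulAut W) w : W) : M) := fun w hw => by
    rw [show γ (w : M) = _ from hγe ⟨w, hWE w.2⟩]
    have h1 : ((ρ.rangeRestrict (kk⁻¹ * ⟨α0, hα0⟩) : X) : MulAut W) w = (τ : MulAut W) w := by
      rw [map_mul, map_inv, ← hi, hα0e, ← zpow_neg, Subgroup.coe_mul, MulAut.mul_apply, SubgroupClass.coe_zpow]
      obtain ⟨j, hj⟩ := (isOfFinOrder_of_finite (z : MulAut W)).mem_powers_iff_mem_zpowers.2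
        (zpow_mem (mem_zpowers (z : MulAut W)) (-i))
      simp only at hj
      rw [← hj]
      exact fix_pow hw j
    exact (congrArg Subtype.val h1)
  obtain ⟨hτc, -⟩ := hfix cW hcK.1 hcK.2
  have hγd : γ d = d⁻¹ := by
    rw [show d = ((a : W) : M) from rfl, hap a (by rw [hτa, map_inv, D.fix]), hτa]
    rfl
  have hγc : γ (cW : M) = cW := by rw [hap cW (by rw [hτc]; exact hcK.1), hτc]
  refine ⟨fun hcd => hc1 (Subtype.ext ?_), fun α hα x hx => ?_, γ, hγ, hγd, hγc⟩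
  · obtain ⟨j, hj⟩ := hcd
    simp only at hj
    rw [← hj, map_zpow, hγd, inv_zpow, hj] at hγc
    have h2 : (cW : M) ^ 2 = 1 := by
      rw [pow_two]
      nth_rw 1 [← hγc]
      exact inv_mul_cancel _
    rw [OneMemClass.coe_one, ← orderOf_eq_one_iff]
    exact Nat.eq_one_of_dvd_coprimes ((Nat.coprime_primes hp.out Nat.prime_two).2 F.odd)
      (orderOf_dvd_of_pow_eq_one (hexp _ cW.2)) (orderOf_dvd_of_pow_eq_one h2)
  · obtain ⟨j, hj⟩ := hx
    simp only at hj
    obtain ⟨l, hl⟩ : (ρ ⟨α, hα⟩) cW ∈ zpowers cW := hKc.le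
      ((frame_invariant D hYz hg hm (ρ.rangeRestrict ⟨α, hα⟩)).1 cW hcK.1 hcK.2)
    have h1 : α ⟨cW, hWE cW.2⟩ = (⟨cW, hWE cW.2⟩ : E) ^ l := Subtype.ext (by
      have := congrArg Subtype.val hl
      simp only [SubgroupClass.coe_zpow] at this ⊢
      exact this.symm)
    have hx : x = (⟨cW, hWE cW.2⟩ : E) ^ j := Subtype.ext (by rw [SubgroupClass.coe_zpow]; exact hj.symm)
    rw [hx, map_zpow, h1, ← zpow_mul, SubgroupClass.coe_zpow]
    exact zpow_mem (mem_zpowers _) _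

end Fam

end Cfsg.Agent.H91.Rank3
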