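import Cfsg.Agent.H91.Rank3.CaseB

/-!
The quotient of the third case by `⟨c ^ p⟩` and the subgroups fixed by all automorphisms.
-/

set_option autoImplicit false
set_option linter.unusedSectionVars false
set_option linter.style.haveILetI false

namespace Cfsg.Agent.H91.Rank3

open Subgroup
open scoped commutatorElement

variable {N : Type*} [Group N] {p : ℕ} [hp : Fact p.Prime] [Finite N]

namespace BData

variable {t : MulAut N} {n w c : N} {l : (ZMod p)ˣ} (D : BData p t n w c l)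
include D

theorem npow_w (i : ℕ) : n ^ i * w = ⁅n, w⁆ ^ i * (w * n ^ i) := by
  induction i with
  | zero => simp
  | succ i ih =>
    have h1 : n * w = ⁅n, w⁆ * (w * n) := by rw [commutatorElement_def]; group
    rw [pow_succ', mul_assoc, ih, ← mul_assoc n, (D.nu.pow_right i).eq, mul_assoc, ← mul_assoc n, h1,
      mul_assoc ⁅n, w⁆, mul_assoc w, ← pow_succ', ← mul_assoc (⁅n, w⁆ ^ i), ← pow_succ]

theorem dnormal : (zpowers (c ^ p)).Normal :=
  PGroups.normal_of_le_center (zpowers_le.2 (mem_center_iff.2 fun g => ((D.cc g).pow_left p).eq.symm))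

/-- `⟨u⟩ ⊔ ⟨c ^ p⟩` contains all commutators. -/
theorem comm_mem (g h : N) : ⁅g, h⁆ ∈ zpowers ⁅n, w⁆ ⊔ zpowers (c ^ p) := by
  haveI := D.dnormal
  set π := QuotientGroup.mk' (zpowers (c ^ p))
  have hu : ∀ x ∈ ({n, w, c} : Set N), Commute (π ⁅n, w⁆) (π x) := by
    rintro x (rfl | rfl | rfl)
    · exact D.nu.symm.map π
    · rw [← commutatorElement_eq_one_iff_commute, ← map_commutatorElement]
      exact (QuotientGroup.eq_one_iff _).2 D.uw
    · exact (D.cc ⁅n, w⁆).symm.map π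
  have hcen : ∀ x, Commute (π ⁅n, w⁆) (π x) := fun x => by
    have hle : closure {n, w, c} ≤ (centralizer {π ⁅n, w⁆}).comap π := (closure_le _).2 fun y hy => by
      rw [SetLike.mem_coe, mem_comap, mem_centralizer_singleton_iff]
      exact (hu y hy).eq.symm
    exact (mem_centralizer_singleton_iff.1 (hle (D.gen.ge (mem_top x)))).symm
  set K := zpowers ⁅n, w⁆ ⊔ zpowers (c ^ p)
  haveI : K.Normal := ⟨fun x hx y => by
    rw [show y * x * y⁻¹ = ⁅y, x⁆ * x by rw [commutatorElement_def]; group]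
    refine mul_mem (mem_sup_right ((QuotientGroup.eq_one_iff _).1 ?_)) hx
    show π ⁅y, x⁆ = 1
    rw [map_commutatorElement, commutatorElement_eq_one_iff_commute]
    obtain ⟨a, ha, d, hd, rfl⟩ := Subgroup.mem_sup_of_normal_right.1 hx
    obtain ⟨i, rfl⟩ := ha
    rw [map_mul, show π d = 1 from (QuotientGroup.eq_one_iff _).2 hd, mul_one, map_zpow]
    exact (hcen y).symm.zpow_right i⟩
  set ρ := QuotientGroup.mk' K
  have hgen : ∀ x ∈ ({n, w, c} : Set N), ∀ y ∈ ({n, w, c} : Set N), Commute (ρ x) (ρ y) := by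
    have hnw : Commute (ρ n) (ρ w) := by
      rw [← commutatorElement_eq_one_iff_commute, ← map_commutatorElement]
      exact (QuotientGroup.eq_one_iff _).2 (mem_sup_left (mem_zpowers _))
    rintro x (rfl | rfl | rfl) y (rfl | rfl | rfl)
    exacts [Commute.refl _, hnw, (D.cc _).symm.map ρ, hnw.symm, Commute.refl _, (D.cc _).symm.map ρ,
      (D.cc _).map ρ, (D.cc _).map ρ, Commute.refl _]
  have h1 : ∀ x ∈ ({n, w, c} : Set N), ∀ y, Commute (ρ x) (ρ y) := fun x hx y => by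
    have hle : closure {n, w, c} ≤ (centralizer {ρ x}).comap ρ := (closure_le _).2 fun z hz => by
      rw [SetLike.mem_coe, mem_comap, mem_centralizer_singleton_iff]
      exact (hgen z hz x hx).eq
    exact (mem_centralizer_singleton_iff.1 (hle (D.gen.ge (mem_top y)))).symm
  refine (QuotientGroup.eq_one_iff _).1 ?_
  show ρ ⁅g, h⁆ = 1
  rw [map_commutatorElement, commutatorElement_eq_one_iff_commute]
  have hle : closure {n, w, c} ≤ (centralizer {ρ h}).comap ρ := (closure_le _).2 fun z hz => by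
    rw [SetLike.mem_coe, mem_comap, mem_centralizer_singleton_iff]
    exact (h1 z hz h).eq
  exact mem_centralizer_singleton_iff.1 (hle (D.gen.ge (mem_top g)))

/-- The image of `u` modulo `⟨c ^ p⟩` is central. -/
theorem u_central (g : N) : ⁅⁅n, w⁆, g⁆ ∈ zpowers (c ^ p) := by
  haveI := D.dnormal
  set π := QuotientGroup.mk' (zpowers (c ^ p))
  have hπ1 : ∀ {x}, π x = 1 ↔ x ∈ zpowers (c ^ p) := fun {x} => QuotientGroup.eq_one_iff x
  rw [← hπ1, map_commutatorElement π, commutatorElement_eq_one_iff_commute]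
  have hle : closure {n, w, c} ≤ (centralizer {π ⁅n, w⁆}).comap π := (closure_le _).2 (by
    intro y hy
    rw [SetLike.mem_coe, mem_comap, mem_centralizer_singleton_iff]
    rcases hy with rfl | rfl | rfl
    · exact (D.nu.map π).eq
    · have : Commute (π ⁅n, y⁆) (π y) := by
        rw [← commutatorElement_eq_one_iff_commute, ← map_commutatorElement, hπ1]
        exact D.uw
      exact this.eq.symm
    · exact ((D.cc _).map π).eq)
  exact (mem_centralizer_singleton_iff.1 (hle (D.gen.ge (mem_top g)))).symm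

theorem dle : zpowers (c ^ p) ≤ closure {⁅n, w⁆, c} :=
  zpowers_le.2 (pow_mem (Subgroup.subset_closure (by simp)) p)

/-- `⟨u, c⟩` is central modulo `⟨c ^ p⟩`. -/
theorem t_central {x : N} (hx : x ∈ closure {⁅n, w⁆, c}) (g : N) : ⁅x, g⁆ ∈ zpowers (c ^ p) := by
  haveI := D.dnormal
  set π := QuotientGroup.mk' (zpowers (c ^ p))
  have hπ1 : ∀ {y}, π y = 1 ↔ y ∈ zpowers (c ^ p) := fun {y} => QuotientGroup.eq_one_iff y
  rw [← hπ1, map_commutatorElement, commutatorElement_eq_one_iff_commute]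
  have hle : closure {⁅n, w⁆, c} ≤ (centralizer {π g}).comap π := (closure_le _).2 (by
    intro y hy
    rw [SetLike.mem_coe, mem_comap, mem_centralizer_singleton_iff]
    rcases hy with rfl | rfl
    · have : Commute (π ⁅n, w⁆) (π g) := by
        rw [← commutatorElement_eq_one_iff_commute, ← map_commutatorElement π, hπ1]
        exact D.u_central g
      exact this.eq
    · exact ((D.cc g).map π).eq)
  exact mem_centralizer_singleton_iff.1 (hle hx)

theorem t_normal : (closure {⁅n, w⁆, c}).Normal :=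
  ⟨fun x hx g => by
    rw [show g * x * g⁻¹ = ⁅x, g⁆⁻¹ * x by rw [commutatorElement_def]; group]
    exact mul_mem (inv_mem (D.dle (D.t_central hx g))) hx⟩

theorem phi_le : zpowers ⁅n, w⁆ ⊔ zpowers (c ^ p) ≤ closure {⁅n, w⁆, c} :=
  sup_le (zpowers_le.2 (Subgroup.subset_closure (by simp))) D.dle

/-- Elements of `⟨u, c⟩` modulo `⟨c ^ p⟩`. -/
theorem t_form {x : N} (hx : x ∈ closure {⁅n, w⁆, c}) :
    ∃ k m : ℕ, (⁅n, w⁆ ^ k * c ^ m)⁻¹ * x ∈ zpowers (c ^ p) := by
  have hn : zpowers c ≤ center N := zpowers_le.2 (mem_center_iff.2 fun g => (D.cc g).eq.symm)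
  haveI := PGroups.normal_of_le_center hn
  have h : x ∈ zpowers ⁅n, w⁆ ⊔ zpowers c := (closure_le _).2 (by
    rintro y (rfl | rfl)
    exacts [mem_sup_left (mem_zpowers _), mem_sup_right (mem_zpowers _)]) hx
  obtain ⟨a, ha, b, hb, rfl⟩ := Subgroup.mem_sup_of_normal_right.1 h
  obtain ⟨k, rfl⟩ := (isOfFinOrder_of_finite _).mem_powers_iff_mem_zpowers.2 ha
  obtain ⟨m, rfl⟩ := (isOfFinOrder_of_finite _).mem_powers_iff_mem_zpowers.2 hb
  exact ⟨k, m, by rw [inv_mul_cancel]; exact one_mem _⟩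

theorem index_step :
    (closure {⁅n, w⁆, c} ⊔ zpowers n).Normal ∧ n ∉ closure {⁅n, w⁆, c} ∧
      w ∉ closure {⁅n, w⁆, c} ⊔ zpowers n ∧ c ∉ zpowers ⁅n, w⁆ ⊔ zpowers (c ^ p) := by
  haveI := D.dnormal
  haveI := D.t_normal
  have hne : ∀ i j k m : ℕ, n ^ i * w ^ j * ⁅n, w⁆ ^ k * c ^ m ∈ zpowers (c ^ p) → i ≠ 1 ∧ j ≠ 1 ∧ m ≠ 1 :=
    fun i j k m h => by
      obtain ⟨hi, hj, -, hm⟩ := D.indep i j k m h
      refine ⟨?_, ?_, ?_⟩ <;> rintro rfl
      exacts [hp.out.ne_one (Nat.dvd_one.1 hi), hp.out.ne_one (Nat.dvd_one.1 hj),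
        hp.out.ne_one (Nat.dvd_one.1 hm)]
  refine ⟨⟨fun x hx g => ?_⟩, fun h => ?_, fun h => ?_, fun h => ?_⟩
  · rw [show g * x * g⁻¹ = ⁅g, x⁆ * x by rw [commutatorElement_def]; group]
    exact mul_mem (mem_sup_left (D.phi_le (D.comm_mem g x))) hx
  · obtain ⟨k, m, hk⟩ := D.t_form h
    obtain ⟨k', hk'⟩ : ∃ k', ⁅n, w⁆ ^ k' = (⁅n, w⁆ ^ k)⁻¹ :=
      (isOfFinOrder_of_finite _).mem_powers_iff_mem_zpowers.2 (inv_mem (pow_mem (mem_zpowers _) k))
    obtain ⟨m', hm'⟩ : ∃ m', c ^ m' = (c ^ m)⁻¹ :=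
      (isOfFinOrder_of_finite _).mem_powers_iff_mem_zpowers.2 (inv_mem (pow_mem (mem_zpowers _) m))
    refine (hne 1 0 k' m' ?_).1 rfl
    rw [hk', hm', pow_one, pow_zero, mul_one]
    have := (inferInstance : (zpowers (c ^ p)).Normal).conj_mem _ hk (⁅n, w⁆ ^ k * c ^ m)
    convert this using 1
    rw [(((D.cc _).pow_left m).symm).eq]
    group
  · obtain ⟨x, hx, y, hy, he⟩ := Subgroup.mem_sup_of_normal_left.1 h
    obtain ⟨i, rfl⟩ := (isOfFinOrder_of_finite n).mem_powers_iff_mem_zpowers.2 hy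
    obtain ⟨k, m, hk⟩ := D.t_form hx
    obtain ⟨i', hi'⟩ : ∃ i', n ^ i' = (n ^ i)⁻¹ :=
      (isOfFinOrder_of_finite _).mem_powers_iff_mem_zpowers.2 (inv_mem (pow_mem (mem_zpowers _) i))
    obtain ⟨k', hk'⟩ : ∃ k', ⁅n, w⁆ ^ k' = (⁅n, w⁆ ^ (k + i'))⁻¹ * ⁅n, w⁆ ^ i' :=
      (isOfFinOrder_of_finite _).mem_powers_iff_mem_zpowers.2
        (mul_mem (inv_mem (pow_mem (mem_zpowers _) (k + i'))) (pow_mem (mem_zpowers _) i'))
    obtain ⟨m', hm'⟩ : ∃ m', c ^ m' = (c ^ m)⁻¹ :=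
      (isOfFinOrder_of_finite _).mem_powers_iff_mem_zpowers.2 (inv_mem (pow_mem (mem_zpowers _) m))
    set π := QuotientGroup.mk' (zpowers (c ^ p))
    refine (hne i' 1 k' m' ((QuotientGroup.eq_one_iff _).1 (?_ : π _ = 1))).2.1 rfl
    have hx' : π x = π (⁅n, w⁆ ^ k * c ^ m) := (QuotientGroup.eq.2 hk).symm
    have hu : ∀ g, Commute (π ⁅n, w⁆) (π g) := fun g => by
      rw [← commutatorElement_eq_one_iff_commute, ← map_commutatorElement]
      exact (QuotientGroup.eq_one_iff _).2 (D.u_central g)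
    have hpre : π (n ^ i' * w ^ 1) = π (⁅n, w⁆ ^ k * c ^ m) := by
      rw [pow_one, ← hx']
      have h1 : π w = π x * (π n) ^ i := by rw [← map_pow, ← map_mul, he]
      rw [map_mul, h1, ← mul_assoc, show Commute (π (n ^ i')) (π x) by
        rw [hx', map_mul]
        exact ((show Commute (π (n ^ i')) (π (⁅n, w⁆ ^ k)) by
          rw [map_pow π ⁅n, w⁆]; exact ((hu _).pow_left k).symm).mul_right (((D.cc _).pow_left m).symm.map π)),
        mul_assoc, hi', map_inv, map_pow, inv_mul_cancel, mul_one]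
    rw [map_mul, map_mul, hpre, map_mul, hk', hm', map_inv, map_mul, map_inv, map_pow, map_pow,
      map_pow π ⁅n, w⁆, pow_add, mul_inv_rev]
    have hc' : Commute (π c) (π ⁅n, w⁆) := (D.cc _).map π
    calc π ⁅n, w⁆ ^ k * π c ^ m * ((π ⁅n, w⁆ ^ i')⁻¹ * (π ⁅n, w⁆ ^ k)⁻¹ * π ⁅n, w⁆ ^ i') * (π c ^ m)⁻¹
        = π ⁅n, w⁆ ^ k * (π c ^ m * (π ⁅n, w⁆ ^ k)⁻¹) * (π c ^ m)⁻¹ := by
          rw [((Commute.refl (π ⁅n, w⁆)).pow_pow i' k).inv_inv.eq]
          group
      _ = 1 := by rw [((hc'.pow_pow m k).inv_right).eq]; group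
  · obtain ⟨a, ha, d, hd, he⟩ := Subgroup.mem_sup_of_normal_right.1 h
    obtain ⟨k, rfl⟩ := (isOfFinOrder_of_finite _).mem_powers_iff_mem_zpowers.2 ha
    obtain ⟨k', hk'⟩ : ∃ k', ⁅n, w⁆ ^ k' = (⁅n, w⁆ ^ k)⁻¹ :=
      (isOfFinOrder_of_finite _).mem_powers_iff_mem_zpowers.2 (inv_mem (pow_mem (mem_zpowers _) k))
    refine (hne 0 0 k' 1 ?_).2.2 rfl
    rw [pow_zero, pow_zero, one_mul, one_mul, hk', pow_one]
    simp only at he
    rwa [show (⁅n, w⁆ ^ k)⁻¹ * c = d from inv_mul_eq_iff_eq_mul.2 he.symm]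

theorem top_eq : closure {⁅n, w⁆, c} ⊔ zpowers n ⊔ zpowers w = ⊤ := by
  refine eq_top_iff.2 (D.gen ▸ (closure_le _).2 ?_)
  rintro x (rfl | rfl | rfl)
  exacts [mem_sup_left (mem_sup_right (mem_zpowers _)), mem_sup_right (mem_zpowers _),
    mem_sup_left (mem_sup_left (Subgroup.subset_closure (by simp)))]

/-- Every element is a product modulo `⟨c ^ p⟩`. -/
theorem exists_form (g : N) :
    ∃ i j k m : ℕ, (n ^ i * w ^ j * ⁅n, w⁆ ^ k * c ^ m)⁻¹ * g ∈ zpowers (c ^ p) := by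
  haveI := D.dnormal
  haveI := D.t_normal
  haveI := D.index_step.1
  obtain ⟨x, hx, y, hy, rfl⟩ := Subgroup.mem_sup_of_normal_left.1 (D.top_eq.ge (mem_top g))
  obtain ⟨j, rfl⟩ := (isOfFinOrder_of_finite w).mem_powers_iff_mem_zpowers.2 hy
  obtain ⟨x', hx', z, hz, rfl⟩ := Subgroup.mem_sup_of_normal_left.1 hx
  obtain ⟨i, rfl⟩ := (isOfFinOrder_of_finite n).mem_powers_iff_mem_zpowers.2 hz
  obtain ⟨k, m, hk⟩ := D.t_form hx'
  set π := QuotientGroup.mk' (zpowers (c ^ p))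
  refine ⟨i, j, k, m, QuotientGroup.eq.1 (?_ : π _ = π _)⟩
  have h1 : π x' = π (⁅n, w⁆ ^ k * c ^ m) := (QuotientGroup.eq.2 hk).symm
  have h2 : Commute (π x') (π (n ^ i * w ^ j)) := by
    rw [← commutatorElement_eq_one_iff_commute, ← map_commutatorElement]
    exact (QuotientGroup.eq_one_iff _).2 (D.t_central hx' _)
  rw [mul_assoc (n ^ i * w ^ j), map_mul π (n ^ i * w ^ j), ← h1, ← h2.eq, ← map_mul, mul_assoc x']

theorem pow_mem (hp2 : p ≠ 2) (g : N) : g ^ p ∈ zpowers (c ^ p) := by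
  haveI := D.dnormal
  set π := QuotientGroup.mk' (zpowers (c ^ p))
  have hπ1 : ∀ {x}, π x = 1 ↔ x ∈ zpowers (c ^ p) := fun {x} => QuotientGroup.eq_one_iff x
  let H : Subgroup N :=
    { carrier := {x | π x ^ p = 1}
      one_mem' := by simp
      mul_mem' := fun {x y} hx hy => by
        have hK := D.comm_mem y⁻¹ x⁻¹
        obtain ⟨a, ha, d, hd, he⟩ := Subgroup.mem_sup_of_normal_right.1 hK
        obtain ⟨i, hi⟩ := ha
        have he' : π ⁅y⁻¹, x⁻¹⁆ = π ⁅n, w⁆ ^ i := by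
          rw [← he, map_mul, hπ1.2 hd, mul_one, ← hi, map_zpow]
        have hc : ∀ z, Commute (π ⁅y⁻¹, x⁻¹⁆) (π z) := fun z => by
          rw [he']
          refine Commute.zpow_left ?_ i
          rw [← commutatorElement_eq_one_iff_commute, ← map_commutatorElement]
          exact hπ1.2 (D.u_central z)
        have hformula := PGroups.mul_pow_of_commute (a := π x) (b := π y) (e := π ⁅y⁻¹, x⁻¹⁆)
          (by rw [← map_mul, ← map_mul, ← map_mul]; congr 1; rw [commutatorElement_def]; group)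
          (hc x) (hc y) p
        obtain ⟨k, hk⟩ := PGroups.dvd_choose_two hp.out hp2
        show π (x * y) ^ p = 1
        rw [map_mul, hformula, hx, hy, one_mul, one_mul, hk, pow_mul, he', ← zpow_natCast (π ⁅n, w⁆ ^ i) p,
          ← zpow_mul, mul_comm, zpow_mul, zpow_natCast, ← map_pow π ⁅n, w⁆, D.up, map_one, one_zpow,
          one_pow]
      inv_mem' := fun {x} hx => by
        show π x⁻¹ ^ p = 1
        rw [map_inv, inv_pow, hx, inv_one] }
  have : g ∈ H := (closure_le _).2 (by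
    rintro x (rfl | rfl | rfl)
    · show π x ^ p = 1
      rw [← map_pow, D.np, map_one]
    · show π x ^ p = 1
      rw [← map_pow, D.wp, map_one]
    · show π x ^ p = 1
      rw [← map_pow]
      exact hπ1.2 (mem_zpowers _)) (D.gen.ge (mem_top g))
  exact hπ1.1 ((map_pow π g p).trans this)

theorem mem_t_iff {x : N} : x ∈ closure {⁅n, w⁆, c} ↔ ∀ g, ⁅x, g⁆ ∈ zpowers (c ^ p) := by
  refine ⟨fun h g => D.t_central h g, fun h => ?_⟩
  haveI := D.dnormal
  set π := QuotientGroup.mk' (zpowers (c ^ p))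
  have hπ1 : ∀ {y}, π y = 1 ↔ y ∈ zpowers (c ^ p) := fun {y} => QuotientGroup.eq_one_iff y
  obtain ⟨i, j, k, m, hf⟩ := D.exists_form x
  have hx : π x = π (n ^ i * w ^ j) * π (⁅n, w⁆ ^ k * c ^ m) := by
    rw [← map_mul, ← mul_assoc]
    exact (QuotientGroup.eq.2 hf).symm
  have hM : ∀ g, Commute (π (⁅n, w⁆ ^ k * c ^ m)) (π g) := fun g => by
    rw [← commutatorElement_eq_one_iff_commute, ← map_commutatorElement]
    exact hπ1.2 (D.t_central (mul_mem (Subgroup.pow_mem _ (Subgroup.subset_closure (by simp)) k)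
      (Subgroup.pow_mem _ (Subgroup.subset_closure (by simp)) m)) g)
  have hcom : ∀ g, Commute (π (n ^ i * w ^ j)) (π g) := fun g => by
    have h1 : Commute (π x) (π g) := by
      rw [← commutatorElement_eq_one_iff_commute, ← map_commutatorElement]
      exact hπ1.2 (h g)
    rw [hx] at h1
    simpa [mul_assoc] using h1.mul_left (hM g).inv_left
  have hone : ∀ {k' : ℕ}, π (⁅n, w⁆ ^ k') = 1 → p ∣ k' := fun {k'} hk => (D.indep 0 0 k' 0 (by
    rw [pow_zero, pow_zero, pow_zero, one_mul, one_mul, mul_one]; exact hπ1.1 hk)).2.2.1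
  have hi : p ∣ i := hone (by
    have h1 : Commute (π (n ^ i)) (π w) := by
      have := (hcom w).mul_left (((Commute.refl (π w)).pow_left j).inv_left)
      rwa [map_mul, map_pow π w, mul_inv_cancel_right] at this
    have h2 := congrArg π (D.npow_w i)
    rw [map_mul, map_mul, map_mul, h1.eq] at h2
    exact right_eq_mul.1 h2)
  have hj : p ∣ j := hone (by
    have h1 : Commute (π (w ^ j)) (π n) := by
      have := (((Commute.refl (π n)).pow_left i).inv_left).mul_left (hcom n)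
      rwa [map_mul, map_pow π n, ← mul_assoc, inv_mul_cancel, one_mul] at this
    have h2 : ∀ j : ℕ, π n * π w ^ j = π ⁅n, w⁆ ^ j * (π w ^ j * π n) := by
      intro j
      induction j with
      | zero => simp
      | succ j ih =>
        have hu : Commute (π ⁅n, w⁆) (π w ^ j) := Commute.pow_right (by
          rw [← commutatorElement_eq_one_iff_commute, ← map_commutatorElement]
          exact hπ1.2 (D.u_central w)) j
        have h3 : π n * π w = π ⁅n, w⁆ * (π w * π n) := by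
          rw [← map_mul, ← map_mul, ← map_mul]; congr 1; rw [commutatorElement_def]; group
        rw [pow_succ, ← mul_assoc, ih, mul_assoc, mul_assoc (π w ^ j), h3, ← mul_assoc (π w ^ j), ← hu.eq,
          mul_assoc (π ⁅n, w⁆), ← mul_assoc (π ⁅n, w⁆ ^ j), ← pow_succ, mul_assoc (π w ^ j)]
    have h4 := h2 j
    rw [← map_pow π w, h1.eq, map_pow π w] at h4
    rw [map_pow]
    exact right_eq_mul.1 h4)
  obtain ⟨i', rfl⟩ := hi
  obtain ⟨j', rfl⟩ := hj
  rw [pow_mul, pow_mul, D.np, D.wp, one_pow, one_pow, one_mul, one_mul] at hf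
  rw [show x = ⁅n, w⁆ ^ k * c ^ m * ((⁅n, w⁆ ^ k * c ^ m)⁻¹ * x) by group]
  exact mul_mem (mul_mem (Subgroup.pow_mem _ (Subgroup.subset_closure (by simp)) k)
    (Subgroup.pow_mem _ (Subgroup.subset_closure (by simp)) m)) (D.dle hf)

/-- The data is carried along by automorphisms. -/
theorem map (h : MulAut N) : BData p (h * t * h⁻¹) (h n) (h w) (h c) l := by
  have hu : ⁅h n, h w⁆ = h ⁅n, w⁆ := (map_commutatorElement h n w).symm
  refine ⟨D.lord, ?_, ?_, ?_, ?_, ?_, fun g => ?_, ?_, ?_, ?_, ?_, fun i j k m hm => ?_⟩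
  · rw [MulAut.mul_apply, MulAut.mul_apply, MulAut.inv_apply_self, D.tn, map_pow]
  · rw [MulAut.mul_apply, MulAut.mul_apply, MulAut.inv_apply_self, D.tw, map_pow]
  · rw [MulAut.mul_apply, MulAut.mul_apply, MulAut.inv_apply_self, D.tc]
  · rw [← map_pow, D.np, map_one]
  · rw [← map_pow, D.wp, map_one]
  · have := (D.cc (h⁻¹ g)).map (h : N ≃* N).toMonoidHom
    simpa using this
  · rw [hu]; exact D.nu.map (h : N ≃* N).toMonoidHom
  · rw [hu, ← map_pow, D.up, map_one]
  · rw [hu, ← map_commutatorElement h, ← map_pow h c]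
    obtain ⟨i, hi⟩ := D.uw
    exact ⟨i, by simp only at hi ⊢; rw [← hi, map_zpow]⟩
  · have hm : (closure {n, w, c}).map (h : N ≃* N).toMonoidHom = ⊤ := by
      rw [D.gen]; exact Subgroup.map_top_of_surjective _ (h : N ≃* N).surjective
    rw [MonoidHom.map_closure, Set.image_insert_eq, Set.image_insert_eq, Set.image_singleton] at hm
    exact hm
  · refine D.indep i j k m ?_
    obtain ⟨e, he⟩ := hm
    refine ⟨e, (h : N ≃* N).injective ?_⟩
    simp only at he ⊢
    rw [hu] at he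
    rw [map_zpow, map_pow, map_mul, map_mul, map_mul, map_pow, map_pow, map_pow, map_pow]
    exact he

/-- Automorphisms preserve `⟨c ^ p⟩`, `⟨u, c ^ p⟩` and `⟨u, c⟩`. -/
theorem invariant (hp2 : p ≠ 2) (f : MulAut N) :
    (∀ x ∈ zpowers (c ^ p), f x ∈ zpowers (c ^ p)) ∧
      (∀ x ∈ zpowers ⁅n, w⁆ ⊔ zpowers (c ^ p), f x ∈ zpowers ⁅n, w⁆ ⊔ zpowers (c ^ p)) ∧
      ∀ x ∈ closure {⁅n, w⁆, c}, f x ∈ closure {⁅n, w⁆, c} := by
  haveI := D.dnormal
  have h1 : ∀ x ∈ zpowers (c ^ p), f x ∈ zpowers (c ^ p) := by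
    rintro _ ⟨i, rfl⟩
    simp only
    rw [map_zpow, map_pow]
    exact zpow_mem (D.pow_mem hp2 _) i
  refine ⟨h1, fun x hx => ?_, fun x hx => D.mem_t_iff.2 fun g => ?_⟩
  · obtain ⟨a, ha, d, hd, rfl⟩ := Subgroup.mem_sup_of_normal_right.1 hx
    obtain ⟨i, rfl⟩ := ha
    simp only
    rw [map_mul, map_zpow, map_commutatorElement]
    exact mul_mem (zpow_mem (D.comm_mem _ _) i) (mem_sup_right (h1 d hd))
  · have := h1 _ (D.t_central hx (f⁻¹ g))
    rwa [map_commutatorElement, MulAut.apply_inv_self] at this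

end BData

end Cfsg.Agent.H91.Rank3
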