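import Cfsg.Agent.PGroups.Commutator
import Cfsg.Agent.PGroups.PCentral
import Cfsg.Prelude.Def_CaseTheorems
import Cfsg.Prelude.Def_PLocal

/-!
The lower exponent-`p` central series of a normal subgroup `E` of a `p`-group, its behaviour under powers and
commutators, and counting in sections of bounded rank.
-/

set_option autoImplicit false
set_option linter.unusedSectionVars false
set_option linter.style.haveILetI false

namespace Cfsg.Agent.H91.Rank3

open Subgroup
open scoped commutatorElement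

variable {N : Type*} [Group N] {p : ℕ}

/-- The lower exponent-`p` central series of `E`, starting with `E`. -/
def pser (p : ℕ) (E : Subgroup N) : ℕ → Subgroup N
  | 0 => E
  | i + 1 => ⁅pser p E i, E⁆ ⊔ Cfsg.powerClosure p 1 (pser p E i)

theorem pow_mem_pser_succ {E : Subgroup N} {i : ℕ} {x : N} (hx : x ∈ pser p E i) :
    x ^ p ∈ pser p E (i + 1) :=
  mem_sup_right (Subgroup.subset_closure ⟨x, hx, by rw [pow_one]⟩)

theorem comm_mem_pser_succ {E : Subgroup N} {i : ℕ} {x e : N} (hx : x ∈ pser p E i) (he : e ∈ E) :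
    ⁅x, e⁆ ∈ pser p E (i + 1) :=
  mem_sup_left (commutator_mem_commutator hx he)

theorem comm_mem_pser_succ' {E : Subgroup N} {i : ℕ} {x e : N} (hx : x ∈ pser p E i) (he : e ∈ E) :
    ⁅e, x⁆ ∈ pser p E (i + 1) := by
  rw [← commutatorElement_inv]
  exact inv_mem (comm_mem_pser_succ hx he)

theorem pser_succ_le_of {E : Subgroup N} {i : ℕ} {Y : Subgroup N}
    (h1 : ∀ x ∈ pser p E i, ∀ e ∈ E, ⁅x, e⁆ ∈ Y) (h2 : ∀ x ∈ pser p E i, x ^ p ∈ Y) :
    pser p E (i + 1) ≤ Y := by
  refine sup_le (commutator_le.2 h1) ((closure_le _).2 ?_)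
  rintro _ ⟨x, hx, rfl⟩
  rw [pow_one]
  exact h2 x hx

theorem pser_succ_le (E : Subgroup N) : ∀ i, pser p E (i + 1) ≤ pser p E i := by
  intro i
  induction i with
  | zero =>
    refine pser_succ_le_of (fun x hx e he => ?_) fun x hx => E.pow_mem hx p
    exact E.mul_mem (E.mul_mem (E.mul_mem hx he) (E.inv_mem hx)) (E.inv_mem he)
  | succ i ih =>
    exact pser_succ_le_of (fun x hx e he => comm_mem_pser_succ (ih hx) he)
      fun x hx => pow_mem_pser_succ (ih hx)

theorem pser_antitone (E : Subgroup N) {i j : ℕ} (h : i ≤ j) : pser p E j ≤ pser p E i :=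
  antitone_nat_of_succ_le (pser_succ_le (p := p) E) h

theorem pser_le (E : Subgroup N) (i : ℕ) : pser p E i ≤ E := pser_antitone E (Nat.zero_le i)

theorem powerClosure_one_normal (H : Subgroup N) [hH : H.Normal] : (Cfsg.powerClosure p 1 H).Normal :=
  PGroups.powerClosure_normal p 1 H

instance pser_normal (E : Subgroup N) [E.Normal] (i : ℕ) : (pser p E i).Normal := by
  induction i with
  | zero => exact (inferInstance : E.Normal)
  | succ i ih =>
    haveI := powerClosure_one_normal (p := p) (pser p E i)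
    exact Subgroup.sup_normal _ _

/-- The functions inducing an automorphism of `E`. -/
structure AutOn (E : Subgroup N) (f : N → N) : Prop where
  mem : ∀ x ∈ E, f x ∈ E
  mul : ∀ x ∈ E, ∀ y ∈ E, f (x * y) = f x * f y
  surj : ∀ y ∈ E, ∃ x ∈ E, f x = y
  inj : ∀ x ∈ E, f x = 1 → x = 1

namespace AutOn

variable {E : Subgroup N} {f g : N → N} (hf : AutOn E f)
include hf

theorem map_one : f 1 = 1 := by
  have := hf.mul 1 E.one_mem 1 E.one_mem
  rw [one_mul] at this
  simpa using this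

theorem map_inv {x : N} (hx : x ∈ E) : f x⁻¹ = (f x)⁻¹ := by
  refine eq_inv_of_mul_eq_one_left ?_
  rw [← hf.mul _ (E.inv_mem hx) _ hx, inv_mul_cancel, hf.map_one]

theorem map_pow {x : N} (hx : x ∈ E) (k : ℕ) : f (x ^ k) = f x ^ k := by
  induction k with
  | zero => simp [hf.map_one]
  | succ k ih => rw [pow_succ, pow_succ, hf.mul _ (E.pow_mem hx k) _ hx, ih]

theorem map_comm {x y : N} (hx : x ∈ E) (hy : y ∈ E) : f ⁅x, y⁆ = ⁅f x, f y⁆ := by
  simp only [commutatorElement_def]
  rw [hf.mul _ (E.mul_mem (E.mul_mem hx hy) (E.inv_mem hx)) _ (E.inv_mem hy),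
    hf.mul _ (E.mul_mem hx hy) _ (E.inv_mem hx), hf.mul _ hx _ hy, hf.map_inv hx, hf.map_inv hy]

theorem comp (hg : AutOn E g) : AutOn E (g ∘ f) where
  mem x hx := hg.mem _ (hf.mem x hx)
  mul x hx y hy := by
    show g (f (x * y)) = g (f x) * g (f y)
    rw [hf.mul x hx y hy, hg.mul _ (hf.mem x hx) _ (hf.mem y hy)]
  surj y hy := by
    obtain ⟨z, hz, rfl⟩ := hg.surj y hy
    obtain ⟨x, hx, rfl⟩ := hf.surj z hz
    exact ⟨x, hx, rfl⟩
  inj x hx h := hf.inj x hx (hg.inj _ (hf.mem x hx) h)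

/-- The image of a subgroup of `E`. -/
def image (H : Subgroup N) (hH : H ≤ E) : Subgroup N where
  carrier := f '' H
  one_mem' := ⟨1, H.one_mem, hf.map_one⟩
  mul_mem' := by
    rintro _ _ ⟨x, hx, rfl⟩ ⟨y, hy, rfl⟩
    exact ⟨x * y, H.mul_mem hx hy, hf.mul x (hH hx) y (hH hy)⟩
  inv_mem' := by
    rintro _ ⟨x, hx, rfl⟩
    exact ⟨x⁻¹, H.inv_mem hx, hf.map_inv (hH hx)⟩

/-- The preimage in `E` of a subgroup. -/
def preimage (Y : Subgroup N) : Subgroup N where
  carrier := {x | x ∈ E ∧ f x ∈ Y}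
  one_mem' := ⟨E.one_mem, hf.map_one.symm ▸ Y.one_mem⟩
  mul_mem' := fun {x y} hx hy => ⟨E.mul_mem hx.1 hy.1, by
    rw [hf.mul x hx.1 y hy.1]
    exact Y.mul_mem hx.2 hy.2⟩
  inv_mem' := fun {x} hx => ⟨E.inv_mem hx.1, by
    rw [hf.map_inv hx.1]
    exact Y.inv_mem hx.2⟩

theorem mem_pser : ∀ i {x : N}, x ∈ pser p E i → f x ∈ pser p E i := by
  intro i
  induction i with
  | zero => exact fun hx => hf.mem _ hx
  | succ i ih =>
    intro x hx
    refine (pser_succ_le_of (Y := hf.preimage (pser p E (i + 1))) (fun y hy e he => ?_) (fun y hy => ?_) hx).2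
    · exact ⟨pser_le E (i + 1) (comm_mem_pser_succ hy he), by
        rw [hf.map_comm (pser_le E i hy) he]
        exact comm_mem_pser_succ (ih hy) (hf.mem e he)⟩
    · exact ⟨E.pow_mem (pser_le E i hy) p, by
        rw [hf.map_pow (pser_le E i hy)]
        exact pow_mem_pser_succ (ih hy)⟩

theorem surj_pser : ∀ i {y : N}, y ∈ pser p E i → ∃ x ∈ pser p E i, f x = y := by
  intro i
  induction i with
  | zero => exact fun hy => hf.surj _ hy
  | succ i ih =>
    intro y hy
    refine (pser_succ_le_of (Y := hf.image (pser p E (i + 1)) (pser_le E _)) (fun u hu e he => ?_)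
      (fun u hu => ?_) hy)
    · obtain ⟨u', hu', rfl⟩ := ih hu
      obtain ⟨e', he', rfl⟩ := hf.surj e he
      exact ⟨_, comm_mem_pser_succ hu' he', hf.map_comm (pser_le E i hu') he'⟩
    · obtain ⟨u', hu', rfl⟩ := ih hu
      exact ⟨_, pow_mem_pser_succ hu', hf.map_pow (pser_le E i hu') p⟩

/-- The preimage of a term of the series is that term. -/
theorem mem_pser_iff [Finite N] {i : ℕ} {x : N} (hx : x ∈ E) : f x ∈ pser p E i ↔ x ∈ pser p E i := by
  refine ⟨fun h => ?_, hf.mem_pser i⟩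
  obtain ⟨y, hy, he⟩ := hf.surj_pser i h
  have : y⁻¹ * x = 1 := hf.inj _ (E.mul_mem (E.inv_mem (pser_le E i hy)) hx) (by
    rw [hf.mul _ (E.inv_mem (pser_le E i hy)) _ hx, hf.map_inv (pser_le E i hy), he, inv_mul_cancel])
  rw [inv_mul_eq_one] at this
  exact this ▸ hy

end AutOn

theorem autOn_conj {E : Subgroup N} [E.Normal] (g : N) : AutOn E (fun x => g * x * g⁻¹) where
  mem x hx := (inferInstance : E.Normal).conj_mem x hx g
  mul x _ y _ := by group
  surj y hy := ⟨g⁻¹ * y * g, (inferInstance : E.Normal).conj_mem' y hy g, by group⟩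
  inj x _ h := by
    have h' : g * x * g⁻¹ = g * 1 * g⁻¹ := by simpa using h
    simpa using h'

theorem autOn_mulEquiv {E : Subgroup N} (α : MulAut N) (hα : E.map (α : N ≃* N).toMonoidHom = E) :
    AutOn E (fun x => α x) where
  mem x hx := hα.le ⟨x, hx, rfl⟩
  mul x _ y _ := map_mul α x y
  surj y hy := by
    obtain ⟨x, hx, he⟩ := hα.ge hy
    exact ⟨x, hx, he⟩
  inj x _ h := (map_eq_one_iff α α.injective).1 h

theorem autOn_mulAut {E : Subgroup N} (α : MulAut E) (f : N → N) (hf : ∀ x : E, f x = (α x : N)) :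
    AutOn E f where
  mem x hx := by rw [hf ⟨x, hx⟩]; exact (α ⟨x, hx⟩).2
  mul x hx y hy := by
    rw [hf ⟨x, hx⟩, hf ⟨y, hy⟩, hf ⟨x * y, E.mul_mem hx hy⟩, ← Subgroup.coe_mul, ← map_mul]
    rfl
  surj y hy := ⟨α.symm ⟨y, hy⟩, (α.symm ⟨y, hy⟩).2, by rw [hf, MulEquiv.apply_symm_apply]⟩
  inj x hx h := by
    rw [hf ⟨x, hx⟩, ← Subgroup.coe_one E] at h
    exact congrArg Subtype.val ((map_eq_one_iff α α.injective).1 (Subtype.ext h))

section Mul

variable {E : Subgroup N} [hn : E.Normal] [hp : Fact p.Prime] (hp2 : p ≠ 2)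
include hp2

/-- `p`-th powers are multiplicative from one term to the term two steps further. -/
theorem mul_pow_congr {i : ℕ} {x y : N} (hx : x ∈ pser p E i) (hy : y ∈ pser p E i) :
    (x ^ p * y ^ p)⁻¹ * (x * y) ^ p ∈ pser p E (i + 2) := by
  set π := QuotientGroup.mk' (pser p E (i + 2))
  have hc : ⁅y⁻¹, x⁻¹⁆ ∈ pser p E (i + 1) := comm_mem_pser_succ (inv_mem hy) (pser_le E i (inv_mem hx))
  have hcen : ∀ {d : N}, d ∈ E → Commute (π ⁅y⁻¹, x⁻¹⁆) (π d) := fun {d} hd => by
    rw [← commutatorElement_eq_one_iff_commute, ← map_commutatorElement]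
    exact (QuotientGroup.eq_one_iff _).2 (comm_mem_pser_succ hc hd)
  have hformula := PGroups.mul_pow_of_commute (a := π x) (b := π y) (e := π ⁅y⁻¹, x⁻¹⁆)
    (by rw [← map_mul, ← map_mul, ← map_mul]; congr 1; rw [commutatorElement_def]; group)
    (hcen (pser_le E i hx)) (hcen (pser_le E i hy)) p
  obtain ⟨k, hk⟩ := PGroups.dvd_choose_two hp.out hp2
  rw [hk, pow_mul, ← map_pow π ⁅y⁻¹, x⁻¹⁆,
    show π (⁅y⁻¹, x⁻¹⁆ ^ p) = 1 from (QuotientGroup.eq_one_iff _).2 (pow_mem_pser_succ hc), one_pow,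
    mul_one, ← map_pow, ← map_pow, ← map_mul, ← map_mul, ← map_pow] at hformula
  exact QuotientGroup.eq.1 hformula.symm

/-- The commutator of an element of `E` with a `p`-th power. -/
theorem comm_pow_congr {i : ℕ} {x e : N} (hx : x ∈ pser p E i) (he : e ∈ E) :
    (⁅e, x⁆ ^ p)⁻¹ * ⁅e, x ^ p⁆ ∈ pser p E (i + 3) := by
  set π := QuotientGroup.mk' (pser p E (i + 3))
  set c := ⁅e, x⁆ with hcdef
  have hc : c ∈ pser p E (i + 1) := comm_mem_pser_succ' hx he
  have hd : ⁅x⁻¹, c⁻¹⁆ ∈ pser p E (i + 2) :=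
    comm_mem_pser_succ' (inv_mem hc) (pser_le E i (inv_mem hx))
  have hcen : ∀ {d : N}, d ∈ E → Commute (π ⁅x⁻¹, c⁻¹⁆) (π d) := fun {d} hdE => by
    rw [← commutatorElement_eq_one_iff_commute, ← map_commutatorElement]
    exact (QuotientGroup.eq_one_iff _).2 (comm_mem_pser_succ hd hdE)
  have hformula := PGroups.mul_pow_of_commute (a := π c) (b := π x) (e := π ⁅x⁻¹, c⁻¹⁆)
    (by rw [← map_mul, ← map_mul, ← map_mul]; congr 1; simp only [commutatorElement_def]; group)
    (hcen (pser_le E _ hc)) (hcen (pser_le E i hx)) p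
  obtain ⟨k, hk⟩ := PGroups.dvd_choose_two hp.out hp2
  rw [hk, pow_mul, ← map_pow π ⁅x⁻¹, c⁻¹⁆,
    show π (⁅x⁻¹, c⁻¹⁆ ^ p) = 1 from (QuotientGroup.eq_one_iff _).2 (pow_mem_pser_succ hd), one_pow,
    mul_one] at hformula
  have hcx : c * x = e * x * e⁻¹ := by rw [hcdef, commutatorElement_def]; group
  rw [← map_mul, hcx, ← map_pow, conj_pow, ← map_pow, ← map_pow, ← map_mul] at hformula
  have hp' := QuotientGroup.eq.1 hformula.symm
  have hxn : (pser p E (i + 3)).Normal := inferInstance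
  have := hxn.conj_mem _ hp' (x ^ p)
  convert this using 1
  simp only [commutatorElement_def]
  group

/-- Congruent elements have congruent `p`-th powers. -/
theorem pow_congr_pser {i : ℕ} {x y : N} (hx : x ∈ pser p E i) (h : x⁻¹ * y ∈ pser p E (i + 1)) :
    (x ^ p)⁻¹ * y ^ p ∈ pser p E (i + 2) := by
  have h1 := mul_pow_congr hp2 hx (pser_succ_le E i h)
  rw [mul_inv_cancel_left, mul_inv_rev, mul_assoc] at h1
  have h2 : (x⁻¹ * y) ^ p ∈ pser p E (i + 2) := pow_mem_pser_succ h
  have := mul_mem h2 h1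
  rwa [mul_inv_cancel_left] at this

end Mul

section Nilpotent

variable [Finite N] [hp : Fact p.Prime] (hN : IsPGroup p N)
include hN

theorem lt_of_commutator {H Y : Subgroup N} [H.Normal] [Y.Normal] (hYH : Y < H) :
    ⁅H, (⊤ : Subgroup N)⁆ ⊔ Y < H := by
  refine lt_of_le_of_ne (sup_le (commutator_le_left _ _) hYH.le) fun he => ?_
  haveI := (hN.to_quotient Y).isNilpotent
  set π := QuotientGroup.mk' Y
  have hm : H.map π ≤ ⁅H.map π, (⊤ : Subgroup (N ⧸ Y))⁆ := by
    conv_lhs => rw [← he, Subgroup.map_sup, map_commutator,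
      map_top_of_surjective π (QuotientGroup.mk'_surjective Y)]
    refine sup_le le_rfl ?_
    rintro _ ⟨y, hy, rfl⟩
    rw [show π y = 1 from (QuotientGroup.eq_one_iff y).2 hy]
    exact one_mem _
  obtain ⟨k, hk⟩ := Subgroup.nilpotent_iff_lowerCentralSeries.1 (inferInstance : Group.IsNilpotent (N ⧸ Y))
  have hall : ∀ j, H.map π ≤ (⊤ : Subgroup (N ⧸ Y)).lowerCentralSeries j := by
    intro j
    induction j with
    | zero => exact le_top
    | succ j ih => exact hm.trans (commutator_mono ih le_rfl)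
  have hbot := (hall k).trans hk.le
  exact hYH.not_ge fun x hx => (QuotientGroup.eq_one_iff x).1
    (Subgroup.mem_bot.1 (hbot ⟨x, hx, rfl⟩))

/-- A term of the series that equals the next one is trivial. -/
theorem pser_eq_bot {E : Subgroup N} [E.Normal] {i : ℕ} (h : pser p E i ≤ pser p E (i + 1)) :
    pser p E i = ⊥ := by
  by_contra hne
  set H := pser p E i with hH
  haveI : (⊥ : Subgroup N).Normal := Subgroup.normal_bot
  have hlt := lt_of_commutator hN (bot_lt_iff_ne_bot.2 hne)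
  rw [sup_bot_eq] at hlt
  set Y := ⁅H, (⊤ : Subgroup N)⁆
  -- modulo `⁅H, N⁆` the subgroup is abelian and equal to its `p`-th powers
  set π := QuotientGroup.mk' Y
  have hcomm : ∀ x ∈ H, ∀ y ∈ H, Commute (π x) (π y) := fun x hx y _ => by
    rw [← commutatorElement_eq_one_iff_commute, ← map_commutatorElement]
    exact (QuotientGroup.eq_one_iff _).2 (commutator_mem_commutator hx (mem_top y))
  obtain ⟨x, hx, hxY⟩ := SetLike.exists_of_lt hlt
  have hpow : ∀ j, ∀ z ∈ H, ∃ w ∈ H, π (w ^ p ^ j) = π z := by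
    intro j
    induction j with
    | zero => exact fun z hz => ⟨z, hz, by rw [pow_zero, pow_one]⟩
    | succ j ih =>
      intro z hz
      obtain ⟨w, hw, he⟩ := ih z hz
      have hw' := h hw
      have : ∀ v ∈ pser p E (i + 1), ∃ u ∈ H, π (u ^ p) = π v := by
        let S0 : Subgroup N :=
          { carrier := {v | ∃ u ∈ H, π (u ^ p) = π v}
            one_mem' := ⟨1, H.one_mem, by rw [one_pow]⟩
            mul_mem' := by
              rintro v v' ⟨u, hu, e⟩ ⟨u', hu', e'⟩
              refine ⟨u * u', H.mul_mem hu hu', ?_⟩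
              rw [map_pow, map_mul, (hcomm u hu u' hu').mul_pow, ← map_pow, ← map_pow, e, e', map_mul]
            inv_mem' := by
              rintro v ⟨u, hu, e⟩
              exact ⟨u⁻¹, H.inv_mem hu, by rw [inv_pow, map_inv, e, map_inv]⟩ }
        intro v hv
        refine (pser_succ_le_of (Y := S0) (fun a ha b _ => ⟨1, H.one_mem, ?_⟩) (fun a ha => ⟨a, ha, rfl⟩) hv)
        rw [one_pow, map_one]
        exact ((QuotientGroup.eq_one_iff _).2 (commutator_mem_commutator ha (mem_top b))).symm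
      obtain ⟨u, hu, e⟩ := this w hw'
      refine ⟨u, hu, ?_⟩
      rw [pow_succ', pow_mul, map_pow, e, ← map_pow, he]
  obtain ⟨k, hk⟩ := IsPGroup.iff_card.1 hN
  obtain ⟨w, -, hw⟩ := hpow k x hx
  rw [← hk, pow_card_eq_one', map_one] at hw
  exact hxY ((QuotientGroup.eq_one_iff x).1 hw.symm)

theorem exists_pser_eq_bot (E : Subgroup N) [E.Normal] : ∃ k, pser p E k = ⊥ := by
  by_contra hcon
  push Not at hcon
  have hlt : ∀ i, Nat.card (pser p E (i + 1)) < Nat.card (pser p E i) := fun i => by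
    by_contra hle
    exact hcon i (pser_eq_bot hN (Subgroup.eq_of_le_of_card_ge (pser_succ_le E i) (not_lt.1 hle)).ge)
  have : ∀ i, Nat.card (pser p E i) + i ≤ Nat.card (pser p E 0) := by
    intro i
    induction i with
    | zero => exact le_rfl
    | succ i ih => have := hlt i; omega
  have := this (Nat.card (pser p E 0) + 1)
  omega

/-- A normal subgroup containing `pser 1` modulo `pser 2` contains it. -/
theorem pser_one_le {E : Subgroup N} [E.Normal] {Y : Subgroup N} [Y.Normal]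
    (h : pser p E 1 ≤ Y ⊔ pser p E 2) : pser p E 1 ≤ Y := by
  have hstep : ∀ i, 1 ≤ i → pser p E i ≤ Y ⊔ pser p E (i + 1) := by
    intro i hi
    induction i, hi using Nat.le_induction with
    | base => exact h
    | succ i hi ih =>
      refine pser_succ_le_of (fun x hx e he => ?_) fun x hx => ?_
      · obtain ⟨y, hy, q, hq, rfl⟩ := Subgroup.mem_sup_of_normal_left.1 (ih hx)
        rw [show ⁅y * q, e⁆ = y * ⁅q, e⁆ * y⁻¹ * ⁅y, e⁆ by simp only [commutatorElement_def]; group]
        refine mul_mem ((inferInstance : (Y ⊔ pser p E (i + 2)).Normal).conj_mem _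
          (mem_sup_right (comm_mem_pser_succ hq he)) y) (mem_sup_left ?_)
        rw [commutatorElement_def, mul_assoc y e, mul_assoc]
        exact mul_mem hy ((inferInstance : Y.Normal).conj_mem _ (inv_mem hy) e)
      · obtain ⟨y, hy, q, hq, rfl⟩ := Subgroup.mem_sup_of_normal_left.1 (ih hx)
        haveI := (inferInstance : (Y ⊔ pser p E (i + 2)).Normal)
        refine (QuotientGroup.eq_one_iff (N := Y ⊔ pser p E (i + 2)) _).1 ?_
        rw [QuotientGroup.mk_pow, QuotientGroup.mk_mul, (QuotientGroup.eq_one_iff y).2 (mem_sup_left hy),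
          one_mul, ← QuotientGroup.mk_pow]
        exact (QuotientGroup.eq_one_iff _).2 (mem_sup_right (pow_mem_pser_succ hq))
  have hall : ∀ i, pser p E 1 ≤ Y ⊔ pser p E (i + 1) := by
    intro i
    induction i with
    | zero => exact le_sup_right
    | succ i ih => exact ih.trans (sup_le le_sup_left (hstep (i + 1) (Nat.succ_pos i)))
  obtain ⟨k, hk⟩ := exists_pser_eq_bot hN E
  have := hall k
  rwa [show pser p E (k + 1) = ⊥ from le_bot_iff.1 (hk ▸ pser_succ_le E k), sup_bot_eq] at this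

/-- Iterated commutators with one element fall through a section of order at most `p ^ k`. -/
theorem iterate_comm_mem : ∀ (k : ℕ) {H Y : Subgroup N} [H.Normal] [Y.Normal], Y ≤ H →
    Y.relIndex H ≤ p ^ k → ∀ (g : N), ∀ x ∈ H, (fun v => ⁅g, v⁆)^[k] x ∈ Y := by
  intro k
  induction k with
  | zero =>
    intro H Y _ _ _ hle g x hx
    have h0 : Y.relIndex H ≠ 0 := Subgroup.FiniteIndex.index_ne_zero
    exact relIndex_eq_one.1 (le_antisymm (by simpa using hle) (Nat.pos_of_ne_zero h0)) hx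
  | succ k ih =>
    intro H Y _ _ hYH hle g x hx
    rw [Function.iterate_succ_apply]
    rcases hYH.eq_or_lt with rfl | hlt
    · have : ∀ j, ∀ v ∈ Y, (fun v => ⁅g, v⁆)^[j] v ∈ Y := by
        intro j
        induction j with
        | zero => exact fun v hv => hv
        | succ j ihj =>
          intro v hv
          rw [Function.iterate_succ_apply]
          refine ihj _ ?_
          rw [commutatorElement_def]
          exact mul_mem ((inferInstance : Y.Normal).conj_mem v hv g) (inv_mem hv)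
      refine this k _ ?_
      rw [commutatorElement_def]
      exact mul_mem ((inferInstance : Y.Normal).conj_mem x hx g) (inv_mem hx)
    · set H' := ⁅H, (⊤ : Subgroup N)⁆ ⊔ Y
      have hlt' := lt_of_commutator hN hlt
      have hY' : Y ≤ H' := le_sup_right
      have hmul := Subgroup.relIndex_mul_relIndex Y H' H hY' hlt'.le
      obtain ⟨j, hj⟩ := (hN.to_subgroup H).index (H := H'.subgroupOf H)
      have hj1 : 1 ≤ j := by
        by_contra hj0
        have : H'.relIndex H = 1 := by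
          show (H'.subgroupOf H).index = 1
          rw [hj, show j = 0 by omega, pow_zero]
        exact hlt'.not_ge (relIndex_eq_one.1 this)
      refine ih hY' ?_ g _ (mem_sup_left ?_)
      · have h1 : Y.relIndex H' * p ≤ p ^ k * p := by
          rw [← pow_succ]
          refine le_trans (le_trans (Nat.mul_le_mul_left _ ?_) hmul.le) hle
          show p ≤ (H'.subgroupOf H).index
          rw [hj]
          exact Nat.le_self_pow (by omega) p
        exact Nat.le_of_mul_le_mul_right h1 hp.out.pos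
      · rw [← commutatorElement_inv]
        exact inv_mem (commutator_mem_commutator hx (mem_top g))

end Nilpotent

section Count

variable [Finite N] [hp : Fact p.Prime]

/-- An elementary abelian section has order at most `p ^ 3`. -/
theorem relIndex_le_cube (hsr : Cfsg.SectionalPRankLE p 3 N) {H K : Subgroup N}
    (hc : ∀ x ∈ H, ∀ y ∈ H, ⁅x, y⁆ ∈ K) (hpow : ∀ x ∈ H, x ^ p ∈ K) : K.relIndex H ≤ p ^ 3 := by
  haveI : (K.subgroupOf H).Normal := ⟨fun k hk h => by
    rw [Subgroup.mem_subgroupOf] at hk ⊢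
    have := K.mul_mem (hc h h.2 k k.2) hk
    simpa [commutatorElement_def, mul_assoc] using this⟩
  have hA : IsMulCommutative (⊤ : Subgroup (H ⧸ K.subgroupOf H)) := ⟨⟨fun x y => Subtype.ext (by
    show (x : H ⧸ K.subgroupOf H) * y = y * x
    rw [← commutatorElement_eq_one_iff_mul_comm]
    obtain ⟨u, hu⟩ := QuotientGroup.mk'_surjective _ (x : H ⧸ K.subgroupOf H)
    obtain ⟨v, hv⟩ := QuotientGroup.mk'_surjective _ (y : H ⧸ K.subgroupOf H)
    rw [← hu, ← hv, ← map_commutatorElement]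
    exact (QuotientGroup.eq_one_iff _).2 (by
      rw [Subgroup.mem_subgroupOf, ← Subgroup.coe_subtype, map_commutatorElement]
      exact hc u u.2 v v.2))⟩⟩
  have := hsr H (K.subgroupOf H) ⊤ hA fun x _ => by
    obtain ⟨u, rfl⟩ := QuotientGroup.mk'_surjective _ x
    rw [← map_pow]
    exact (QuotientGroup.eq_one_iff _).2 (by rw [Subgroup.mem_subgroupOf]; exact hpow u u.2)
  rw [card_top] at this
  exact this

/-- No four independent commuting elements of order `p` in a section. -/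
theorem no_four (hsr : Cfsg.SectionalPRankLE p 3 N) (K : Subgroup N) (x : Fin 4 → N)
    (hnorm : ∀ i, x i ∈ normalizer (K : Set N))
    (hc : ∀ i j, ⁅x i, x j⁆ ∈ K) (hpow : ∀ i, x i ^ p ∈ K)
    (hind : ∀ a b c d : ℕ, x 0 ^ a * x 1 ^ b * x 2 ^ c * x 3 ^ d ∈ K → p ∣ a ∧ p ∣ b ∧ p ∣ c ∧ p ∣ d) :
    False := by
  classical
  set M := K ⊔ closure (Set.range x) with hM
  have hMn : M ≤ normalizer (K : Set N) :=
    sup_le le_normalizer ((closure_le _).2 (by rintro _ ⟨i, rfl⟩; exact hnorm i))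
  have hKM : K ≤ M := le_sup_left
  haveI : (K.subgroupOf M).Normal := ⟨fun k hk g => by
    rw [Subgroup.mem_subgroupOf] at hk ⊢
    exact (Subgroup.mem_normalizer_iff.1 (hMn g.2) k).1 hk⟩
  set Q := M ⧸ K.subgroupOf M
  set π := QuotientGroup.mk' (K.subgroupOf M)
  have hxM : ∀ i, x i ∈ M := fun i => mem_sup_right (Subgroup.subset_closure ⟨i, rfl⟩)
  set e : Fin 4 → Q := fun i => π ⟨x i, hxM i⟩
  have hec : ∀ i j, Commute (e i) (e j) := fun i j => by
    rw [← commutatorElement_eq_one_iff_commute, ← map_commutatorElement]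
    exact (QuotientGroup.eq_one_iff _).2 (by
      rw [Subgroup.mem_subgroupOf, ← Subgroup.coe_subtype, map_commutatorElement]
      exact hc i j)
  have hep : ∀ i, e i ^ p = 1 := fun i => by
    rw [← map_pow]
    exact (QuotientGroup.eq_one_iff _).2 (by rw [Subgroup.mem_subgroupOf]; exact hpow i)
  -- the image is elementary abelian, generated by the four elements
  set A := closure (Set.range e)
  haveI hA : IsMulCommutative A := isMulCommutative_closure (by
    rintro _ ⟨i, rfl⟩ _ ⟨j, rfl⟩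
    exact (hec i j).eq)
  have hAp : ∀ a ∈ A, a ^ p = 1 := by
    intro a ha
    induction ha using Subgroup.closure_induction with
    | mem a ha => obtain ⟨i, rfl⟩ := ha; exact hep i
    | one => exact one_pow _
    | mul a b ha hb iha ihb =>
      rw [Commute.mul_pow (show Commute a b from congrArg Subtype.val (mul_comm' (⟨a, ha⟩ : A) ⟨b, hb⟩)),
        iha, ihb, one_mul]
    | inv a _ iha => rw [inv_pow, iha, inv_one]
  have hle := hsr M (K.subgroupOf M) A hA hAp
  -- yet the products of powers are distinct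
  letI : CommGroup A := { (inferInstance : Group A) with mul_comm := mul_comm' }
  let g : Fin 4 → A := fun i => ⟨e i, Subgroup.subset_closure ⟨i, rfl⟩⟩
  have hgp : ∀ i, g i ^ p = 1 := fun i => Subtype.ext (hep i)
  let f : (Fin p × Fin p × Fin p × Fin p) → A := fun q =>
    g 0 ^ (q.1 : ℕ) * g 1 ^ (q.2.1 : ℕ) * g 2 ^ (q.2.2.1 : ℕ) * g 3 ^ (q.2.2.2 : ℕ)
  have hf : Function.Injective f := by
    rintro ⟨a, b, c, d⟩ ⟨a', b', c', d'⟩ h
    simp only [f] at h
    have h1 : ∀ i (m : Fin p), g i ^ (m : ℕ) * g i ^ (p - (m : ℕ)) = 1 := fun i m => by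
      rw [← pow_add, Nat.add_sub_cancel' m.2.le, hgp]
    have four : ∀ a b c d a' b' c' d' : A,
        (a * b * c * d) * (a' * b' * c' * d') = (a * a') * (b * b') * (c * c') * (d * d') := by
      intro a b c d a' b' c' d'
      rw [mul_mul_mul_comm (a * b * c), mul_mul_mul_comm (a * b), mul_mul_mul_comm a]
    have key : g 0 ^ (a.1 + (p - a'.1)) * g 1 ^ (b.1 + (p - b'.1)) * g 2 ^ (c.1 + (p - c'.1)) *
        g 3 ^ (d.1 + (p - d'.1)) = 1 := by
      calc _ = (g 0 ^ (a : ℕ) * g 1 ^ (b : ℕ) * g 2 ^ (c : ℕ) * g 3 ^ (d : ℕ)) *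
          (g 0 ^ (p - (a' : ℕ)) * g 1 ^ (p - (b' : ℕ)) * g 2 ^ (p - (c' : ℕ)) * g 3 ^ (p - (d' : ℕ))) := by
            rw [four, pow_add, pow_add, pow_add, pow_add]
        _ = (g 0 ^ (a' : ℕ) * g 1 ^ (b' : ℕ) * g 2 ^ (c' : ℕ) * g 3 ^ (d' : ℕ)) *
          (g 0 ^ (p - (a' : ℕ)) * g 1 ^ (p - (b' : ℕ)) * g 2 ^ (p - (c' : ℕ)) * g 3 ^ (p - (d' : ℕ))) := by
            rw [h]
        _ = (g 0 ^ (a' : ℕ) * g 0 ^ (p - (a' : ℕ))) * (g 1 ^ (b' : ℕ) * g 1 ^ (p - (b' : ℕ))) *
          (g 2 ^ (c' : ℕ) * g 2 ^ (p - (c' : ℕ))) * (g 3 ^ (d' : ℕ) * g 3 ^ (p - (d' : ℕ))) := by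
            rw [four]
        _ = 1 := by rw [h1, h1, h1, h1, one_mul, one_mul, one_mul]
    have key' : π (⟨x 0, hxM 0⟩ ^ (a.1 + (p - a'.1)) * ⟨x 1, hxM 1⟩ ^ (b.1 + (p - b'.1)) *
        ⟨x 2, hxM 2⟩ ^ (c.1 + (p - c'.1)) * ⟨x 3, hxM 3⟩ ^ (d.1 + (p - d'.1))) = 1 := by
      rw [map_mul, map_mul, map_mul, map_pow, map_pow, map_pow, map_pow]
      exact congrArg Subtype.val key
    have hK := (QuotientGroup.eq_one_iff _).1 key'
    rw [Subgroup.mem_subgroupOf] at hK
    obtain ⟨ha, hb, hc', hd⟩ := hind _ _ _ _ hK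
    have fin : ∀ m m' : Fin p, p ∣ m.1 + (p - m'.1) → m = m' := fun m m' hdvd => by
      obtain ⟨k, hk⟩ := hdvd
      refine Fin.ext ?_
      have := m.2
      have := m'.2
      rcases k with _ | _ | k
      · omega
      · omega
      · exfalso
        have : p * 2 ≤ p * (k + 1 + 1) := Nat.mul_le_mul_left _ (by omega)
        omega
    rw [fin a a' ha, fin b b' hb, fin c c' hc', fin d d' hd]
  have := Nat.card_le_card_of_injective f hf
  simp only [Nat.card_prod, Nat.card_eq_fintype_card (α := Fin p), Fintype.card_fin] at this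
  have h4 : p ^ 4 ≤ p ^ 3 := by
    refine le_trans (le_of_eq ?_) (this.trans hle)
    ring
  exact absurd h4 (not_le.2 (Nat.pow_lt_pow_right hp.out.one_lt (by norm_num)))

/-- An element whose order modulo `Y` divides `p` and an integer prime to `p` lies in `Y`. -/
theorem mem_of_pow_mem_of_coprime {Y : Subgroup N} {x : N} {m : ℕ} (hx : x ^ p ∈ Y) (hm : x ^ m ∈ Y)
    (hpm : ¬ p ∣ m) : x ∈ Y := by
  have hcop : Nat.Coprime p m := hp.out.coprime_iff_not_dvd.2 hpm
  have key : x = (x ^ p) ^ (Nat.gcdA p m) * (x ^ m) ^ (Nat.gcdB p m) := by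
    rw [← zpow_natCast x p, ← zpow_natCast x m, ← zpow_mul, ← zpow_mul, ← zpow_add, ← Nat.gcd_eq_gcd_ab,
      hcop.gcd_eq_one, Nat.cast_one, zpow_one]
  rw [key]
  exact mul_mem (zpow_mem hx _) (zpow_mem hm _)

/-- An element scaled by two different residues modulo `Y` lies in `Y`. -/
theorem mem_of_pow_congr {Y : Subgroup N} {x : N} {a b : ℕ} (hx : x ^ p ∈ Y)
    (h : (x ^ a)⁻¹ * x ^ b ∈ Y) (hab : (a : ZMod p) ≠ b) : x ∈ Y := by
  wlog hle : a ≤ b generalizing a b
  · refine this ?_ (Ne.symm hab) (le_of_not_ge hle)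
    simpa using inv_mem h
  obtain ⟨m, rfl⟩ := Nat.exists_eq_add_of_le hle
  rw [pow_add, inv_mul_cancel_left] at h
  refine mem_of_pow_mem_of_coprime hx h fun hd => hab ?_
  rw [Nat.cast_add, (ZMod.natCast_eq_zero_iff _ _).2 hd, add_zero]

end Count

end Cfsg.Agent.H91.Rank3
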