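import Cfsg.Agent.H91.Rank3.Tools

/-!
A maximal subgroup `E` of a `p`-group of sectional rank three with irreducible automorphisms on `E/Φ(E)` and
a regular unipotent action from outside: `E` is elementary abelian, or every element outside `E` has order
exceeding all orders in `E`. In both cases `E` is the only maximal subgroup isomorphic to it.
-/

set_option autoImplicit false
set_option linter.unusedSectionVars false
set_option linter.style.haveILetI false

namespace Cfsg.Agent.H91.Rank3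

open Subgroup
open scoped commutatorElement

variable {N : Type*} [Group N]

/-- `E` has index `p`, its Frattini quotient has order `p ^ 3` and no invariant proper nontrivial subgroup, and
some element acts on that quotient with a nonzero square of the displacement. -/
structure RegularData (p : ℕ) (E : Subgroup N) : Prop where
  index : E.index = p
  card : Nat.card E = p ^ 3 * Nat.card (pser p E 1)
  irr : ∀ C : Subgroup N, pser p E 1 ≤ C → C ≤ E →
    (∀ f : N → N, AutOn E f → ∀ x ∈ C, f x ∈ C) → C = pser p E 1 ∨ C = E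
  reg : ∃ n : N, ∃ v ∈ E, ⁅n, ⁅n, v⁆⁆ ∉ pser p E 1

namespace RegularData

variable {p : ℕ} [hp : Fact p.Prime] [Finite N] {E : Subgroup N} (D : RegularData p E) (hN : IsPGroup p N)
  (hsr : Cfsg.SectionalPRankLE p 3 N) (h5 : 5 ≤ p)

include D hN

theorem normal : E.Normal := (mem_of_index_eq hN D.index).1

theorem comm_mem (g h : N) : ⁅g, h⁆ ∈ E := (mem_of_index_eq hN D.index).2.2 g h

theorem exists_not_mem {H : Subgroup N} (hH : H ≤ E) (h : Nat.card H < Nat.card E) : ∃ x ∈ E, x ∉ H :=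
  SetLike.exists_of_lt (lt_of_le_of_ne hH fun he => h.ne (he ▸ rfl))

include hsr h5

/-- The derived group of `E` lies in `℧₁(E)` modulo the second term. -/
theorem comm_le : pser p E 1 ≤ Cfsg.powerClosure p 1 E ⊔ pser p E 2 := by
  haveI := D.normal hN
  haveI := powerClosure_one_normal (p := p) E
  set K := Cfsg.powerClosure p 1 E ⊔ pser p E 2 with hK
  haveI : K.Normal := Subgroup.sup_normal _ _
  have hK1 : K ≤ pser p E 1 := sup_le le_sup_right (pser_succ_le E 1)
  have hpK : ∀ x ∈ E, x ^ p ∈ K := fun x hx =>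
    mem_sup_left (Subgroup.subset_closure ⟨x, hx, by rw [pow_one]⟩)
  have hcK : ∀ x ∈ pser p E 1, ∀ y ∈ E, ⁅x, y⁆ ∈ K := fun x hx y hy =>
    mem_sup_right (comm_mem_pser_succ hx hy)
  set π := QuotientGroup.mk' K with hπ
  have hπ1 : ∀ {x}, π x = 1 ↔ x ∈ K := fun {x} => QuotientGroup.eq_one_iff x
  have hcen : ∀ x ∈ pser p E 1, ∀ y ∈ E, Commute (π x) (π y) := fun x hx y hy => by
    rw [← commutatorElement_eq_one_iff_commute, ← map_commutatorElement]
    exact hπ1.2 (hcK x hx y hy)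
  have hbr : ∀ g ∈ E, ∀ h ∈ E, ∀ h' ∈ E, π ⁅g, h * h'⁆ = π ⁅g, h⁆ * π ⁅g, h'⁆ := by
    intro g hg h hh h' hh'
    rw [show ⁅g, h * h'⁆ = ⁅g, h⁆ * (h * ⁅g, h'⁆ * h⁻¹) by simp only [commutatorElement_def]; group,
      map_mul π, map_mul π, map_mul π, map_inv, ← (hcen _ (comm_mem_pser_one hg hh') h hh).eq,
      mul_inv_cancel_right]
  have hbl : ∀ g ∈ E, ∀ g' ∈ E, ∀ h ∈ E, π ⁅g * g', h⁆ = π ⁅g, h⁆ * π ⁅g', h⁆ := by
    intro g hg g' hg' h hh
    rw [show ⁅g * g', h⁆ = (g * ⁅g', h⁆ * g⁻¹) * ⁅g, h⁆ by simp only [commutatorElement_def]; group,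
      map_mul π, map_mul π, map_mul π, map_inv, ← (hcen _ (comm_mem_pser_one hg' hh) g hg).eq,
      mul_inv_cancel_right]
    exact (hcen _ (comm_mem_pser_one hg' hh) _ (pser_le (p := p) E 1 (comm_mem_pser_one hg hh))).eq
  -- the subgroup of elements pairing trivially with a given one
  let Cg : ∀ g, g ∈ E → Subgroup N := fun g hg =>
    { carrier := {h | h ∈ E ∧ π ⁅g, h⁆ = 1}
      one_mem' := ⟨E.one_mem, by rw [commutatorElement_one_right, map_one]⟩
      mul_mem' := fun {h h'} hh hh' =>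
        ⟨E.mul_mem hh.1 hh'.1, by rw [hbr g hg h hh.1 h' hh'.1, hh.2, hh'.2, one_mul]⟩
      inv_mem' := fun {h} hh => ⟨E.inv_mem hh.1, by
        have := hbr g hg h hh.1 h⁻¹ (E.inv_mem hh.1)
        rw [mul_inv_cancel, commutatorElement_one_right, map_one, hh.2, one_mul] at this
        exact this.symm⟩ }
  have hCg1 : ∀ g (hg : g ∈ E), pser p E 1 ⊔ zpowers g ≤ Cg g hg := fun g hg =>
    sup_le (fun x hx => ⟨pser_le E 1 hx, by
      rw [← commutatorElement_inv, map_inv, hπ1.2 (hcK x hx g hg), inv_one]⟩)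
      (zpowers_le.2 ⟨hg, by rw [commutatorElement_self, map_one]⟩)
  by_contra hne
  -- the radical is `pser 1`
  let R : Subgroup N :=
    { carrier := {g | g ∈ E ∧ ∀ h ∈ E, π ⁅g, h⁆ = 1}
      one_mem' := ⟨E.one_mem, fun h _ => by rw [commutatorElement_one_left, map_one]⟩
      mul_mem' := fun {g g'} hg hg' => ⟨E.mul_mem hg.1 hg'.1, fun h hh => by
        rw [hbl g hg.1 g' hg'.1 h hh, hg.2 h hh, hg'.2 h hh, one_mul]⟩
      inv_mem' := fun {g} hg => ⟨E.inv_mem hg.1, fun h hh => by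
        have := hbl g hg.1 g⁻¹ (E.inv_mem hg.1) h hh
        rw [mul_inv_cancel, commutatorElement_one_left, map_one, hg.2 h hh, one_mul] at this
        exact this.symm⟩ }
  have hKinv : ∀ f : N → N, AutOn E f → ∀ x ∈ K, f x ∈ K := by
    intro f hf x hx
    have hle : Cfsg.powerClosure p 1 E ⊔ pser p E 2 ≤ hf.preimage K := by
      refine sup_le ((closure_le _).2 ?_) fun y hy => ⟨pser_le E 2 hy, mem_sup_right (hf.mem_pser 2 hy)⟩
      rintro _ ⟨y, hy, rfl⟩
      refine ⟨E.pow_mem hy _, ?_⟩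
      rw [hf.map_pow hy, pow_one]
      exact hpK _ (hf.mem y hy)
    exact (hle hx).2
  have hRinv : ∀ f : N → N, AutOn E f → ∀ x ∈ R, f x ∈ R := fun f hf x hx => ⟨hf.mem x hx.1, fun h hh => by
    obtain ⟨h', hh', rfl⟩ := hf.surj h hh
    rw [← hf.map_comm hx.1 hh']
    exact hπ1.2 (hKinv f hf _ (hπ1.1 (hx.2 h' hh')))⟩
  have hR1 : pser p E 1 ≤ R := fun x hx => ⟨pser_le E 1 hx, fun h hh => hπ1.2 (hcK x hx h hh)⟩
  have hR : R = pser p E 1 := by
    refine (D.irr R hR1 (fun x hx => hx.1) hRinv).resolve_right fun hRE => hne ?_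
    refine pser_succ_le_of (fun x hx e he => ?_) hpK
    exact hπ1.1 ((hRE.ge hx).2 e he)
  have hp3 : p ^ 3 = p * (p * p) := by ring
  have hpos : 0 < Nat.card (pser p E 1) := Nat.card_pos
  have hp1 := hp.out.one_lt
  -- the commutators fill a group of order at most `p ^ 2`
  have hcardM : K.relIndex (pser p E 1) ≤ p * p := by
    obtain ⟨e, he, he1⟩ := D.exists_not_mem hN (pser_le E 1)
      (by rw [D.card]; exact lt_mul_of_one_lt_left hpos (Nat.one_lt_pow three_ne_zero hp1))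
    have hbound := relIndex_le_cube hsr (H := pser p E 1 ⊔ zpowers e) (K := K) (fun x hx y hy => ?_)
      fun x hx => hpK x (sup_le (pser_le E 1) (zpowers_le.2 he) hx)
    · rw [← Subgroup.relIndex_mul_relIndex K (pser p E 1) (pser p E 1 ⊔ zpowers e) hK1 le_sup_left] at hbound
      have h2 : (pser p E 1).relIndex (pser p E 1 ⊔ zpowers e) = p := by
        have := card_mul_relIndex (le_sup_left : pser p E 1 ≤ pser p E 1 ⊔ zpowers e)
        rw [card_step le_rfl (pser_le E 1) he he1, mul_comm p] at this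
        exact Nat.eq_of_mul_eq_mul_left hpos this
      rw [h2, hp3, mul_comm p (p * p)] at hbound
      exact Nat.le_of_mul_le_mul_right hbound hp.out.pos
    · obtain ⟨q, hq, i, rfl⟩ := exists_mul_zpow le_rfl (pser_le E 1) he hx
      obtain ⟨q', hq', j, rfl⟩ := exists_mul_zpow le_rfl (pser_le E 1) he hy
      have hei : ∀ k : ℤ, e ^ k ∈ E := fun k => E.zpow_mem he k
      rw [← hπ1, hbl q (pser_le E 1 hq) _ (hei i) _ (E.mul_mem (pser_le E 1 hq') (hei j)),
        hbr _ (hei i) q' (pser_le E 1 hq') _ (hei j),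
        hπ1.2 (hcK q hq _ (E.mul_mem (pser_le E 1 hq') (hei j))),
        show π ⁅e ^ i, q'⁆ = 1 by rw [← commutatorElement_inv, map_inv, hπ1.2 (hcK q' hq' _ (hei i)), inv_one],
        show ⁅e ^ i, e ^ j⁆ = 1 from commutatorElement_eq_one_iff_commute.2 ((Commute.refl e).zpow_zpow i j),
        map_one, one_mul, one_mul]
  -- two commuting independent elements
  obtain ⟨u, v, hu, hv, huv, hu1, hv1⟩ : ∃ u v, u ∈ E ∧ v ∈ E ∧ π ⁅u, v⁆ = 1 ∧ u ∉ pser p E 1 ∧
      v ∉ pser p E 1 ⊔ zpowers u := by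
    obtain ⟨u, hu, hu1⟩ := D.exists_not_mem hN (pser_le E 1)
      (by rw [D.card]; exact lt_mul_of_one_lt_left hpos (Nat.one_lt_pow three_ne_zero hp1))
    set H1 := pser p E 1 ⊔ zpowers u with hH1
    have hH1E : H1 ≤ E := sup_le (pser_le E 1) (zpowers_le.2 hu)
    have hc1 : Nat.card H1 = p * Nat.card (pser p E 1) := card_step le_rfl (pser_le E 1) hu hu1
    by_cases hbig : ∃ v ∈ Cg u hu, v ∉ H1
    · obtain ⟨v, hv, hv1⟩ := hbig
      exact ⟨u, v, hu, hv.1, hv.2, hu1, hv1⟩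
    push Not at hbig
    have hCu : Cg u hu = H1 := le_antisymm hbig (hCg1 u hu)
    have h1H : pser p E 1 ≤ H1 := le_sup_left
    obtain ⟨v, hv, hv1⟩ := D.exists_not_mem hN hH1E (by
      rw [hc1, D.card]
      exact Nat.mul_lt_mul_of_pos_right (by
        calc p = p ^ 1 := (pow_one p).symm
          _ < p ^ 3 := Nat.pow_lt_pow_right hp1 (by norm_num)) hpos)
    set H2 := H1 ⊔ zpowers v
    have hH2E : H2 ≤ E := sup_le hH1E (zpowers_le.2 hv)
    have hc2 : Nat.card H2 = p * (p * Nat.card (pser p E 1)) := by rw [card_step h1H hH1E hv hv1, hc1]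
    obtain ⟨w, hw, hw1⟩ := D.exists_not_mem hN hH2E (by
      rw [hc2, D.card, hp3, mul_assoc, mul_assoc]
      exact lt_mul_of_one_lt_left (Nat.mul_pos hp.out.pos (Nat.mul_pos hp.out.pos hpos)) hp1)
    have hEq : H2 ⊔ zpowers w = E := eq_of_step (h1H.trans le_sup_left) hH2E hw hw1
      (by rw [hc2, D.card]; ring)
    -- `⁅u, ·⁆` covers all commutators
    let φ : E →* N ⧸ K := MonoidHom.mk' (fun h => π ⁅u, (h : N)⁆) fun a b => hbr u hu a a.2 b b.2
    have hker : φ.ker = H1.subgroupOf E := by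
      ext h
      rw [MonoidHom.mem_ker, Subgroup.mem_subgroupOf, ← hCu]
      exact ⟨fun hh => ⟨h.2, hh⟩, fun hh => hh.2⟩
    have hrange : φ.range = (pser p E 1).map π := by
      refine Subgroup.eq_of_le_of_card_ge ?_ ?_
      · rintro _ ⟨h, rfl⟩
        exact ⟨_, comm_mem_pser_one hu h.2, rfl⟩
      · rw [← Subgroup.index_ker, hker, ← Subgroup.relIndex_ker, hπ, QuotientGroup.ker_mk']
        have := card_mul_relIndex hH1E
        rw [hc1, D.card, hp3, mul_comm p (Nat.card _), mul_assoc, mul_comm (p * (p * p)),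
          Nat.mul_left_cancel_iff hpos] at this
        rw [show (H1.subgroupOf E).index = p * p from Nat.eq_of_mul_eq_mul_left hp.out.pos this]
        exact hcardM
    obtain ⟨g, hg⟩ : π ⁅v, w⁆ ∈ φ.range := hrange ▸ ⟨_, comm_mem_pser_one hv hw, rfl⟩
    obtain ⟨h2, hh2, k, hgk⟩ := exists_mul_zpow (h1H.trans le_sup_left) hH2E hw (hEq.ge g.2)
    obtain ⟨h1, hh1, j, rfl⟩ := exists_mul_zpow h1H hH1E hv hh2
    have hhom : ∀ (x : N) (hx : x ∈ E) (i : ℤ), π ⁅u, x ^ i⁆ = π ⁅u, x⁆ ^ i := fun x hx i => by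
      have := map_zpow φ ⟨x, hx⟩ i
      simpa [φ] using this
    have hval : π ⁅v, w⁆ = π ⁅u, v⁆ ^ j * π ⁅u, w⁆ ^ k := by
      rw [← hg]
      show π ⁅u, (g : N)⁆ = _
      rw [hgk, hbr u hu _ (E.mul_mem (hH1E hh1) (E.zpow_mem hv j)) _ (E.zpow_mem hw k),
        hbr u hu _ (hH1E hh1) _ (E.zpow_mem hv j), (hCu.ge hh1).2, one_mul, hhom v hv, hhom w hw]
    have hswap : π ⁅v, u⁆ = (π ⁅u, v⁆)⁻¹ := by rw [← map_inv, commutatorElement_inv]
    have huk : ∀ i : ℤ, u ^ i ∈ E := fun i => E.zpow_mem hu i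
    have hzl : ∀ (i : ℤ) (x : N), x ∈ E → π ⁅u ^ i, x⁆ = π ⁅u, x⁆ ^ i := by
      intro i x hx
      let ψ : E →* N ⧸ K := MonoidHom.mk' (fun h => π ⁅(h : N), x⁆) fun a b => hbl a a.2 b b.2 x hx
      simpa [ψ] using map_zpow ψ ⟨u, hu⟩ i
    refine ⟨v * u ^ (-k), w * u ^ j, E.mul_mem hv (huk _), E.mul_mem hw (huk _), ?_, fun h => hv1 ?_,
      fun h => hw1 ?_⟩
    · rw [hbl v hv _ (huk _) _ (E.mul_mem hw (huk _)), hbr v hv w hw _ (huk j),
        hbr _ (huk _) w hw _ (huk j),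
        show π ⁅v, u ^ j⁆ = (π ⁅u ^ j, v⁆)⁻¹ by rw [← map_inv, commutatorElement_inv],
        hzl j v hv, hzl (-k) w hw,
        show π ⁅u ^ (-k), u ^ j⁆ = 1 by
          rw [commutatorElement_eq_one_iff_commute.2 ((Commute.refl u).zpow_zpow _ _), map_one],
        hval, mul_one]
      have hcz : Commute (π ⁅u, v⁆ ^ j) (π ⁅u, w⁆ ^ k) :=
        (hcen _ (comm_mem_pser_one hu hv) _ (pser_le (p := p) E 1 (comm_mem_pser_one hu hw))).zpow_zpow _ _
      rw [hcz.eq]
      group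
    · have := mul_mem (h1H h) (mem_sup_right (zpow_mem (mem_zpowers u) k) : u ^ k ∈ H1)
      rwa [mul_assoc, ← zpow_add, neg_add_cancel, zpow_zero, mul_one] at this
    · have h0 : pser p E 1 ⊔ zpowers (v * u ^ (-k)) ≤ H2 := sup_le (h1H.trans le_sup_left)
        (zpowers_le.2 (mul_mem (mem_sup_right (mem_zpowers v))
          (mem_sup_left (mem_sup_right (zpow_mem (mem_zpowers u) _)))))
      have := mul_mem (h0 h)
        (inv_mem (mem_sup_left (mem_sup_right (zpow_mem (mem_zpowers u) j)) : u ^ j ∈ H2))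
      rwa [mul_inv_cancel_right] at this
  set W1 := pser p E 1 ⊔ zpowers u
  have hW1E : W1 ≤ E := sup_le (pser_le E 1) (zpowers_le.2 hu)
  set W := W1 ⊔ zpowers v
  have hWE : W ≤ E := sup_le hW1E (zpowers_le.2 hv)
  have hW1 : pser p E 1 ≤ W := le_sup_left.trans le_sup_left
  have hcW : Nat.card W = p * (p * Nat.card (pser p E 1)) := by
    rw [card_step le_sup_left hW1E hv hv1, card_step le_rfl (pser_le E 1) hu hu1]
  have hWcomm : ∀ x ∈ W, ∀ y ∈ W, π ⁅x, y⁆ = 1 := by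
    have hWu : W ≤ Cg u hu := sup_le (hCg1 u hu) (zpowers_le.2 ⟨hv, huv⟩)
    have hWv : W ≤ Cg v hv := sup_le (sup_le (le_sup_left.trans (hCg1 v hv)) (zpowers_le.2 ⟨hu, by
      rw [← commutatorElement_inv, map_inv, huv, inv_one]⟩)) (le_sup_right.trans (hCg1 v hv))
    intro x hx y hy
    obtain ⟨x1, hx1, j, rfl⟩ := exists_mul_zpow le_sup_left hW1E hv hx
    obtain ⟨x0, hx0, i, rfl⟩ := exists_mul_zpow le_rfl (pser_le E 1) hu hx1
    have hyE := hWE hy
    have h1 : ∀ (g : N) (hg : g ∈ E), π ⁅g, y⁆ = 1 → ∀ k : ℤ, π ⁅g ^ k, y⁆ = 1 := by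
      intro g hg hgy k
      let ψ : E →* N ⧸ K := MonoidHom.mk' (fun h => π ⁅(h : N), y⁆) fun a b => hbl a a.2 b b.2 y hyE
      have := map_zpow ψ ⟨g, hg⟩ k
      simp only [ψ, MonoidHom.mk'_apply, SubgroupClass.coe_zpow] at this
      rw [this, hgy, one_zpow]
    rw [hbl _ (hW1E hx1) _ (E.zpow_mem hv j) y hyE, hbl _ (pser_le E 1 hx0) _ (E.zpow_mem hu i) y hyE,
      hπ1.2 (hcK x0 hx0 y hyE), h1 u hu (hWu hy).2, h1 v hv (hWv hy).2, one_mul, one_mul]
  -- the plane is invariant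
  have hWinv : ∀ f : N → N, AutOn E f → ∀ x ∈ W, f x ∈ W := by
    intro f hf
    set W' := hf.image W hWE
    have hW'E : W' ≤ E := by rintro _ ⟨x, hx, rfl⟩; exact hf.mem x (hWE hx)
    have hW'1 : pser p E 1 ≤ W' := fun x hx => by
      obtain ⟨y, hy, rfl⟩ := hf.surj_pser 1 hx
      exact ⟨y, hW1 hy, rfl⟩
    have hcW' : Nat.card W' = Nat.card W := by
      refine (Nat.card_congr (Equiv.Set.imageOfInjOn f W fun x hx y hy he => ?_)).symm
      have : x⁻¹ * y = 1 := hf.inj _ (E.mul_mem (E.inv_mem (hWE hx)) (hWE hy)) (by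
        rw [hf.mul _ (E.inv_mem (hWE hx)) _ (hWE hy), hf.map_inv (hWE hx), he, inv_mul_cancel])
      exact inv_mul_eq_one.1 this
    by_contra hcon
    push Not at hcon
    obtain ⟨x0, hx0, hx0'⟩ := hcon
    have hWW : W ⊔ W' = E := by
      refine le_antisymm (sup_le hWE hW'E) ?_
      rw [← eq_of_step hW1 hWE (hf.mem x0 (hWE hx0)) hx0' (by rw [hcW, D.card]; ring)]
      exact sup_le le_sup_left (zpowers_le.2 (mem_sup_right ⟨x0, hx0, rfl⟩))
    have hW'comm : ∀ x ∈ W', ∀ y ∈ W', π ⁅x, y⁆ = 1 := by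
      rintro _ ⟨x, hx, rfl⟩ _ ⟨y, hy, rfl⟩
      rw [← hf.map_comm (hWE hx) (hWE hy)]
      exact hπ1.2 (hKinv f hf _ (hπ1.1 (hWcomm x hx y hy)))
    obtain ⟨r, hrW, hrW', hr1⟩ : ∃ r ∈ W, r ∈ W' ∧ r ∉ pser p E 1 := by
      have hfu : f u ∈ W' := ⟨u, mem_sup_left (mem_sup_right (mem_zpowers u)), rfl⟩
      have hfu1 : f u ∉ pser p E 1 := fun h => hu1 ((hf.mem_pser_iff hu).1 h)
      by_cases huW : f u ∈ W
      · exact ⟨f u, huW, hfu, hfu1⟩
      obtain ⟨w, hw, i, hwi⟩ := exists_mul_zpow hW1 hWE (hf.mem u hu) (g := f v) (by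
        rw [eq_of_step hW1 hWE (hf.mem u hu) huW (by rw [hcW, D.card]; ring)]
        exact hf.mem v hv)
      have hwval : w = f v * (f u ^ i)⁻¹ := by rw [hwi, mul_inv_cancel_right]
      have hwW' : w ∈ W' := hwval ▸ mul_mem (⟨v, mem_sup_right (mem_zpowers v), rfl⟩ : f v ∈ W')
        (inv_mem (zpow_mem hfu i))
      refine ⟨w, hw, hwW', fun h => hv1 ?_⟩
      obtain ⟨y, hy, hye⟩ := hf.surj_pser 1 h
      have hfz : f u ^ i = f (u ^ i) := by
        have := map_zpow (MonoidHom.mk' (fun a : E => f a) fun a b => hf.mul a a.2 b b.2) ⟨u, hu⟩ i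
        simpa using this.symm
      have : f v = f (y * u ^ i) := by
        rw [hf.mul y (pser_le E 1 hy) _ (E.zpow_mem hu i), hye, ← hfz, ← hwi]
      have h2 : v⁻¹ * (y * u ^ i) = 1 :=
        hf.inj _ (E.mul_mem (E.inv_mem hv) (E.mul_mem (pser_le E 1 hy) (E.zpow_mem hu i))) (by
          rw [hf.mul _ (E.inv_mem hv) _ (E.mul_mem (pser_le E 1 hy) (E.zpow_mem hu i)), hf.map_inv hv, this,
            inv_mul_cancel])
      rw [inv_mul_eq_one.1 h2]
      exact mul_mem (mem_sup_left hy) (mem_sup_right (zpow_mem (mem_zpowers u) i))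
    refine hr1 (hR.le ⟨hWE hrW, fun h hh => ?_⟩)
    have hle : W ⊔ W' ≤ Cg r (hWE hrW) := sup_le (fun y hy => ⟨hWE hy, hWcomm r hrW y hy⟩)
      fun y hy => ⟨hW'E hy, hW'comm r hrW' y hy⟩
    exact (hle (hWW.ge hh)).2
  rcases D.irr W hW1 hWE hWinv with h | h
  · exact hu1 (h ▸ mem_sup_left (mem_sup_right (mem_zpowers u)))
  · rw [h, D.card, hp3, mul_assoc, mul_assoc] at hcW
    exact absurd hcW (lt_mul_of_one_lt_left (Nat.mul_pos hp.out.pos (Nat.mul_pos hp.out.pos hpos)) hp1).ne'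

/-- Every element of a term of the series is a `p`-th power modulo the term after it. -/
theorem pow_surj : ∀ i, ∀ y ∈ pser p E (i + 1), ∃ x ∈ pser p E i, (x ^ p)⁻¹ * y ∈ pser p E (i + 2) := by
  have hp2 : p ≠ 2 := by omega
  haveI := D.normal hN
  intro i
  let Im : ∀ i, Subgroup N := fun i =>
    { carrier := {y | y ∈ pser p E (i + 1) ∧ ∃ x ∈ pser p E i, (x ^ p)⁻¹ * y ∈ pser p E (i + 2)}
      one_mem' := ⟨one_mem _, 1, one_mem _, by simp⟩
      mul_mem' := by
        rintro y y' ⟨hy1, x, hx, hy⟩ ⟨hy1', x', hx', hy'⟩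
        refine ⟨mul_mem hy1 hy1', x * x', mul_mem hx hx', ?_⟩
        have h := mul_mem (inv_mem (mul_pow_congr hp2 hx hx'))
          (mul_mem ((inferInstance : (pser p E (i + 2)).Normal).conj_mem' _ hy (x' ^ p)) hy')
        convert h using 1
        group
      inv_mem' := by
        rintro y ⟨hy1, x, hx, hy⟩
        refine ⟨inv_mem hy1, x⁻¹, inv_mem hx, ?_⟩
        have := (inferInstance : (pser p E (i + 2)).Normal).conj_mem _ (inv_mem hy) (x ^ p)
        convert this using 1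
        group }
  have hpow : ∀ i, ∀ x ∈ pser p E i, x ^ p ∈ Im i := fun i x hx =>
    ⟨pow_mem_pser_succ hx, x, hx, by rw [inv_mul_cancel]; exact one_mem _⟩
  have hdeep : ∀ i, pser p E (i + 2) ≤ Im i := fun i y hy =>
    ⟨pser_succ_le E (i + 1) hy, 1, one_mem _, by simpa using hy⟩
  suffices h : ∀ i, pser p E (i + 1) ≤ Im i from fun y hy => (h i hy).2
  intro i
  induction i with
  | zero =>
    refine (D.comm_le hN hsr h5).trans (sup_le ((closure_le _).2 ?_) (hdeep 0))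
    rintro _ ⟨x, hx, rfl⟩
    rw [pow_one]
    exact hpow 0 x hx
  | succ i ih =>
    refine pser_succ_le_of (fun x hx e he => ?_) (hpow (i + 1))
    obtain ⟨-, u, hu, huq⟩ := ih hx
    set q := (u ^ p)⁻¹ * x with hq
    rw [show x = u ^ p * q by rw [hq, mul_inv_cancel_left],
      show ⁅u ^ p * q, e⁆ = u ^ p * ⁅q, e⁆ * (u ^ p)⁻¹ * ⁅e, u ^ p⁆⁻¹ by
        simp only [commutatorElement_def]; group]
    refine mul_mem (hdeep (i + 1) ((inferInstance : (pser p E (i + 3)).Normal).conj_mem _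
      (comm_mem_pser_succ huq he) _)) (inv_mem ?_)
    rw [show ⁅e, u ^ p⁆ = ⁅e, u⁆ ^ p * ((⁅e, u⁆ ^ p)⁻¹ * ⁅e, u ^ p⁆) by group]
    exact mul_mem (hpow (i + 1) _ (comm_mem_pser_succ' hu he)) (hdeep (i + 1) (comm_pow_congr hp2 hu he))

/-- Iterated `p`-th powers are multiplicative into each layer and cover it. -/
theorem pow_layer (k : ℕ) : (∀ x ∈ E, x ^ p ^ k ∈ pser p E k) ∧
    (∀ x ∈ E, ∀ y ∈ E, (x ^ p ^ k * y ^ p ^ k)⁻¹ * (x * y) ^ p ^ k ∈ pser p E (k + 1)) ∧
    ∀ y ∈ pser p E k, ∃ x ∈ E, (x ^ p ^ k)⁻¹ * y ∈ pser p E (k + 1) := by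
  have hp2 : p ≠ 2 := by omega
  haveI := D.normal hN
  induction k with
  | zero =>
    refine ⟨fun x hx => by simpa [pser] using hx, fun x hx y hy => by simp, fun y hy => ⟨y, hy, by simp⟩⟩
  | succ k ih =>
    obtain ⟨hm, hmul, hsurj⟩ := ih
    refine ⟨fun x hx => ?_, fun x hx y hy => ?_, fun y hy => ?_⟩
    · rw [pow_succ, pow_mul]
      exact pow_mem_pser_succ (hm x hx)
    · simp only [pow_succ, pow_mul]
      have h1 := pow_congr_pser hp2 (mul_mem (hm x hx) (hm y hy)) (hmul x hx y hy)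
      have h2 := mul_mem (mul_pow_congr hp2 (hm x hx) (hm y hy)) h1
      convert h2 using 1
      group
    · obtain ⟨u, hu, huy⟩ := D.pow_surj hN hsr h5 k y hy
      obtain ⟨x, hx, hxu⟩ := hsurj u hu
      refine ⟨x, hx, ?_⟩
      rw [pow_succ, pow_mul]
      have := mul_mem (pow_congr_pser hp2 (hm x hx) hxu) huy
      convert this using 1
      group

/-- In a nontrivial layer the iterated power map has kernel exactly the Frattini subgroup. -/
theorem pow_not_mem_layer {k : ℕ} (hk : pser p E k ≠ ⊥) {x : N} (hx : x ∈ E) (hx1 : x ∉ pser p E 1) :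
    x ^ p ^ k ∉ pser p E (k + 1) := by
  have hp2 : p ≠ 2 := by omega
  haveI := D.normal hN
  obtain ⟨hm, hmul, hsurj⟩ := D.pow_layer hN hsr h5 k
  set π := QuotientGroup.mk' (pser p E (k + 1))
  let ψ : E →* N ⧸ pser p E (k + 1) := MonoidHom.mk' (fun a => π ((a : N) ^ p ^ k)) fun a b => by
    rw [← map_mul, Subgroup.coe_mul]
    exact (QuotientGroup.eq.2 (hmul a a.2 b b.2)).symm
  set C := ψ.ker.map E.subtype
  have hCmem : ∀ y, y ∈ C ↔ y ∈ E ∧ y ^ p ^ k ∈ pser p E (k + 1) := fun y => by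
    constructor
    · rintro ⟨a, ha, rfl⟩
      exact ⟨a.2, (QuotientGroup.eq_one_iff _).1 ha⟩
    · rintro ⟨hy, hyk⟩
      exact ⟨⟨y, hy⟩, (QuotientGroup.eq_one_iff _).2 hyk, rfl⟩
  have hC1 : pser p E 1 ≤ C := by
    refine fun y hy => (hCmem y).2 ⟨pser_le E 1 hy, ?_⟩
    have h : ∀ j, y ^ p ^ j ∈ pser p E (j + 1) := by
      intro j
      induction j with
      | zero => simpa using hy
      | succ j ih => rw [pow_succ, pow_mul]; exact pow_mem_pser_succ ih
    exact h k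
  intro hxk
  rcases D.irr C hC1 (fun y hy => ((hCmem y).1 hy).1) (fun f hf y hy => (hCmem _).2 ⟨hf.mem y ((hCmem y).1 hy).1, by
      rw [← hf.map_pow ((hCmem y).1 hy).1]
      exact hf.mem_pser _ ((hCmem y).1 hy).2⟩) with h | h
  · exact hx1 (h ▸ (hCmem x).2 ⟨hx, hxk⟩)
  · refine hk (pser_eq_bot hN fun y hy => ?_)
    obtain ⟨u, hu, huy⟩ := hsurj y hy
    have := mul_mem ((hCmem u).1 (h.ge hu)).2 huy
    rwa [mul_inv_cancel_left] at this

/-- No `p`-th power of an outer element lies in the Frattini subgroup, unless that is trivial. -/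
theorem pow_not_mem (hne : pser p E 1 ≠ ⊥) {g : N} (hg : g ∉ E) : g ^ p ∉ pser p E 1 := by
  have hp2 : p ≠ 2 := by omega
  haveI := D.normal hN
  -- `g` acts with a nonzero square of the displacement
  obtain ⟨v, hv, hvD⟩ : ∃ v ∈ E, ⁅g, ⁅g, v⁆⁆ ∉ pser p E 1 := by
    by_contra hcon
    push Not at hcon
    obtain ⟨n, v, hv, hnv⟩ := D.reg
    refine hnv ?_
    have hq : Nat.card (N ⧸ E) = p := by rw [← Subgroup.index_eq_card, D.index]
    obtain ⟨j, hj⟩ : QuotientGroup.mk' E n ∈ Submonoid.powers (QuotientGroup.mk' E g) :=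
      mem_powers_of_prime_card hq fun h => hg ((QuotientGroup.eq_one_iff g).1 h)
    have hne' : (g ^ j)⁻¹ * n ∈ E := by
      refine QuotientGroup.eq.1 ?_
      simpa using hj
    set π := QuotientGroup.mk' (pser p E 1)
    have hπ1 : ∀ {x}, π x = 1 ↔ x ∈ pser p E 1 := fun {x} => QuotientGroup.eq_one_iff x
    have hab : ∀ a ∈ E, ∀ b ∈ E, Commute (π a) (π b) := fun a ha b hb => by
      rw [← commutatorElement_eq_one_iff_commute, ← map_commutatorElement]
      exact hπ1.2 (comm_mem_pser_one ha hb)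
    -- modulo `pser 1` the displacement of a power is the power of the displacement
    have hpowd : ∀ (m : ℕ), ∀ w ∈ E, π ⁅g ^ m, w⁆ = π ⁅g, w⁆ ^ m := by
      intro m w hw
      induction m with
      | zero => simp
      | succ m ih =>
        rw [pow_succ', show ⁅g * g ^ m, w⁆ = ⁅g, ⁅g ^ m, w⁆⁆ * ⁅g ^ m, w⁆ * ⁅g, w⁆ by
          simp only [commutatorElement_def]; group, map_mul π, map_mul π, hπ1.2 ?_, one_mul, ih, pow_succ]
        -- the displacement is killed by a second displacement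
        have : ∀ x ∈ E, x ∈ pser p E 1 ⊔ (Subgroup.closure {y | ∃ w ∈ E, y = ⁅g, w⁆}) → ⁅g, x⁆ ∈ pser p E 1 := by
          intro x hxE hx
          obtain ⟨q, hq, y, hy, rfl⟩ := Subgroup.mem_sup_of_normal_left.1 hx
          have hy2 : y ∈ E ∧ π ⁅g, y⁆ = 1 := by
            clear hxE hx
            induction hy using Subgroup.closure_induction with
            | mem y hy =>
              obtain ⟨w', hw', rfl⟩ := hy
              exact ⟨D.comm_mem hN g w', hπ1.2 (hcon w' hw')⟩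
            | one => exact ⟨E.one_mem, by simp⟩
            | mul a b _ _ iha ihb =>
              refine ⟨E.mul_mem iha.1 ihb.1, ?_⟩
              rw [show ⁅g, a * b⁆ = ⁅g, a⁆ * (a * ⁅g, b⁆ * a⁻¹) by simp only [commutatorElement_def]; group,
                map_mul, iha.2, one_mul, map_mul, map_mul, ihb.2, mul_one, ← map_mul, mul_inv_cancel, map_one]
            | inv a _ iha =>
              refine ⟨E.inv_mem iha.1, ?_⟩
              rw [show ⁅g, a⁻¹⁆ = a⁻¹ * ⁅g, a⁆⁻¹ * a by simp only [commutatorElement_def]; group,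
                map_mul, map_mul, map_inv π ⁅g, a⁆, iha.2, inv_one, mul_one, ← map_mul, inv_mul_cancel,
                map_one]
          refine hπ1.1 ?_
          rw [show ⁅g, q * y⁆ = ⁅g, q⁆ * (q * ⁅g, y⁆ * q⁻¹) by simp only [commutatorElement_def]; group,
            map_mul, map_mul, map_mul, hy2.2, mul_one, ← map_mul π q, mul_inv_cancel, map_one, mul_one]
          exact hπ1.2 (by
            rw [commutatorElement_def]
            exact mul_mem ((inferInstance : (pser p E 1).Normal).conj_mem q hq g) (inv_mem hq))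
        refine this _ (D.comm_mem hN _ _) ?_
        clear this
        have hmem : ∀ m, ⁅g ^ m, w⁆ ∈ pser p E 1 ⊔ Subgroup.closure {y | ∃ w ∈ E, y = ⁅g, w⁆} := by
          intro m
          induction m with
          | zero => simp
          | succ m ih =>
            rw [pow_succ', show ⁅g * g ^ m, w⁆ = ⁅g, ⁅g ^ m, w⁆⁆ * ⁅g ^ m, w⁆ * ⁅g, w⁆ by
              simp only [commutatorElement_def]; group]
            exact mul_mem (mul_mem (mem_sup_right (Subgroup.subset_closure ⟨_, D.comm_mem hN _ _, rfl⟩)) ih)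
              (mem_sup_right (Subgroup.subset_closure ⟨w, hw, rfl⟩))
        exact hmem m
    have hdn : ∀ w ∈ E, π ⁅n, w⁆ = π ⁅g, w⁆ ^ j := by
      intro w hw
      rw [show n = g ^ j * ((g ^ j)⁻¹ * n) by group,
        show ⁅g ^ j * ((g ^ j)⁻¹ * n), w⁆ = g ^ j * ⁅(g ^ j)⁻¹ * n, w⁆ * (g ^ j)⁻¹ * ⁅g ^ j, w⁆ by
          simp only [commutatorElement_def]; group,
        map_mul, map_mul, map_mul, hπ1.2 (comm_mem_pser_one hne' hw), mul_one, ← map_mul π (g ^ j),
        mul_inv_cancel, map_one, one_mul, hpowd j w hw]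
    refine hπ1.1 ?_
    rw [hdn _ (D.comm_mem hN n v)]
    let δ : E →* N ⧸ pser p E 1 := MonoidHom.mk' (fun a => π ⁅g, (a : N)⁆) fun a b => by
      rw [Subgroup.coe_mul, show ⁅g, (a : N) * b⁆ = ⁅g, (a : N)⁆ * (a * ⁅g, (b : N)⁆ * (a : N)⁻¹) by
        simp only [commutatorElement_def]; group, map_mul π, map_mul π, map_mul π, map_inv,
        ← (hab _ (D.comm_mem hN g b) a a.2).eq, mul_inv_cancel_right]
    have e1 : δ (⟨⁅n, v⁆, D.comm_mem hN n v⟩ : E) = δ ((⟨⁅g, v⁆, D.comm_mem hN g v⟩ : E) ^ j) := by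
      have hin : (⟨⁅g, v⁆, D.comm_mem hN g v⟩ ^ j : E)⁻¹ * ⟨⁅n, v⁆, D.comm_mem hN n v⟩ ∈
          (pser p E 1).subgroupOf E := by
        rw [Subgroup.mem_subgroupOf, ← hπ1]
        simp only [Subgroup.coe_mul, Subgroup.coe_inv, SubmonoidClass.coe_pow, map_mul, map_inv, map_pow]
        rw [hdn v hv, inv_mul_cancel]
      have hk : ∀ a : E, a ∈ (pser p E 1).subgroupOf E → δ a = 1 := fun a ha => hπ1.2 (by
        rw [commutatorElement_def]
        exact mul_mem ((inferInstance : (pser p E 1).Normal).conj_mem _ ha g) (inv_mem ha))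
      have := hk _ hin
      rw [map_mul, map_inv, inv_mul_eq_one] at this
      exact this.symm
    show δ (⟨⁅n, v⁆, D.comm_mem hN n v⟩ : E) ^ j = 1
    rw [e1, map_pow, show δ ⟨⁅g, v⁆, D.comm_mem hN g v⟩ = 1 from hπ1.2 (hcon v hv), one_pow, one_pow]
  intro hgp
  -- the line of fixed points and the quotient by its `p`-th powers
  obtain ⟨hm1, hmul1, hsurj1⟩ := D.pow_layer hN hsr h5 1
  simp only [pow_one] at hm1 hmul1 hsurj1
  set π1 := QuotientGroup.mk' (pser p E 1)
  let L : Subgroup N :=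
    { carrier := {x | x ∈ E ∧ π1 ⁅g, x⁆ = 1}
      one_mem' := ⟨E.one_mem, by simp⟩
      mul_mem' := fun {a b} ha hb => ⟨E.mul_mem ha.1 hb.1, by
        rw [show ⁅g, a * b⁆ = ⁅g, a⁆ * (a * ⁅g, b⁆ * a⁻¹) by simp only [commutatorElement_def]; group,
          map_mul, ha.2, one_mul, map_mul, map_mul, hb.2, mul_one, ← map_mul, mul_inv_cancel, map_one]⟩
      inv_mem' := fun {a} ha => ⟨E.inv_mem ha.1, by
        rw [show ⁅g, a⁻¹⁆ = a⁻¹ * ⁅g, a⁆⁻¹ * a by simp only [commutatorElement_def]; group,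
          map_mul, map_mul, map_inv π1 ⁅g, a⁆, ha.2, inv_one, mul_one, ← map_mul, inv_mul_cancel,
          map_one]⟩ }
  let K : Subgroup N :=
    { carrier := {y | y ∈ pser p E 1 ∧ ∃ x ∈ L, (x ^ p)⁻¹ * y ∈ pser p E 2}
      one_mem' := ⟨one_mem _, 1, one_mem _, by simp⟩
      mul_mem' := by
        rintro y y' ⟨hy1, x, hx, hy⟩ ⟨hy1', x', hx', hy'⟩
        refine ⟨mul_mem hy1 hy1', x * x', mul_mem hx hx', ?_⟩
        have h := mul_mem (inv_mem (hmul1 x hx.1 x' hx'.1))
          (mul_mem ((inferInstance : (pser p E 2).Normal).conj_mem' _ hy (x' ^ p)) hy')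
        convert h using 1
        group
      inv_mem' := by
        rintro y ⟨hy1, x, hx, hy⟩
        refine ⟨inv_mem hy1, x⁻¹, inv_mem hx, ?_⟩
        have := (inferInstance : (pser p E 2).Normal).conj_mem _ (inv_mem hy) (x ^ p)
        convert this using 1
        group }
  have hK2 : pser p E 2 ≤ K := fun y hy => ⟨pser_succ_le E 1 hy, 1, one_mem _, by simpa using hy⟩
  -- displacement of `p`-th powers
  have hdp : ∀ x ∈ E, (⁅g, x⁆ ^ p)⁻¹ * ⁅g, x ^ p⁆ ∈ pser p E 2 := by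
    intro x hx
    have h1 : (g * x * g⁻¹) = ⁅g, x⁆ * x := by rw [commutatorElement_def]; group
    have h2 := hmul1 _ (D.comm_mem hN g x) x hx
    rw [← h1, conj_pow] at h2
    have h3 := (inferInstance : (pser p E 2).Normal).conj_mem _ h2 (x ^ p)
    convert h3 using 1
    rw [commutatorElement_def]
    group
  have hbound : (pser p E 1).relIndex E ≤ p ^ 3 := by
    have := card_mul_relIndex (pser_le E 1 : pser p E 1 ≤ E)
    rw [D.card, mul_comm (p ^ 3)] at this
    exact (Nat.eq_of_mul_eq_mul_left Nat.card_pos this).le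
  have hcube : ∀ x ∈ E, ⁅g, ⁅g, ⁅g, x⁆⁆⁆ ∈ pser p E 1 := fun x hx =>
    iterate_comm_mem hN 3 (pser_le E 1) hbound g x hx
  have hKP : ∀ x ∈ K, ⁅g, x⁆ ∈ pser p E 2 := by
    rintro y ⟨-, x, hx, hy⟩
    rw [show y = x ^ p * ((x ^ p)⁻¹ * y) by group,
      show ⁅g, x ^ p * ((x ^ p)⁻¹ * y)⁆ = ⁅g, x ^ p⁆ * (x ^ p * ⁅g, (x ^ p)⁻¹ * y⁆ * (x ^ p)⁻¹) by
        simp only [commutatorElement_def]; group]
    refine mul_mem ?_ ((inferInstance : (pser p E 2).Normal).conj_mem _ ?_ _)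
    · rw [show ⁅g, x ^ p⁆ = ⁅g, x⁆ ^ p * ((⁅g, x⁆ ^ p)⁻¹ * ⁅g, x ^ p⁆) by group]
      exact mul_mem (pow_mem_pser_succ ((QuotientGroup.eq_one_iff _).1 hx.2)) (hdp x hx.1)
    · rw [commutatorElement_def]
      exact mul_mem ((inferInstance : (pser p E 2).Normal).conj_mem _ hy g) (inv_mem hy)
  haveI hKn : K.Normal := by
    refine ⟨fun y hy n => ?_⟩
    obtain ⟨hy1, x, hx, hxy⟩ := hy
    have hq : Nat.card (N ⧸ E) = p := by rw [← Subgroup.index_eq_card, D.index]
    obtain ⟨j, hj⟩ : QuotientGroup.mk' E n ∈ Submonoid.powers (QuotientGroup.mk' E g) :=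
      mem_powers_of_prime_card hq fun h => hg ((QuotientGroup.eq_one_iff g).1 h)
    have hne' : (g ^ j)⁻¹ * n ∈ E := by
      refine QuotientGroup.eq.1 ?_
      simpa using hj
    have hy' : y ∈ K := ⟨hy1, x, hx, hxy⟩
    have hE' : ∀ e ∈ E, ∀ z ∈ K, e * z * e⁻¹ ∈ K := fun e he z hz => by
      rw [show e * z * e⁻¹ = ⁅e, z⁆ * z by rw [commutatorElement_def]; group]
      exact mul_mem (hK2 (comm_mem_pser_succ' hz.1 he)) hz
    have hg' : ∀ (i : ℕ) (z : N), z ∈ K → g ^ i * z * (g ^ i)⁻¹ ∈ K := by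
      intro i z hz
      induction i with
      | zero => simpa using hz
      | succ i ih =>
        rw [pow_succ', show g * g ^ i * z * (g * g ^ i)⁻¹ = ⁅g, g ^ i * z * (g ^ i)⁻¹⁆ * (g ^ i * z * (g ^ i)⁻¹) by
          simp only [commutatorElement_def]; group]
        exact mul_mem (hK2 (hKP _ ih)) ih
    rw [show n * y * n⁻¹ = g ^ j * (((g ^ j)⁻¹ * n) * y * ((g ^ j)⁻¹ * n)⁻¹) * (g ^ j)⁻¹ by group]
    exact hg' j _ (hE' _ hne' y hy')
  set π := QuotientGroup.mk' K
  have hπ1 : ∀ {x}, π x = 1 ↔ x ∈ K := fun {x} => QuotientGroup.eq_one_iff x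
  set t := ⁅g, v⁆ with ht
  set d1 := ⁅g, t⁆ with hd1
  set d2 := ⁅g, d1⁆ with hd2
  set d3 := ⁅g, d2⁆ with hd3
  have htE : t ∈ E := D.comm_mem hN g v
  have hd1E : d1 ∈ E := D.comm_mem hN g t
  have hd1L : d1 ∈ L := ⟨hd1E, (QuotientGroup.eq_one_iff _).2 (hcube v hv)⟩
  have hd2P : d2 ∈ pser p E 1 := (QuotientGroup.eq_one_iff _).1 hd1L.2
  have hd3P : d3 ∈ pser p E 1 := by
    rw [hd3, commutatorElement_def]
    exact mul_mem ((inferInstance : (pser p E 1).Normal).conj_mem _ hd2P g) (inv_mem hd2P)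
  -- two layers of displacement of `pser 1` land in `K`
  have hd4 : ⁅g, d3⁆ ∈ K := by
    obtain ⟨x, hx, hxd⟩ := hsurj1 d2 hd2P
    have hgP2 : ∀ y ∈ pser p E 2, ⁅g, y⁆ ∈ pser p E 2 := fun y hy => by
      rw [commutatorElement_def]
      exact mul_mem ((inferInstance : (pser p E 2).Normal).conj_mem _ hy g) (inv_mem hy)
    have hstep : ∀ x ∈ E, ∀ y, (x ^ p)⁻¹ * y ∈ pser p E 2 → (⁅g, x⁆ ^ p)⁻¹ * ⁅g, y⁆ ∈ pser p E 2 := by
      intro x hx y hy
      rw [show y = x ^ p * ((x ^ p)⁻¹ * y) by group,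
        show ⁅g, x ^ p * ((x ^ p)⁻¹ * y)⁆ = ⁅g, x ^ p⁆ * (x ^ p * ⁅g, (x ^ p)⁻¹ * y⁆ * (x ^ p)⁻¹) by
          simp only [commutatorElement_def]; group, ← mul_assoc]
      exact mul_mem (hdp x hx) ((inferInstance : (pser p E 2).Normal).conj_mem _ (hgP2 _ hy) _)
    have h3 := hstep x hx d2 hxd
    have h4 := hstep _ (D.comm_mem hN g x) d3 h3
    refine ⟨?_, ⁅g, ⁅g, x⁆⁆, ⟨D.comm_mem hN _ _, (QuotientGroup.eq_one_iff _).2 (hcube x hx)⟩, h4⟩
    rw [commutatorElement_def]
    exact mul_mem ((inferInstance : (pser p E 1).Normal).conj_mem _ hd3P g) (inv_mem hd3P)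
  have hcomP : ∀ a ∈ pser p E 1, ∀ b ∈ E, Commute (π a) (π b) := fun a ha b hb => by
    rw [← commutatorElement_eq_one_iff_commute, ← map_commutatorElement]
    exact hπ1.2 (hK2 (comm_mem_pser_succ ha hb))
  have htd : Commute (π t) (π d1) := by
    rw [← commutatorElement_eq_one_iff_commute, ← map_commutatorElement, hπ1]
    refine ⟨comm_mem_pser_one htE hd1E, ?_⟩
    obtain ⟨x, hx, hxc⟩ := hsurj1 _ (comm_mem_pser_one htE hd1E)
    refine ⟨x, ⟨hx, (QuotientGroup.eq_one_iff _).2 ?_⟩, hxc⟩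
    -- the commutator of `t` and `d1` is fixed, so its root is fixed
    have hfix : ⁅g, ⁅t, d1⁆⁆ ∈ pser p E 2 := by
      set π2 := QuotientGroup.mk' (pser p E 2)
      have hc : ∀ a ∈ pser p E 1, ∀ b ∈ E, Commute (π2 a) (π2 b) := fun a ha b hb => by
        rw [← commutatorElement_eq_one_iff_commute, ← map_commutatorElement]
        exact (QuotientGroup.eq_one_iff _).2 (comm_mem_pser_succ ha hb)
      refine (QuotientGroup.eq_one_iff _).1 ?_
      show π2 ⁅g, ⁅t, d1⁆⁆ = 1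
      rw [show ⁅g, ⁅t, d1⁆⁆ = ⁅g * t * g⁻¹, g * d1 * g⁻¹⁆ * ⁅t, d1⁆⁻¹ by
          simp only [commutatorElement_def]; group,
        show g * t * g⁻¹ = d1 * t by rw [hd1, commutatorElement_def]; group,
        show g * d1 * g⁻¹ = d2 * d1 by rw [hd2, commutatorElement_def]; group,
        map_mul π2, map_inv, mul_inv_eq_one, map_commutatorElement, map_mul, map_mul, map_commutatorElement,
        commutatorElement_def, commutatorElement_def]
      have c2 := (hc _ hd2P d1 hd1E).eq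
      have c2' := (hc _ hd2P t htE).eq
      set T := π2 t
      set A := π2 d1
      set B := π2 d2
      have cBi : B * A⁻¹ = A⁻¹ * B := (Commute.inv_right c2).eq
      have cBt : B * T⁻¹ = T⁻¹ * B := (Commute.inv_right c2').eq
      calc A * T * (B * A) * (A * T)⁻¹ * (B * A)⁻¹
          = A * T * B * (A * T⁻¹ * A⁻¹) * (A⁻¹ * B⁻¹) := by group
        _ = A * (T * B) * A * T⁻¹ * A⁻¹ * (A⁻¹ * B⁻¹) := by group
        _ = A * B * T * A * T⁻¹ * A⁻¹ * A⁻¹ * B⁻¹ := by rw [← c2']; group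
        _ = B * (A * (T * A * T⁻¹ * A⁻¹) * A⁻¹) * B⁻¹ := by rw [← c2]; group
        _ = B * (T * A * T⁻¹ * A⁻¹) * B⁻¹ := by
            have : Commute A (T * A * T⁻¹ * A⁻¹) := by
              have h0 := hc _ (comm_mem_pser_one htE hd1E) d1 hd1E
              rw [map_commutatorElement, commutatorElement_def] at h0
              exact h0.symm
            rw [this.eq, mul_inv_cancel_right]
        _ = T * A * T⁻¹ * A⁻¹ := by
            have : Commute B (T * A * T⁻¹ * A⁻¹) :=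
              (((Commute.mul_right c2' c2).mul_right cBt).mul_right cBi)
            rw [this.eq, mul_inv_cancel_right]
    by_contra hgx
    refine D.pow_not_mem_layer hN hsr h5 (k := 1) hne (D.comm_mem hN g x) hgx ?_
    rw [pow_one]
    have h2 : (⁅g, x⁆ ^ p)⁻¹ * ⁅g, ⁅t, d1⁆⁆ ∈ pser p E 2 := by
      rw [show ⁅t, d1⁆ = x ^ p * ((x ^ p)⁻¹ * ⁅t, d1⁆) by group,
        show ⁅g, x ^ p * ((x ^ p)⁻¹ * ⁅t, d1⁆)⁆ = ⁅g, x ^ p⁆ * (x ^ p * ⁅g, (x ^ p)⁻¹ * ⁅t, d1⁆⁆ * (x ^ p)⁻¹) by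
          simp only [commutatorElement_def]; group, ← mul_assoc]
      refine mul_mem (hdp x hx) ((inferInstance : (pser p E 2).Normal).conj_mem _ ?_ _)
      rw [commutatorElement_def]
      exact mul_mem ((inferInstance : (pser p E 2).Normal).conj_mem _ hxc g) (inv_mem hxc)
    have := mul_mem hfix (inv_mem h2)
    rw [mul_inv_rev, inv_inv, mul_inv_cancel_left] at this
    exact this
  set T := π t
  set A := π d1
  set B := π d2
  set C := π d3
  set G := π g
  have hσ : ∀ y, π (g * y * g⁻¹) = π ⁅g, y⁆ * π y := fun y => by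
    rw [← map_mul, commutatorElement_def]
    congr 1
    group
  have hTA : Commute T A := htd
  have hTB : Commute T B := (hcomP d2 hd2P t htE).symm
  have hTC : Commute T C := (hcomP d3 hd3P t htE).symm
  have hAB : Commute A B := (hcomP d2 hd2P d1 hd1E).symm
  have hAC : Commute A C := (hcomP d3 hd3P d1 hd1E).symm
  have hBC : Commute B C := hcomP d2 hd2P d3 (pser_le E 1 hd3P)
  have hGV : G * π v * G⁻¹ = T * π v := by rw [← map_inv, ← map_mul, ← map_mul, hσ]
  have hGT : G * T * G⁻¹ = A * T := by rw [← map_inv, ← map_mul, ← map_mul, hσ]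
  have hGA : G * A * G⁻¹ = B * A := by rw [← map_inv, ← map_mul, ← map_mul, hσ]
  have hGB : G * B * G⁻¹ = C * B := by rw [← map_inv, ← map_mul, ← map_mul, hσ]
  have hGC : G * C * G⁻¹ = C := by rw [← map_inv, ← map_mul, ← map_mul, hσ, hπ1.2 hd4, one_mul]
  have hiter : ∀ i : ℕ, G ^ i * π v * (G ^ i)⁻¹ =
      C ^ i.choose 4 * B ^ i.choose 3 * A ^ i.choose 2 * T ^ i * π v := by
    intro i
    induction i with
    | zero => simp
    | succ i ih =>
      rw [pow_succ', show G * G ^ i * π v * (G * G ^ i)⁻¹ = G * (G ^ i * π v * (G ^ i)⁻¹) * G⁻¹ by group, ih,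
        show G * (C ^ i.choose 4 * B ^ i.choose 3 * A ^ i.choose 2 * T ^ i * π v) * G⁻¹ =
          (G * C * G⁻¹) ^ i.choose 4 * (G * B * G⁻¹) ^ i.choose 3 * (G * A * G⁻¹) ^ i.choose 2 *
            (G * T * G⁻¹) ^ i * (G * π v * G⁻¹) by simp only [conj_pow]; group,
        hGC, hGB, hGA, hGT, hGV, hBC.symm.mul_pow, hAB.symm.mul_pow, hTA.symm.mul_pow,
        Nat.choose_succ_succ' i 3, Nat.choose_succ_succ' i 2, Nat.choose_succ_succ' i 1, Nat.choose_one_right]
      simp only [← mul_assoc]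
      congr 1
      rw [pow_succ T i, ← mul_assoc]
      congr 2
      -- reorder commuting factors
      have e : ∀ (m n a b c d : ℕ), C ^ m * C ^ n * B ^ a * B ^ b * A ^ c * A ^ d =
          C ^ (n + m) * B ^ (b + a) * A ^ (d + c) := fun m n a b c d => by
        rw [← pow_add, mul_assoc _ (B ^ a), ← pow_add, mul_assoc _ (A ^ c), ← pow_add, add_comm m, add_comm a,
          add_comm c]
      rw [← e]
  have hfin := hiter p
  rw [← map_pow, ← map_inv, ← map_mul, ← map_mul,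
    show g ^ p * v * (g ^ p)⁻¹ = ⁅g ^ p, v⁆ * v by rw [commutatorElement_def]; group, map_mul,
    show π ⁅g ^ p, v⁆ = 1 from hπ1.2 (hK2 (comm_mem_pser_succ hgp hv))] at hfin
  have hAp : A ^ p = 1 := by
    rw [← map_pow, hπ1]
    exact ⟨pow_mem_pser_one hd1E, d1, hd1L, by simp⟩
  have hBp : B ^ p = 1 := by rw [← map_pow, hπ1]; exact hK2 (pow_mem_pser_succ hd2P)
  have hCp : C ^ p = 1 := by rw [← map_pow, hπ1]; exact hK2 (pow_mem_pser_succ hd3P)
  obtain ⟨k4, hk4⟩ := hp.out.dvd_choose_self (k := 4) (by norm_num) (by omega)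
  obtain ⟨k3, hk3⟩ := hp.out.dvd_choose_self (k := 3) (by norm_num) (by omega)
  obtain ⟨k2, hk2⟩ := hp.out.dvd_choose_self (k := 2) (by norm_num) (by omega)
  rw [hk4, hk3, hk2, pow_mul, pow_mul, pow_mul, hAp, hBp, hCp, one_pow, one_pow, one_pow, one_mul, one_mul,
    one_mul] at hfin
  have hTp : t ^ p ∈ K := hπ1.1 (by rw [map_pow]; simpa using hfin.symm)
  obtain ⟨-, x, hx, hxt⟩ := hTp
  refine D.pow_not_mem_layer hN hsr h5 (k := 1) hne (x := x⁻¹ * t) (E.mul_mem (E.inv_mem hx.1) htE) ?_ ?_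
  · intro h
    refine hvD ?_
    have htL : t ∈ L := by
      rw [show t = x * (x⁻¹ * t) by group]
      refine mul_mem hx ⟨pser_le E 1 h, (QuotientGroup.eq_one_iff _).2 ?_⟩
      rw [commutatorElement_def]
      exact mul_mem ((inferInstance : (pser p E 1).Normal).conj_mem _ h g) (inv_mem h)
    exact (QuotientGroup.eq_one_iff _).1 htL.2
  · rw [pow_one]
    have h1 := hmul1 x hx.1 (x⁻¹ * t) (E.mul_mem (E.inv_mem hx.1) htE)
    rw [mul_inv_cancel_left] at h1
    have h2 : (x⁻¹ * t) ^ p = ((x ^ p)⁻¹ * t ^ p) * ((x ^ p * (x⁻¹ * t) ^ p)⁻¹ * t ^ p)⁻¹ := by group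
    rw [h2]
    exact mul_mem hxt (inv_mem h1)

/-- Outer elements have larger order than all elements of `E`, unless `E` is elementary abelian. -/
theorem orderOf_lt (hne : pser p E 1 ≠ ⊥) {g : N} (hg : g ∉ E) {y : N} (hy : y ∈ E) :
    orderOf y < orderOf g := by
  obtain ⟨k, hk, hk1⟩ : ∃ k, pser p E k ≠ ⊥ ∧ pser p E (k + 1) = ⊥ := by
    haveI := D.normal hN
    obtain ⟨k, hk⟩ := exists_pser_eq_bot hN E
    induction k with
    | zero => exact absurd (le_bot_iff.1 (hk ▸ pser_antitone E (Nat.zero_le 1))) hne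
    | succ k ih =>
      by_cases h : pser p E k = ⊥
      · exact ih h
      · exact ⟨k, h, hk⟩
  have hgpE : g ^ p ∈ E := (mem_of_index_eq hN D.index).2.1 g
  have hgp := D.pow_not_mem_layer hN hsr h5 hk hgpE (D.pow_not_mem hN hsr h5 hne hg)
  rw [hk1, Subgroup.mem_bot, ← pow_mul, ← pow_succ'] at hgp
  obtain ⟨j, hj⟩ := IsPGroup.iff_orderOf.1 hN g
  have hjk : k + 1 < j := by
    by_contra hle
    refine hgp (orderOf_dvd_iff_pow_eq_one.1 ?_)
    rw [hj]
    exact pow_dvd_pow p (not_lt.1 hle)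
  have hy' : y ^ p ^ (k + 1) = 1 := by
    rw [← Subgroup.mem_bot, ← hk1, pow_succ, pow_mul]
    exact pow_mem_pser_succ ((D.pow_layer hN hsr h5 k).1 y hy)
  calc orderOf y ≤ p ^ (k + 1) := Nat.le_of_dvd (pow_pos hp.out.pos _) (orderOf_dvd_of_pow_eq_one hy')
    _ < p ^ j := Nat.pow_lt_pow_right hp.out.one_lt hjk
    _ = orderOf g := hj.symm

/-- `E` is the only maximal subgroup isomorphic to it. -/
theorem eq_of_mulEquiv {E2 : Subgroup N} (h2 : E2.index = p) (e : E2 ≃* E) : E2 = E := by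
  by_contra hne2
  obtain ⟨g, hg, hgE⟩ : ∃ g ∈ E2, g ∉ E := by
    by_contra hcon
    push Not at hcon
    refine hne2 (Subgroup.eq_of_le_of_card_ge hcon (le_of_eq (Nat.card_congr e.toEquiv).symm))
  by_cases hne : pser p E 1 = ⊥
  · -- two abelian maximal subgroups meet in the centre
    have hab : ∀ a ∈ E, ∀ b ∈ E, a * b = b * a := fun a ha b hb => by
      have := comm_mem_pser_one (p := p) ha hb
      rwa [hne, Subgroup.mem_bot, commutatorElement_eq_one_iff_mul_comm] at this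
    obtain ⟨n, v, hv, hnv⟩ := D.reg
    refine hnv ?_
    rw [hne, Subgroup.mem_bot, commutatorElement_eq_one_iff_mul_comm]
    have hd1 : ⁅n, v⁆ ∈ E := D.comm_mem hN n v
    have hd2 : ⁅n, v⁆ ∈ E2 := (mem_of_index_eq hN h2).2.2 n v
    have h2ab : ∀ a ∈ E2, ∀ b ∈ E2, a * b = b * a := fun a ha b hb => by
      have := hab _ (e ⟨a, ha⟩).2 _ (e ⟨b, hb⟩).2
      rw [← Subgroup.coe_mul, ← Subgroup.coe_mul, ← map_mul, ← map_mul] at this
      exact congrArg Subtype.val (e.injective (Subtype.ext this))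
    have hle : E ⊔ zpowers g ≤ centralizer {⁅n, v⁆} := sup_le
      (fun a ha => mem_centralizer_singleton_iff.2 (hab a ha _ hd1))
      (zpowers_le.2 (mem_centralizer_singleton_iff.2 (h2ab g hg _ hd2)))
    have htop : E ⊔ zpowers g = ⊤ := by
      haveI := D.normal hN
      refine Subgroup.eq_top_of_card_eq _ ?_
      rw [PGroups.card_sup_zpowers (p := p) E hgE ((mem_of_index_eq hN D.index).2.1 g),
        ← Subgroup.card_mul_index E, D.index, mul_comm]
    exact mem_centralizer_singleton_iff.1 (hle (htop.ge (mem_top n)))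
  · have h1 := D.orderOf_lt hN hsr h5 hne hgE (y := (e ⟨g, hg⟩ : N)) (e ⟨g, hg⟩).2
    rw [Subgroup.orderOf_coe, MulEquiv.orderOf_eq, ← Subgroup.orderOf_coe] at h1
    exact lt_irrefl _ h1

/-- Two maximal subgroups of this kind coincide. -/
theorem eq_of_regular {E2 : Subgroup N} (D2 : RegularData p E2) : E2 = E := by
  by_contra hne2
  have hcard : Nat.card E2 = Nat.card E := by
    have h1 := Subgroup.card_mul_index E
    have h2 := Subgroup.card_mul_index E2
    rw [D.index] at h1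
    rw [D2.index, ← h1] at h2
    exact Nat.eq_of_mul_eq_mul_right hp.out.pos h2
  obtain ⟨g, hg, hgE⟩ : ∃ g ∈ E2, g ∉ E := by
    by_contra hcon
    push Not at hcon
    exact hne2 (Subgroup.eq_of_le_of_card_ge hcon hcard.ge)
  obtain ⟨g', hg', hg'E⟩ : ∃ g' ∈ E, g' ∉ E2 := by
    by_contra hcon
    push Not at hcon
    exact hne2 (Subgroup.eq_of_le_of_card_ge hcon hcard.le).symm
  by_cases hne : pser p E 1 = ⊥
  · have h2 : pser p E2 1 = ⊥ := by
      rw [← Subgroup.card_eq_one]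
      have h := D2.card
      rw [hcard, D.card, hne, Subgroup.card_bot] at h
      exact (Nat.eq_of_mul_eq_mul_left (pow_pos hp.out.pos 3) h).symm
    have hab : ∀ {E : Subgroup N}, pser p E 1 = ⊥ → ∀ a ∈ E, ∀ b ∈ E, a * b = b * a :=
      fun {E} h a ha b hb => by
        have := comm_mem_pser_one (p := p) ha hb
        rwa [h, Subgroup.mem_bot, commutatorElement_eq_one_iff_mul_comm] at this
    obtain ⟨n, v, hv, hnv⟩ := D.reg
    refine hnv ?_
    rw [hne, Subgroup.mem_bot, commutatorElement_eq_one_iff_mul_comm]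
    have hle : E ⊔ zpowers g ≤ centralizer {⁅n, v⁆} := sup_le
      (fun a ha => mem_centralizer_singleton_iff.2 (hab hne a ha _ (D.comm_mem hN n v)))
      (zpowers_le.2 (mem_centralizer_singleton_iff.2
        (hab h2 g hg _ ((mem_of_index_eq hN D2.index).2.2 n v))))
    have htop : E ⊔ zpowers g = ⊤ := by
      haveI := D.normal hN
      refine Subgroup.eq_top_of_card_eq _ ?_
      rw [PGroups.card_sup_zpowers (p := p) E hgE ((mem_of_index_eq hN D.index).2.1 g),
        ← Subgroup.card_mul_index E, D.index, mul_comm]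
    exact mem_centralizer_singleton_iff.1 (hle (htop.ge (mem_top n)))
  · have h2 : pser p E2 1 ≠ ⊥ := fun h => hne (Subgroup.card_eq_one.1 (by
      have h' := D.card
      rw [← hcard, D2.card, h, Subgroup.card_bot] at h'
      exact (Nat.eq_of_mul_eq_mul_left (pow_pos hp.out.pos 3) h').symm))
    exact lt_asymm (D.orderOf_lt hN hsr h5 hne hgE hg') (D2.orderOf_lt hN hsr h5 h2 hg'E hg)

end RegularData

end Cfsg.Agent.H91.Rank3
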