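import Cfsg.Agent.H91.Rank3.Layers

/-!
A maximal subgroup with a torus and a third generator outside `Φ(E)`: the group is generated by `n`, `w` of
order `p` scaled exactly by the torus and a central element `c`.
-/

set_option autoImplicit false
set_option linter.unusedSectionVars false
set_option linter.style.haveILetI false

namespace Cfsg.Agent.H91.Rank3

open Subgroup
open scoped commutatorElement

variable {N : Type*} [Group N]

/-- `N` is generated by elements `n`, `w` of order `p` and a central `c`, with `⁅n, w⁆` commuting with `n` and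
commuting with `w` modulo `⟨c ^ p⟩`; the torus `t` scales `n`, `w` exactly and fixes `c`. -/
structure BData (p : ℕ) (t : MulAut N) (n w c : N) (l : (ZMod p)ˣ) : Prop where
  lord : orderOf l = p - 1
  tn : t n = n ^ (uval l * uval l)
  tw : t w = w ^ uval l⁻¹
  tc : t c = c
  np : n ^ p = 1
  wp : w ^ p = 1
  cc : ∀ g, Commute c g
  nu : Commute n ⁅n, w⁆
  up : ⁅n, w⁆ ^ p = 1
  uw : ⁅⁅n, w⁆, w⁆ ∈ zpowers (c ^ p)
  gen : closure {n, w, c} = ⊤
  indep : ∀ i j k m : ℕ, n ^ i * w ^ j * ⁅n, w⁆ ^ k * c ^ m ∈ zpowers (c ^ p) →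
    p ∣ i ∧ p ∣ j ∧ p ∣ k ∧ p ∣ m

variable {p : ℕ} [hp : Fact p.Prime] [Finite N]

/-- An element scaled by `t` up to a commuting fixed element is corrected by a power of that element. -/
theorem exists_exact (hN : IsPGroup p N) {t : MulAut N} {x d : N} {m : ℕ} (hm1 : 1 ≤ m) (hm : ¬ p ∣ m - 1)
    (hxd : Commute x d) (hd : t d = d) (hx : t x = x ^ m * d) :
    ∃ j : ℕ, t (x * d ^ j) = (x * d ^ j) ^ m := by
  obtain ⟨j, hj⟩ := (isOfFinOrder_of_finite (d ^ (m - 1))).mem_powers_iff_mem_zpowers.2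
    (mem_of_pow_mem hN (Y := zpowers (d ^ (m - 1))) (mem_zpowers (d ^ (m - 1))) hm)
  refine ⟨j, ?_⟩
  simp only at hj
  rw [map_mul, map_pow, hd, hx, (hxd.pow_right j).mul_pow, mul_assoc]
  congr 1
  rw [← pow_mul, show j * m = (m - 1) * j + j by
    rw [mul_comm j m]
    conv_lhs => rw [← Nat.sub_add_cancel hm1]
    rw [add_mul, one_mul],
    pow_add, pow_mul, hj]

namespace Torus

variable {E : Subgroup N} {t : MulAut N} {s : N → N} {n a w c : N} {l : (ZMod p)ˣ}
  (D : Torus p E t s n a w c l) (hN : IsPGroup p N)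
  (hsr : Cfsg.SectionalPRankLE p 3 N) (h5 : 5 ≤ p) (hc1 : c ∉ pser p E 1)

include D hN hsr h5 hc1

/-- The structure of the third case. -/
theorem exists_bData : ∃ n' w', BData p t n' w' c l ∧ E = closure {⁅n', w'⁆, w', c} ∧
    pser p E 1 = zpowers (c ^ p) := by
  haveI := D.normal hN
  have hp2 : p ≠ 2 := by omega
  obtain ⟨hl1, hl2, hl3, hl4, hl5⟩ := D.l_ne h5
  obtain ⟨hzp3, hzc3, -, -, -⟩ := D.second_layer hN hsr h5
  obtain ⟨hac, hwc⟩ := D.comm_c hN hsr h5
  have hP2 := D.pser_two_le hN hsr h5 hc1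
  have hza3 := D.za_mem hN hsr h5 hc1
  have hzw3 := (D.za_iff hN hsr h5).1 hza3
  set z := ⁅a, w⁆ with hzdef
  have hz1 : z ∈ pser p E 1 := comm_mem_pser_one D.aE D.wE
  have hzE : z ∈ E := pser_le E 1 hz1
  have hcp1 : c ^ p ∈ pser p E 1 := pow_mem_pser_one D.cE
  have hP2c : pser p E 2 ≤ zpowers c := hP2.trans (zpowers_le.2 (pow_mem (mem_zpowers c) _))
  set F : Subgroup N := (t : N ≃* N).toMonoidHom.eqLocus (MonoidHom.id N)
  have hF : ∀ {x}, x ∈ F ↔ t x = x := Iff.rfl
  have hcF : c ∈ F := D.tc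
  have hP2F : pser p E 2 ≤ F := hP2c.trans (zpowers_le.2 hcF)
  have hone : ∀ {x : N} {k : ℕ}, x ^ k = 1 → ¬ p ∣ k → x = 1 := fun {x k} h hk =>
    Subgroup.mem_bot.1 (mem_of_pow_mem hN (Y := ⊥) (Subgroup.mem_bot.2 h) hk)
  have hnd : ∀ {k : ℕ}, (k : ZMod p) ≠ 0 → ¬ p ∣ k := fun {k} h hd => h ((ZMod.natCast_eq_zero_iff _ _).2 hd)
  have hsub : ∀ {k : ℕ} {r : ZMod p}, (k : ZMod p) = r → r ≠ 0 → r ≠ 1 → 1 ≤ k ∧ ¬ p ∣ k - 1 := by
    intro k r hk h0 h1
    have hk1 : 1 ≤ k := Nat.pos_of_ne_zero fun h => h0 (by rw [← hk, h, Nat.cast_zero])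
    refine ⟨hk1, hnd ?_⟩
    rw [Nat.cast_sub hk1, hk, Nat.cast_one, sub_ne_zero]
    exact h1
  obtain ⟨hL1, hL⟩ := hsub (cast_uval D l) l.ne_zero hl1
  obtain ⟨hM1, hM⟩ := hsub (cast_uval D l⁻¹) l⁻¹.ne_zero hl2
  set q := uval l * uval l
  have hqr : (q : ZMod p) = (l : ZMod p) ^ 2 := by rw [Nat.cast_mul, cast_uval D, pow_two]
  obtain ⟨hq1, hq⟩ := hsub hqr (pow_ne_zero 2 l.ne_zero) hl4
  obtain ⟨hqL1, hqL⟩ := hsub (k := q * uval l) (r := (l : ZMod p) ^ 3)
    (by rw [Nat.cast_mul, hqr, cast_uval D]; ring) (pow_ne_zero 3 l.ne_zero) hl5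
  have hfix1 : ∀ {x : N} {m : ℕ}, 1 ≤ m → ¬ p ∣ m - 1 → x ^ m = x → x = 1 := fun {x m} h1 h2 h => by
    refine hone (k := m - 1) ?_ h2
    rw [← mul_left_inj x, ← pow_succ, Nat.sub_add_cancel h1, h, one_mul]
  have hzF : z ∈ F := by
    have h := (D.wt_z hN hsr h5).2
    rw [pow_one] at h
    set d := z⁻¹ * t z
    have hd : t d = d := hP2F h
    have htz : t z = z * d := by simp [d]
    have hk : ∀ k : ℕ, (t ^ k) z = z * d ^ k := by
      intro k
      induction k with
      | zero => simp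
      | succ k ih => rw [pow_succ', MulAut.mul_apply, ih, map_mul, map_pow, hd, htz, mul_assoc, ← pow_succ']
    have h1 := hk (p - 1)
    rw [D.tpow, MulAut.one_apply, left_eq_mul] at h1
    rw [hF, htz, hone h1 (Nat.not_dvd_of_pos_of_lt (by omega) (by omega)), mul_one]
  have hP1F : pser p E 1 ≤ F := D.pser_one_gen hN hsr h5 hP2F hzF (pow_mem hcF p)
  -- `E` normalises `⟨c⟩`
  have hEC : ∀ e ∈ E, e * c * e⁻¹ ∈ zpowers c := by
    intro e he
    rw [show e * c * e⁻¹ = ⁅e, c⁆ * c by rw [commutatorElement_def]; group]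
    refine mul_mem (hP2c ?_) (mem_zpowers c)
    set π := QuotientGroup.mk' (pser p E (0 + 2))
    let H : Subgroup N :=
      { carrier := {e | e ∈ E ∧ ⁅e, c⁆ ∈ pser p E 2}
        one_mem' := ⟨E.one_mem, by simp⟩
        mul_mem' := fun {u v} hu hv => ⟨E.mul_mem hu.1 hv.1, (QuotientGroup.eq_one_iff _).1 (by
          show π ⁅u * v, c⁆ = 1
          rw [mk_comm_mul_left hp2 (i := 0) hu.1 hv.1 D.cE,
            show π ⁅u, c⁆ = 1 from (QuotientGroup.eq_one_iff _).2 hu.2,
            show π ⁅v, c⁆ = 1 from (QuotientGroup.eq_one_iff _).2 hv.2, mul_one])⟩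
        inv_mem' := fun {u} hu => ⟨E.inv_mem hu.1, (QuotientGroup.eq_one_iff _).1 (by
          have h4 := mk_comm_mul_left hp2 (i := 0) (E.inv_mem hu.1) hu.1 D.cE
          rw [inv_mul_cancel, commutatorElement_one_left, map_one,
            show π ⁅u, c⁆ = 1 from (QuotientGroup.eq_one_iff _).2 hu.2, mul_one] at h4
          exact h4.symm)⟩ }
    exact (D.le_of_gen hN (H := H)
      (fun f hf => ⟨pser_le E 1 hf, by simpa using inv_mem (comm_pser_pser_one hp2 (i := 0) D.cE hf)⟩)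
      ⟨D.aE, hac⟩ ⟨D.wE, hwc⟩ ⟨D.cE, by simp⟩ he).2
  have hzc : Commute z c := by
    obtain ⟨i, hi⟩ := hEC a⁻¹ (E.inv_mem D.aE)
    obtain ⟨j, hj⟩ := hEC w⁻¹ (E.inv_mem D.wE)
    simp only [inv_inv] at hi hj
    have h1 : a⁻¹ * (w⁻¹ * c * w) * a = w⁻¹ * (a⁻¹ * c * a) * w := by
      rw [← hi, ← hj]
      have e1 : ∀ g : N, g⁻¹ * c ^ j * g = (g⁻¹ * c * g) ^ j := fun g => by
        simpa using (conj_zpow (a := g⁻¹) (b := c) (i := j)).symm
      have e2 : ∀ g : N, g⁻¹ * c ^ i * g = (g⁻¹ * c * g) ^ i := fun g => by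
        simpa using (conj_zpow (a := g⁻¹) (b := c) (i := i)).symm
      rw [e1, e2, ← hi, ← hj, ← zpow_mul, ← zpow_mul, mul_comm]
    show z * c = c * z
    calc z * c = a * w * (a⁻¹ * (w⁻¹ * c * w) * a) * a⁻¹ * (a * (a⁻¹ * w⁻¹)) := by
          rw [hzdef, commutatorElement_def]; group
      _ = c * z := by rw [h1, hzdef, commutatorElement_def]; group
  have hP1c : pser p E 1 ≤ centralizer {c} := D.pser_one_gen hN hsr h5
    (fun x hx => mem_centralizer_singleton_iff.2 (by
      obtain ⟨i, rfl⟩ := hP2c hx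
      exact ((Commute.refl c).zpow_left i).eq))
    (mem_centralizer_singleton_iff.2 hzc.eq) (mem_centralizer_singleton_iff.2 (Commute.pow_self c p).eq)
  have hgc : ∀ g ∈ E, ∀ L : ℕ, 1 ≤ L → ¬ p ∣ L - 1 → (g ^ L)⁻¹ * t g ∈ pser p E 1 → Commute g c := by
    intro g hg L h1 h2 hq
    set q0 := (g ^ L)⁻¹ * t g
    have htg : t g = g ^ L * q0 := by simp [q0]
    have hfx : t (g * c * g⁻¹) = g * c * g⁻¹ := (zpowers_le.2 hcF) (hEC g hg)
    have hqc : q0 * c = c * q0 := mem_centralizer_singleton_iff.1 (hP1c hq)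
    rw [map_mul, map_mul, map_inv, htg, D.tc,
      show g ^ L * q0 * c * (g ^ L * q0)⁻¹ = g ^ L * (q0 * c * q0⁻¹) * (g ^ L)⁻¹ by group, hqc,
      mul_inv_cancel_right] at hfx
    refine commute_of_pow hN ?_ h2
    have h3 : g ^ (L - 1) * c * (g ^ (L - 1))⁻¹ = c := by
      have e : g ^ L = g * g ^ (L - 1) := by rw [← pow_succ', Nat.sub_add_cancel h1]
      rw [e, show g * g ^ (L - 1) * c * (g * g ^ (L - 1))⁻¹ =
        g * (g ^ (L - 1) * c * (g ^ (L - 1))⁻¹) * g⁻¹ by group] at hfx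
      exact mul_left_cancel (mul_right_cancel hfx)
    exact mul_inv_eq_iff_eq_mul.1 h3
  have hEc : ∀ e ∈ E, Commute e c := fun e he => mem_centralizer_singleton_iff.1
    (D.le_of_gen hN (H := centralizer {c}) hP1c
      (mem_centralizer_singleton_iff.2 (hgc a D.aE _ hL1 hL D.ta).eq)
      (mem_centralizer_singleton_iff.2 (hgc w D.wE _ hM1 hM D.tw).eq)
      (mem_centralizer_singleton_iff.2 rfl) he)
  -- `z` is central in `E`
  have hzP1 : pser p E 1 ≤ centralizer {z} := D.pser_one_gen hN hsr h5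
    (fun x hx => mem_centralizer_singleton_iff.2 (by
      obtain ⟨i, rfl⟩ := hP2c hx
      exact ((hEc z hzE).symm.zpow_left i).eq))
    (mem_centralizer_singleton_iff.2 rfl)
    (mem_centralizer_singleton_iff.2 (((hEc z hzE).symm.pow_left p)).eq)
  have hzg : ∀ g ∈ E, ∀ L : ℕ, 1 ≤ L → ¬ p ∣ L - 1 → ⁅z, g⁆ ∈ pser p E 3 →
      (g ^ L)⁻¹ * t g ∈ pser p E 1 → Commute g z := by
    intro g hg L h1 h2 h3 hq
    have h2' : ⁅z, g⁆ ∈ zpowers c := hP2c (pser_succ_le E 2 h3)
    have hcen : ∀ e ∈ E, Commute e ⁅z, g⁆ := fun e he => by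
      obtain ⟨i, hi⟩ := h2'
      rw [← hi]
      exact (hEc e he).zpow_right i
    have hpow : ∀ k : ℕ, ⁅z, g ^ k⁆ = ⁅z, g⁆ ^ k := by
      intro k
      induction k with
      | zero => simp
      | succ k ih =>
        rw [pow_succ', show ⁅z, g * g ^ k⁆ = ⁅z, g⁆ * (g * ⁅z, g ^ k⁆ * g⁻¹) by
            simp only [commutatorElement_def]; group,
          ih, ((hcen g hg).pow_right k).eq, mul_inv_cancel_right, ← pow_succ']
    set q0 := (g ^ L)⁻¹ * t g
    have htg : t g = g ^ L * q0 := by simp [q0]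
    have hfx : t ⁅z, g⁆ = ⁅z, g⁆ := (zpowers_le.2 hcF) h2'
    rw [map_commutatorElement, hF.1 hzF, htg,
      show ⁅z, g ^ L * q0⁆ = ⁅z, g ^ L⁆ * (g ^ L * ⁅z, q0⁆ * (g ^ L)⁻¹) by
        simp only [commutatorElement_def]; group,
      show ⁅z, q0⁆ = 1 from commutatorElement_eq_one_iff_commute.2
        (mem_centralizer_singleton_iff.1 (hzP1 hq)).symm, mul_one, mul_inv_cancel, mul_one, hpow] at hfx
    exact (commutatorElement_eq_one_iff_commute.1 (hfix1 h1 h2 hfx)).symm
  have hEz : ∀ e ∈ E, Commute e z := fun e he => mem_centralizer_singleton_iff.1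
    (D.le_of_gen hN (H := centralizer {z}) hzP1
      (mem_centralizer_singleton_iff.2 (hzg a D.aE _ hL1 hL hza3 D.ta).eq)
      (mem_centralizer_singleton_iff.2 (hzg w D.wE _ hM1 hM hzw3 D.tw).eq)
      (mem_centralizer_singleton_iff.2 (hEc z hzE).eq.symm) he)
  have hP1E : pser p E 1 ≤ centralizer (E : Set N) := D.pser_one_gen hN hsr h5
    (fun x hx e he => by
      obtain ⟨i, rfl⟩ := hP2c hx
      exact ((hEc e he).zpow_right i).eq)
    (fun e he => (hEz e he).eq) (fun e he => ((hEc e he).pow_right p).eq)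
  -- `n` centralises the fixed elements
  obtain ⟨e, he, hte, hfe⟩ := D.exists_tn hN h5
  obtain ⟨ke, hke⟩ := D.fixed_mem hN h5 he hfe
  have heq : e = c ^ ke * ((c ^ ke)⁻¹ * e) := by group
  have heF : t e = e := hF.1 (heq ▸ mul_mem (pow_mem hcF ke) (hP1F hke))
  have heE : ∀ x ∈ E, Commute x e := fun x hx => heq ▸ ((hEc x hx).pow_right ke).mul_right (hP1E hke x hx)
  have hnfix : ∀ x ∈ E, t x = x → t (n * x * n⁻¹) = n * x * n⁻¹ → Commute n x := by
    intro x hx htx hfx
    rw [map_mul, map_mul, map_inv, hte, htx,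
      show n ^ q * e * x * (n ^ q * e)⁻¹ = n ^ q * (e * x * e⁻¹) * (n ^ q)⁻¹ by group,
      (heE x hx).symm.eq, mul_inv_cancel_right] at hfx
    refine commute_of_pow hN ?_ hq
    have e' : n ^ q = n * n ^ (q - 1) := by rw [← pow_succ', Nat.sub_add_cancel hq1]
    rw [e', show n * n ^ (q - 1) * x * (n * n ^ (q - 1))⁻¹ =
      n * (n ^ (q - 1) * x * (n ^ (q - 1))⁻¹) * n⁻¹ by group] at hfx
    exact mul_inv_eq_iff_eq_mul.1 (mul_left_cancel (mul_right_cancel hfx))
  have htop : E ⊔ zpowers n = ⊤ := by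
    refine Subgroup.eq_top_of_card_eq _ ?_
    rw [PGroups.card_sup_zpowers (p := p) E D.nE ((mem_of_index_eq hN D.index).2.1 n),
      ← Subgroup.card_mul_index E, D.index, mul_comm]
  have hcentral : ∀ x ∈ E, (∀ y ∈ E, Commute y x) → Commute n x → ∀ g, Commute x g := by
    intro x _ hxE hxn g
    have hle : E ⊔ zpowers n ≤ centralizer {x} :=
      sup_le (fun y hy => mem_centralizer_singleton_iff.2 (hxE y hy).eq)
        (zpowers_le.2 (mem_centralizer_singleton_iff.2 hxn.eq))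
    exact (mem_centralizer_singleton_iff.1 (hle (htop.ge (mem_top g)))).symm
  have hcc : ∀ g, Commute c g := hcentral c D.cE hEc (hnfix c D.cE D.tc (by
    rw [show n * c * n⁻¹ = ⁅n, c⁆ * c by rw [commutatorElement_def]; group]
    exact hF.1 (mul_mem (hP1F D.nc) hcF)))
  have hP1cen : ∀ x ∈ pser p E 1, ∀ g, Commute x g := fun x hx => hcentral x (pser_le E 1 hx)
    (fun y hy => hP1E hx y hy) (hnfix x (pser_le E 1 hx) (hP1F hx)
      (hF.1 (hP1F ((inferInstance : (pser p E 1).Normal).conj_mem x hx n))))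
  have hecen : ∀ g, Commute e g := fun g => heq ▸ ((hcc g).pow_left ke).mul_left (hP1cen _ hke g)
  -- the exact generators
  obtain ⟨j1, hj1⟩ := exists_exact hN hq1 hq (hecen n).symm heF hte
  set d := (w ^ uval l⁻¹)⁻¹ * t w
  have htw : t w = w ^ uval l⁻¹ * d := by simp [d]
  have hdcen : ∀ g, Commute d g := hP1cen d D.tw
  obtain ⟨j2, hj2⟩ := exists_exact hN hM1 hM (hdcen w).symm (hF.1 (hP1F D.tw)) htw
  set n' := n * e ^ j1 with hn'
  set w' := w * d ^ j2 with hw'
  have hn'E : n' ∉ E := fun h => D.nE (by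
    have := mul_mem h (inv_mem (pow_mem he j1))
    rwa [hn', mul_inv_cancel_right] at this)
  have hw'E : w' ∈ E := mul_mem D.wE (pow_mem (pser_le E 1 D.tw) j2)
  have hn'p : n' ^ p = 1 := by
    have h1 : n' ^ p ∈ pser p E 1 := by
      rw [hn', ((hecen n).symm.pow_right j1).mul_pow]
      exact mul_mem (D.pow_n hN h5) (pow_mem_pser_one (pow_mem he j1))
    refine hfix1 hq1 hq ?_
    rw [← pow_mul, mul_comm, pow_mul, ← hj1, ← map_pow]
    exact hP1F h1
  have hw'p : w' ^ p = 1 := by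
    refine hfix1 hM1 hM ?_
    rw [← pow_mul, mul_comm, pow_mul, ← hj2, ← map_pow]
    exact hP1F (pow_mem_pser_one hw'E)
  set u := ⁅n', w'⁆ with hu
  have hcl : ∀ g h k : N, (∀ g, Commute k g) → ⁅g * k, h⁆ = ⁅g, h⁆ := fun g h k hk => by
    rw [commutatorElement_def, commutatorElement_def, mul_inv_rev, mul_assoc g k h, (hk h).eq]
    group
  have hcr : ∀ g h k : N, (∀ g, Commute k g) → ⁅g, h * k⁆ = ⁅g, h⁆ := fun g h k hk => by
    rw [← commutatorElement_inv, hcl h g k hk, commutatorElement_inv]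
  have hu_eq : u = ⁅n, w⁆ := by
    rw [hu, hn', hw', hcl n _ _ (fun g => (hecen g).pow_left j1), hcr n w _ (fun g => (hdcen g).pow_left j2)]
  have hu1 : a⁻¹ * u ∈ pser p E 1 := hu_eq ▸ D.nw
  set q0 := a⁻¹ * u with hq0
  have huq : u = a * q0 := by simp [hq0]
  have hq0c : ∀ g, Commute q0 g := hP1cen q0 hu1
  have huE : u ∈ E := huq ▸ mul_mem D.aE (pser_le E 1 hu1)
  set y := ⁅n', u⁆ with hy
  have hy1 : y ∈ pser p E 1 := by
    rw [hy, huq, hcr n' a q0 hq0c, hn', hcl n a _ (fun g => (hecen g).pow_left j1)]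
    exact D.na
  have hyc := hP1cen y hy1
  have hpowu : ∀ i : ℕ, ⁅n' ^ i, u⁆ = y ^ i := by
    intro i
    induction i with
    | zero => simp
    | succ i ih =>
      rw [pow_succ', show ⁅n' * n' ^ i, u⁆ = n' * ⁅n' ^ i, u⁆ * n'⁻¹ * ⁅n', u⁆ by
          simp only [commutatorElement_def]; group, ih, ← ((hyc n').pow_left i).eq,
        mul_inv_cancel_right, ← hy, ← pow_succ]
  -- the weight of `⁅n, u⁆` is trivial
  have hy0 : y = 1 := by
    have htu : (u ^ uval l)⁻¹ * t u ∈ pser p E 1 := ((D.wt_a hN).congr (D.autT hN) (y := u) hu1).2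
    set q1 := (u ^ uval l)⁻¹ * t u
    have htu' : t u = u ^ uval l * q1 := by simp [q1]
    have hq1c := hP1cen q1 htu
    have h1 : t y = y := hP1F hy1
    rw [hy, map_commutatorElement, hj1, htu',
      show ⁅n' ^ q, u ^ uval l * q1⁆ = ⁅n' ^ q, u ^ uval l⁆ by
        rw [commutatorElement_def, commutatorElement_def, mul_inv_rev,
          show n' ^ q * (u ^ uval l * q1) * (n' ^ q)⁻¹ = n' ^ q * u ^ uval l * (n' ^ q)⁻¹ * q1 by
            rw [mul_assoc (n' ^ q), mul_assoc (u ^ uval l), (hq1c (n' ^ q)⁻¹).eq]; group]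
        group] at h1
    have hL' : ∀ k : ℕ, ⁅n' ^ q, u ^ k⁆ = y ^ (q * k) := by
      intro k
      induction k with
      | zero => simp
      | succ k ih =>
        rw [pow_succ', show ⁅n' ^ q, u * u ^ k⁆ = ⁅n' ^ q, u⁆ * (u * ⁅n' ^ q, u ^ k⁆ * u⁻¹) by
            simp only [commutatorElement_def]; group, ih, ← ((hyc u).pow_left _).eq, mul_inv_cancel_right,
          hpowu, ← pow_add]
        congr 1
        ring
    rw [hL', ← hy] at h1
    exact hfix1 hqL1 hqL h1
  have hnu : Commute n' u := commutatorElement_eq_one_iff_commute.1 hy0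
  have hpw : ∀ i : ℕ, ⁅n' ^ i, w'⁆ = u ^ i := by
    intro i
    induction i with
    | zero => simp
    | succ i ih =>
      rw [pow_succ', show ⁅n' * n' ^ i, w'⁆ = n' * ⁅n' ^ i, w'⁆ * n'⁻¹ * ⁅n', w'⁆ by
          simp only [commutatorElement_def]; group, ih, (hnu.pow_right i).eq, mul_inv_cancel_right, ← hu,
        ← pow_succ]
  have hup : u ^ p = 1 := by rw [← hpw, hn'p, commutatorElement_one_left]
  have hzu : ⁅u, w'⁆ = z := by
    rw [huq, hcl a w' q0 hq0c, hw', hcr a w _ (fun g => (hdcen g).pow_left j2)]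
  have hzc' := hP1cen z hz1
  have hpz : ∀ i : ℕ, ⁅u ^ i, w'⁆ = z ^ i := by
    intro i
    induction i with
    | zero => simp
    | succ i ih =>
      rw [pow_succ', show ⁅u * u ^ i, w'⁆ = u * ⁅u ^ i, w'⁆ * u⁻¹ * ⁅u, w'⁆ by
          simp only [commutatorElement_def]; group, ih, ← ((hzc' u).pow_left i).eq,
        mul_inv_cancel_right, hzu, ← pow_succ]
  have hzp : z ^ p = 1 := by rw [← hpz, hup, commutatorElement_one_left]
  -- projections modulo `Φ(E)`
  set π := QuotientGroup.mk' (pser p E 1)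
  have hπ1 : ∀ {x}, π x = 1 ↔ x ∈ pser p E 1 := fun {x} => QuotientGroup.eq_one_iff x
  have hπu : π u = π a := by rw [huq, map_mul, hπ1.2 hu1, mul_one]
  have hπw : π w' = π w := by rw [hw', map_mul, hπ1.2 (pow_mem D.tw j2), mul_one]
  have hindep : ∀ j k m : ℕ, w' ^ j * u ^ k * c ^ m ∈ pser p E 1 → p ∣ k ∧ p ∣ j ∧ p ∣ m := by
    intro j k m h
    have h1 : π (a ^ k * w ^ j * c ^ m) = 1 := by
      rw [map_mul, map_mul, map_pow π a, map_pow π w, ← hπu, ← hπw, ← map_pow, ← map_pow,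
        ((Wt.commute_mk (i := 0) (E.pow_mem huE k) (E.pow_mem hw'E j))).eq, ← map_mul,
        ← map_mul]
      exact hπ1.2 h
    obtain ⟨hk, hj, hm⟩ := D.indep hN h5 (hπ1.1 h1)
    refine ⟨hk, hj, ?_⟩
    by_contra hd
    exact hc1 (mem_of_pow_mem_of_coprime hcp1 hm hd)
  have hDE : zpowers (c ^ p) ≤ E := zpowers_le.2 (pow_mem D.cE p)
  have hn'i : ∀ i : ℕ, n' ^ i ∈ E → p ∣ i := fun i h => by
    by_contra hd
    exact hn'E (mem_of_pow_mem_of_coprime ((mem_of_index_eq hN D.index).2.1 n') h hd)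
  have hn'one : ∀ i : ℕ, p ∣ i → n' ^ i = 1 := by
    rintro _ ⟨i, rfl⟩
    rw [pow_mul, hn'p, one_pow]
  have hzD : z ∈ zpowers (c ^ p) := by
    by_contra hzD
    refine no_four hsr (zpowers (c ^ p)) ![n', u, z, c] ?_ ?_ ?_ ?_
    · intro i
      haveI : (zpowers (c ^ p)).Normal := PGroups.normal_of_le_center (zpowers_le.2
        (mem_center_iff.2 fun g => ((hcc g).pow_left p).eq.symm))
      exact Subgroup.normalizer_eq_top (H := zpowers (c ^ p)) ▸ mem_top _
    · have h : ∀ {x y : N}, Commute x y → ⁅x, y⁆ ∈ zpowers (c ^ p) := fun h => by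
        rw [commutatorElement_eq_one_iff_commute.2 h]
        exact one_mem _
      intro i j
      fin_cases i <;> fin_cases j
      exacts [h (Commute.refl _), h hnu, h (hzc' n').symm, h (hcc n').symm,
        h hnu.symm, h (Commute.refl _), h (hzc' u).symm, h (hcc u).symm,
        h (hzc' n'), h (hzc' u), h (Commute.refl _), h (hzc' c),
        h (hcc n'), h (hcc u), h (hcc z), h (Commute.refl _)]
    · intro i
      fin_cases i
      exacts [show n' ^ p ∈ _ by rw [hn'p]; exact one_mem _, show u ^ p ∈ _ by rw [hup]; exact one_mem _,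
        show z ^ p ∈ _ by rw [hzp]; exact one_mem _, mem_zpowers _]
    · intro i j k m h
      simp only [Matrix.cons_val_zero, Matrix.cons_val_one, Matrix.cons_val_two, Matrix.cons_val_three,
        Matrix.tail_cons, Matrix.head_cons] at h
      have hi : p ∣ i := hn'i i (by
        have := mul_mem (hDE h) (inv_mem (mul_mem (mul_mem (pow_mem huE j) (pow_mem hzE k))
          (pow_mem D.cE m)))
        convert this using 1
        group)
      rw [hn'one i hi, one_mul, mul_assoc, ((hzc' (c ^ m)).pow_left k).eq, ← mul_assoc] at h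
      have h1 : u ^ j * c ^ m ∈ pser p E 1 := by
        have := mul_mem ((zpowers_le.2 hcp1) h) (inv_mem (pow_mem hz1 k))
        rwa [mul_inv_cancel_right] at this
      obtain ⟨hj, -, hm⟩ := hindep 0 j m (by rwa [pow_zero, one_mul])
      refine ⟨hi, hj, ?_, hm⟩
      obtain ⟨j', rfl⟩ := hj
      obtain ⟨m', rfl⟩ := hm
      rw [pow_mul u, hup, one_pow, one_mul, pow_mul] at h
      by_contra hd
      refine hzD (mem_of_pow_mem_of_coprime (by rw [hzp]; exact one_mem _) ?_ hd)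
      have := mul_mem (inv_mem (pow_mem (mem_zpowers (c ^ p)) m')) h
      rwa [inv_mul_cancel_left] at this
  have hP1 : pser p E 1 = zpowers (c ^ p) := le_antisymm
    (D.pser_one_gen hN hsr h5 (hP2.trans (zpowers_le.2 (by rw [pow_mul]; exact pow_mem (mem_zpowers _) p)))
      hzD (mem_zpowers _)) (zpowers_le.2 hcp1)
  have hle : E ≤ closure {u, w', c} := by
    have hc' : c ∈ closure {u, w', c} := Subgroup.subset_closure (by simp)
    have hP : pser p E 1 ≤ closure {u, w', c} := hP1.le.trans (zpowers_le.2 (pow_mem hc' p))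
    refine D.le_of_gen hN hP ?_ ?_ hc'
    · have := mul_mem (Subgroup.subset_closure (by simp) : u ∈ closure {u, w', c}) (inv_mem (hP hu1))
      rwa [show u * q0⁻¹ = a by rw [hq0]; group] at this
    · have := mul_mem (Subgroup.subset_closure (by simp) : w' ∈ closure {u, w', c})
        (inv_mem (hP (pow_mem D.tw j2)))
      rwa [hw', mul_inv_cancel_right] at this
  have hge : closure {u, w', c} ≤ E := (closure_le _).2 (by
    rintro x (rfl | rfl | rfl)
    exacts [huE, hw'E, D.cE])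
  refine ⟨n', w', ⟨D.lord, hj1, hj2, D.tc, hn'p, hw'p, hcc, hnu, hup, ?_, ?_, ?_⟩,
    le_antisymm hle hge, hP1⟩
  · show ⁅u, w'⁆ ∈ _
    rw [hzu]
    exact hzD
  · have hn'g : n' ∈ closure {n', w', c} := Subgroup.subset_closure (by simp)
    have hw'g : w' ∈ closure {n', w', c} := Subgroup.subset_closure (by simp)
    have hug : u ∈ closure {n', w', c} :=
      mul_mem (mul_mem (mul_mem hn'g hw'g) (inv_mem hn'g)) (inv_mem hw'g)
    have hEg : E ≤ closure {n', w', c} := hle.trans ((closure_le _).2 (by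
      rintro x (rfl | rfl | rfl)
      exacts [hug, hw'g, Subgroup.subset_closure (by simp)]))
    refine eq_top_iff.2 (htop ▸ sup_le hEg (zpowers_le.2 ?_))
    have := mul_mem hn'g (inv_mem (hEg (pow_mem he j1)))
    rwa [hn', mul_inv_cancel_right] at this
  · intro i j k m (h : n' ^ i * w' ^ j * u ^ k * c ^ m ∈ zpowers (c ^ p))
    have hi : p ∣ i := hn'i i (by
      have := mul_mem (hDE h) (inv_mem (mul_mem (mul_mem (pow_mem hw'E j) (pow_mem huE k))
        (pow_mem D.cE m)))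
      convert this using 1
      group)
    rw [hn'one i hi, one_mul] at h
    obtain ⟨hk, hj, hm⟩ := hindep j k m ((zpowers_le.2 hcp1) h)
    exact ⟨hi, hj, hk, hm⟩

end Torus

end Cfsg.Agent.H91.Rank3
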