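import Cfsg.Agent.H91.Rank3.Setup
import Cfsg.Agent.H91.Rank3.CaseB
import Cfsg.Agent.H91.Rank3.BQuot

/-!
The three kinds of essential subgroups, and transport of the third.
-/

set_option autoImplicit false
set_option linter.unusedSectionVars false
set_option linter.style.haveILetI false

namespace Cfsg.Agent.H91.Rank3

open Subgroup
open Cfsg Cfsg.FusionSystem Cfsg.Agent.FusionSys
open Cfsg.FusionSystem (centralizerIn normalizerIn)
open scoped commutatorElement

section Group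

variable {p : ℕ} [hp : Fact p.Prime]

/-- A `p`-automorphism preserving a line of order `p` fixes it. -/
theorem fix_line {V : Type*} [Group V] {δ : MulAut V} {k : ℕ} (hk : δ ^ p ^ k = 1) {a : V} (ha : a ^ p = 1)
    (hmem : δ a ∈ zpowers a) : δ a = a := by
  obtain ⟨i, hi⟩ := hmem
  have hiter : ∀ m : ℕ, (δ ^ m) a = a ^ i ^ m := by
    intro m
    induction m with
    | zero => simp
    | succ m ih =>
      rw [pow_succ', MulAut.mul_apply, ih, map_zpow, show δ a = a ^ i from hi.symm, ← zpow_mul, pow_succ']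
  rcases eq_or_ne a 1 with rfl | ha1
  · exact _root_.map_one δ
  have h1 : a ^ i ^ p ^ k = a ^ (1 : ℤ) := by rw [← hiter, hk, zpow_one]; rfl
  rw [← mul_inv_eq_one, ← zpow_sub, ← orderOf_dvd_iff_zpow_eq_one, orderOf_eq_prime ha ha1,
    ← ZMod.intCast_zmod_eq_zero_iff_dvd] at h1
  push_cast at h1
  rw [ZMod.pow_card_pow, sub_eq_zero] at h1
  rw [show δ a = a ^ i from hi.symm]
  conv_rhs => rw [← zpow_one a]
  rw [← mul_inv_eq_one, ← zpow_sub, ← orderOf_dvd_iff_zpow_eq_one, orderOf_eq_prime ha ha1,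
    ← ZMod.intCast_zmod_eq_zero_iff_dvd]
  push_cast
  rw [h1, sub_self]

variable {N : Type*} [Group N] [Finite N] {t : MulAut N} {n w c : N} {l : (ZMod p)ˣ}

/-- The data is carried along by isomorphisms. -/
theorem BData.equiv {M : Type*} [Group M] [Finite M] (D : BData p t n w c l) (e : N ≃* M) :
    BData p ((e.symm.trans t).trans e) (e n) (e w) (e c) l := by
  have hu : ⁅e n, e w⁆ = e ⁅n, w⁆ := (map_commutatorElement e n w).symm
  refine ⟨D.lord, ?_, ?_, ?_, ?_, ?_, fun g => ?_, ?_, ?_, ?_, ?_, fun i j k m hm => ?_⟩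
  · simp [D.tn]
  · simp [D.tw]
  · simp [D.tc]
  · rw [← map_pow, D.np, _root_.map_one]
  · rw [← map_pow, D.wp, _root_.map_one]
  · have := (D.cc (e.symm g)).map e.toMonoidHom
    simpa using this
  · rw [hu]; exact D.nu.map e.toMonoidHom
  · rw [hu, ← map_pow, D.up, _root_.map_one]
  · rw [hu, ← map_commutatorElement e, ← map_pow e c]
    obtain ⟨i, hi⟩ := D.uw
    exact ⟨i, by simp only at hi ⊢; rw [← hi, map_zpow]⟩
  · have hm : (closure {n, w, c}).map e.toMonoidHom = ⊤ := by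
      rw [D.gen]; exact Subgroup.map_top_of_surjective _ e.surjective
    rw [MonoidHom.map_closure, Set.image_insert_eq, Set.image_insert_eq, Set.image_singleton] at hm
    exact hm
  · refine D.indep i j k m ?_
    obtain ⟨a, ha⟩ := hm
    refine ⟨a, e.injective ?_⟩
    simp only at ha ⊢
    rw [hu] at ha
    rw [map_zpow, map_pow, map_mul, map_mul, map_mul, map_pow, map_pow, map_pow, map_pow]
    exact ha

/-- Independence of `n` and `w` modulo `⟨u, c⟩`. -/
theorem BData.plane_indep (D : BData p t n w c l) {i j : ℕ} (h : n ^ i * w ^ j ∈ closure {⁅n, w⁆, c}) :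
    p ∣ i ∧ p ∣ j := by
  haveI := D.dnormal
  obtain ⟨k, m, hk⟩ := D.t_form h
  obtain ⟨k', hk'⟩ : ∃ k', ⁅n, w⁆ ^ k' = (⁅n, w⁆ ^ k)⁻¹ :=
    (isOfFinOrder_of_finite _).mem_powers_iff_mem_zpowers.2 (inv_mem (Subgroup.pow_mem _ (mem_zpowers _) k))
  obtain ⟨m', hm'⟩ : ∃ m', c ^ m' = (c ^ m)⁻¹ :=
    (isOfFinOrder_of_finite _).mem_powers_iff_mem_zpowers.2 (inv_mem (Subgroup.pow_mem _ (mem_zpowers _) m))
  have hc : Commute (c ^ m) (⁅n, w⁆ ^ k) := ((D.cc _).pow_left m).pow_right k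
  have h1 : n ^ i * w ^ j * ⁅n, w⁆ ^ k' * c ^ m' ∈ zpowers (c ^ p) := by
    rw [hk', hm', mul_assoc _ (⁅n, w⁆ ^ k)⁻¹, ← mul_inv_rev, hc.eq]
    exact (Subgroup.Normal.mem_comm_iff inferInstance).1 hk
  exact ⟨(D.indep i j k' m' h1).1, (D.indep i j k' m' h1).2.1⟩

end Group

universe u

variable {Ω : Type u} [Group Ω] {S : Subgroup Ω} [Finite S] {p : ℕ} [hp : Fact p.Prime] {F : FusionSystem S}

/-- The third kind. -/
def KindB (p : ℕ) [Fact p.Prime] (F : FusionSystem S) (E : Subgroup Ω) (hle : E ≤ normalizerIn S E) : Prop :=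
  ∃ (t : MulAut (normalizerIn S E)) (n w c : ↥(normalizerIn S E)) (l : (ZMod p)ˣ),
    t ∈ F.autGroup (normalizerIn S E) ∧ BData p t n w c l ∧
      E.subgroupOf (normalizerIn S E) = closure {⁅n, w⁆, w, c} ∧
      pser p (E.subgroupOf (normalizerIn S E)) 1 = zpowers (c ^ p) ∧
      ∀ ω ∈ F.autGroup E, ∀ x : E, Subgroup.inclusion hle x = c → Subgroup.inclusion hle (ω x) ∈ zpowers c

/-- Small or carrying the two-generator data. -/
def KindTwo (p : ℕ) [Fact p.Prime] (E N : Subgroup Ω) : Prop :=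
  (Nat.card (E.subgroupOf N) = p ^ 2 ∧ (∀ x ∈ E.subgroupOf N, ∀ y ∈ E.subgroupOf N, Commute x y) ∧
      ∀ x ∈ E.subgroupOf N, x ^ p = 1) ∨
    (Nat.card (E.subgroupOf N) = p ^ 3 ∧ (∃ x ∈ E.subgroupOf N, ∃ y ∈ E.subgroupOf N, ¬ Commute x y) ∧
      ∀ x ∈ E.subgroupOf N, x ^ p = 1) ∨
    RankTwoData p (E.subgroupOf N)

/-- Every essential subgroup is of one of three kinds. -/
theorem kinds (hS : IsPGroup p S) (hF : F.IsSaturated p) (h5 : 5 ≤ p)
    (hsr : Cfsg.SectionalPRankLE p 3 S) {E : Subgroup Ω} (hE : F.IsEssential p E)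
    (hle : E ≤ normalizerIn S E) :
    (RegularData p (E.subgroupOf (normalizerIn S E)) ∧ (frattini E).index = p ^ 3) ∨
      ((frattini E).index = p ^ 2 ∧ KindTwo p E (normalizerIn S E)) ∨
      ((frattini E).index = p ^ 3 ∧ KindB p F E hle) := by
  haveI : Finite (normalizerIn S E) := finite_of_le normalizerIn_le
  have hN : IsPGroup p (normalizerIn S E) := hS.to_le normalizerIn_le
  have hsrN := sectional_of_injective (Subgroup.inclusion (normalizerIn_le : normalizerIn S E ≤ S))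
    (Subgroup.inclusion_injective _) hsr
  obtain ⟨-, hA | ⟨t, s, n, a, w, c, l, ht, T, hrank, hinv⟩⟩ := classify hS hF h5 hsr hE hle
  · exact Or.inl hA
  rcases hrank with ⟨rfl, hidx⟩ | ⟨hc1, hidx⟩
  · exact Or.inr (Or.inl ⟨hidx, T.pearl_or_data hN hsrN h5⟩)
  obtain ⟨n', w', D, hcl, hP⟩ := T.exists_bData hN hsrN h5 hc1
  refine Or.inr (Or.inr ⟨hidx, t, n', w', c, l, ht, D, hcl, hP, fun ω hω x hx => ?_⟩)
  refine (sup_le le_rfl ?_ : zpowers c ⊔ _ ≤ zpowers c) (hinv ω hω x hx)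
  rw [hP]
  exact zpowers_le.2 (Subgroup.pow_mem _ (mem_zpowers c) p)

end Cfsg.Agent.H91.Rank3
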