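import Mathlib.GroupTheory.OrderOfElement
import Mathlib.FieldTheory.Finite.Basic
import Mathlib.Tactic.LinearCombination
import Mathlib.Tactic.Ring
import Mathlib.Tactic.Group

/-!
A group acting on `⟨n, w, u, c⟩` (with `u = ⁅n, w⁆`, elementary modulo its centre) through a flag, compatibly
with a torus: an element outside of order `p` centralises `n`, `u` and `c`.
-/

set_option autoImplicit false
set_option linter.unusedSectionVars false

namespace Cfsg.Agent.H91.Rank3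

variable {Q : Type*} [Group Q] [Finite Q] {p : ℕ} [hp : Fact p.Prime]

theorem pow_eq_pow_zmod {x : Q} (hx : x ^ p = 1) {a b : ℕ} (h : (a : ZMod p) = b) : x ^ a = x ^ b := by
  rw [pow_eq_pow_mod a hx, pow_eq_pow_mod b hx, (ZMod.natCast_eq_natCast_iff' a b p).1 h]

/-- The hypotheses: `n`, `w`, `u`, `c` generate `Nb`; `τ` is a torus; conjugation respects the flag and only
elements of `Nb` fix the line of `w`. -/
structure Twist (p : ℕ) [Fact p.Prime] (τ : Q →* Q) (Nb : Subgroup Q) (n w u c : Q) (l : (ZMod p)ˣ) : Prop where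
  lord : orderOf l = p - 1
  tn : τ n = n ^ ((l : ZMod p).val * (l : ZMod p).val)
  tw : τ w = w ^ ((l⁻¹ : (ZMod p)ˣ) : ZMod p).val
  tc : τ c = c
  np : n ^ p = 1
  wp : w ^ p = 1
  up : u ^ p = 1
  cp : c ^ p = 1
  cn : Commute c n
  cw : Commute c w
  un : Commute u n
  uw : Commute u w
  nw : n * w = u * (w * n)
  memn : n ∈ Nb
  memw : w ∈ Nb
  indep : ∀ i j k m : ℕ, n ^ i * w ^ j * u ^ k * c ^ m = 1 → p ∣ i ∧ p ∣ j ∧ p ∣ k ∧ p ∣ m
  form : ∀ x ∈ Nb, ∃ i j k m : ℕ, x = n ^ i * w ^ j * u ^ k * c ^ m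
  conjc : ∀ y, ∃ δ : ℕ, y * c * y⁻¹ = c * u ^ δ
  conjn : ∀ y, ∃ ε θ : ℕ, y * n * y⁻¹ = n * (c ^ ε * u ^ θ)
  conjw : ∀ y, ∃ β γ η : ℕ, y * w * y⁻¹ = w * n ^ β * (c ^ γ * u ^ η)
  inN : ∀ y, (∃ γ η : ℕ, y * w * y⁻¹ = w * (c ^ γ * u ^ η)) → y ∈ Nb
  out : ∃ y, y ∉ Nb

namespace Twist

variable {τ : Q →* Q} {Nb : Subgroup Q} {n w u c : Q} {l : (ZMod p)ˣ} (D : Twist p τ Nb n w u c l)
include D

theorem uc : Commute u c := by
  have h : u = n * w * (w * n)⁻¹ := by rw [D.nw, mul_inv_cancel_right]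
  rw [h]
  exact ((D.cn.symm.mul_left D.cw.symm).mul_left (D.cw.symm.mul_left D.cn.symm).inv_left)

/-- Products of powers of `c` and `u` commute with the generators. -/
theorem cen (a b : ℕ) : Commute (c ^ a * u ^ b) n ∧ Commute (c ^ a * u ^ b) w ∧
    Commute (c ^ a * u ^ b) u ∧ Commute (c ^ a * u ^ b) c :=
  ⟨(D.cn.pow_left a).mul_left (D.un.pow_left b), (D.cw.pow_left a).mul_left (D.uw.pow_left b),
    (D.uc.symm.pow_left a).mul_left ((Commute.refl u).pow_left b),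
    ((Commute.refl c).pow_left a).mul_left (D.uc.pow_left b)⟩

theorem cu_mul (a b a' b' : ℕ) : c ^ a * u ^ b * (c ^ a' * u ^ b') = c ^ (a + a') * u ^ (b + b') := by
  rw [mul_assoc, ← mul_assoc (u ^ b), (D.uc.pow_pow b a').eq, mul_assoc, ← pow_add, ← mul_assoc, ← pow_add]

theorem cu_pow (a b k : ℕ) : (c ^ a * u ^ b) ^ k = c ^ (a * k) * u ^ (b * k) := by
  rw [((D.uc.symm.pow_pow a b)).mul_pow, ← pow_mul, ← pow_mul]

theorem nw_pow (a b : ℕ) : n ^ a * w ^ b = u ^ (a * b) * (w ^ b * n ^ a) := by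
  have h1 : ∀ b : ℕ, n * w ^ b = u ^ b * (w ^ b * n) := by
    intro b
    induction b with
    | zero => simp
    | succ b ih =>
      rw [pow_succ, ← mul_assoc, ih, mul_assoc, mul_assoc (w ^ b), D.nw, ← mul_assoc (w ^ b) u,
        ← (D.uw.pow_right b).eq, mul_assoc u, ← mul_assoc (u ^ b), ← pow_succ, mul_assoc (w ^ b)]
  induction a with
  | zero => simp
  | succ a ih =>
    rw [pow_succ, mul_assoc, h1, ← mul_assoc, ← (D.un.pow_pow b a).eq, mul_assoc, ← mul_assoc (n ^ a), ih,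
      mul_assoc (u ^ (a * b)), ← mul_assoc (u ^ b), ← pow_add, mul_assoc (w ^ b)]
    congr 2
    ring

/-- Powers of a product of powers of `w` and `n`. -/
theorem wn_pow (a b k : ℕ) : ∃ e, (w ^ a * n ^ b) ^ k = w ^ (a * k) * n ^ (b * k) * u ^ e := by
  induction k with
  | zero => exact ⟨0, by simp⟩
  | succ k ih =>
    obtain ⟨e, he⟩ := ih
    refine ⟨b * k * a + e, ?_⟩
    have h1 : Commute (u ^ e) (w ^ a * n ^ b) := (D.uw.pow_pow e a).mul_right (D.un.pow_pow e b)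
    rw [pow_succ, he, mul_assoc _ (u ^ e), h1.eq,
      show w ^ (a * k) * n ^ (b * k) * (w ^ a * n ^ b * u ^ e) =
        w ^ (a * k) * (n ^ (b * k) * w ^ a) * (n ^ b * u ^ e) by group, D.nw_pow,
      show w ^ (a * k) * (u ^ (b * k * a) * (w ^ a * n ^ (b * k))) * (n ^ b * u ^ e) =
        w ^ (a * k) * u ^ (b * k * a) * w ^ a * (n ^ (b * k) * n ^ b) * u ^ e by group,
      show w ^ (a * k) * u ^ (b * k * a) * w ^ a * (n ^ (b * k) * n ^ b) * u ^ e =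
        w ^ (a * k) * (u ^ (b * k * a) * w ^ a) * n ^ (b * k + b) * u ^ e by rw [pow_add]; group,
      (D.uw.pow_pow (b * k * a) a).eq,
      show w ^ (a * k) * (w ^ a * u ^ (b * k * a)) * n ^ (b * k + b) * u ^ e =
        w ^ (a * k + a) * (u ^ (b * k * a) * n ^ (b * k + b)) * u ^ e by rw [pow_add w]; group,
      (D.un.pow_pow (b * k * a) (b * k + b)).eq, Nat.mul_succ, Nat.mul_succ, pow_add u]
    group

theorem cast_val (r : (ZMod p)ˣ) : (((r : ZMod p).val : ℕ) : ZMod p) = r := ZMod.natCast_zmod_val _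

theorem qm : (((l : ZMod p).val * (l : ZMod p).val * ((l⁻¹ : (ZMod p)ˣ) : ZMod p).val : ℕ) : ZMod p) = l := by
  rw [Nat.cast_mul, Nat.cast_mul, cast_val D, cast_val D, mul_assoc, l.mul_inv, mul_one]

theorem tu : τ u = u ^ (l : ZMod p).val := by
  have h := congrArg τ D.nw
  rw [map_mul, map_mul, map_mul, D.tn, D.tw, D.nw_pow] at h
  rw [← mul_right_cancel h]
  exact pow_eq_pow_zmod D.up (by rw [D.qm, cast_val D])

theorem tcu (a b : ℕ) : τ (c ^ a * u ^ b) = c ^ a * u ^ ((l : ZMod p).val * b) := by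
  rw [map_mul, map_pow, map_pow, D.tc, D.tu, ← pow_mul]

omit D in
theorem conj_mul' (y y' g : Q) : y * y' * g * (y * y')⁻¹ = y * (y' * g * y'⁻¹) * y⁻¹ := by group

/-- Elements acting trivially on the line of `w` modulo the centre, and fixing `n`, are central. -/
theorem eq_cu {y : Q} (hn : y * n * y⁻¹ = n) (hw : y * w * y⁻¹ = w) : ∃ a b, y = c ^ a * u ^ b := by
  obtain ⟨i, j, k, m, rfl⟩ := D.form y (D.inN y ⟨0, 0, by simpa using hw⟩)
  have hM : u ^ k * c ^ m = c ^ m * u ^ k := (D.uc.pow_pow k m).eq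
  obtain ⟨hMn, hMw, -, -⟩ := D.cen m k
  have hcn : Commute (n ^ i * w ^ j) n := by
    have h1 : Commute (n ^ i * w ^ j * (c ^ m * u ^ k)) n := by
      rw [← hM, ← mul_assoc]; exact mul_inv_eq_iff_eq_mul.1 hn
    simpa [mul_assoc] using h1.mul_left hMn.inv_left
  have hcw : Commute (n ^ i * w ^ j) w := by
    have h1 : Commute (n ^ i * w ^ j * (c ^ m * u ^ k)) w := by
      rw [← hM, ← mul_assoc]; exact mul_inv_eq_iff_eq_mul.1 hw
    simpa [mul_assoc] using h1.mul_left hMw.inv_left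
  have hj : p ∣ j := by
    have h1 : Commute (w ^ j) n := by
      simpa [mul_assoc] using ((Commute.refl n).pow_left i).inv_left.mul_left hcn
    have h2 := D.nw_pow 1 j
    rw [pow_one, one_mul, h1.eq] at h2
    have h3 : u ^ j = 1 := by
      have := right_eq_mul.1 h2
      exact this
    exact (D.indep 0 0 j 0 (by simp [h3])).2.2.1
  have hi : p ∣ i := by
    have h1 : Commute (n ^ i) w := by
      simpa [mul_assoc] using hcw.mul_left ((Commute.refl w).pow_left j).inv_left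
    have h2 := D.nw_pow i 1
    rw [pow_one, mul_one, h1.eq] at h2
    have h3 : u ^ i = 1 := by
      have := right_eq_mul.1 h2
      exact this
    exact (D.indep 0 0 i 0 (by simp [h3])).2.2.1
  refine ⟨m, k, ?_⟩
  obtain ⟨i', rfl⟩ := hi
  obtain ⟨j', rfl⟩ := hj
  rw [pow_mul, pow_mul, D.np, D.wp, one_pow, one_pow, one_mul, one_mul, hM]

/-- First stage: the coefficients of `c`, `n`, `w` modulo the finer ones. -/
def S1 (n w u c y : Q) (δ ε β : ℕ) : Prop :=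
  y * c * y⁻¹ = c * u ^ δ ∧ (∃ θ, y * n * y⁻¹ = n * (c ^ ε * u ^ θ)) ∧
    ∃ γ η, y * w * y⁻¹ = w * n ^ β * (c ^ γ * u ^ η)

/-- Second stage: `c` and `n` are fixed. -/
def S2 (n w u c y : Q) (β γ η : ℕ) : Prop :=
  y * c * y⁻¹ = c ∧ y * n * y⁻¹ = n ∧ y * w * y⁻¹ = w * n ^ β * (c ^ γ * u ^ η)

theorem fix_u {y : Q} {δ ε β : ℕ} (h : S1 n w u c y δ ε β) : y * u * y⁻¹ = u := by
  obtain ⟨-, ⟨θ, hn⟩, γ, η, hw⟩ := h
  have e := congrArg (MulAut.conj y) D.nw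
  simp only [map_mul, MulAut.conj_apply, hn, hw] at e
  obtain ⟨h1n, h1w, -, -⟩ := D.cen ε θ
  obtain ⟨h2n, h2w, -, -⟩ := D.cen γ η
  have hcomm : Commute (c ^ ε * u ^ θ) (c ^ γ * u ^ η) := by
    show _ = _
    rw [D.cu_mul, D.cu_mul, add_comm ε, add_comm θ]
  generalize hM : c ^ ε * u ^ θ = M at h1n h1w e hcomm
  generalize hM' : c ^ γ * u ^ η = M' at h2n h2w e hcomm
  have el : n * M * (w * n ^ β * M') = n * w * n ^ β * (M * M') := by
    rw [mul_assoc n M, ← mul_assoc M, ((h1w.mul_right (h1n.pow_right β))).eq]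
    group
  have er : w * n ^ β * M' * (n * M) = w * n * n ^ β * (M * M') := by
    rw [mul_assoc (w * n ^ β) M', ← mul_assoc M', h2n.eq, mul_assoc n M', hcomm.eq, mul_assoc w n,
      ← pow_succ', pow_succ]
    group
  rw [el, er, D.nw, ← mul_assoc (y * u * y⁻¹), ← mul_assoc (y * u * y⁻¹), ← mul_assoc u] at e
  have e2 := mul_right_cancel (mul_right_cancel e)
  rw [mul_assoc u] at e2
  exact (mul_right_cancel e2).symm

theorem conj_cu {y : Q} {δ ε β : ℕ} (h : S1 n w u c y δ ε β) (a b : ℕ) :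
    y * (c ^ a * u ^ b) * y⁻¹ = c ^ a * u ^ (δ * a + b) := by
  rw [show y * (c ^ a * u ^ b) * y⁻¹ = (y * c ^ a * y⁻¹) * (y * u ^ b * y⁻¹) by group, ← conj_pow, ← conj_pow,
    h.1, D.fix_u h, (D.uc.symm.pow_right δ).mul_pow, ← pow_mul, mul_assoc, ← pow_add]

theorem S1.mul {y y' : Q} {δ ε β δ' ε' β' : ℕ} (h : S1 n w u c y δ ε β) (h' : S1 n w u c y' δ' ε' β') :
    S1 n w u c (y * y') (δ + δ') (ε + ε') (β + β') := by
  obtain ⟨hc, ⟨θ, hn⟩, γ, η, hw⟩ := h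
  have h : S1 n w u c y δ ε β := ⟨hc, ⟨θ, hn⟩, γ, η, hw⟩
  obtain ⟨hc', ⟨θ', hn'⟩, γ', η', hw'⟩ := h'
  refine ⟨?_, ⟨θ + (δ * ε' + θ'), ?_⟩, γ + (ε * β' + γ'), η + (θ * β' + (δ * γ' + η')), ?_⟩
  · rw [conj_mul', hc', show y * (c * u ^ δ') * y⁻¹ = (y * c * y⁻¹) * (y * u ^ δ' * y⁻¹) by group, hc,
      ← conj_pow, D.fix_u h, mul_assoc, ← pow_add]
  · rw [conj_mul', hn', show y * (n * (c ^ ε' * u ^ θ')) * y⁻¹ =
      (y * n * y⁻¹) * (y * (c ^ ε' * u ^ θ') * y⁻¹) by group, hn, D.conj_cu h, mul_assoc, D.cu_mul]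
  · obtain ⟨h1n, -, -, -⟩ := D.cen ε θ
    obtain ⟨h2n, -, -, -⟩ := D.cen γ η
    rw [conj_mul', hw', show y * (w * n ^ β' * (c ^ γ' * u ^ η')) * y⁻¹ =
      (y * w * y⁻¹) * (y * n ^ β' * y⁻¹) * (y * (c ^ γ' * u ^ η') * y⁻¹) by group, ← conj_pow, hw, hn,
      D.conj_cu h, h1n.symm.mul_pow, D.cu_pow, mul_assoc (w * n ^ β), ← mul_assoc (c ^ γ * u ^ η),
      (h2n.pow_right β').eq, mul_assoc (n ^ β'), D.cu_mul, mul_assoc, mul_assoc (n ^ β'), D.cu_mul,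
      ← mul_assoc (w * n ^ β), mul_assoc w, ← pow_add, add_assoc, add_assoc]

theorem S1.pow {y : Q} {δ ε β : ℕ} (h : S1 n w u c y δ ε β) :
    ∀ k : ℕ, S1 n w u c (y ^ k) (k * δ) (k * ε) (k * β)
  | 0 => ⟨by simp, ⟨0, by simp⟩, 0, 0, by simp⟩
  | k + 1 => by
    rw [pow_succ, Nat.succ_mul, Nat.succ_mul, Nat.succ_mul]
    exact S1.mul D (S1.pow h k) h

theorem S2.mul {y y' : Q} {β γ η β' γ' η' : ℕ} (h : S2 n w u c y β γ η) (h' : S2 n w u c y' β' γ' η') :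
    S2 n w u c (y * y') (β + β') (γ + γ') (η + η') := by
  obtain ⟨hc, hn, hw⟩ := h
  have h1 : S1 n w u c y 0 0 β := ⟨by simpa using hc, ⟨0, by simpa using hn⟩, γ, η, hw⟩
  refine ⟨by rw [conj_mul', h'.1, hc], by rw [conj_mul', h'.2.1, hn], ?_⟩
  rw [conj_mul', h'.2.2, show y * (w * n ^ β' * (c ^ γ' * u ^ η')) * y⁻¹ =
      (y * w * y⁻¹) * (y * n ^ β' * y⁻¹) * (y * (c ^ γ' * u ^ η') * y⁻¹) by group, ← conj_pow, hw, hn,
    D.conj_cu h1, zero_mul, zero_add, mul_assoc (w * n ^ β), ((D.cen γ η).1.pow_right β').eq,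
    ← mul_assoc (w * n ^ β), mul_assoc w, ← pow_add, mul_assoc, D.cu_mul]

theorem S2.pow {y : Q} {β γ η : ℕ} (h : S2 n w u c y β γ η) :
    ∀ k : ℕ, S2 n w u c (y ^ k) (k * β) (k * γ) (k * η)
  | 0 => ⟨by simp, by simp, by simp⟩
  | k + 1 => by
    rw [pow_succ, Nat.succ_mul, Nat.succ_mul, Nat.succ_mul]
    exact S2.mul D (S2.pow h k) h

/-- Recovering the conjugate of `w` from that of `τ w`. -/
theorem conj_tau_w (y : Q) :
    τ y * w * (τ y)⁻¹ = τ (y * w * y⁻¹) ^ (l : ZMod p).val := by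
  rw [map_mul, map_mul, map_inv, conj_pow, D.tw, ← pow_mul,
    show w ^ (((l⁻¹ : (ZMod p)ˣ) : ZMod p).val * (l : ZMod p).val) = w ^ 1 from
      pow_eq_pow_zmod D.wp (by rw [Nat.cast_mul, cast_val D, cast_val D, l.inv_mul, Nat.cast_one]), pow_one]

theorem conj_tau_n (y : Q) :
    τ y * n * (τ y)⁻¹ = τ (y * n * y⁻¹) ^ (((l⁻¹ : (ZMod p)ˣ) : ZMod p).val * ((l⁻¹ : (ZMod p)ˣ) : ZMod p).val) := by
  rw [map_mul, map_mul, map_inv, conj_pow, D.tn, ← pow_mul]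
  conv_lhs => rw [← pow_one n]
  congr 2
  refine pow_eq_pow_zmod D.np ?_
  rw [Nat.cast_one, Nat.cast_mul, Nat.cast_mul, Nat.cast_mul, cast_val D, cast_val D]
  linear_combination (-(1 + (l : ZMod p) * ((l⁻¹ : (ZMod p)ˣ) : ZMod p))) * l.mul_inv

/-- The image of `w * n ^ β * (c ^ γ * u ^ η)` raised to the power undoing the torus. -/
theorem tau_w_pow (β : ℕ) : ∃ X : ℕ, ∀ γ η : ℕ,
    τ (w * n ^ β * (c ^ γ * u ^ η)) ^ (l : ZMod p).val =
      w * n ^ ((l : ZMod p).val * (l : ZMod p).val * β * (l : ZMod p).val) *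
        (c ^ (γ * (l : ZMod p).val) * u ^ (X + (l : ZMod p).val * η * (l : ZMod p).val)) := by
  set L := (l : ZMod p).val
  set m := ((l⁻¹ : (ZMod p)ˣ) : ZMod p).val
  obtain ⟨X, hX⟩ := D.wn_pow m (L * L * β) L
  refine ⟨X, fun γ η => ?_⟩
  obtain ⟨hMn, hMw, -, -⟩ := D.cen γ (L * η)
  rw [map_mul, map_mul, map_pow, D.tw, D.tn, D.tcu, ← pow_mul,
    ((hMw.pow_right m).mul_right (hMn.pow_right _)).symm.mul_pow, hX, D.cu_pow,
    show w ^ (m * L) = w ^ 1 from pow_eq_pow_zmod D.wp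
      (by rw [Nat.cast_mul, cast_val D, cast_val D, l.inv_mul, Nat.cast_one]), pow_one,
    mul_assoc (w * n ^ _) (u ^ X), ← mul_assoc (u ^ X), (D.uc.pow_pow X _).eq, mul_assoc (c ^ _), ← pow_add]

theorem S1.tau {y : Q} {δ ε β : ℕ} (h : S1 n w u c y δ ε β) :
    S1 n w u c (τ y) ((l : ZMod p).val * δ)
      (ε * (((l⁻¹ : (ZMod p)ˣ) : ZMod p).val * ((l⁻¹ : (ZMod p)ˣ) : ZMod p).val))
      ((l : ZMod p).val * (l : ZMod p).val * β * (l : ZMod p).val) := by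
  obtain ⟨hc, ⟨θ, hn⟩, γ, η, hw⟩ := h
  set m2 := ((l⁻¹ : (ZMod p)ˣ) : ZMod p).val * ((l⁻¹ : (ZMod p)ˣ) : ZMod p).val
  refine ⟨?_, ⟨(l : ZMod p).val * θ * m2, ?_⟩, ?_⟩
  · have := congrArg τ hc
    rw [map_mul, map_mul, map_inv, D.tc, map_mul, D.tc, map_pow, D.tu, ← pow_mul] at this
    exact this
  · rw [conj_tau_n D, hn, map_mul, D.tn, D.tcu, (((D.cen ε _).1).pow_right _).symm.mul_pow, D.cu_pow, ← pow_mul]
    congr 1
    conv_rhs => rw [← pow_one n]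
    refine pow_eq_pow_zmod D.np ?_
    rw [Nat.cast_one, Nat.cast_mul, Nat.cast_mul, Nat.cast_mul, cast_val D, cast_val D]
    linear_combination ((1 + (l : ZMod p) * ((l⁻¹ : (ZMod p)ˣ) : ZMod p))) * l.mul_inv
  · obtain ⟨X, hX⟩ := D.tau_w_pow β
    exact ⟨_, _, by rw [conj_tau_w D, hw, hX]⟩

theorem l_pow_ne' {k : ℕ} (hk : 0 < k) (hk' : k ≠ p - 1) (hsmall : k < 2 * (p - 1)) :
    (l : ZMod p) ^ k ≠ 1 := fun h => by
  have h1 : orderOf l ∣ k := orderOf_dvd_of_pow_eq_one (Units.ext (by simpa using h))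
  rw [D.lord] at h1
  obtain ⟨e, rfl⟩ := h1
  rcases e with _ | _ | e
  · omega
  · omega
  · have : (p - 1) * 2 ≤ (p - 1) * (e + 1 + 1) := Nat.mul_le_mul_left _ (by omega)
    omega

/-- Some element outside of order `p` centralises `n`, `u` and `c`. -/
theorem exists_commuting (h5 : 5 ≤ p) :
    ∃ y, y ∉ Nb ∧ y ^ p = 1 ∧ Commute y n ∧ Commute y u ∧ Commute y c := by
  set L := (l : ZMod p).val with hL
  set m := ((l⁻¹ : (ZMod p)ˣ) : ZMod p).val with hm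
  have hLc : ((L : ℕ) : ZMod p) = (l : ZMod p) := cast_val D l
  have hmc : ((m : ℕ) : ZMod p) = ((l⁻¹ : (ZMod p)ˣ) : ZMod p) := cast_val D l⁻¹
  have hl0 : (l : ZMod p) ≠ 0 := l.ne_zero
  have hm0 : ((l⁻¹ : (ZMod p)ˣ) : ZMod p) * (l : ZMod p) = 1 := l.inv_mul
  have hpc : ((p - 1 : ℕ) : ZMod p) = -1 := by
    rw [Nat.cast_sub hp.out.one_lt.le, ZMod.natCast_self, Nat.cast_one, zero_sub]
  have hp6 : p ≠ 6 := fun h => by have := hp.out; rw [h] at this; exact absurd this (by decide)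
  have hl2 := D.l_pow_ne' (k := 2) two_pos (by omega) (by omega)
  have hl5 := D.l_pow_ne' (k := 5) (by omega) (by omega) (by omega)
  have hl1 := D.l_pow_ne' (k := 1) one_pos (by omega) (by omega)
  have hl3 := D.l_pow_ne' (k := 3) (by omega) (by omega) (by omega)
  rw [pow_one] at hl1
  have hone : ∀ {x : Q}, x ^ p = 1 → ∀ {a : ℕ}, (a : ZMod p) = 0 → x ^ a = 1 := fun {x} hx {a} ha =>
    (pow_eq_pow_zmod hx (by rw [ha, Nat.cast_zero])).trans (pow_zero x)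
  obtain ⟨y0, hy0⟩ := D.out
  obtain ⟨δ, hδ⟩ := D.conjc y0
  obtain ⟨ε, θ0, hε⟩ := D.conjn y0
  obtain ⟨β, γ0, η0, hβ⟩ := D.conjw y0
  have hβ0 : (β : ZMod p) ≠ 0 := fun h => hy0 (D.inN y0 ⟨γ0, η0, by rw [hβ, hone D.np h, mul_one]⟩)
  have s0 : S1 n w u c y0 δ ε β := ⟨hδ, ⟨θ0, hε⟩, γ0, η0, hβ⟩
  -- remove `δ`, then `ε`
  have s1 := S1.mul D (S1.tau D s0) (S1.pow D s0 ((p - 1) * L))
  rw [← hL, ← hm] at s1
  set y1 := τ y0 * y0 ^ ((p - 1) * L)
  set δ1 := L * δ + (p - 1) * L * δ with hδ1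
  set ε1 := ε * (m * m) + (p - 1) * L * ε with hε1
  set β1 := L * L * β * L + (p - 1) * L * β with hβ1
  have hδ1' : (δ1 : ZMod p) = 0 := by rw [hδ1]; push_cast; rw [hpc]; ring
  have hβ1' : (β1 : ZMod p) = ((l : ZMod p) ^ 3 - l) * β := by rw [hβ1]; push_cast; rw [hpc, hLc]; ring
  have s2 := S1.mul D (S1.tau D s1) (S1.pow D s1 ((p - 1) * (m * m)))
  rw [← hL, ← hm] at s2
  set y2 := τ y1 * y1 ^ ((p - 1) * (m * m))
  set β2 := L * L * β1 * L + (p - 1) * (m * m) * β1 with hβ2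
  obtain ⟨hc2, ⟨θ, hn2⟩, γ2, η2, hw2⟩ := s2
  have hδ2 : ((L * δ1 + (p - 1) * (m * m) * δ1 : ℕ) : ZMod p) = 0 := by push_cast; rw [hδ1']; ring
  have hε2 : ((ε1 * (m * m) + (p - 1) * (m * m) * ε1 : ℕ) : ZMod p) = 0 := by push_cast; rw [hpc]; ring
  rw [hone D.up hδ2, mul_one] at hc2
  rw [hone D.cp hε2, one_mul] at hn2
  have hβ2' : (β2 : ZMod p) ≠ 0 := by
    rw [hβ2]; push_cast; rw [hpc, hLc, hmc, hβ1']
    rw [show (l : ZMod p) * l * (((l : ZMod p) ^ 3 - l) * β) * l + -1 * (((l⁻¹ : (ZMod p)ˣ) : ZMod p) *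
        ((l⁻¹ : (ZMod p)ˣ) : ZMod p)) * (((l : ZMod p) ^ 3 - l) * β) =
      ((l : ZMod p) ^ 3 - ((l⁻¹ : (ZMod p)ˣ) : ZMod p) ^ 2) * (((l : ZMod p) * ((l : ZMod p) ^ 2 - 1)) * β) by ring]
    refine mul_ne_zero (fun h => hl5 ?_) (mul_ne_zero (mul_ne_zero hl0 (sub_ne_zero.2 hl2)) hβ0)
    linear_combination ((l : ZMod p) ^ 2) * h + (1 + ((l⁻¹ : (ZMod p)ˣ) : ZMod p) * (l : ZMod p)) * hm0
  -- fix `n`
  set y3 := w ^ θ * y2
  have s3 : ∃ γ η, S2 n w u c y3 β2 γ η := by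
    have hwθ : w ^ θ * n * (w ^ θ)⁻¹ = (u ^ θ)⁻¹ * n := by
      have := D.nw_pow 1 θ
      rw [pow_one, one_mul] at this
      calc w ^ θ * n * (w ^ θ)⁻¹ = (u ^ θ)⁻¹ * (u ^ θ * (w ^ θ * n)) * (w ^ θ)⁻¹ := by group
        _ = _ := by rw [← this]; group
    obtain ⟨-, hMw, -, -⟩ := D.cen γ2 η2
    refine ⟨γ2, (p - 1) * (θ * β2) + η2, ?_, ?_, ?_⟩
    · rw [conj_mul', hc2, ← (D.cw.pow_right θ).eq, mul_inv_cancel_right]
    · rw [conj_mul', hn2, show w ^ θ * (n * u ^ θ) * (w ^ θ)⁻¹ =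
        (w ^ θ * n * (w ^ θ)⁻¹) * (w ^ θ * u ^ θ * (w ^ θ)⁻¹) by group, hwθ, ← (D.uw.pow_pow θ θ).eq,
        mul_inv_cancel_right, ← (D.un.pow_left θ).inv_left.eq.symm.trans rfl, mul_assoc, inv_mul_cancel, mul_one]
    · rw [conj_mul', hw2, show w ^ θ * (w * n ^ β2 * (c ^ γ2 * u ^ η2)) * (w ^ θ)⁻¹ =
        w * (w ^ θ * n * (w ^ θ)⁻¹) ^ β2 * (w ^ θ * (c ^ γ2 * u ^ η2) * (w ^ θ)⁻¹) by
          rw [conj_pow]; group, hwθ, ← (hMw.pow_right θ).eq, mul_inv_cancel_right,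
        (D.un.pow_left θ).inv_left.mul_pow,
        show (u ^ θ)⁻¹ ^ β2 = u ^ ((p - 1) * (θ * β2)) by
          rw [inv_pow, ← pow_mul]
          refine inv_eq_of_mul_eq_one_right ?_
          rw [← pow_add]
          exact hone D.up (by push_cast; rw [hpc]; ring),
        (D.un.pow_pow ((p - 1) * (θ * β2)) β2).eq,
        show w * (n ^ β2 * u ^ ((p - 1) * (θ * β2))) * (c ^ γ2 * u ^ η2) =
          w * n ^ β2 * ((u ^ ((p - 1) * (θ * β2)) * c ^ γ2) * u ^ η2) by group,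
        (D.uc.pow_pow _ γ2).eq, mul_assoc (c ^ γ2), ← pow_add]
  obtain ⟨γ3, η3, s3⟩ := s3
  -- kill `γ`
  have s2tau : ∀ {y : Q} {β γ η : ℕ}, S2 n w u c y β γ η → ∀ X : ℕ, (∀ γ η : ℕ,
      τ (w * n ^ β * (c ^ γ * u ^ η)) ^ L = w * n ^ (L * L * β * L) * (c ^ (γ * L) * u ^ (X + L * η * L))) →
      S2 n w u c (τ y) (L * L * β * L) (γ * L) (X + L * η * L) := by
    intro y β γ η h X hX
    obtain ⟨hc, hn, hw⟩ := h
    refine ⟨?_, ?_, ?_⟩
    · have := congrArg τ hc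
      rwa [map_mul, map_mul, map_inv, D.tc] at this
    · rw [conj_tau_n D, hn, D.tn, ← pow_mul]
      conv_rhs => rw [← pow_one n]
      refine pow_eq_pow_zmod D.np ?_
      rw [Nat.cast_one, Nat.cast_mul, Nat.cast_mul, Nat.cast_mul, cast_val D, cast_val D]
      linear_combination ((1 + (l : ZMod p) * ((l⁻¹ : (ZMod p)ˣ) : ZMod p))) * l.mul_inv
    · rw [conj_tau_w D, hw, hX]
  obtain ⟨X3, hX3⟩ := D.tau_w_pow β2
  have s4 := S2.mul D (s2tau s3 X3 hX3) (S2.pow D s3 ((p - 1) * L))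
  set y4 := τ y3 * y3 ^ ((p - 1) * L)
  set β4 := L * L * β2 * L + (p - 1) * L * β2 with hβ4
  set η4 := X3 + L * η3 * L + (p - 1) * L * η3
  obtain ⟨hc4, hn4, hw4⟩ := s4
  have hγ4 : ((γ3 * L + (p - 1) * L * γ3 : ℕ) : ZMod p) = 0 := by push_cast; rw [hpc]; ring
  rw [hone D.cp hγ4, one_mul] at hw4
  have hβ4' : (β4 : ZMod p) ≠ 0 := by
    rw [hβ4]; push_cast; rw [hpc, hLc]
    rw [show (l : ZMod p) * l * β2 * l + -1 * l * β2 = (l : ZMod p) * ((l : ZMod p) ^ 2 - 1) * β2 by ring]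
    exact mul_ne_zero (mul_ne_zero hl0 (sub_ne_zero.2 hl2)) hβ2'
  -- adjust `η`
  obtain ⟨X, hX⟩ := D.tau_w_pow β4
  have hd : (l : ZMod p) ^ 3 - (l : ZMod p) ^ 2 ≠ 0 := by
    rw [show (l : ZMod p) ^ 3 - (l : ZMod p) ^ 2 = (l : ZMod p) ^ 2 * ((l : ZMod p) - 1) by ring]
    exact mul_ne_zero (pow_ne_zero 2 hl0) (sub_ne_zero.2 hl1)
  set η5 : ZMod p := (X : ZMod p) / ((l : ZMod p) ^ 3 - (l : ZMod p) ^ 2)
  set i := (η5 - (η4 : ZMod p)).val
  set y5 := y4 * n ^ i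
  have s5 : S2 n w u c y5 β4 0 (η4 + i) := by
    refine ⟨?_, ?_, ?_⟩
    · rw [conj_mul', ← (D.cn.pow_right i).eq, mul_inv_cancel_right, hc4]
    · rw [conj_mul', ← (Commute.self_pow n i).eq, mul_inv_cancel_right, hn4]
    · have h1 : n ^ i * w * (n ^ i)⁻¹ = u ^ i * w := by
        have := D.nw_pow i 1
        rw [pow_one, mul_one] at this
        rw [this]; group
      have h2 : y4 * u * y4⁻¹ = u := D.fix_u (δ := 0) (ε := 0) (β := β4)
        ⟨by simpa using hc4, ⟨0, by simpa using hn4⟩, 0, η4, by simpa using hw4⟩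
      rw [conj_mul', h1, show y4 * (u ^ i * w) * y4⁻¹ = (y4 * u ^ i * y4⁻¹) * (y4 * w * y4⁻¹) by group,
        ← conj_pow, h2, hw4, pow_zero, one_mul, ← mul_assoc,
        ((D.uw.pow_left i).mul_right (D.un.pow_pow i β4)).eq, mul_assoc, ← pow_add, add_comm]
  have hη : ((η4 + i : ℕ) : ZMod p) = η5 := by
    push_cast
    rw [ZMod.natCast_zmod_val]
    ring
  set k3 := L * L * L with hk3
  have hk3c : (k3 : ZMod p) = (l : ZMod p) ^ 3 := by rw [hk3]; push_cast; rw [hLc]; ring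
  obtain ⟨tc5, tn5, tw5⟩ := s2tau s5 X hX
  obtain ⟨pc5, pn5, pw5⟩ := S2.pow D s5 k3
  set r := (y5 ^ k3)⁻¹ * τ y5 with hr
  have hrconj : ∀ g, τ y5 * g * (τ y5)⁻¹ = y5 ^ k3 * g * (y5 ^ k3)⁻¹ → r * g * r⁻¹ = g := fun g hg => by
    rw [hr, show (y5 ^ k3)⁻¹ * τ y5 * g * ((y5 ^ k3)⁻¹ * τ y5)⁻¹ =
      (y5 ^ k3)⁻¹ * (τ y5 * g * (τ y5)⁻¹) * y5 ^ k3 by group, hg]
    group
  obtain ⟨ra, rb, hrab⟩ := D.eq_cu (hrconj n (by rw [tn5, pn5]))
    (hrconj w (by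
      rw [tw5, pw5, pow_eq_pow_zmod D.np (show ((L * L * β4 * L : ℕ) : ZMod p) = (k3 * β4 : ℕ) by
          push_cast; rw [hk3c, hLc]; ring),
        pow_eq_pow_zmod D.up (show ((X + L * (η4 + i) * L : ℕ) : ZMod p) = (k3 * (η4 + i) : ℕ) by
          rw [Nat.cast_add, Nat.cast_mul, Nat.cast_mul, Nat.cast_mul, hη, hk3c, hLc]
          have he : η5 * ((l : ZMod p) ^ 3 - (l : ZMod p) ^ 2) = X := div_mul_cancel₀ _ hd
          linear_combination -he),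
        zero_mul, mul_zero]))
  have hyc : ∀ g, y5 * g * y5⁻¹ = g → Commute y5 g := fun g hg => mul_inv_eq_iff_eq_mul.1 hg
  have hyu : Commute y5 u := hyc u (D.fix_u (δ := 0) (ε := 0) (β := β4)
    ⟨by simpa using s5.1, ⟨0, by simpa using s5.2.1⟩, 0, η4 + i, s5.2.2⟩)
  have hyccomm : Commute y5 c := hyc c s5.1
  obtain ⟨-, pn, pw⟩ := S2.pow D s5 p
  rw [hone D.np (show ((p * β4 : ℕ) : ZMod p) = 0 by simp), mul_zero,
    hone D.up (show ((p * (η4 + i) : ℕ) : ZMod p) = 0 by simp), mul_one, pow_zero, one_mul, mul_one] at pw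
  obtain ⟨a, b, hab⟩ := D.eq_cu pn pw
  have key : τ (y5 ^ p) = (y5 ^ p) ^ k3 := by
    have hy : Commute (y5 ^ k3) r := by
      rw [hrab]; exact ((hyccomm.pow_right ra).mul_right (hyu.pow_right rb)).pow_left k3
    rw [map_pow, show τ y5 = y5 ^ k3 * r by rw [hr, mul_inv_cancel_left], hy.mul_pow, hrab, D.cu_pow,
      hone D.cp (show ((ra * p : ℕ) : ZMod p) = 0 by simp),
      hone D.up (show ((rb * p : ℕ) : ZMod p) = 0 by simp), mul_one, mul_one, ← pow_mul, ← pow_mul, mul_comm]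
  rw [hab, D.tcu, D.cu_pow] at key
  have h0 : c ^ (a + a * k3 * (p - 1)) * u ^ (L * b + b * k3 * (p - 1)) = 1 := by
    rw [← D.cu_mul, key, D.cu_mul]
    have e : ∀ x : ℕ, ((x + x * (p - 1) : ℕ) : ZMod p) = 0 := fun x => by push_cast; rw [hpc]; ring
    rw [hone D.cp (e _), hone D.up (e _), one_mul]
  obtain ⟨-, -, hb, ha⟩ := D.indep 0 0 (L * b + b * k3 * (p - 1)) (a + a * k3 * (p - 1)) (by
    rw [pow_zero, pow_zero, one_mul, one_mul, (D.uc.pow_pow _ _).eq]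
    exact h0)
  have ha0 : (a : ZMod p) = 0 := by
    have := (ZMod.natCast_eq_zero_iff _ p).2 ha
    push_cast at this
    rw [hpc, hk3c] at this
    refine (mul_eq_zero.1 (show ((l : ZMod p) ^ 3 - 1) * a = 0 by linear_combination -this)).resolve_left
      (sub_ne_zero.2 hl3)
  have hb0 : (b : ZMod p) = 0 := by
    have := (ZMod.natCast_eq_zero_iff _ p).2 hb
    push_cast at this
    rw [hpc, hk3c, hLc] at this
    refine (mul_eq_zero.1 (show ((l : ZMod p) * ((l : ZMod p) ^ 2 - 1)) * b = 0 by linear_combination -this)).resolve_left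
      (mul_ne_zero hl0 (sub_ne_zero.2 hl2))
  refine ⟨y5, fun hN => ?_, by rw [hab, hone D.cp ha0, hone D.up hb0, one_mul], hyc n s5.2.1, hyu, hyccomm⟩
  obtain ⟨i', j', k', m', hform⟩ := D.form y5 hN
  refine hβ4' ?_
  have hM : Commute (u ^ k' * c ^ m') w := (D.uw.pow_left k').mul_left (D.cw.pow_left m')
  have hconj : y5 * w * y5⁻¹ = u ^ i' * w := by
    rw [hform, show n ^ i' * w ^ j' * u ^ k' * c ^ m' * w * (n ^ i' * w ^ j' * u ^ k' * c ^ m')⁻¹ =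
      n ^ i' * w ^ j' * ((u ^ k' * c ^ m') * w * (u ^ k' * c ^ m')⁻¹) * (w ^ j')⁻¹ * (n ^ i')⁻¹ by group,
      hM.eq, mul_inv_cancel_right, mul_assoc (n ^ i') (w ^ j') w, ← (Commute.self_pow w j').eq,
      ← mul_assoc, mul_inv_cancel_right]
    have := D.nw_pow i' 1
    rw [pow_one, mul_one] at this
    rw [this]; group
  have h6 := s5.2.2
  rw [hconj, (D.uw.pow_left i').eq, mul_assoc] at h6
  have h7 : n ^ β4 * u ^ (η4 + i + i' * (p - 1)) = 1 := by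
    have h6' := mul_left_cancel h6
    rw [pow_zero, one_mul] at h6'
    rw [pow_add u, ← mul_assoc, ← h6', ← pow_add]
    exact hone D.up (by push_cast; rw [hpc]; ring)
  obtain ⟨hd', -⟩ := D.indep β4 0 (η4 + i + i' * (p - 1)) 0 (by
    rw [pow_zero, pow_zero, mul_one, mul_one]
    exact h7)
  exact (ZMod.natCast_eq_zero_iff _ p).2 hd'

end Twist

end Cfsg.Agent.H91.Rank3
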