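import Cfsg.Agent.Symplectic.Order
import Cfsg.Agent.H91.Rank3.Twist
import Mathlib.GroupTheory.Sylow

/-!
A group of order `p ^ 4` built from an elementary abelian maximal subgroup and a regular unipotent element of
order `p` is isomorphic to a Sylow `p`-subgroup of `Sp₄(p)`.
-/

set_option autoImplicit false
set_option linter.unusedSectionVars false

namespace Cfsg.Agent.H91.Rank3

open Matrix

/-- The relations: `z`, `d`, `e` commute and have order dividing `p`; `x` has order dividing `p` and moves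
`z` to `z * d`, `d` to `d * e` and fixes `e`. -/
structure Chain {G : Type*} [Group G] (p : ℕ) (z d e x : G) : Prop where
  zp : z ^ p = 1
  dp : d ^ p = 1
  ep : e ^ p = 1
  xp : x ^ p = 1
  zd : Commute z d
  ze : Commute z e
  de : Commute d e
  xz : x * z * x⁻¹ = z * d
  xd : x * d * x⁻¹ = d * e
  xe : x * e * x⁻¹ = e

namespace Chain

variable {G : Type*} [Group G] {p : ℕ} [hp : Fact p.Prime] {z d e x : G} (D : Chain p z d e x)

include D

theorem conj_z (i : ℕ) : x ^ i * z * (x ^ i)⁻¹ = z * d ^ i * e ^ i.choose 2 := by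
  induction i with
  | zero => simp
  | succ i ih =>
    rw [pow_succ', _root_.mul_inv_rev,
      show x * x ^ i * z * ((x ^ i)⁻¹ * x⁻¹) = x * (x ^ i * z * (x ^ i)⁻¹) * x⁻¹ by group, ih,
      show x * (z * d ^ i * e ^ i.choose 2) * x⁻¹ =
        (x * z * x⁻¹) * (x * d * x⁻¹) ^ i * (x * e * x⁻¹) ^ i.choose 2 by rw [conj_pow, conj_pow]; group,
      D.xz, D.xd, D.xe, D.de.mul_pow, Nat.choose_succ_succ, Nat.choose_one_right, pow_succ' d, pow_add e]
    simp only [mul_assoc]

theorem conj_d (i : ℕ) : x ^ i * d * (x ^ i)⁻¹ = d * e ^ i := by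
  induction i with
  | zero => simp
  | succ i ih =>
    rw [pow_succ', _root_.mul_inv_rev,
      show x * x ^ i * d * ((x ^ i)⁻¹ * x⁻¹) = x * (x ^ i * d * (x ^ i)⁻¹) * x⁻¹ by group, ih,
      show x * (d * e ^ i) * x⁻¹ = (x * d * x⁻¹) * (x * e * x⁻¹) ^ i by rw [conj_pow]; group,
      D.xd, D.xe, pow_succ', mul_assoc]

theorem conj_e (i : ℕ) : x ^ i * e * (x ^ i)⁻¹ = e := by
  have h : Commute x e := mul_inv_eq_iff_eq_mul.1 D.xe
  rw [(h.pow_left i).eq, mul_inv_cancel_right]

end Chain

variable {p : ℕ} [hp : Fact p.Prime]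

/-- Normal forms. -/
def chainMap {G : Type*} [Group G] (z d e x : G) (u : Fin 4 → ZMod p) : G :=
  z ^ (u 0).val * d ^ (u 1).val * e ^ (u 2).val * x ^ (u 3).val

/-- The multiplication of normal forms. -/
def chainMul (u v : Fin 4 → ZMod p) : Fin 4 → ZMod p :=
  ![u 0 + v 0, u 1 + v 1 + u 3 * v 0, u 2 + v 2 + ((u 3).val.choose 2 : ℕ) * v 0 + u 3 * v 1, u 3 + v 3]

theorem Chain.map_mul {G : Type*} [Group G] [Finite G] {z d e x : G} (D : Chain p z d e x)
    (u v : Fin 4 → ZMod p) :
    chainMap z d e x u * chainMap z d e x v = chainMap z d e x (chainMul u v) := by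
  simp only [chainMap]
  set i := (u 3).val
  have hconj : x ^ i * (z ^ (v 0).val * d ^ (v 1).val * e ^ (v 2).val) * (x ^ i)⁻¹ =
      (z * d ^ i * e ^ i.choose 2) ^ (v 0).val * (d * e ^ i) ^ (v 1).val * e ^ (v 2).val := by
    have he : e ^ (v 2).val = x ^ i * e ^ (v 2).val * (x ^ i)⁻¹ := by rw [← conj_pow, D.conj_e]
    rw [← D.conj_z, ← D.conj_d, conj_pow, conj_pow]
    conv_rhs => rw [he]
    group
  have hze := D.ze
  have hzd := D.zd
  have hde := D.de
  calc z ^ (u 0).val * d ^ (u 1).val * e ^ (u 2).val * x ^ i *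
        (z ^ (v 0).val * d ^ (v 1).val * e ^ (v 2).val * x ^ (v 3).val)
      = z ^ (u 0).val * d ^ (u 1).val * e ^ (u 2).val *
          (x ^ i * (z ^ (v 0).val * d ^ (v 1).val * e ^ (v 2).val) * (x ^ i)⁻¹) * (x ^ i * x ^ (v 3).val) := by
        group
    _ = z ^ ((u 0).val + (v 0).val) * d ^ ((u 1).val + (v 1).val + i * (v 0).val) *
          e ^ ((u 2).val + (v 2).val + i.choose 2 * (v 0).val + i * (v 1).val) * x ^ (i + (v 3).val) := by
        rw [hconj, ((hze.pow_right _).mul_left (hde.pow_left i |>.pow_right _)).mul_pow,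
          (hzd.pow_right i).mul_pow, (hde.pow_right i).mul_pow, ← pow_mul, ← pow_mul, ← pow_mul, ← pow_add x]
        congr 1
        simp only [mul_assoc]
        have c1 : ∀ a b : ℕ, Commute (d ^ a) (z ^ b) := fun a b => (hzd.symm.pow_left a).pow_right b
        have c2 : ∀ a b : ℕ, Commute (e ^ a) (z ^ b) := fun a b => (hze.symm.pow_left a).pow_right b
        have c3 : ∀ a b : ℕ, Commute (e ^ a) (d ^ b) := fun a b => (hde.symm.pow_left a).pow_right b
        simp only [(c2 _ _).left_comm, (c1 _ _).left_comm, (c3 _ _).left_comm, (c3 _ _).eq, ← mul_assoc,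
          ← pow_add]
        ring_nf
        rw [mul_assoc _ (e ^ _) (e ^ _), ← pow_add]
        ring_nf
    _ = _ := by
        congr 1
        · congr 1
          · congr 1
            · exact pow_eq_pow_zmod D.zp (by simp [chainMul])
            · exact pow_eq_pow_zmod D.dp (by simp [chainMul, i])
          · exact pow_eq_pow_zmod D.ep (by simp [chainMul, i])
        · exact pow_eq_pow_zmod D.xp (by simp [chainMul, i])

/-- A Siegel element of `Sp₄`. -/
def siegel (a b c : ZMod p) : Matrix (Fin 2 ⊕ Fin 2) (Fin 2 ⊕ Fin 2) (ZMod p) :=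
  fromBlocks 1 !![a, b; b, c] 0 1

/-- A unipotent element of the Levi subgroup. -/
def levi (i : ZMod p) : Matrix (Fin 2 ⊕ Fin 2) (Fin 2 ⊕ Fin 2) (ZMod p) :=
  fromBlocks !![1, i; 0, 1] 0 0 !![1, 0; -i, 1]

theorem siegel_mem (a b c : ZMod p) : siegel a b c ∈ Matrix.symplecticGroup (Fin 2) (ZMod p) := by
  rw [siegel, SymplecticGroup.fromBlocks_mem_iff]
  refine ⟨by simp, ?_, by simp⟩
  ext i j; fin_cases i <;> fin_cases j <;> simp [Matrix.transpose_apply]

theorem levi_mem (i : ZMod p) : levi i ∈ Matrix.symplecticGroup (Fin 2) (ZMod p) := by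
  rw [levi, SymplecticGroup.fromBlocks_mem_iff]
  refine ⟨by simp, by simp, ?_⟩
  ext k j; fin_cases k <;> fin_cases j <;> simp [Matrix.mul_apply, Fin.sum_univ_two]

theorem siegel_mul (a b c a' b' c' : ZMod p) :
    siegel a b c * siegel a' b' c' = siegel (a + a') (b + b') (c + c') := by
  simp only [siegel, fromBlocks_multiply, mul_zero, zero_mul, one_mul, mul_one, add_zero, zero_add]
  congr 1
  ext i j; fin_cases i <;> fin_cases j <;> simp [add_comm]

theorem levi_mul (i j : ZMod p) : levi i * levi j = levi (i + j) := by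
  simp only [levi, fromBlocks_multiply, mul_zero, zero_mul, add_zero, zero_add]
  congr 1 <;> (ext a b; fin_cases a <;> fin_cases b <;> simp [Matrix.mul_apply, Fin.sum_univ_two, add_comm])

theorem levi_siegel (i a b c : ZMod p) :
    levi i * siegel a b c = siegel (a + 2 * i * b + i * i * c) (b + i * c) c * levi i := by
  simp only [levi, siegel, fromBlocks_multiply, mul_zero, zero_mul, one_mul, mul_one, add_zero, zero_add]
  congr 1
  ext j k; fin_cases j <;> fin_cases k <;> simp [Matrix.mul_apply, Fin.sum_univ_two] <;> ring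

/-- The Siegel elements, in the symplectic group. -/
def siegelS (a b c : ZMod p) : Matrix.symplecticGroup (Fin 2) (ZMod p) := ⟨siegel a b c, siegel_mem a b c⟩

/-- The Levi elements, in the symplectic group. -/
def leviS (i : ZMod p) : Matrix.symplecticGroup (Fin 2) (ZMod p) := ⟨levi i, levi_mem i⟩

theorem siegelS_mul (a b c a' b' c' : ZMod p) :
    siegelS a b c * siegelS a' b' c' = siegelS (a + a') (b + b') (c + c') :=
  Subtype.ext (siegel_mul a b c a' b' c')

theorem leviS_mul (i j : ZMod p) : leviS i * leviS j = leviS (i + j) := Subtype.ext (levi_mul i j)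

theorem leviS_siegelS (i a b c : ZMod p) :
    leviS i * siegelS a b c = siegelS (a + 2 * i * b + i * i * c) (b + i * c) c * leviS i :=
  Subtype.ext (levi_siegel i a b c)

theorem siegelS_zero : siegelS (p := p) 0 0 0 = 1 := by
  refine Subtype.ext ?_
  show siegel (p := p) 0 0 0 = 1
  rw [siegel, ← fromBlocks_one]
  congr 1
  ext i j; fin_cases i <;> fin_cases j <;> simp

theorem leviS_zero : leviS (p := p) 0 = 1 := by
  refine Subtype.ext ?_
  show levi (p := p) 0 = 1
  rw [levi, ← fromBlocks_one]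
  congr 1 <;> (ext i j; fin_cases i <;> fin_cases j <;> simp)

theorem siegelS_pow (a b c : ZMod p) (k : ℕ) : siegelS a b c ^ k = siegelS ((k : ZMod p) * a) ((k : ZMod p) * b) ((k : ZMod p) * c) := by
  induction k with
  | zero => simp [siegelS_zero]
  | succ k ih => rw [pow_succ, ih, siegelS_mul]; push_cast; ring_nf

theorem leviS_pow (i : ZMod p) (k : ℕ) : leviS i ^ k = leviS ((k : ZMod p) * i) := by
  induction k with
  | zero => simp [leviS_zero]
  | succ k ih => rw [pow_succ, ih, leviS_mul]; push_cast; ring_nf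

theorem sp_chain : Chain p (siegelS (p := p) 0 0 1) (siegelS 1 1 0) (siegelS 2 0 0) (leviS 1) := by
  have hs : ∀ a b c : ZMod p, siegelS a b c ^ p = 1 := fun a b c => by
    rw [siegelS_pow, ZMod.natCast_self, zero_mul, zero_mul, zero_mul, siegelS_zero]
  have hc : ∀ a b c a' b' c' : ZMod p, Commute (siegelS a b c) (siegelS a' b' c') := fun a b c a' b' c' => by
    show _ * _ = _ * _
    rw [siegelS_mul, siegelS_mul, add_comm a, add_comm b, add_comm c]
  refine ⟨hs _ _ _, hs _ _ _, hs _ _ _, ?_, hc _ _ _ _ _ _, hc _ _ _ _ _ _, hc _ _ _ _ _ _, ?_, ?_, ?_⟩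
  · rw [leviS_pow, ZMod.natCast_self, zero_mul, leviS_zero]
  all_goals
    rw [mul_inv_eq_iff_eq_mul, leviS_siegelS]
    congr 1
    try rw [siegelS_mul]
    congr 1 <;> ring

theorem sp_map (u : Fin 4 → ZMod p) : chainMap (siegelS (p := p) 0 0 1) (siegelS 1 1 0) (siegelS 2 0 0) (leviS 1) u =
    siegelS (u 1 + 2 * u 2) (u 1) (u 0) * leviS (u 3) := by
  simp only [chainMap, siegelS_pow, leviS_pow, siegelS_mul, ZMod.natCast_zmod_val, mul_zero, mul_one, add_zero,
    zero_add, mul_comm (u 2) 2]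

theorem sp_injective (hp2 : p ≠ 2) :
    Function.Injective (chainMap (p := p) (siegelS (p := p) 0 0 1) (siegelS 1 1 0) (siegelS 2 0 0) (leviS 1)) := by
  intro u v h
  rw [sp_map, sp_map] at h
  have h1 := congrArg (fun g : Matrix.symplecticGroup (Fin 2) (ZMod p) =>
    (g : Matrix (Fin 2 ⊕ Fin 2) (Fin 2 ⊕ Fin 2) (ZMod p)) (Sum.inl 0) (Sum.inl 1)) h
  simp [siegelS, leviS, siegel, levi, fromBlocks_multiply] at h1
  rw [h1, mul_right_cancel_iff] at h
  have h2 := congrArg (fun g : Matrix.symplecticGroup (Fin 2) (ZMod p) =>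
    (g : Matrix (Fin 2 ⊕ Fin 2) (Fin 2 ⊕ Fin 2) (ZMod p)) (Sum.inl 0) (Sum.inr 0)) h
  have h3 := congrArg (fun g : Matrix.symplecticGroup (Fin 2) (ZMod p) =>
    (g : Matrix (Fin 2 ⊕ Fin 2) (Fin 2 ⊕ Fin 2) (ZMod p)) (Sum.inl 0) (Sum.inr 1)) h
  have h4 := congrArg (fun g : Matrix.symplecticGroup (Fin 2) (ZMod p) =>
    (g : Matrix (Fin 2 ⊕ Fin 2) (Fin 2 ⊕ Fin 2) (ZMod p)) (Sum.inl 1) (Sum.inr 1)) h
  simp [siegelS, siegel] at h2 h3 h4
  have h20 : (2 : ZMod p) ≠ 0 := by
    intro h0
    have : ((2 : ℕ) : ZMod p) = 0 := by simpa using h0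
    rw [ZMod.natCast_eq_zero_iff, Nat.prime_dvd_prime_iff_eq hp.out Nat.prime_two] at this
    exact hp2 this
  rw [h3, add_right_inj] at h2
  funext i
  fin_cases i
  exacts [h4, h3, mul_left_cancel₀ h20 h2, h1]

theorem card_sylow_sp : (Nat.card (Matrix.symplecticGroup (Fin 2) (ZMod p))).factorization p = 4 := by
  rw [Symplectic.card_sp, ZMod.card, Finset.prod_range_succ, Finset.prod_range_one]
  have hnd : ∀ k, 0 < k → ¬ p ∣ p ^ k - 1 := fun k hk hd => by
    have h1 : p ∣ p ^ k := dvd_pow_self p hk.ne'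
    have h2 : p ∣ p ^ k - (p ^ k - 1) := Nat.dvd_sub h1 hd
    rw [Nat.sub_sub_self (Nat.one_le_pow _ _ hp.out.pos)] at h2
    exact hp.out.not_dvd_one h2
  have hne : ∀ k, 0 < k → p ^ k - 1 ≠ 0 := fun k hk h => hnd k hk (h ▸ dvd_zero p)
  rw [Nat.factorization_mul (pow_ne_zero _ hp.out.ne_zero)
      (mul_ne_zero (hne _ (by omega)) (hne _ (by omega))),
    Nat.factorization_mul (hne _ (by omega)) (hne _ (by omega)), Finsupp.add_apply, Finsupp.add_apply,
    hp.out.factorization_pow, Finsupp.single_eq_same,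
    Nat.factorization_eq_zero_of_not_dvd (hnd _ (by omega)),
    Nat.factorization_eq_zero_of_not_dvd (hnd _ (by omega))]
  norm_num

/-- Recognition of the Sylow subgroup. -/
theorem exists_sylow_sp (hp2 : p ≠ 2) {M : Type*} [Group M] [Finite M] (hcard : Nat.card M = p ^ 4)
    {z d e x : M} (D : Chain p z d e x)
    (hgen : ∀ g : M, ∃ a b c i : ℕ, g = z ^ a * d ^ b * e ^ c * x ^ i) :
    ∃ P : Sylow p (Matrix.symplecticGroup (Fin 2) (ZMod p)),
      Nonempty (M ≃* ↥(P : Subgroup (Matrix.symplecticGroup (Fin 2) (ZMod p)))) := by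
  let f := chainMap (p := p) z d e x
  have hs : Function.Surjective f := fun g => by
    obtain ⟨a, b, c, i, rfl⟩ := hgen g
    refine ⟨![(a : ZMod p), b, c, i], ?_⟩
    show z ^ _ * d ^ _ * e ^ _ * x ^ _ = _
    congr 1
    · congr 1
      · congr 1
        · exact pow_eq_pow_zmod D.zp (by simp)
        · exact pow_eq_pow_zmod D.dp (by simp)
      · exact pow_eq_pow_zmod D.ep (by simp)
    · exact pow_eq_pow_zmod D.xp (by simp)
  have hb : Function.Bijective f := hs.bijective_of_nat_card_le (by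
    rw [Nat.card_pi, hcard, Finset.prod_const, Nat.card_zmod]; simp)
  let g := chainMap (p := p) (siegelS (p := p) 0 0 1) (siegelS 1 1 0) (siegelS 2 0 0) (leviS 1)
  let E := Equiv.ofBijective f hb
  let φ : M →* Matrix.symplecticGroup (Fin 2) (ZMod p) := MonoidHom.mk' (fun a => g (E.symm a)) fun a b => by
    obtain ⟨u, rfl⟩ := hs a
    obtain ⟨v, rfl⟩ := hs b
    have h : f u * f v = f (chainMul u v) := D.map_mul u v
    show g (E.symm (f u * f v)) = g (E.symm (f u)) * g (E.symm (f v))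
    rw [h, Equiv.ofBijective_symm_apply_apply, Equiv.ofBijective_symm_apply_apply,
      Equiv.ofBijective_symm_apply_apply]
    exact (sp_chain.map_mul u v).symm
  have hφ : Function.Injective φ := (sp_injective hp2).comp E.symm.injective
  refine ⟨Sylow.ofCard φ.range ?_, ⟨MonoidHom.ofInjective hφ⟩⟩
  rw [← Nat.card_congr (MonoidHom.ofInjective hφ).toEquiv, hcard, card_sylow_sp]

end Cfsg.Agent.H91.Rank3
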