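import Cfsg.Agent.H91.Rank3.Axis
import Cfsg.Agent.H91.Rank3.SpModel
import Cfsg.Agent.H91.Rank3.Kinds

/-!
A moved central element leaving another member: either the group is a Sylow subgroup of `Sp₄(p)` or some
subgroup is common.
-/

set_option autoImplicit false
set_option linter.unusedSectionVars false
set_option linter.style.haveILetI false

namespace Cfsg.Agent.H91.Rank3

open Subgroup
open scoped commutatorElement

section Tools

variable {M : Type*} [Group M] [Finite M] {p : ℕ} [hp : Fact p.Prime]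

/-- Product formula for `p`-th powers with central commutator of order `p`. -/
theorem mul_pow_prime (hp2 : p ≠ 2) {a b : M} (ha : Commute (b⁻¹ * a⁻¹ * b * a) a)
    (hb : Commute (b⁻¹ * a⁻¹ * b * a) b) (he : (b⁻¹ * a⁻¹ * b * a) ^ p = 1) :
    (a * b) ^ p = a ^ p * b ^ p := by
  obtain ⟨t, ht⟩ : p ∣ p.choose 2 :=
    hp.out.dvd_choose_self two_ne_zero (lt_of_le_of_ne hp.out.two_le (Ne.symm hp2))
  rw [PGroups.mul_pow_of_commute (e := b⁻¹ * a⁻¹ * b * a) (by group) ha hb, ht, pow_mul, he, one_pow, mul_one]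

/-- A nonabelian group of order at most `p ^ 3` has sectional rank at most two. -/
theorem sectional_two_of_small (hM : IsPGroup p M) (h : Nat.card M ≤ p ^ 3)
    (hne : ∃ a b : M, ¬ Commute a b) : Cfsg.SectionalPRankLE p 2 M := by
  intro H N hN A hA hexp
  have h1 : Nat.card (H ⧸ N) ≤ Nat.card H := Nat.card_le_card_of_surjective _ (QuotientGroup.mk'_surjective N)
  have h2 : Nat.card H ≤ Nat.card M := Subgroup.card_le_card_group H
  have h3 : Nat.card A ≤ Nat.card (H ⧸ N) := Subgroup.card_le_card_group A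
  obtain ⟨j, hj⟩ := IsPGroup.iff_card.1 (((hM.to_subgroup H).to_quotient N).to_subgroup A)
  by_contra hlt
  rw [hj] at hlt h3
  have hj3 : p ^ 3 ≤ p ^ j := by
    refine Nat.pow_le_pow_right hp.out.pos ?_
    by_contra hle
    exact hlt (Nat.pow_le_pow_right hp.out.pos (by omega))
  have eH : H = ⊤ := Subgroup.eq_top_of_card_eq H (le_antisymm h2 (h.trans (hj3.trans (h3.trans h1))))
  have eN : N = ⊥ := by
    have h4 := N.card_eq_card_quotient_mul_card_subgroup
    refine Subgroup.card_eq_one.1 ?_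
    have : Nat.card (H ⧸ N) = Nat.card H :=
      le_antisymm h1 (h2.trans (h.trans (hj3.trans h3)))
    rw [this] at h4
    exact (Nat.mul_eq_left Nat.card_pos.ne').1 h4.symm
  have eA : A = ⊤ := Subgroup.eq_top_of_card_eq A (le_antisymm (Subgroup.card_le_card_group A)
    (h1.trans (h2.trans (h.trans (hj ▸ hj3)))))
  obtain ⟨a, b, hab⟩ := hne
  refine hab ?_
  have hc := mul_comm' (⟨QuotientGroup.mk ⟨a, eH ▸ mem_top a⟩, eA ▸ mem_top _⟩ : A)
    ⟨QuotientGroup.mk ⟨b, eH ▸ mem_top b⟩, eA ▸ mem_top _⟩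
  have hc' := congrArg Subtype.val hc
  simp only [Subgroup.coe_mul, ← QuotientGroup.mk_mul] at hc'
  have := QuotientGroup.eq.1 hc'
  rw [eN, Subgroup.mem_bot, inv_mul_eq_one] at this
  exact congrArg Subtype.val this

/-- A subgroup with Frattini quotient of order at most `p` is cyclic. -/
theorem exists_eq_zpowers (hM : IsPGroup p M) {C : Subgroup M}
    (h : Nat.card C ≤ p * Nat.card (pser p C 1)) : ∃ c ∈ C, C = zpowers c := by
  by_cases hC : C = ⊥
  · exact ⟨1, one_mem _, by rw [hC, Subgroup.zpowers_one_eq_bot]⟩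
  have hlt : pser p C 1 < C := by
    refine lt_of_le_not_ge (pser_le C 1) fun hle => hC ?_
    have htop : frattini C = ⊤ := eq_top_iff.2 fun x _ => (mem_pser_one_iff hM x).1 (hle x.2)
    have := frattini_nongenerating (K := (⊥ : Subgroup C)) (by rw [htop]; simp)
    rw [← Subgroup.card_eq_one, ← Subgroup.card_top, ← this, Subgroup.card_bot]
  obtain ⟨x, hx, hxn⟩ := SetLike.exists_of_lt hlt
  refine ⟨x, hx, ?_⟩
  have hsup := eq_of_step le_rfl (pser_le C 1) hx hxn (le_antisymm h (mul_card_le hM hlt))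
  have : zpowers (⟨x, hx⟩ : C) ⊔ frattini C = ⊤ := eq_top_iff.2 fun y _ => by
    obtain ⟨u, hu, i, hy⟩ := exists_mul_zpow le_rfl (pser_le C 1) hx (hsup.ge y.2)
    have he : y = ⟨u, pser_le C 1 hu⟩ * (⟨x, hx⟩ : C) ^ i := Subtype.ext (by simpa using hy)
    rw [he]
    exact mul_mem (mem_sup_right ((mem_pser_one_iff hM _).1 hu)) (mem_sup_left (zpow_mem (mem_zpowers _) i))
  have htop := frattini_nongenerating this
  refine le_antisymm (fun y hy => ?_) (zpowers_le.2 hx)
  obtain ⟨i, hi⟩ := htop.ge (mem_top (⟨y, hy⟩ : C))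
  exact ⟨i, by simpa using congrArg Subtype.val hi⟩

/-- The order of a join with a normal subgroup. -/
theorem card_sup_le_mul (H N : Subgroup M) [N.Normal] :
    Nat.card (H ⊔ N : Subgroup M) ≤ Nat.card H * Nat.card N := by
  rw [← Nat.card_prod]
  refine Nat.card_le_card_of_surjective
    (fun q : H × N => (⟨q.1 * q.2, mul_mem (mem_sup_left q.1.2) (mem_sup_right q.2.2)⟩ : (H ⊔ N : Subgroup M)))
    fun y => ?_
  obtain ⟨a, ha, b, hb, hab⟩ := Subgroup.mem_sup_of_normal_right.1 y.2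
  exact ⟨(⟨a, ha⟩, ⟨b, hb⟩), Subtype.ext hab⟩

end Tools

/-- The shape of the pair in the symplectic case. -/
def SpPair (p : ℕ) [Fact p.Prime] {M : Type*} [Group M] (E1 E2 : Subgroup M) : Prop :=
  (∃ P : Sylow p (Matrix.symplecticGroup (Fin 2) (ZMod p)),
      Nonempty (M ≃* ↥(P : Subgroup (Matrix.symplecticGroup (Fin 2) (ZMod p))))) ∧
    ((∀ a ∈ E1, ∀ b ∈ E1, Commute a b) ∧ (∀ a ∈ E1, a ^ p = 1) ∧ Nat.card E1 = p ^ 3) ∧
    ((∃ a ∈ E2, ∃ b ∈ E2, ¬ Commute a b) ∧ (∀ a ∈ E2, a ^ p = 1) ∧ Nat.card E2 = p ^ 3)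

namespace Fam

variable {M : Type*} [Group M] [Finite M] {p : ℕ} [hp : Fact p.Prime] {F : Fam p M}

theorem inv_pser_one {E : Subgroup M} (F : Fam p M) : F.Inv (pser p E 1) E := fun α _ x hx => by
  rw [mem_pser_one_iff F.isP] at hx ⊢
  exact ((inferInstance : (frattini E).Characteristic).fixed α).ge hx

variable {E1 E2 : Subgroup M} {z x : M}

/-- The first sub-case: the commutator is central. -/
theorem caseOne_central (hnt : ¬ Cfsg.SectionalPRankLE p 2 M) (h1 : F.Ess E1) (h2 : F.Ess E2) (hz : z ∈ F.span E1) (hz2 : z ∉ E2) (hx2 : x ∈ E2)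
    (hx1 : x ∉ E1) (hd : x * (z⁻¹ * (x * z * x⁻¹)) * x⁻¹ = z⁻¹ * (x * z * x⁻¹)) : ∃ Q, F.Common Q := by
  classical
  haveI := span_normal h1
  haveI := normal h1
  haveI := normal h2
  set d := z⁻¹ * (x * z * x⁻¹) with hddef
  have hz1 : z ∈ E1 := span_le hz
  have hdV : d ∈ F.span E1 := mul_mem (inv_mem hz) ((inferInstance : (F.span E1).Normal).conj_mem z hz x)
  have hd1E : d ∈ E1 := span_le hdV
  have hd2E : d ∈ E2 := by
    rw [show d = ⁅z⁻¹, x⁆ by rw [hddef, commutatorElement_def]; group]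
    exact comm_mem h2 _ _
  have hdc : d ∈ center M := mem_center_of h1 hx1 (fun e he => span_comm hdV he)
    (mul_inv_eq_iff_eq_mul.1 hd).symm
  have hdC : ∀ g, Commute d g := fun g => (Subgroup.mem_center_iff.1 hdc g).symm
  have hdp : d ^ p = 1 := span_pow hdV
  have hxz : x * z = z * d * x := by rw [hddef]; group
  have hd1 : d ≠ 1 := fun h => hz2 (center_le h2 (mem_center_of h1 hx1 (fun e he => span_comm hz he)
    (show z * x = x * z by rw [hxz, h, mul_one])))
  -- the fixed points of `z` in `E2`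
  have hzE1 : ∀ e ∈ E1, Commute z e := fun e he => span_comm hz he
  have hfix : ∀ e ∈ E2, (Commute z e ↔ e ∈ E1) := by
    intro e _
    refine ⟨fun hc => ?_, hzE1 e⟩
    obtain ⟨t, ht, i, rfl⟩ := exists_dec h1 hx1 e
    by_cases hpi : p ∣ i
    · obtain ⟨q, rfl⟩ := hpi
      exact mul_mem ht (by rw [pow_mul]; exact pow_mem (pow_mem' h1 x) q)
    · exfalso
      refine hd1 ?_
      have hxi : Commute z (x ^ i) := by
        have h := ((hzE1 t ht).inv_right).mul_right hc
        rwa [inv_mul_cancel_left] at h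
      have hxc : Commute z x := mem_centralizer_singleton_iff.1 (mem_of_pow_mem_of_coprime
        (Y := centralizer {z}) (mem_centralizer_singleton_iff.2 (hzE1 _ (pow_mem' h1 x)).symm.eq)
        (mem_centralizer_singleton_iff.2 hxi.symm.eq) hpi) |>.symm
      rw [hddef, ← hxc.eq]
      group
  have hmove : ∀ e ∈ E2, e⁻¹ * (z * e * z⁻¹) ∈ zpowers d := by
    intro e _
    obtain ⟨t, ht, i, rfl⟩ := exists_dec h1 hx1 e
    have hzx : z * x * z⁻¹ = d⁻¹ * x := by
      have : x * z = d * (z * x) := by rw [hxz, ← (hdC z).eq]; group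
      rw [show z * x = d⁻¹ * (x * z) by rw [this]; group]
      group
    rw [show z * (t * x ^ i) * z⁻¹ = (z * t * z⁻¹) * (z * x * z⁻¹) ^ i by rw [conj_pow]; group, hzx,
      (hzE1 t ht).eq, mul_inv_cancel_right, ((hdC x).inv_left).mul_pow, ((hdC (x ^ i)).inv_left.pow_left i).eq]
    rw [show (t * x ^ i)⁻¹ * (t * (x ^ i * d⁻¹ ^ i)) = d⁻¹ ^ i by group]
    exact pow_mem (inv_mem (mem_zpowers d)) i
  set dE : E2 := ⟨d, hd2E⟩
  have hζd : cj h2 z dE = dE := Subtype.ext (by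
    rw [coe_cj]
    show z * d * z⁻¹ = d
    rw [← (hdC z).eq, mul_inv_cancel_right])
  have hζmove : ∀ e : E2, e⁻¹ * cj h2 z e ∈ zpowers dE := fun e => by
    obtain ⟨i, hi⟩ := hmove e e.2
    exact ⟨i, Subtype.ext (by
      simp only at hi ⊢
      rw [SubgroupClass.coe_zpow, hi, Subgroup.coe_mul, Subgroup.coe_inv, coe_cj])⟩
  obtain ⟨g, hg, hne⟩ := exists_moved h2 hz2
  set d' : E2 := g dE
  have hdom : dE ∈ om p E2 := mem_om.2 ⟨fun e => Subtype.ext (hdC e).symm.eq, Subtype.ext hdp⟩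
  have hd'om : d' ∈ om p E2 := mem_om.2 ⟨fun e => by
    simpa [d'] using ((mem_om.1 hdom).1 (g⁻¹ e)).map (g : E2 ≃* E2).toMonoidHom,
    by rw [← map_pow, (mem_om.1 hdom).2, map_one]⟩
  -- the conjugate of `z`
  have hζ'move : ∀ e : E2, e⁻¹ * (g * cj h2 z * g⁻¹) e ∈ zpowers d' := fun e => by
    obtain ⟨i, hi⟩ := hζmove (g⁻¹ e)
    refine ⟨i, ?_⟩
    simp only at hi ⊢
    rw [← map_zpow, hi, map_mul, map_inv, MulAut.apply_inv_self]
    rfl
  have hζ'd' : (g * cj h2 z * g⁻¹) d' = d' := by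
    show g (cj h2 z (g⁻¹ (g dE))) = g dE
    rw [MulAut.inv_apply_self, hζd]
  set W : Subgroup E2 := zpowers dE ⊔ zpowers d'
  have hW : ∀ b ∈ W, b ^ p = 1 := fun b hb =>
    (mem_om.1 ((sup_le (zpowers_le.2 hdom) (zpowers_le.2 hd'om) : W ≤ om p E2) hb)).2
  have hWfix : ∀ δ : MulAut E2, δ dE = dE → δ d' = d' → ∀ b ∈ W, δ b = b := by
    intro δ h h' b hb
    refine (sup_le (zpowers_le.2 ?_) (zpowers_le.2 ?_) : W ≤ MonoidHom.eqLocus (δ : E2 ≃* E2).toMonoidHom
      (MonoidHom.id _)) hb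
    · exact h
    · exact h'
  -- `d'` and its preimage leave `E1`
  have hd'1 : (d' : M) ∉ E1 := fun hd' => by
    have hζd' : cj h2 z d' = d' := Subtype.ext (by
      rw [coe_cj, ((hfix _ d'.2).2 hd').eq, mul_inv_cancel_right])
    refine hne (mem_ind_of_series h2 hz2 (T := zpowers d') (W := W) (fun b hb => hW b (mem_sup_right hb)) hW
      ⟨fun b hb => hWfix _ hζd hζd' b (mem_sup_right hb),
        fun b hb => by rw [hWfix _ hζd hζd' b hb, inv_mul_cancel]; exact one_mem _,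
        fun e => mem_sup_left (hζmove e)⟩
      (mul_mem (mul_mem hg (cjG h2 z)) (inv_mem hg))
      ⟨fun b hb => ?_, fun b _ => hζ'move b, fun e => mem_sup_right (hζ'move e)⟩)
    obtain ⟨i, rfl⟩ := hb
    simp only
    rw [map_zpow, hζ'd']
  have hdg : ((g⁻¹ dE : E2) : M) ∉ E1 := fun hgd => by
    have hζ'd : (g * cj h2 z * g⁻¹) dE = dE := by
      have : cj h2 z (g⁻¹ dE) = g⁻¹ dE := Subtype.ext (by
        rw [coe_cj, ((hfix _ (g⁻¹ dE).2).2 hgd).eq, mul_inv_cancel_right])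
      show g (cj h2 z (g⁻¹ dE)) = dE
      rw [this, MulAut.apply_inv_self]
    refine hne (mem_ind_of_series h2 hz2 (T := zpowers dE) (W := W) (fun b hb => hW b (mem_sup_left hb)) hW
      ⟨fun b hb => ?_, fun b _ => hζmove b, fun e => mem_sup_left (hζmove e)⟩
      (mul_mem (mul_mem hg (cjG h2 z)) (inv_mem hg))
      ⟨fun b hb => hWfix _ hζ'd hζ'd' b (mem_sup_left hb),
        fun b hb => by rw [hWfix _ hζ'd hζ'd' b hb, inv_mul_cancel]; exact one_mem _,
        fun e => mem_sup_right (hζ'move e)⟩)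
    obtain ⟨i, rfl⟩ := hb
    simp only
    rw [map_zpow, hζd]
  -- the decomposition of `E2`
  set C : Subgroup M := (E1.subgroupOf E2 ⊓ (E1.subgroupOf E2).map (g : E2 ≃* E2).toMonoidHom).map E2.subtype
    with hCdef
  have hC12 : C ≤ E1 ⊓ E2 := by
    rintro _ ⟨c, hc, rfl⟩
    exact ⟨hc.1, c.2⟩
  have hCg : ∀ c ∈ C, ∃ u : E2, (u : M) ∈ E1 ∧ (g u : M) = c := by
    rintro _ ⟨c, ⟨-, u, hu, rfl⟩, rfl⟩
    exact ⟨u, hu, rfl⟩
  have hdec : ∀ e ∈ E2, ∃ i j : ℕ, ∃ c ∈ C, e = c * d ^ i * (d' : M) ^ j := by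
    intro e he
    obtain ⟨t, ht, j, rfl⟩ := exists_dec h1 hd'1 e
    have ht2 : t ∈ E2 := by
      have := mul_mem he (inv_mem (pow_mem d'.2 j))
      rwa [mul_inv_cancel_right] at this
    obtain ⟨u, hu, i, hui⟩ := exists_dec h1 hdg ((g⁻¹ ⟨t, ht2⟩ : E2) : M)
    have hu2 : u ∈ E2 := by
      have := mul_mem (g⁻¹ ⟨t, ht2⟩ : E2).2 (inv_mem (pow_mem (g⁻¹ dE : E2).2 i))
      rw [hui, mul_inv_cancel_right] at this
      exact this
    have htu : (⟨t, ht2⟩ : E2) = g ⟨u, hu2⟩ * dE ^ i := by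
      have h3 : g⁻¹ ⟨t, ht2⟩ = ⟨u, hu2⟩ * (g⁻¹ dE) ^ i := Subtype.ext (by simpa using hui)
      rw [← MulAut.apply_inv_self E2 g ⟨t, ht2⟩, h3, map_mul, map_pow, MulAut.apply_inv_self]
    have htu' : t = (g ⟨u, hu2⟩ : M) * d ^ i := congrArg Subtype.val htu
    refine ⟨i, j, (g ⟨u, hu2⟩ : M), ⟨g ⟨u, hu2⟩, ⟨?_, ⟨u, hu2⟩, hu, rfl⟩, rfl⟩, by rw [htu']⟩
    show (g ⟨u, hu2⟩ : M) ∈ E1
    rw [eq_mul_inv_of_mul_eq htu'.symm]
    exact mul_mem ht (inv_mem (pow_mem hd1E i))
  have hd'C : ∀ e ∈ E2, Commute (d' : M) e := fun e he =>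
    ((mem_om.1 hd'om).1 ⟨e, he⟩).symm.map E2.subtype
  have hd'p : (d' : M) ^ p = 1 := congrArg Subtype.val (mem_om.1 hd'om).2
  have hform : ∀ i j : ℕ, ∀ e ∈ E2, Commute (d ^ i * (d' : M) ^ j) e := fun i j e he =>
    ((hdC e).pow_left i).mul_left ((hd'C e he).pow_left j)
  have hcomm2 : ∀ {e f : M}, e ∈ E2 → f ∈ E2 → ∃ c c' : M, c ∈ C ∧ c' ∈ C ∧ ⁅e, f⁆ = ⁅c, c'⁆ ∧ e ^ p = c ^ p := by
    intro e f he hf
    obtain ⟨i, j, c, hc, rfl⟩ := hdec e he
    obtain ⟨i', j', c', hc', rfl⟩ := hdec f hf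
    refine ⟨c, c', hc, hc', ?_, ?_⟩
    · rw [mul_assoc c, mul_assoc c'] at *
      have hu := hform i j
      have hv := hform i' j'
      generalize d ^ i * (d' : M) ^ j = u at hu he
      generalize d ^ i' * (d' : M) ^ j' = v at hv hf
      have hc2 : c ∈ E2 := (hC12 hc).2
      have hc2' : c' ∈ E2 := (hC12 hc').2
      have hu2 : ∀ (m : M), m ∈ E2 → Commute u m := hu
      simp only [commutatorElement_def, _root_.mul_inv_rev]
      have e1 : Commute u (c' * v) := hu _ (by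
        simpa using hf)
      have e2 : Commute v c⁻¹ := hv _ (inv_mem hc2)
      rw [show c * u * (c' * v) * (u⁻¹ * c⁻¹) * (v⁻¹ * c'⁻¹) = c * (u * (c' * v) * u⁻¹) * c⁻¹ * (v⁻¹ * c'⁻¹) by
        group, e1.eq, mul_inv_cancel_right,
        show c * (c' * v) * c⁻¹ * (v⁻¹ * c'⁻¹) = c * c' * (v * c⁻¹ * v⁻¹) * c'⁻¹ by group, e2.eq,
        mul_inv_cancel_right]
    · rw [mul_assoc c, (hform i j c (hC12 hc).2).symm.mul_pow,
        ((hdC (d' : M)).pow_pow i j).mul_pow, ← pow_mul, ← pow_mul, mul_comm i, mul_comm j, pow_mul,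
        pow_mul, hdp, hd'p, one_pow, one_pow, mul_one, mul_one]
  have hrel := relIndex_le_cube F.rank (H := E2) (K := pser p C 1)
    (fun e he f hf => by
      obtain ⟨c, c', hc, hc', h, -⟩ := hcomm2 he hf
      rw [h]; exact comm_mem_pser_one hc hc')
    fun e he => by
      obtain ⟨c, c', hc, -, -, h⟩ := hcomm2 he he
      rw [h]; exact pow_mem_pser_one hc
  have hCT : C < E1 ⊓ E2 := lt_of_le_not_ge hC12 fun h => by
    obtain ⟨u, hu, he⟩ := hCg d (h ⟨hd1E, hd2E⟩)
    refine hdg ?_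
    have : u = g⁻¹ dE := by
      rw [show dE = g u from Subtype.ext he.symm, MulAut.inv_apply_self]
    exact this ▸ hu
  have hTE : E1 ⊓ E2 < E2 := lt_of_le_not_ge inf_le_right fun h => hx1 (h hx2).1
  obtain ⟨c, hcC, hCc⟩ := exists_eq_zpowers F.isP (C := C) (by
    have h3 := card_mul_relIndex ((pser_le (p := p) C 1).trans (hC12.trans inf_le_right))
    have h4 := mul_card_le F.isP hCT
    have h5 := mul_card_le F.isP hTE
    have h6 : Nat.card E2 ≤ Nat.card (pser p C 1) * p ^ 3 := h3.symm.le.trans (Nat.mul_le_mul_left _ hrel)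
    refine (Nat.mul_le_mul_left_iff (Nat.mul_pos hp.out.pos hp.out.pos)).1 ?_
    calc p * p * Nat.card C = p * (p * Nat.card C) := by ring
      _ ≤ p * Nat.card (E1 ⊓ E2 : Subgroup M) := Nat.mul_le_mul_left _ h4
      _ ≤ Nat.card (pser p C 1) * p ^ 3 := h5.trans h6
      _ = p * p * (p * Nat.card (pser p C 1)) := by ring)
  have hdec2 : ∀ e ∈ E2, ∃ i j k : ℕ, e = c ^ k * d ^ i * (d' : M) ^ j := by
    intro e he
    obtain ⟨i, j, c0, hc0, rfl⟩ := hdec e he
    obtain ⟨k, rfl⟩ := (isOfFinOrder_of_finite c).mem_powers_iff_mem_zpowers.2 (hCc.le hc0)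
    exact ⟨i, j, k, rfl⟩
  have hcE2 : ∀ e ∈ E2, Commute c e := by
    intro e he
    obtain ⟨i, j, k, rfl⟩ := hdec2 e he
    rw [mul_assoc]
    exact ((Commute.refl c).pow_right k).mul_right (hform i j c (hC12 hcC).2).symm
  have hcc : c ∈ center M :=
    mem_center_of h2 hz2 hcE2 (hzE1 c (hC12 hcC).1).symm
  have hE2ab : ∀ a ∈ E2, ∀ b ∈ E2, Commute a b := by
    intro a ha b hb
    obtain ⟨i, j, k, rfl⟩ := hdec2 a ha
    rw [mul_assoc]
    exact ((hcE2 b hb).pow_left k).mul_left (hform i j b hb)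
  have hpowE2 : ∀ e ∈ E2, e ^ p ∈ zpowers (c ^ p) := by
    intro e he
    obtain ⟨i, j, k, rfl⟩ := hdec2 e he
    rw [mul_assoc (c ^ k), (hform i j _ (pow_mem (hC12 hcC).2 k)).symm.mul_pow,
      ((hdC (d' : M)).pow_pow i j).mul_pow, ← pow_mul, ← pow_mul, ← pow_mul, mul_comm i, mul_comm j,
      mul_comm k, pow_mul, pow_mul d, pow_mul (d' : M), hdp, hd'p, one_pow, one_pow, mul_one, mul_one]
    exact pow_mem (mem_zpowers _) k
  -- commutators lie on the line of `d`
  haveI hdn : (zpowers d).Normal := PGroups.normal_of_le_center (zpowers_le.2 hdc)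
  have hderived : ∀ a b : M, ⁅a, b⁆ ∈ zpowers d := by
    intro a b
    set π := QuotientGroup.mk' (zpowers d)
    have hzc : ∀ e ∈ E2, Commute (π z) (π e) := fun e he => by
      rw [← commutatorElement_eq_one_iff_commute, ← map_commutatorElement]
      refine (QuotientGroup.eq_one_iff _).2 ?_
      have := hdn.conj_mem _ (hmove e he) e
      rwa [show e * (e⁻¹ * (z * e * z⁻¹)) * e⁻¹ = ⁅z, e⁆ by rw [commutatorElement_def]; group] at this
    obtain ⟨e, he, i, rfl⟩ := exists_dec h2 hz2 a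
    obtain ⟨f, hf, j, rfl⟩ := exists_dec h2 hz2 b
    rw [← QuotientGroup.eq_one_iff]
    show π ⁅e * z ^ i, f * z ^ j⁆ = 1
    rw [map_commutatorElement, map_mul, map_mul, map_pow, map_pow, commutatorElement_eq_one_iff_commute]
    refine ((((hE2ab e he f hf).map π).mul_right ((hzc e he).symm.pow_right j))).mul_left ?_
    exact (((hzc f hf).pow_left i)).mul_right ((Commute.refl (π z)).pow_pow i j)
  have hzp : z ^ p = 1 := span_pow hz
  have hpowM : ∀ m : M, m ^ p ∈ zpowers (c ^ p) := by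
    intro m
    obtain ⟨e, he, i, rfl⟩ := exists_dec h2 hz2 m
    have hcm : (z ^ i)⁻¹ * e⁻¹ * z ^ i * e ∈ zpowers d := by
      have := hderived (z ^ i)⁻¹ e⁻¹
      rwa [commutatorElement_def, inv_inv, inv_inv] at this
    have hcen : ∀ g, Commute ((z ^ i)⁻¹ * e⁻¹ * z ^ i * e) g := fun g => by
      obtain ⟨k, hk⟩ := hcm
      simp only at hk
      rw [← hk]
      exact (hdC g).zpow_left k
    rw [mul_pow_prime F.odd (hcen _) (hcen _) ?_]
    · rw [← pow_mul, mul_comm i, pow_mul, hzp, one_pow, mul_one]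
      exact hpowE2 e he
    · obtain ⟨k, hk⟩ := hcm
      simp only at hk
      rw [← hk, ← zpow_natCast, ← zpow_mul, mul_comm, zpow_mul, zpow_natCast, hdp, one_zpow]
  have hcall : ∀ E, F.Ess E → c ∈ E := fun E hE => center_le hE hcc
  by_cases hcp : c ^ p = 1
  swap
  · refine ⟨zpowers (c ^ p), by simpa [Subgroup.zpowers_eq_bot] using hcp, fun E hE =>
      ⟨zpowers_le.2 (pow_mem (hcall E hE) p), ?_⟩, fun γ hγ y hy => ?_⟩
    · intro α _ y hy
      obtain ⟨k, hk⟩ := hy
      simp only at hk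
      have he : y = ((⟨c, hcall E hE⟩ : E) ^ p) ^ k := Subtype.ext (by simpa using hk.symm)
      rw [he, map_zpow, map_pow, SubgroupClass.coe_zpow, SubmonoidClass.coe_pow]
      exact zpow_mem (hpowM _) k
    · obtain ⟨k, rfl⟩ := hy
      simp only
      rw [map_zpow, map_pow]
      exact zpow_mem (hpowM _) k
  have hexp : ∀ m : M, m ^ p = 1 := fun m => by
    have := hpowM m
    rwa [hcp, Subgroup.zpowers_one_eq_bot, Subgroup.mem_bot] at this
  -- the order
  have hE2card : Nat.card E2 = p ^ 3 := by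
    refine le_antisymm (F.card_le_cube hE2ab fun e _ => hexp e) ?_
    have hCne : C ≠ ⊥ := fun hC => by
      refine hnt (sectional_two_of_small F.isP ?_ ⟨z, x, fun h => hx1 ((hfix x hx2).1 h)⟩)
      have hc1 : c = 1 := Subgroup.zpowers_eq_bot.1 (hCc ▸ hC)
      have hle : Nat.card E2 ≤ p ^ 2 := by
        let f : Fin p × Fin p → E2 := fun q => dE ^ (q.1 : ℕ) * d' ^ (q.2 : ℕ)
        have hsurj : Function.Surjective f := fun e => by
          obtain ⟨i, j, k, he⟩ := hdec2 e e.2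
          refine ⟨(⟨i % p, Nat.mod_lt _ hp.out.pos⟩, ⟨j % p, Nat.mod_lt _ hp.out.pos⟩), Subtype.ext ?_⟩
          show d ^ (i % p) * (d' : M) ^ (j % p) = e
          rw [← pow_eq_pow_mod _ hdp, ← pow_eq_pow_mod _ hd'p, he, hc1, one_pow, one_mul]
        exact (Nat.card_le_card_of_surjective f hsurj).trans_eq (by simp [pow_two])
      rw [← Subgroup.card_mul_index E2, F.index h2, pow_succ]
      exact Nat.mul_le_mul_right _ hle
    have h4 := mul_card_le F.isP hCT
    have h5 := mul_card_le F.isP hTE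
    have h6 := mul_card_le F.isP (bot_lt_iff_ne_bot.2 hCne)
    rw [Subgroup.card_bot, mul_one] at h6
    calc p ^ 3 = p * (p * p) := by ring
      _ ≤ Nat.card E2 := le_trans (Nat.mul_le_mul_left _ (le_trans (Nat.mul_le_mul_left _ h6) h4)) h5
  have hcardE : ∀ E, F.Ess E → Nat.card E = p ^ 3 := fun E hE => by
    refine Nat.eq_of_mul_eq_mul_right hp.out.pos ?_
    conv_lhs => rw [← F.index hE, Subgroup.card_mul_index]
    rw [← Subgroup.card_mul_index E2, F.index h2, hE2card]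
  have hc0 : c ∉ zpowers d := by
    intro h
    obtain ⟨u, hu, he⟩ := hCg c hcC
    have hc1 : c ≠ 1 := fun h1' => by
      have h7 : Nat.card E2 ≤ p ^ 2 := by
        have : E2 ≤ zpowers d ⊔ zpowers (d' : M) := fun e he2 => by
          obtain ⟨i, j, k, rfl⟩ := hdec2 e he2
          rw [h1', one_pow, one_mul]
          exact mul_mem (mem_sup_left (pow_mem (mem_zpowers d) i))
            (mem_sup_right (pow_mem (mem_zpowers _) j))
        refine (Subgroup.card_le_of_le this).trans ?_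
        rw [sup_comm]
        refine (card_sup_le_mul _ _).trans (le_of_eq ?_)
        rw [card_zpowers_prime hdp hd1, card_zpowers_prime hd'p (fun h8 => hd'1 (h8 ▸ one_mem _)), pow_two]
      rw [hE2card] at h7
      exact absurd ((Nat.pow_le_pow_iff_right hp.out.one_lt).1 h7) (by norm_num)
    obtain ⟨i, hi⟩ := h
    simp only at hi
    refine hdg ?_
    have hmem : c ∈ zpowers c := mem_zpowers c
    obtain ⟨k, hk⟩ : d ∈ zpowers c := by
      have heq : zpowers c = zpowers d := Subgroup.eq_of_le_of_card_ge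
        (zpowers_le.2 (hi ▸ zpow_mem (mem_zpowers d) i))
        (by rw [card_zpowers_prime hdp hd1, card_zpowers_prime hcp hc1])
      exact heq ▸ mem_zpowers d
    simp only at hk
    have : g⁻¹ dE = u ^ k := by
      have h9 : dE = g (u ^ k) := Subtype.ext (by rw [map_zpow, SubgroupClass.coe_zpow, he]; exact hk.symm)
      rw [h9, MulAut.inv_apply_self]
    rw [this, SubgroupClass.coe_zpow]
    exact zpow_mem hu k
  have hcenter : center M ≤ zpowers c ⊔ zpowers d := by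
    intro y hy
    have hy1 := center_le h1 hy
    obtain ⟨i, j, k, rfl⟩ := hdec2 y (center_le h2 hy)
    refine mul_mem (mul_mem (mem_sup_left (pow_mem (mem_zpowers c) k))
      (mem_sup_right (pow_mem (mem_zpowers d) i))) ?_
    have hj : p ∣ j := by
      by_contra hj
      refine hd'1 (mem_of_pow_mem_of_coprime (Y := E1) (pow_mem' h1 _) ?_ hj)
      have := E1.mul_mem (E1.inv_mem (E1.mul_mem (E1.pow_mem (hC12 hcC).1 k) (E1.pow_mem hd1E i))) hy1
      rwa [inv_mul_cancel_left] at this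
    obtain ⟨q, rfl⟩ := hj
    rw [pow_mul, hd'p, one_pow]
    exact one_mem _
  have hZc : Nat.card (center M) ≤ p ^ 2 := by
    refine (Subgroup.card_le_of_le hcenter).trans ?_
    refine (card_sup_le_mul _ _).trans (le_of_eq ?_)
    rw [card_zpowers_prime hdp hd1, card_zpowers_prime hcp (fun h => hc0 (h ▸ one_mem _)), pow_two]
  have hGd : F.GInv (zpowers d) := fun γ _ y hy => by
    obtain ⟨k, rfl⟩ := hy
    simp only
    rw [map_zpow]
    refine zpow_mem ?_ k
    have hγd : γ d = ⁅γ z⁻¹, γ x⁆ := by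
      rw [← map_commutatorElement γ, show ⁅z⁻¹, x⁆ = d by rw [hddef, commutatorElement_def]; group]
    rw [hγd]
    exact hderived _ _
  have hGc : F.GInv (center M) := fun γ _ y hy => by
    rw [Subgroup.mem_center_iff] at hy ⊢
    intro h
    have := congrArg γ (hy (γ⁻¹ h))
    simpa using this
  -- every member has an axis
  have haxis : ∀ E, F.Ess E → ∃ cE ∈ center M, cE ∉ zpowers d ∧ cE ^ p = 1 ∧ F.Inv (zpowers cE) E ∧
      ∃ γ ∈ F.Γ, γ d = d⁻¹ ∧ γ cE = cE := by
    intro E hE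
    have hZE := center_le hE
    obtain ⟨y, hy, hyc⟩ : ∃ y ∈ E, y ∉ center M := by
      by_contra h
      push Not at h
      have := Subgroup.card_le_of_le (show E ≤ center M from h)
      rw [hcardE E hE] at this
      exact absurd ((Nat.pow_le_pow_iff_right hp.out.one_lt).1 (this.trans hZc)) (by norm_num)
    have hsup : center M ⊔ zpowers y = E := by
      refine Subgroup.eq_of_le_of_card_ge (sup_le hZE (zpowers_le.2 hy)) ?_
      have h10 : zpowers c ⊔ zpowers d ≤ center M := sup_le (zpowers_le.2 hcc) (zpowers_le.2 hdc)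
      have h11 := mul_card_le F.isP (lt_of_le_not_ge (le_sup_right : zpowers d ≤ zpowers c ⊔ zpowers d)
        fun h => hc0 (h (mem_sup_left (mem_zpowers c))))
      have h12 := mul_card_le F.isP (lt_of_le_not_ge (le_sup_left : center M ≤ center M ⊔ zpowers y)
        fun h => hyc (h (mem_sup_right (mem_zpowers y))))
      rw [card_zpowers_prime hdp hd1] at h11
      calc Nat.card E = p * (p * p) := by rw [hcardE E hE]; ring
        _ ≤ p * Nat.card (center M) := Nat.mul_le_mul_left _ (h11.trans (Subgroup.card_le_of_le h10))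
        _ ≤ _ := h12
    have hab : ∀ w ∈ E, ∀ e ∈ E, Commute e w := by
      have key : ∀ e ∈ E, ∃ u ∈ center M, ∃ k : ℤ, e = u * y ^ k := fun e he => by
        obtain ⟨u, hu, v, ⟨k, rfl⟩, rfl⟩ := Subgroup.mem_sup_of_normal_left.1 (hsup.ge he)
        exact ⟨u, hu, k, rfl⟩
      intro w hw e he
      obtain ⟨u, hu, k, rfl⟩ := key w hw
      obtain ⟨u', hu', k', rfl⟩ := key e he
      have hc3 : ∀ {u : M}, u ∈ center M → ∀ g, Commute u g := fun hu g =>
        (Subgroup.mem_center_iff.1 hu g).symm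
      exact (hc3 hu' _).mul_left ((hc3 hu _).symm.mul_right ((Commute.refl y).zpow_zpow k' k))
    have hinf : E ⊓ center M = center M := inf_eq_right.2 hZE
    obtain ⟨n, hn⟩ := exists_not_mem hE
    obtain ⟨-, cE, -, hcom, hcd, hinv, hγ⟩ := exists_axis hE (W := E) (fun α _ e _ => (α e).2) le_rfl
      (hcardE E hE) hab (fun w _ => hexp w) hd1 (hZE hdc) hdc (fun m w _ => hderived m w) (fun hi => by
        rw [hinf] at hi
        refine no_series hE hn hi (fun b _ => hexp b) (fun b hb _ => ?_) fun e _ => ?_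
        · rw [Subgroup.mem_center_iff.1 hb n, mul_inv_cancel_right]
        · refine (zpowers_le.2 hdc : zpowers d ≤ center M) ?_
          have h13 := hdn.conj_mem' _ (hderived n e) e
          rwa [show e⁻¹ * ⁅n, e⁆ * e = e⁻¹ * (n * e * n⁻¹) by rw [commutatorElement_def]; group] at h13)
    exact ⟨cE, hcom.1, hcd, hexp _, hinv, hγ⟩
  obtain ⟨c1, hc1z, hc1d, hc1p, -, γ1, hγ1, hγ1d, hγ1c⟩ := haxis E1 h1
  have hne1 : c1 ≠ 1 := fun h => hc1d (h ▸ one_mem _)
  refine ⟨zpowers c1, by simpa [Subgroup.zpowers_eq_bot] using hne1, fun E hE =>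
    ⟨zpowers_le.2 (center_le hE hc1z), ?_⟩,
    gInv_line hdp hd1 hdc hc1z hGd hGc hZc hc1z hdc hc1d hγ1 hγ1d hγ1c⟩
  obtain ⟨cE, hcEz, hcEd, hcEp, hinv, γE, hγE, hγEd, hγEc⟩ := haxis E hE
  obtain ⟨a, k, hak⟩ := exists_pair F.isP hZc hc1z hdc hc1d hd1 hdp (hdC c1).symm hcEz
  have hmem := line_eq hdp hdc hc1z hγ1 hγE hγ1d hγ1c hγEd hγEc hak
  have heq : zpowers cE = zpowers c1 := Subgroup.eq_of_le_of_card_ge (zpowers_le.2 hmem) (by
    rw [card_zpowers_prime hc1p hne1, card_zpowers_prime hcEp (fun h => hcEd (h ▸ one_mem _))])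
  exact heq ▸ hinv

/-- The second sub-case: a chain of length three. -/
theorem caseOne_chain (h1 : F.Ess E1) (h2 : F.Ess E2) (hz : z ∈ F.span E1) (hz2 : z ∉ E2) (hx2 : x ∈ E2)
    (hx1 : x ∉ E1) (hd : x * (z⁻¹ * (x * z * x⁻¹)) * x⁻¹ ≠ z⁻¹ * (x * z * x⁻¹)) : SpPair p E1 E2 := by
  classical
  set V := F.span E1
  haveI hVn : V.Normal := span_normal h1
  haveI := normal h2
  haveI := normal h1
  set d := z⁻¹ * (x * z * x⁻¹) with hddef
  set e := d⁻¹ * (x * d * x⁻¹) with hedef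
  have hdV : d ∈ V := mul_mem (inv_mem hz) (hVn.conj_mem z hz x)
  have hd2 : d ∈ E2 := by
    rw [show d = ⁅z⁻¹, x⁆ by rw [hddef, commutatorElement_def]; group]
    exact comm_mem h2 _ _
  have heV : e ∈ V := mul_mem (inv_mem hdV) (hVn.conj_mem d hdV x)
  have he2 : e ∈ E2 := mul_mem (inv_mem hd2) ((inferInstance : E2.Normal).conj_mem d hd2 x)
  have he1 : e ≠ 1 := fun h => hd (inv_mul_eq_one.1 h).symm
  have hzd : x * z * x⁻¹ = z * d := by rw [hddef]; group
  have hde : x * d * x⁻¹ = d * e := by rw [hedef]; group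
  have hVc : ∀ v ∈ V, ∀ w ∈ E1, Commute v w := fun v hv w hw => span_comm hv hw
  set W := V ⊓ E2
  haveI : W.Normal := Subgroup.normal_inf_normal V E2
  have hWV : W < V := lt_of_le_not_ge inf_le_left fun h => hz2 (h hz).2
  have hWc : Nat.card W ≤ p ^ 2 := by
    have h3 := (mul_card_le F.isP hWV).trans card_span_le
    rw [pow_succ'] at h3
    exact Nat.le_of_mul_le_mul_left h3 hp.out.pos
  have hWne : W ≠ ⊥ := fun h => he1 (Subgroup.mem_bot.1 (h ▸ (⟨heV, he2⟩ : e ∈ W)))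
  obtain ⟨f, hfW, hf, hf1⟩ := exists_mem_om F hWne
  have hfp : f ^ p = 1 := hf.2
  haveI hfn : (zpowers f).Normal := PGroups.normal_of_le_center (zpowers_le.2 hf.1)
  have hnc : ∀ {v : M}, v ∈ center M → x * v * x⁻¹ = v := fun hv => by
    rw [Subgroup.mem_center_iff.1 hv x, mul_inv_cancel_right]
  have hdf : d ∉ zpowers f := fun h => hd (hnc ((zpowers_le.2 hf.1 : zpowers f ≤ center M) h))
  obtain ⟨a, k, hak⟩ := exists_pair F.isP hWc (⟨hdV, hd2⟩ : d ∈ W) hfW hdf hf1 hfp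
    (Subgroup.mem_center_iff.1 hf.1 d) (⟨heV, he2⟩ : e ∈ W)
  have hef : e ∈ zpowers f := by
    set π := QuotientGroup.mk' (zpowers f)
    obtain ⟨j, hj⟩ := F.isP x
    have hxd : π (x * d * x⁻¹) = π d ^ (1 + a) := by
      rw [hde, hak, map_mul π d, map_mul π (d ^ a), map_pow π d, show π (f ^ k) = 1 from
        (QuotientGroup.eq_one_iff _).2 (pow_mem (mem_zpowers f) k), mul_one, pow_add, pow_one]
    have h4 := fix_line (δ := MulAut.conj (π x)) (k := j) (by rw [← map_pow, ← map_pow, hj, map_one, map_one])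
      (a := π d) (by rw [← map_pow, span_pow hdV, map_one]) (by
        rw [MulAut.conj_apply, ← map_inv, ← map_mul, ← map_mul, hxd]
        exact pow_mem (mem_zpowers _) _)
    rw [MulAut.conj_apply, ← map_inv, ← map_mul, ← map_mul, hde] at h4
    have h5 : π e = 1 := by rwa [map_mul, mul_eq_left] at h4
    exact (QuotientGroup.eq_one_iff e).1 h5
  have hec : e ∈ center M := (zpowers_le.2 hf.1 : zpowers f ≤ center M) hef
  have hep : e ^ p = 1 := span_pow heV
  have hde' : d ∉ zpowers e := fun h => hd (hnc ((zpowers_le.2 hec : zpowers e ≤ center M) h))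
  have hdcomm : Commute d e := Subgroup.mem_center_iff.1 hec d
  have hWform : ∀ w ∈ W, ∃ a b : ℕ, w = d ^ a * e ^ b := fun w hw =>
    exists_pair F.isP hWc (⟨hdV, hd2⟩ : d ∈ W) ⟨heV, he2⟩ hde' he1 hep hdcomm hw
  have hdiv : ∀ {a b : ℕ}, Commute x (d ^ a * e ^ b) → p ∣ a := by
    intro a b hc
    by_contra hpa
    have hda : Commute x (d ^ a) := by
      have h6 : Commute x (e ^ b)⁻¹ := (Subgroup.mem_center_iff.1 (inv_mem (pow_mem hec b)) x)
      simpa using hc.mul_right h6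
    have : Commute x d := (mem_centralizer_singleton_iff.1 (mem_of_pow_mem_of_coprime (Y := centralizer {x})
      (by rw [span_pow hdV]; exact one_mem _) (mem_centralizer_singleton_iff.2 hda.symm.eq) hpa)).symm
    exact hd (by rw [this.eq, mul_inv_cancel_right])
  have hom : ∀ y ∈ om p M, y ∈ zpowers e := by
    intro y hy
    obtain ⟨a, b, rfl⟩ := hWform y ⟨om_le_span h1 hy, om_le h2 hy⟩
    obtain ⟨q, rfl⟩ := hdiv ((mem_om.1 hy).1 x)
    rw [pow_mul, span_pow hdV, one_pow, one_mul]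
    exact pow_mem (mem_zpowers e) b
  -- `E1` is elementary
  have hP1 : pser p E1 1 = ⊥ := by
    by_contra hne
    haveI : (pser p E1 1).Normal := inferInstance
    obtain ⟨y, hy, hyo, hy1⟩ := exists_mem_om F hne
    have hle : pser p E1 1 ≤ E2 := pser_succ_le_of (fun a _ b _ => comm_mem h2 a b) fun a _ => pow_mem' h2 a
    have hle2 : zpowers e ≤ zpowers y := by
      refine (Subgroup.eq_of_le_of_card_ge (zpowers_le.2 (hom y hyo)) ?_).ge
      rw [card_zpowers_prime hep he1, card_zpowers_prime hyo.2 hy1]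
    refine hz2 (hle (span_le_of_inv (inv_pser_one F) (fun w hw => ?_) hz))
    exact (zpowers_le.2 hy : zpowers y ≤ _) (hle2 (hom w hw))
  have hE1c : ∀ a ∈ E1, ∀ b ∈ E1, Commute a b := fun a ha b hb => by
    rw [← commutatorElement_eq_one_iff_commute]
    exact Subgroup.mem_bot.1 (hP1 ▸ comm_mem_pser_one ha hb)
  have hE1p : ∀ a ∈ E1, a ^ p = 1 := fun a ha => Subgroup.mem_bot.1 (hP1 ▸ pow_mem_pser_one ha)
  have hW2 : Nat.card W = p ^ 2 := by
    refine le_antisymm hWc ?_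
    have h7 := mul_card_le F.isP (lt_of_le_not_ge (le_sup_right : zpowers e ≤ zpowers d ⊔ zpowers e)
      fun h => hde' (h (mem_sup_left (mem_zpowers d))))
    rw [card_zpowers_prime hep he1, ← pow_two] at h7
    exact h7.trans (Subgroup.card_le_of_le (sup_le (zpowers_le.2 (⟨hdV, hd2⟩ : d ∈ W))
      (zpowers_le.2 ⟨heV, he2⟩)))
  have hV3 : p ^ 3 ≤ Nat.card V := by
    have := mul_card_le F.isP hWV
    rwa [hW2, ← pow_succ'] at this
  have hE1V : V = E1 := Subgroup.eq_of_le_of_card_ge span_le ((F.card_le_cube hE1c hE1p).trans hV3)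
  have hE1card : Nat.card E1 = p ^ 3 := le_antisymm (F.card_le_cube hE1c hE1p) (hE1V ▸ hV3)
  have hz1 : z ∈ E1 := span_le hz
  -- the elements of `E2`
  have hform2 : ∀ v ∈ E2, ∃ t ∈ W, ∃ i : ℕ, v = t * x ^ i := by
    intro v hv
    obtain ⟨t, ht, i, rfl⟩ := exists_dec h1 hx1 v
    refine ⟨t, ⟨hE1V.ge ht, ?_⟩, i, rfl⟩
    have := mul_mem hv (inv_mem (pow_mem hx2 i))
    rwa [mul_inv_cancel_right] at this
  obtain ⟨b, hxb⟩ : ∃ b : ℕ, x ^ p = e ^ b := by
    obtain ⟨a, b, hab⟩ := hWform (x ^ p) ⟨hE1V.ge (pow_mem' h1 x), pow_mem' h2 x⟩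
    obtain ⟨q, hq⟩ := hdiv (hab ▸ ((Commute.refl x).pow_right p))
    exact ⟨b, by rw [hab, hq, pow_mul, span_pow hdV, one_pow, one_mul]⟩
  have hpow2 : ∀ t ∈ W, ∀ i : ℕ, (t * x ^ i) ^ p = e ^ (b * i) := by
    intro t ht i
    have hc : (x ^ i)⁻¹ * t⁻¹ * x ^ i * t ∈ zpowers e := by
      have hn : (zpowers e).Normal := PGroups.normal_of_le_center (zpowers_le.2 hec)
      have hgen : ∀ w ∈ W, ∀ j : ℕ, x ^ j * w * (x ^ j)⁻¹ * w⁻¹ ∈ zpowers e := by
        intro w hw j
        set π := QuotientGroup.mk' (zpowers e)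
        rw [← QuotientGroup.eq_one_iff]
        show π _ = 1
        have hxw : Commute (π x) (π w) := by
          obtain ⟨a', b', rfl⟩ := hWform w hw
          rw [map_mul, map_pow, map_pow, show π e = 1 from (QuotientGroup.eq_one_iff _).2 (mem_zpowers e),
            one_pow, mul_one]
          refine Commute.pow_right ?_ a'
          show π x * π d = π d * π x
          have h8 : π (x * d * x⁻¹) = π d := by
            rw [hde, map_mul, show π e = 1 from (QuotientGroup.eq_one_iff _).2 (mem_zpowers e), mul_one]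
          rw [map_mul, map_mul, map_inv, mul_inv_eq_iff_eq_mul] at h8
          exact h8
        rw [map_mul, map_mul, map_mul, map_inv, map_inv, map_pow, (hxw.pow_left j).eq, mul_inv_cancel_right,
          mul_inv_cancel]
      have h9 := hn.conj_mem' _ (hgen t⁻¹ (inv_mem ht) i) (x ^ i)
      rwa [show (x ^ i)⁻¹ * (x ^ i * t⁻¹ * (x ^ i)⁻¹ * t⁻¹⁻¹) * x ^ i = t⁻¹ * (x ^ i)⁻¹ * t * x ^ i by
        group, ← inv_mem_iff, show (t⁻¹ * (x ^ i)⁻¹ * t * x ^ i)⁻¹ = (x ^ i)⁻¹ * t⁻¹ * x ^ i * t by group]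
        at h9
    have hcen : ∀ g, Commute ((x ^ i)⁻¹ * t⁻¹ * x ^ i * t) g := fun g =>
      (Subgroup.mem_center_iff.1 ((zpowers_le.2 hec : zpowers e ≤ center M) hc) g).symm
    rw [mul_pow_prime F.odd (hcen _) (hcen _) ?_]
    · rw [hE1p t (span_le ht.1), one_mul, ← pow_mul, mul_comm i, pow_mul, hxb, ← pow_mul]
    · obtain ⟨k, hk⟩ := hc
      simp only at hk
      rw [← hk, ← zpow_natCast, ← zpow_mul, mul_comm, zpow_mul, zpow_natCast, hep, one_zpow]
  have hxp : x ^ p = 1 := by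
    by_contra hne
    have hpb : ¬ p ∣ b := by
      rintro ⟨q, rfl⟩
      exact hne (by rw [hxb, pow_mul, hep, one_pow])
    refine no_series h2 hz2 (W := W) (fun α _ v hv => ?_) (fun w hw => span_pow hw.1) (fun w hw _ => ?_)
      fun v hv => ⟨hE1V.ge ?_, E2.mul_mem (E2.inv_mem hv) ((inferInstance : E2.Normal).conj_mem v hv z)⟩
    · obtain ⟨t, ht, i, hi⟩ := hform2 _ (α v).2
      have h10 : (α v : M) ^ p = 1 := by
        have hv1 : v ^ p = 1 := Subtype.ext (by simpa using span_pow hv.1)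
        rw [← SubmonoidClass.coe_pow, ← map_pow, hv1, map_one, OneMemClass.coe_one]
      rw [hi, hpow2 t ht i, ← orderOf_dvd_iff_pow_eq_one, orderOf_eq_prime hep he1] at h10
      obtain ⟨q, rfl⟩ := ((Nat.Prime.dvd_mul hp.out).1 h10).resolve_left hpb
      rw [hi]
      refine mul_mem ht ?_
      rw [pow_mul]
      exact pow_mem (⟨hE1V.ge (pow_mem' h1 x), pow_mem' h2 x⟩ : x ^ p ∈ W) q
    · rw [← (hE1c w (span_le hw.1) z hz1).eq, mul_inv_cancel_right]
    · rw [show v⁻¹ * (z * v * z⁻¹) = ⁅v⁻¹, z⁆ by rw [commutatorElement_def]; group]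
      exact comm_mem h1 _ _
  have hcardM : Nat.card M = p ^ 4 := by
    rw [← Subgroup.card_mul_index E1, hE1card, F.index h1, ← pow_succ]
  have D : Chain p z d e x :=
    ⟨span_pow hz, span_pow hdV, hep, hxp, hVc z hz d (span_le hdV), hVc z hz e (span_le heV), hdcomm, hzd, hde,
      hnc hec⟩
  have hgen : ∀ g : M, ∃ a b c i : ℕ, g = z ^ a * d ^ b * e ^ c * x ^ i := by
    intro g
    obtain ⟨t, ht, i, rfl⟩ := exists_dec h1 hx1 g
    obtain ⟨w, hw, j, rfl⟩ := exists_dec h2 hz2 t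
    have hwV : w ∈ V := by
      have := mul_mem (hE1V.ge ht) (inv_mem (pow_mem hz j))
      rwa [mul_inv_cancel_right] at this
    obtain ⟨a', b', rfl⟩ := hWform w ⟨hwV, hw⟩
    refine ⟨j, a', b', i, ?_⟩
    rw [show d ^ a' * e ^ b' * z ^ j = z ^ j * (d ^ a' * e ^ b') from
      ((hVc _ (pow_mem hdV a') _ (span_le (pow_mem hz j))).mul_left
        (hVc _ (pow_mem heV b') _ (span_le (pow_mem hz j)))).eq, ← mul_assoc (z ^ j)]
  refine ⟨exists_sylow_sp F.odd hcardM D hgen, ⟨hE1c, hE1p, hE1card⟩, ⟨x, hx2, d, hd2, fun h => hd (by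
    rw [h.eq, mul_inv_cancel_right])⟩, fun v hv => ?_, ?_⟩
  · obtain ⟨t, ht, i, rfl⟩ := hform2 v hv
    rw [hpow2 t ht i, pow_mul, ← hxb, hxp, one_pow]
  · refine Nat.eq_of_mul_eq_mul_right hp.out.pos ?_
    conv_lhs => rw [← F.index h2, Subgroup.card_mul_index, hcardM, pow_succ]

/-- A moved central element outside another member. -/
theorem caseOne (hnt : ¬ Cfsg.SectionalPRankLE p 2 M) (h1 : F.Ess E1) (h2 : F.Ess E2) (hz : z ∈ F.span E1) (hz2 : z ∉ E2) :
    SpPair p E1 E2 ∨ ∃ Q, F.Common Q := by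
  obtain ⟨x, hx2, hx1⟩ : ∃ x ∈ E2, x ∉ E1 := by
    by_contra h
    push Not at h
    refine hz2 ?_
    have heq : E2 = E1 := by
      refine Subgroup.eq_of_le_of_card_ge h (le_of_eq (Nat.eq_of_mul_eq_mul_right hp.out.pos ?_))
      conv_lhs => rw [← F.index h1, Subgroup.card_mul_index]
      rw [← Subgroup.card_mul_index E2, F.index h2]
    exact heq ▸ span_le hz
  by_cases hd : x * (z⁻¹ * (x * z * x⁻¹)) * x⁻¹ = z⁻¹ * (x * z * x⁻¹)
  · exact Or.inr (caseOne_central hnt h1 h2 hz hz2 hx2 hx1 hd)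
  · exact Or.inl (caseOne_chain h1 h2 hz hz2 hx2 hx1 hd)

end Fam

end Cfsg.Agent.H91.Rank3
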