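import Cfsg.Agent.H91.Rank3.CaseOne

/-!
All spans lie in all members: at most one member moves the central elements of order `p`, and if its span has
order `p ^ 3` the axis is common.
-/

set_option autoImplicit false
set_option linter.unusedSectionVars false
set_option linter.style.haveILetI false

namespace Cfsg.Agent.H91.Rank3

open Subgroup
open scoped commutatorElement

section Tools

variable {M : Type*} [Group M] [Finite M] {p : ℕ} [hp : Fact p.Prime]

/-- A normal section of order at most `p` is central. -/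
theorem comm_mem_of_card_le (hM : IsPGroup p M) {A B : Subgroup M} [A.Normal] [B.Normal] (hAB : A ≤ B)
    (h : Nat.card B ≤ p * Nat.card A) (m : M) {b : M} (hb : b ∈ B) : ⁅m, b⁆ ∈ A := by
  set π := QuotientGroup.mk' A
  haveI : (B.map π).Normal := Subgroup.Normal.map ‹_› _ (QuotientGroup.mk'_surjective A)
  have hc := PGroups.card_eq_card_map_mul A B
  rw [inf_eq_right.2 hAB] at hc
  rw [hc] at h
  have hle : Nat.card (B.map π) ≤ p := Nat.le_of_mul_le_mul_right h Nat.card_pos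
  have hcen : B.map π ≤ center (M ⧸ A) := by
    by_cases hbot : B.map π = ⊥
    · rw [hbot]; exact bot_le
    · exact PGroups.le_center_of_card_eq (hM.to_quotient A) _
        (le_antisymm hle (Nat.le_of_dvd Nat.card_pos (PGroups.dvd_card_of_ne_bot (hM.to_quotient A) hbot)))
  rw [← QuotientGroup.eq_one_iff]
  show π ⁅m, b⁆ = 1
  rw [map_commutatorElement, commutatorElement_eq_one_iff_mul_comm]
  exact Subgroup.mem_center_iff.1 (hcen ⟨b, hb, rfl⟩) (π m)

/-- The join of two abelian subgroups normalising each other. -/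
theorem sup_card (hp2 : p ≠ 2) (hM : Cfsg.SectionalPRankLE p 3 M) {A B : Subgroup M} (hA : A.Normal)
    (hAc : ∀ a ∈ A, ∀ a' ∈ A, Commute a a') (hAp : ∀ a ∈ A, a ^ p = 1)
    (hBc : ∀ a ∈ B, ∀ a' ∈ B, Commute a a') (hBp : ∀ a ∈ B, a ^ p = 1)
    (hAB : ∀ a ∈ A, ∀ b ∈ B, ⁅a, b⁆ ∈ B) :
    Nat.card A * Nat.card B ≤ p ^ 3 * (Nat.card (A ⊓ B : Subgroup M) * Nat.card (A ⊓ B : Subgroup M)) := by
  set H := A ⊔ B
  set D := A ⊓ B
  have hDH : D ≤ H := inf_le_left.trans le_sup_left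
  have hDc : ∀ x ∈ D, ∀ h ∈ H, Commute x h := fun x hx h hh => by
    obtain ⟨a, ha, b, hb, rfl⟩ := Subgroup.mem_sup_of_normal_left.1 hh
    exact (hAc x hx.1 a ha).mul_right (hBc x hx.2 b hb)
  haveI : (D.subgroupOf H).Normal := ⟨fun x hx g => by
    rw [Subgroup.mem_subgroupOf] at hx ⊢
    rw [Subgroup.coe_mul, Subgroup.coe_mul, Subgroup.coe_inv, ← (hDc _ hx _ g.2).eq, mul_inv_cancel_right]
    exact hx⟩
  have hmem : ∀ a ∈ A, ∀ b ∈ B, ⁅a, b⁆ ∈ D := fun a ha b hb => ⟨by
    rw [show ⁅a, b⁆ = a * (b * a⁻¹ * b⁻¹) by rw [commutatorElement_def]; group]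
    exact mul_mem ha (hA.conj_mem _ (inv_mem ha) b), hAB a ha b hb⟩
  have hrel := relIndex_le_cube hM (H := H) (K := D) (fun x hx y hy => ?_) fun x hx => ?_
  · have h1 := card_mul_relIndex (le_sup_left : A ≤ H)
    have h2 := card_mul_relIndex (inf_le_right : D ≤ B)
    have h3 := card_mul_relIndex hDH
    rw [sup_comm A B, Subgroup.relIndex_sup_right] at h1
    rw [Subgroup.inf_relIndex_right] at h2
    calc Nat.card A * Nat.card B = Nat.card A * A.relIndex B * Nat.card (A ⊓ B : Subgroup M) := by rw [← h2]; ring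
      _ = Nat.card H * Nat.card (A ⊓ B : Subgroup M) := by rw [h1, sup_comm B A]
      _ ≤ Nat.card D * p ^ 3 * Nat.card (A ⊓ B : Subgroup M) :=
          Nat.mul_le_mul_right _ (h3.symm.le.trans (Nat.mul_le_mul_left _ hrel))
      _ = _ := by ring
  · set π := QuotientGroup.mk' (D.subgroupOf H)
    have hcom : ∀ a (ha : a ∈ A) b (hb : b ∈ B),
        Commute (π ⟨a, mem_sup_left ha⟩) (π ⟨b, mem_sup_right hb⟩) := fun a ha b hb => by
      rw [← commutatorElement_eq_one_iff_commute, ← map_commutatorElement]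
      refine (QuotientGroup.eq_one_iff _).2 ?_
      rw [Subgroup.mem_subgroupOf]
      exact hmem a ha b hb
    obtain ⟨a, ha, b, hb, rfl⟩ := Subgroup.mem_sup_of_normal_left.1 hx
    obtain ⟨a', ha', b', hb', rfl⟩ := Subgroup.mem_sup_of_normal_left.1 hy
    have hgoal : π ⁅(⟨a, mem_sup_left ha⟩ * ⟨b, mem_sup_right hb⟩ : H),
        (⟨a', mem_sup_left ha'⟩ * ⟨b', mem_sup_right hb'⟩ : H)⁆ = 1 := by
      rw [map_commutatorElement, map_mul, map_mul, commutatorElement_eq_one_iff_commute]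
      have haa : Commute (⟨a, mem_sup_left ha⟩ : H) ⟨a', mem_sup_left ha'⟩ := Subtype.ext (hAc a ha a' ha').eq
      have hbb : Commute (⟨b, mem_sup_right hb⟩ : H) ⟨b', mem_sup_right hb'⟩ := Subtype.ext (hBc b hb b' hb').eq
      exact ((haa.map π).mul_right (hcom a ha b' hb')).mul_left (((hcom a' ha' b hb).symm).mul_right (hbb.map π))
    have := (QuotientGroup.eq_one_iff _).1 hgoal
    rw [Subgroup.mem_subgroupOf] at this
    exact this
  · obtain ⟨a, ha, b, hb, rfl⟩ := Subgroup.mem_sup_of_normal_left.1 hx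
    have he : b⁻¹ * a⁻¹ * b * a ∈ D := by
      have := inv_mem (hmem a⁻¹ (inv_mem ha) b⁻¹ (inv_mem hb))
      rwa [show ⁅a⁻¹, b⁻¹⁆⁻¹ = b⁻¹ * a⁻¹ * b * a by rw [commutatorElement_def]; group] at this
    rw [mul_pow_prime hp2 (hDc _ he a (mem_sup_left ha)) (hDc _ he b (mem_sup_right hb)) (hAp _ he.1),
      hAp a ha, hBp b hb, one_mul]
    exact one_mem _

end Tools

namespace Fam

variable {M : Type*} [Group M] [Finite M] {p : ℕ} [hp : Fact p.Prime] {F : Fam p M}

/-- The image of a subgroup under an automorphism of `E`. -/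
def img {E : Subgroup M} (α : MulAut E) (Q : Subgroup M) : Subgroup M :=
  ((Q.subgroupOf E).map (α : E ≃* E).toMonoidHom).map E.subtype

theorem mem_img {E Q : Subgroup M} {α : MulAut E} {y : M} :
    y ∈ img α Q ↔ ∃ x : E, (x : M) ∈ Q ∧ (α x : M) = y := by
  constructor
  · rintro ⟨_, ⟨x, hx, rfl⟩, rfl⟩
    exact ⟨x, Subgroup.mem_subgroupOf.1 hx, rfl⟩
  · rintro ⟨x, hx, rfl⟩
    exact ⟨α x, ⟨x, Subgroup.mem_subgroupOf.2 hx, rfl⟩, rfl⟩

theorem img_le {E Q : Subgroup M} {α : MulAut E} : img α Q ≤ E := Subgroup.map_subtype_le _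

theorem card_img {E Q : Subgroup M} {α : MulAut E} (hQ : Q ≤ E) : Nat.card (img α Q) = Nat.card Q := by
  rw [img, Subgroup.card_map_of_injective E.subtype_injective,
    Subgroup.card_map_of_injective (α : E ≃* E).injective, Nat.card_congr (Subgroup.subgroupOfEquivOfLe hQ).toEquiv]

theorem img_comm {E Q : Subgroup M} {α : MulAut E} (h : ∀ a ∈ Q, ∀ b ∈ Q, Commute a b) :
    ∀ a ∈ img α Q, ∀ b ∈ img α Q, Commute a b := by
  intro a ha b hb
  obtain ⟨x, hx, rfl⟩ := mem_img.1 ha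
  obtain ⟨y, hy, rfl⟩ := mem_img.1 hb
  have hxy : Commute x y := Subtype.ext (h _ hx _ hy).eq
  exact (hxy.map (α : E ≃* E).toMonoidHom).map E.subtype

theorem img_pow {E Q : Subgroup M} {α : MulAut E} (h : ∀ a ∈ Q, a ^ p = 1) : ∀ a ∈ img α Q, a ^ p = 1 := by
  intro a ha
  obtain ⟨x, hx, rfl⟩ := mem_img.1 ha
  have hxp : x ^ p = 1 := Subtype.ext (by simpa using h _ hx)
  rw [← SubmonoidClass.coe_pow, ← map_pow, hxp, map_one, OneMemClass.coe_one]

/-- Images of normal subgroups are normalised by `E`. -/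
theorem img_comm_mem {E Q : Subgroup M} [Q.Normal] {α : MulAut E} {e : M} (he : e ∈ E) {b : M} (hb : b ∈ img α Q) :
    ⁅e, b⁆ ∈ img α Q := by
  obtain ⟨x, hx, rfl⟩ := mem_img.1 hb
  refine mem_img.2 ⟨⁅α⁻¹ ⟨e, he⟩, x⁆, ?_, ?_⟩
  · rw [← Subgroup.coe_subtype, map_commutatorElement, commutatorElement_def]
    exact mul_mem ((inferInstance : Q.Normal).conj_mem _ hx _) (inv_mem hx)
  · rw [map_commutatorElement, MulAut.apply_inv_self]
    exact map_commutatorElement E.subtype _ _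

/-- Commuting elementary subgroups of order `p ^ 3` coincide. -/
theorem le_of_commute (F : Fam p M) {A B : Subgroup M} (hA : A.Normal) (hAc : ∀ a ∈ A, ∀ a' ∈ A, Commute a a')
    (hAp : ∀ a ∈ A, a ^ p = 1) (hBc : ∀ a ∈ B, ∀ a' ∈ B, Commute a a') (hBp : ∀ a ∈ B, a ^ p = 1)
    (hAB : ∀ a ∈ A, ∀ b ∈ B, Commute a b) (hcard : p ^ 3 ≤ Nat.card A) : B ≤ A := by
  have h : Nat.card (A ⊔ B : Subgroup M) ≤ p ^ 3 := by
    refine F.card_le_cube (fun x hx y hy => ?_) fun x hx => ?_
    · obtain ⟨a, ha, b, hb, rfl⟩ := Subgroup.mem_sup_of_normal_left.1 hx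
      obtain ⟨a', ha', b', hb', rfl⟩ := Subgroup.mem_sup_of_normal_left.1 hy
      exact ((hAc a ha a' ha').mul_right (hAB a ha b' hb')).mul_left
        ((hAB a' ha' b hb).symm.mul_right (hBc b hb b' hb'))
    · obtain ⟨a, ha, b, hb, rfl⟩ := Subgroup.mem_sup_of_normal_left.1 hx
      rw [(hAB a ha b hb).mul_pow, hAp a ha, hBp b hb, one_mul]
  have heq := Subgroup.eq_of_le_of_card_ge (le_sup_left : A ≤ A ⊔ B) (h.trans hcard)
  exact le_sup_right.trans heq.ge

theorem om_lt_span {E : Subgroup M} (hE : F.Ess E) (h : ¬ F.Inv (om p M) E) : om p M < F.span E :=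
  lt_of_le_of_ne (om_le_span hE) fun heq => h ((inv_om_iff hE).2 heq.symm)

theorem om_normal : (om p M).Normal := PGroups.normal_of_le_center fun _ hx => hx.1

theorem p_le_card_om {E : Subgroup M} (hE : F.Ess E) (h : ¬ F.Inv (om p M) E) : p ≤ Nat.card (om p M) := by
  refine Nat.le_of_dvd Nat.card_pos (PGroups.dvd_card_of_ne_bot F.isP fun hbot => h fun α _ x hx => ?_)
  rw [hbot, Subgroup.mem_bot] at hx ⊢
  rw [show x = 1 from Subtype.ext hx, map_one, OneMemClass.coe_one]

variable {E1 E2 : Subgroup M}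

/-- At most one member moves the central elements. -/
theorem caseTwo_unique (hall : ∀ E E', F.Ess E → F.Ess E' → F.span E ≤ E') (h1 : F.Ess E1) (h2 : F.Ess E2)
    (hn1 : ¬ F.Inv (om p M) E1) (hn2 : ¬ F.Inv (om p M) E2) : E1 = E2 := by
  by_contra hne
  obtain ⟨z, hz2, hz1⟩ : ∃ z ∈ E2, z ∉ E1 := by
    by_contra h
    push Not at h
    refine hne (Subgroup.eq_of_le_of_card_ge h ?_).symm
    refine le_of_eq (Nat.eq_of_mul_eq_mul_right hp.out.pos ?_)
    conv_lhs => rw [← F.index h1, Subgroup.card_mul_index]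
    rw [← Subgroup.card_mul_index E2, F.index h2]
  set V1 := F.span E1
  set V2 := F.span E2
  haveI := span_normal h1
  haveI := span_normal h2
  haveI := om_normal (M := M) (p := p)
  have hc12 : ∀ a ∈ V1, ∀ b ∈ V2, Commute a b := fun a ha b hb => span_comm ha (hall E2 E1 h2 h1 hb)
  have hVc : ∀ {E : Subgroup M}, ∀ a ∈ F.span E, ∀ b ∈ F.span E, Commute a b :=
    fun a ha b hb => span_comm ha (span_le hb)
  have hinf : V1 ⊓ V2 = om p M := by
    refine le_antisymm (fun x hx => ⟨?_, span_pow hx.1⟩) (le_inf (om_le_span h1) (om_le_span h2))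
    exact mem_center_of h1 hz1 (fun e he => span_comm hx.1 he) (span_comm hx.2 hz2)
  have hW : Nat.card (V1 ⊔ V2 : Subgroup M) ≤ p ^ 3 := by
    refine F.card_le_cube (fun x hx y hy => ?_) fun x hx => ?_
    · obtain ⟨a, ha, b, hb, rfl⟩ := Subgroup.mem_sup_of_normal_left.1 hx
      obtain ⟨a', ha', b', hb', rfl⟩ := Subgroup.mem_sup_of_normal_left.1 hy
      exact ((hVc a ha a' ha').mul_right (hc12 a ha b' hb')).mul_left
        ((hc12 a' ha' b hb).symm.mul_right (hVc b hb b' hb'))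
    · obtain ⟨a, ha, b, hb, rfl⟩ := Subgroup.mem_sup_of_normal_left.1 hx
      rw [(hc12 a ha b hb).mul_pow, span_pow ha, span_pow hb, one_mul]
  set o := Nat.card (om p M)
  have ho : p ≤ o := p_le_card_om h1 hn1
  have hprod : Nat.card (V1 ⊔ V2 : Subgroup M) * o = Nat.card V1 * Nat.card V2 := by
    have e1 := card_mul_relIndex (le_sup_left : V1 ≤ V1 ⊔ V2)
    have e2 := card_mul_relIndex (inf_le_right : V1 ⊓ V2 ≤ V2)
    rw [show V1 ⊔ V2 = V2 ⊔ V1 from sup_comm .., Subgroup.relIndex_sup_right] at e1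
    rw [Subgroup.inf_relIndex_right, hinf] at e2
    rw [show V1 ⊔ V2 = V2 ⊔ V1 from sup_comm .., ← e1, ← e2]
    ring
  have ha := mul_card_le F.isP (om_lt_span h1 hn1)
  have hb := mul_card_le F.isP (om_lt_span h2 hn2)
  have hop : o = p := by
    refine le_antisymm ?_ ho
    have h4 : p * o * (p * o) ≤ p ^ 3 * o :=
      (Nat.mul_le_mul ha hb).trans (hprod.symm.le.trans (Nat.mul_le_mul_right _ hW))
    rw [show p * o * (p * o) = p * p * o * o by ring, show p ^ 3 * o = p * p * p * o by ring] at h4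
    exact Nat.le_of_mul_le_mul_left (Nat.le_of_mul_le_mul_right h4 Nat.card_pos)
      (Nat.mul_pos hp.out.pos hp.out.pos)
  have h5 : Nat.card V1 * Nat.card V2 ≤ p ^ 4 := by
    rw [← hprod, hop, pow_succ p 3]
    exact Nat.mul_le_mul_right _ hW
  rw [show Nat.card (om p M) = p from hop] at ha hb
  have hV1 : Nat.card V1 = p * p := le_antisymm (Nat.le_of_mul_le_mul_right (c := p * p)
    ((Nat.mul_le_mul_left _ hb).trans (h5.trans_eq (by ring))) (Nat.mul_pos hp.out.pos hp.out.pos)) ha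
  have hV2 : Nat.card V2 = p * p := le_antisymm ((Nat.mul_le_mul_left_iff (Nat.mul_pos hp.out.pos hp.out.pos)).1
    (((Nat.mul_le_mul_right _ ha).trans h5).trans (le_of_eq (by ring)))) hb
  have hW3 : p ^ 3 ≤ Nat.card (V1 ⊔ V2 : Subgroup M) := by
    refine Nat.le_of_mul_le_mul_right (c := p) ?_ hp.out.pos
    have h6 : Nat.card (V1 ⊔ V2 : Subgroup M) * p = p * p * (p * p) := by
      have := hprod
      rw [hop, hV1, hV2] at this
      exact this
    rw [h6]
    exact le_of_eq (by ring)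
  have hline : ∀ (m : M), ∀ w ∈ V1 ⊔ V2, ⁅m, w⁆ ∈ om p M := by
    intro m w hw
    obtain ⟨a, hA, b, hB, rfl⟩ := Subgroup.mem_sup_of_normal_left.1 hw
    have l1 := comm_mem_of_card_le F.isP (om_le_span h1) (hV1.le.trans (Nat.mul_le_mul_left _ hop.ge)) m hA
    have l2 := comm_mem_of_card_le F.isP (om_le_span h2) (hV2.le.trans (Nat.mul_le_mul_left _ hop.ge)) m hB
    rw [show ⁅m, a * b⁆ = ⁅m, a⁆ * (a * ⁅m, b⁆ * a⁻¹) by simp only [commutatorElement_def]; group]
    exact mul_mem l1 ((inferInstance : (om p M).Normal).conj_mem _ l2 a)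
  have hW2 : V1 ⊔ V2 ≤ E2 := sup_le (hall E1 E2 h1 h2) span_le
  have hWc : ∀ a ∈ V1 ⊔ V2, ∀ a' ∈ V1 ⊔ V2, Commute a a' := fun x hx y hy => by
    obtain ⟨a, ha', b, hb', rfl⟩ := Subgroup.mem_sup_of_normal_left.1 hx
    obtain ⟨a', ha'', b', hb'', rfl⟩ := Subgroup.mem_sup_of_normal_left.1 hy
    exact ((hVc a ha' a' ha'').mul_right (hc12 a ha' b' hb'')).mul_left
      ((hc12 a' ha'' b hb').symm.mul_right (hVc b hb' b' hb''))
  have hWp : ∀ a ∈ V1 ⊔ V2, a ^ p = 1 := fun x hx => by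
    obtain ⟨a, ha', b, hb', rfl⟩ := Subgroup.mem_sup_of_normal_left.1 hx
    rw [(hc12 a ha' b hb').mul_pow, span_pow ha', span_pow hb', one_mul]
  -- elements moving the central elements stabilise `W`
  have hmoved : ∀ g ∈ F.G E2, ∀ z0 : E2, (z0 : M) ∈ om p M → (g z0 : M) ∉ om p M →
      ∀ x : E2, (x : M) ∈ V1 ⊔ V2 → (g x : M) ∈ V1 ⊔ V2 := by
    intro g hg z0 hz0 hgz x hx
    refine F.le_of_commute (B := img g (V1 ⊔ V2)) inferInstance hWc hWp (img_comm hWc) (img_pow hWp) ?_ hW3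
      (mem_img.2 ⟨x, hx, rfl⟩)
    intro a ha' b hb'
    obtain ⟨b0, hb0, rfl⟩ := mem_img.1 hb'
    rw [← commutatorElement_eq_one_iff_commute]
    by_contra hne1
    have h7 : ⁅a, (g b0 : M)⁆ ∈ om p M := by
      rw [← commutatorElement_inv]; exact inv_mem (hline _ a ha')
    set a0 : E2 := g⁻¹ ⟨a, hW2 ha'⟩
    have h8 : ((⁅a0, b0⁆ : E2) : M) ∈ om p M := by
      rw [← Subgroup.coe_subtype, map_commutatorElement]
      exact hline _ _ hb0
    have h9 : (g ⁅a0, b0⁆ : M) = ⁅a, (g b0 : M)⁆ := by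
      rw [map_commutatorElement, MulAut.apply_inv_self]
      exact map_commutatorElement E2.subtype _ _
    have hgen : zpowers ((⁅a0, b0⁆ : E2) : M) = om p M := by
      refine Subgroup.eq_of_le_of_card_ge (zpowers_le.2 h8) ?_
      rw [show Nat.card (om p M) = p from hop, card_zpowers_prime h8.2 fun h =>
        hne1 (by rw [← h9, show ⁅a0, b0⁆ = 1 from Subtype.ext h, map_one, OneMemClass.coe_one])]
    obtain ⟨k, hk⟩ := hgen.ge hz0
    refine hgz ?_
    rw [show z0 = ⁅a0, b0⁆ ^ k from Subtype.ext (by rw [SubgroupClass.coe_zpow]; exact hk.symm), map_zpow,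
      SubgroupClass.coe_zpow, h9]
    exact zpow_mem h7 k
  obtain ⟨g0, hg0, z0, hz0, hgz0⟩ : ∃ g ∈ F.G E2, ∃ z0 : E2, (z0 : M) ∈ om p M ∧ (g z0 : M) ∉ om p M := by
    by_contra h
    push Not at h
    exact hn2 h
  have hWinv : F.Inv (V1 ⊔ V2) E2 := by
    intro g hg x hx
    by_cases hs : ∀ z0 : E2, (z0 : M) ∈ om p M → (g z0 : M) ∈ om p M
    · have hq : ∀ y : E2, (y : M) ∈ om p M → ((g * g0⁻¹) (g0 y) : M) ∈ om p M := fun y hy => by
        rw [MulAut.mul_apply, MulAut.inv_apply_self]; exact hs y hy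
      have hg1 : ∃ w : E2, (w : M) ∈ om p M ∧ ((g * g0⁻¹) w : M) ∉ om p M := by
        by_contra h
        push Not at h
        refine hgz0 ?_
        -- `g * g0⁻¹` preserves the central elements, so does its inverse, so does `g0`
        have hinv' : ∀ w : E2, (w : M) ∈ om p M → ((g0 * g⁻¹) w : M) ∈ om p M := by
          intro w hw
          set ψ := g * g0⁻¹
          have hsurj : ∃ w' : E2, (w' : M) ∈ om p M ∧ ψ w' = w := by
            let f : (om p M).subgroupOf E2 → (om p M).subgroupOf E2 := fun v =>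
              ⟨ψ v, Subgroup.mem_subgroupOf.2 (h v (Subgroup.mem_subgroupOf.1 v.2))⟩
            have hf : Function.Injective f := fun u v huv =>
              Subtype.ext (ψ.injective (congrArg Subtype.val huv))
            obtain ⟨w', hw'⟩ := (Finite.injective_iff_surjective.1 hf) ⟨w, Subgroup.mem_subgroupOf.2 hw⟩
            exact ⟨w', Subgroup.mem_subgroupOf.1 w'.2, congrArg Subtype.val hw'⟩
          obtain ⟨w', hw', he⟩ := hsurj
          rw [← he, show (g0 * g⁻¹) (ψ w') = w' by simp [ψ, MulAut.mul_apply]]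
          exact hw'
        have := hinv' (g z0) (hs z0 hz0)
        rwa [MulAut.mul_apply, MulAut.inv_apply_self] at this
      obtain ⟨w, hw, hwn⟩ := hg1
      have := hmoved _ (mul_mem hg (inv_mem hg0)) w hw hwn (g0 x) (hmoved g0 hg0 z0 hz0 hgz0 x hx)
      rwa [MulAut.mul_apply, MulAut.inv_apply_self] at this
    · push Not at hs
      obtain ⟨w, hw, hwn⟩ := hs
      exact hmoved g hg w hw hwn x hx
  have hcen : ∀ w ∈ V1 ⊔ V2, ∀ e ∈ E2, Commute e w := by
    intro w hw e he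
    rw [← commutatorElement_eq_one_iff_commute]
    by_contra hne1
    refine hgz0 ?_
    set t : E2 := ⁅(⟨e, he⟩ : E2), ⟨w, hW2 hw⟩⁆
    have ht : (t : M) = ⁅e, w⁆ := map_commutatorElement E2.subtype _ _
    have hgen : zpowers (t : M) = om p M := by
      rw [ht]
      refine Subgroup.eq_of_le_of_card_ge (zpowers_le.2 (hline e w hw)) ?_
      rw [show Nat.card (om p M) = p from hop, card_zpowers_prime (hline e w hw).2 hne1]
    obtain ⟨k, hk⟩ := hgen.ge hz0
    rw [show z0 = t ^ k from Subtype.ext (by rw [SubgroupClass.coe_zpow]; exact hk.symm), map_zpow,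
      SubgroupClass.coe_zpow]
    refine zpow_mem ?_ k
    rw [map_commutatorElement, ← Subgroup.coe_subtype, map_commutatorElement]
    exact hline _ _ (hWinv g0 hg0 _ hw)
  refine hn1 ((inv_om_iff h1).2 (le_antisymm (fun v hv => ⟨?_, span_pow hv⟩) (om_le_span h1)))
  exact mem_center_of h1 hz1 (fun e he => span_comm hv he) (hcen v (mem_sup_left hv) z hz2).symm

variable (hu : ∀ E, F.Ess E → ¬ F.Inv (om p M) E → E = E1) (h1 : F.Ess E1) (hn1 : ¬ F.Inv (om p M) E1)
include hu h1 hn1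

/-- The span of the only mover is `Γ`-invariant. -/
theorem gInv_span : F.GInv (F.span E1) := fun γ hγ v hv => by
  have := span_transport h1 hγ hv
  rwa [hu _ (F.transport h1 γ hγ).1 (not_inv_transport h1 hn1 hγ)] at this

omit hu in
/-- Only elements of the mover centralise its span. -/
theorem mem_of_commute {m : M} (hm : ∀ v ∈ F.span E1, Commute m v) : m ∈ E1 := by
  by_contra h
  refine hn1 ((inv_om_iff h1).2 (le_antisymm (fun v hv => ⟨?_, span_pow hv⟩) (om_le_span h1)))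
  exact mem_center_of h1 h (fun e he => span_comm hv he) (hm v hv).symm

set_option maxHeartbeats 400000 in
/-- A span of order `p ^ 3` makes its axis common. -/
theorem caseTwo_cube (hall : ∀ E E', F.Ess E → F.Ess E' → F.span E ≤ E') (h2 : F.Ess E2)
    (hn2 : ¬ F.Inv (F.span E1) E2) (hcard : Nat.card (F.span E1) = p ^ 3) : ∃ Q, F.Common Q := by
  set V := F.span E1 with hV
  haveI hVn : V.Normal := span_normal h1
  have hV2 : V ≤ E2 := hall E1 E2 h1 h2
  have hVc : ∀ a ∈ V, ∀ b ∈ V, Commute a b := fun a ha b hb => span_comm ha (span_le hb)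
  have hVp : ∀ a ∈ V, a ^ p = 1 := fun a ha => span_pow ha
  obtain ⟨g, hg, hnc⟩ : ∃ g ∈ F.G E2, ¬ ∀ a ∈ V, ∀ b ∈ img g V, Commute a b := by
    by_contra h
    push Not at h
    exact hn2 fun g hg x hx => F.le_of_commute hVn hVc hVp (img_comm hVc) (img_pow hVp) (h g hg) hcard.ge
      (mem_img.2 ⟨x, hx, rfl⟩)
  set B := img g V
  set D := V ⊓ B
  have hsup := sup_card F.odd F.rank hVn hVc hVp (img_comm (α := g) hVc) (img_pow (α := g) hVp)
    fun a ha b hb => img_comm_mem (hV2 ha) hb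
  rw [card_img hV2, hcard] at hsup
  obtain ⟨j, hj⟩ := IsPGroup.iff_card.1 (F.isP.to_subgroup D)
  have hD2 : p ^ 2 ≤ Nat.card D := by
    rw [hj] at hsup ⊢
    rw [← pow_add, ← pow_add, ← pow_add] at hsup
    exact Nat.pow_le_pow_right hp.out.pos (by
      have := (Nat.pow_le_pow_iff_right hp.out.one_lt).1 hsup; omega)
  obtain ⟨u, huB, hu1⟩ : ∃ u ∈ B, u ∉ E1 := by
    by_contra h
    push Not at h
    exact hnc fun a ha b hb => span_comm ha (h b hb)
  have hu2 : u ∈ E2 := img_le huB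
  have hDom : D ≤ om p M := fun x hx =>
    ⟨mem_center_of h1 hu1 (fun e he => span_comm hx.1 he) (img_comm hVc x hx.2 u huB), hVp x hx.1⟩
  have hcom : Nat.card (om p M) = p ^ 2 := by
    refine le_antisymm ?_ (hD2.trans (Subgroup.card_le_of_le hDom))
    have := (mul_card_le F.isP (om_lt_span h1 hn1)).trans_eq hcard
    rw [pow_succ'] at this
    exact Nat.le_of_mul_le_mul_left this hp.out.pos
  -- the displacement of `u`
  have hval : ∀ v ∈ V, ⁅u, v⁆ ∈ om p M := fun v hv => hDom ⟨by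
    rw [commutatorElement_def]
    exact V.mul_mem (hVn.conj_mem v hv u) (V.inv_mem hv), by
    rw [← commutatorElement_inv]
    exact B.inv_mem (img_comm_mem (hV2 hv) huB)⟩
  have hcz : ∀ {t : M}, t ∈ om p M → ∀ g, Commute t g := fun ht g => ((mem_om.1 ht).1 g).symm
  let η : V →* M := MonoidHom.mk' (fun v => ⁅u, (v : M)⁆) fun a b => by
    show ⁅u, (a : M) * b⁆ = ⁅u, (a : M)⁆ * ⁅u, (b : M)⁆
    rw [show ⁅u, (a : M) * b⁆ = ⁅u, (a : M)⁆ * ((a : M) * ⁅u, (b : M)⁆ * (a : M)⁻¹) by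
      simp only [commutatorElement_def]; group, (hcz (hval b b.2) a).symm.eq, mul_inv_cancel_right]
  have hker : (om p M).subgroupOf V ≤ η.ker := fun v hv => by
    show ⁅u, (v : M)⁆ = 1
    rw [commutatorElement_eq_one_iff_commute]
    exact (mem_om.1 (Subgroup.mem_subgroupOf.1 hv)).1 u
  have hrange : Nat.card η.range ≤ p := by
    have e1 := Subgroup.card_mul_index η.ker
    rw [Subgroup.index_ker, hcard] at e1
    have e2 := Subgroup.card_le_of_le hker
    rw [Nat.card_congr (Subgroup.subgroupOfEquivOfLe (om_le_span h1)).toEquiv, hcom] at e2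
    refine (Nat.mul_le_mul_left_iff (Nat.pow_pos (n := 2) hp.out.pos)).1 ?_
    calc p ^ 2 * Nat.card η.range ≤ Nat.card η.ker * Nat.card η.range := Nat.mul_le_mul_right _ e2
      _ = p ^ 2 * p := by rw [e1]; ring
  obtain ⟨v0, hv0, hd1⟩ : ∃ v ∈ V, ⁅u, v⁆ ≠ 1 := by
    by_contra h
    push Not at h
    exact hu1 (mem_of_commute h1 hn1 fun v hv => commutatorElement_eq_one_iff_commute.1 (h v hv))
  set d := ⁅u, v0⁆
  have hdom : d ∈ om p M := hval v0 hv0
  have hdr : d ∈ η.range := ⟨⟨v0, hv0⟩, rfl⟩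
  have hdcard : Nat.card (zpowers d) = p := card_zpowers_prime (x := d) hdom.2 hd1
  have hrd : η.range = zpowers d :=
    (Subgroup.eq_of_le_of_card_ge (zpowers_le.2 hdr) (by rw [hdcard]; exact hrange)).symm
  have hline : ∀ (m : M), ∀ w ∈ V, ⁅m, w⁆ ∈ zpowers d := by
    intro m w hw
    obtain ⟨e, he, i, rfl⟩ := exists_dec h1 hu1 m
    have hi : ∀ i : ℕ, ⁅u ^ i, w⁆ ∈ zpowers d := by
      intro i
      induction i with
      | zero => simp
      | succ i ih =>
        rw [show ⁅u ^ (i + 1), w⁆ = u ^ i * ⁅u, w⁆ * (u ^ i)⁻¹ * ⁅u ^ i, w⁆ by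
          rw [pow_succ]; simp only [commutatorElement_def]; group,
          (hcz (hval w hw) _).symm.eq, mul_inv_cancel_right]
        exact mul_mem (hrd.le ⟨⟨w, hw⟩, rfl⟩) ih
    have h3 : ⁅u ^ i, w⁆ ∈ om p M := (zpowers_le.2 hdom : zpowers d ≤ om p M) (hi i)
    rw [show ⁅e * u ^ i, w⁆ = e * ⁅u ^ i, w⁆ * e⁻¹ * ⁅e, w⁆ by simp only [commutatorElement_def]; group,
      (hcz h3 e).symm.eq, mul_inv_cancel_right, commutatorElement_eq_one_iff_commute.2 (span_comm hw he).symm,
      mul_one]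
    exact hi i
  have hGd : F.GInv (zpowers d) := fun γ hγ y hy => by
    obtain ⟨k, rfl⟩ := hy
    simp only
    rw [map_zpow, map_commutatorElement]
    exact zpow_mem (hline _ _ (gInv_span hu h1 hn1 γ hγ v0 hv0)) k
  have hinf : V ⊓ center M = om p M :=
    le_antisymm (fun x hx => ⟨hx.2, hVp x hx.1⟩) (le_inf (om_le_span h1) fun x hx => hx.1)
  obtain ⟨-, c, hcV, hcom', hcd, hinv, γ, hγ, hγd, hγc⟩ := exists_axis h1 inv_span span_le hcard
    (fun w hw e he => (span_comm hw he).symm) hVp hd1 (om_le_span h1 hdom) hdom.1 hline (hinf ▸ hn1)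
  have hc1 : c ≠ 1 := fun h => hcd (h ▸ one_mem _)
  have hGc : F.GInv (zpowers c) :=
    gInv_line hdom.2 hd1 hdom.1 hcom'.1 hGd gInv_om hcom.le hcom' hdom hcd hγ hγd hγc
  refine ⟨zpowers c, by simpa [Subgroup.zpowers_eq_bot] using hc1, fun E hE =>
    ⟨zpowers_le.2 (center_le hE hcom'.1), ?_⟩, hGc⟩
  by_cases hEn : F.Inv (om p M) E
  · refine inv_of_trivial hE hEn (Z0 := ⊥) (fun α _ x hx => ?_) bot_le (zpowers_le.2 hcom') hGc fun m w hw => ?_
    · rw [Subgroup.mem_bot] at hx ⊢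
      rw [show x = 1 from Subtype.ext hx, map_one, OneMemClass.coe_one]
    · rw [Subgroup.mem_bot, commutatorElement_eq_one_iff_commute]
      exact (mem_om.1 hw).1 m
  · rw [hu E hE hEn]
    exact hinv

end Fam

end Cfsg.Agent.H91.Rank3
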