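import Cfsg.Agent.H91.Rank3.Basic
import Cfsg.Agent.PGroups.PCentral

/-!
The top power map of a `p`-central normal subgroup is multiplicative, for `p` odd.
-/

set_option autoImplicit false
set_option linter.unusedSectionVars false
set_option linter.style.haveILetI false

namespace Cfsg.Agent.H91.Rank3

universe v

open Subgroup

variable {p : ℕ} [hp : Fact p.Prime]

theorem pow_hom_of_pCentral (hp2 : p ≠ 2) : ∀ (m : ℕ) (G : Type v) [Group G] [Finite G], IsPGroup p G →
    ∀ (C : Subgroup G) [C.Normal], PGroups.IsPCentralIn p C → (∀ x ∈ C, x ^ p ^ (m + 1) = 1) →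
      ∀ x ∈ C, ∀ y ∈ C, (x * y) ^ p ^ m = x ^ p ^ m * y ^ p ^ m := by
  intro m
  induction m with
  | zero => intro G _ _ _ C _ _ _ x _ y _; simp
  | succ m ih =>
    intro G _ _ hG C _ hc hexp x hx y hy
    haveI : (PGroups.torsionIn hc).Normal := PGroups.torsionIn_normal hc
    set E := PGroups.torsionIn hc with hE
    set q := QuotientGroup.mk' E
    haveI : (C.map q).Normal := Subgroup.Normal.map ‹_› _ (QuotientGroup.mk'_surjective E)
    have h := ih (G ⧸ E) (hG.to_quotient E) (C.map q) (PGroups.isPCentralIn_map hG hp2 hc E hE) (by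
      rintro _ ⟨a, ha, rfl⟩
      rw [← map_pow]
      refine (QuotientGroup.eq_one_iff _).2 ⟨pow_mem ha _, ?_⟩
      rw [← pow_mul, ← pow_succ]
      exact hexp a ha) (q x) ⟨x, hx, rfl⟩ (q y) ⟨y, hy, rfl⟩
    rw [← map_mul, ← map_pow, ← map_pow, ← map_pow, ← map_mul] at h
    have hu : ((x * y) ^ p ^ m)⁻¹ * (x ^ p ^ m * y ^ p ^ m) ∈ E := QuotientGroup.eq.1 h
    obtain ⟨huC, hup⟩ := PGroups.mem_torsionIn.1 hu
    have hxy : (x * y) ^ p ^ m ∈ C := pow_mem (mul_mem hx hy) _
    have h2 : (x ^ p ^ m * y ^ p ^ m) ^ p = ((x * y) ^ p ^ m) ^ p := by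
      have hcm := hc _ huC hup _ hxy
      generalize hv : ((x * y) ^ p ^ m)⁻¹ * (x ^ p ^ m * y ^ p ^ m) = v at hcm hup
      rw [show x ^ p ^ m * y ^ p ^ m = (x * y) ^ p ^ m * v by rw [← hv, mul_inv_cancel_left],
        hcm.symm.mul_pow, hup, mul_one]
    rw [PGroups.mul_pow_of_pow_central hG hp2 hc (pow_mem hx _) (pow_mem hy _) (fun c hcC => by
      refine hc _ (pow_mem (pow_mem hx _) _) ?_ c hcC
      rw [← pow_mul, ← pow_mul, show p ^ m * (p * p) = p ^ (m + 1 + 1) by ring]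
      exact hexp x hx)] at h2
    rw [pow_succ, pow_mul, pow_mul, pow_mul]
    exact h2.symm

end Cfsg.Agent.H91.Rank3
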