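import Cfsg.Agent.H91.Rank3.CaseTwoPair
import Cfsg.Agent.H91.Rank3.PowerHom

/-!
A span of order `p ^ 2` with pairwise commuting images: impossible.
-/

set_option autoImplicit false
set_option linter.unusedSectionVars false
set_option linter.style.haveILetI false

namespace Cfsg.Agent.H91.Rank3

open Subgroup
open scoped commutatorElement

section Tools

variable {H : Type*} [Group H] [Finite H]

/-- Two elements with commutator commuting with both generate a group with derived subgroup on the commutator. -/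
theorem comm_mem_zpowers {a b : H} (ha : Commute ⁅a, b⁆ a) (hb : Commute ⁅a, b⁆ b) {x y : H}
    (hx : x ∈ closure ({a, b} : Set H)) (hy : y ∈ closure ({a, b} : Set H)) : ⁅x, y⁆ ∈ zpowers ⁅a, b⁆ := by
  set L := zpowers ⁅a, b⁆
  set K := closure ({a, b} : Set H)
  have hcK : ∀ z ∈ K, Commute ⁅a, b⁆ z := fun z hz => by
    refine (mem_centralizer_singleton_iff.1 ((closure_le (K := centralizer {⁅a, b⁆})).2 ?_ hz)).symm
    rintro w (rfl | rfl) <;> refine SetLike.mem_coe.2 (mem_centralizer_singleton_iff.2 ?_)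
    exacts [ha.symm.eq, hb.symm.eq]
  haveI : (L.subgroupOf K).Normal := ⟨fun z hz g => by
    rw [Subgroup.mem_subgroupOf] at hz ⊢
    obtain ⟨i, hi⟩ := hz
    simp only at hi
    rw [Subgroup.coe_mul, Subgroup.coe_mul, Subgroup.coe_inv, ← hi, ← ((hcK _ g.2).zpow_left i).eq,
      mul_inv_cancel_right]
    exact ⟨i, rfl⟩⟩
  set π := QuotientGroup.mk' (L.subgroupOf K)
  set a' : K := ⟨a, subset_closure (by simp)⟩
  set b' : K := ⟨b, subset_closure (by simp)⟩
  have hab : Commute (π a') (π b') := by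
    rw [← commutatorElement_eq_one_iff_commute, ← map_commutatorElement]
    refine (QuotientGroup.eq_one_iff _).2 (Subgroup.mem_subgroupOf.2 ?_)
    rw [← Subgroup.coe_subtype, map_commutatorElement]
    exact mem_zpowers _
  have h1 : ∀ z : K, Commute (π a') (π z) ∧ Commute (π b') (π z) := by
    intro z
    suffices hle : K ≤ ((centralizer {π a', π b'}).comap π).map K.subtype by
      obtain ⟨z', hz', he⟩ := hle z.2
      obtain rfl : z' = z := Subtype.ext he
      rw [SetLike.mem_coe, Subgroup.mem_comap, Subgroup.mem_centralizer_iff] at hz'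
      exact ⟨hz' _ (by simp), hz' _ (by simp)⟩
    refine (closure_le _).2 ?_
    rintro w (rfl | rfl)
    · refine ⟨a', Subgroup.mem_centralizer_iff.2 ?_, rfl⟩
      rintro v (rfl | rfl)
      exacts [rfl, hab.symm.eq]
    · refine ⟨b', Subgroup.mem_centralizer_iff.2 ?_, rfl⟩
      rintro v (rfl | rfl)
      exacts [hab.eq, rfl]
  have h2 : Commute (π ⟨x, hx⟩) (π ⟨y, hy⟩) := by
    suffices hle : K ≤ ((centralizer {π ⟨y, hy⟩}).comap π).map K.subtype by
      obtain ⟨z', hz', he⟩ := hle hx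
      obtain rfl : z' = ⟨x, hx⟩ := Subtype.ext he
      exact mem_centralizer_singleton_iff.1 hz'
    refine (closure_le _).2 ?_
    rintro w (rfl | rfl)
    · exact ⟨a', mem_centralizer_singleton_iff.2 (h1 ⟨y, hy⟩).1.eq, rfl⟩
    · exact ⟨b', mem_centralizer_singleton_iff.2 (h1 ⟨y, hy⟩).2.eq, rfl⟩
  rw [← commutatorElement_eq_one_iff_commute, ← map_commutatorElement] at h2
  have h3 := (QuotientGroup.eq_one_iff _).1 h2
  rw [Subgroup.mem_subgroupOf, ← Subgroup.coe_subtype, map_commutatorElement] at h3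
  exact h3

end Tools

namespace Fam

variable {M : Type*} [Group M] [Finite M] {p : ℕ} [hp : Fact p.Prime] {F : Fam p M} {E Q : Subgroup M}

variable (F) in
/-- The subgroup generated by the images of a subgroup. -/
def orbitSpan (E Q : Subgroup M) : Subgroup M :=
  Subgroup.closure {y | ∃ α ∈ F.G E, ∃ x : E, (x : M) ∈ Q ∧ (α x : M) = y}

theorem orbitSpan_le : F.orbitSpan E Q ≤ E := (Subgroup.closure_le _).2 (by
  rintro y ⟨α, -, x, -, rfl⟩
  exact (α x).2)

theorem le_orbitSpan (hQ : Q ≤ E) : Q ≤ F.orbitSpan E Q := fun x hx =>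
  Subgroup.subset_closure ⟨1, one_mem _, ⟨x, hQ hx⟩, hx, rfl⟩

theorem inv_orbitSpan : F.Inv (F.orbitSpan E Q) E := by
  intro α hα x hx
  have hle : F.orbitSpan E Q ≤ ((F.orbitSpan E Q).comap (E.subtype.comp (α : E ≃* E).toMonoidHom)).map E.subtype := by
    refine (Subgroup.closure_le _).2 ?_
    rintro y ⟨β, hβ, u, hu, rfl⟩
    exact ⟨β u, Subgroup.subset_closure ⟨α * β, mul_mem hα hβ, u, hu, rfl⟩, rfl⟩
  obtain ⟨x', hx', he⟩ := hle hx
  rwa [show x' = x from Subtype.ext he] at hx'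

theorem orbitSpan_le_of_inv {J : Subgroup M} (hJ : F.Inv J E) (h : Q ≤ J) : F.orbitSpan E Q ≤ J :=
  (Subgroup.closure_le _).2 (by
    rintro y ⟨α, hα, x, hx, rfl⟩
    exact hJ α hα x (h hx))

/-- Centralisers of invariant subgroups are invariant. -/
theorem inv_centralizer {U : Subgroup M} (hU : F.Inv U E) (hUE : U ≤ E) : F.Inv (centralizer (U : Set M)) E := by
  intro α hα x hx
  rw [Subgroup.mem_centralizer_iff] at hx ⊢
  intro u hu
  set u0 : E := α⁻¹ ⟨u, hUE hu⟩
  have hc : Commute u0 x := Subtype.ext (hx _ (hU _ (inv_mem hα) ⟨u, hUE hu⟩ hu))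
  have := (hc.map (α : E ≃* E).toMonoidHom).map E.subtype
  simpa [u0] using this.eq

variable {E1 E2 : Subgroup M} (hu : ∀ E, F.Ess E → ¬ F.Inv (om p M) E → E = E1) (h1 : F.Ess E1)
  (hn1 : ¬ F.Inv (om p M) E1)
include hu h1 hn1

omit hu in
set_option maxHeartbeats 800000 in
/-- Pairwise commuting images are impossible. -/
theorem caseTwo_comm (hall : ∀ E E', F.Ess E → F.Ess E' → F.span E ≤ E') (h2 : F.Ess E2)
    (hom2 : F.Inv (om p M) E2) (hn2 : ¬ F.Inv (F.span E1) E2) (hcard : Nat.card (F.span E1) ≠ p ^ 3)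
    (hcomm : ∀ g ∈ F.G E2, ∀ a ∈ F.span E1, ∀ b ∈ img g (F.span E1), Commute a b) (hG : F.GInv (F.span E1)) :
    False := by
  classical
  obtain ⟨hV, hom, hline⟩ := small_span h1 hn1 hcard
  set V := F.span E1
  haveI hVn : V.Normal := span_normal h1
  haveI := normal h1
  haveI := normal h2
  haveI hon := om_normal (M := M) (p := p)
  have hcz : ∀ {t : M}, t ∈ om p M → ∀ g, Commute t g := fun ht g => ((mem_om.1 ht).1 g).symm
  have hVc : ∀ a ∈ V, ∀ b ∈ E1, Commute a b := fun a ha b hb => span_comm ha hb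
  have hV2 : V ≤ E2 := hall E1 E2 h1 h2
  set U := F.orbitSpan E2 V with hUdef
  have hVU : V ≤ U := le_orbitSpan hV2
  have hU2 : U ≤ E2 := orbitSpan_le
  haveI hUn : U.Normal := inv_orbitSpan.normal h2 hU2
  have hUc : ∀ a ∈ U, ∀ b ∈ U, Commute a b := by
    set S := {y | ∃ α ∈ F.G E2, ∃ x : E2, (x : M) ∈ V ∧ (α x : M) = y}
    have hS : ∀ a ∈ S, ∀ b ∈ S, Commute a b := by
      rintro _ ⟨α, hα, x, hx, rfl⟩ _ ⟨β, hβ, x', hx', rfl⟩
      have h : Commute x ((α⁻¹ * β) x') := Subtype.ext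
        (hcomm _ (mul_mem (inv_mem hα) hβ) _ hx _ (mem_img.2 ⟨x', hx', rfl⟩)).eq
      have h' := (h.map (α : E2 ≃* E2).toMonoidHom).map E2.subtype
      simpa [MulAut.mul_apply] using h'
    intro a ha b hb
    have hle : U ≤ centralizer S := (Subgroup.closure_le _).2 fun x hx y hy => (hS y hy x hx).eq
    have hle' : U ≤ centralizer (U : Set M) := (Subgroup.closure_le _).2 fun x hx y hy => (hle hy x hx).symm
    exact (hle' ha b hb).symm
  have hUp : ∀ a ∈ U, a ^ p = 1 := by
    intro a ha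
    induction ha using Subgroup.closure_induction with
    | mem y hy =>
      obtain ⟨α, -, x, hx, rfl⟩ := hy
      exact img_pow (fun v hv => span_pow hv) _ (mem_img.2 ⟨x, hx, rfl⟩)
    | one => exact one_pow _
    | mul x y hx hy ihx ihy => rw [(hUc x hx y hy).mul_pow, ihx, ihy, one_mul]
    | inv x _ ih => rw [inv_pow, ih, inv_one]
  have hU1 : U ≤ E1 := fun x hx => mem_of_commute h1 hn1 fun v hv => hUc x hx v (hVU hv)
  have hUne : ¬ U ≤ V := fun h => hn2 fun α hα x hx =>
    h (inv_orbitSpan α hα x (hVU hx))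
  have hU3 : Nat.card U = p ^ 3 := by
    refine le_antisymm (F.card_le_cube hUc hUp) ?_
    have := mul_card_le F.isP (lt_of_le_not_ge hVU hUne)
    rwa [hV, ← pow_succ'] at this
  set π := QuotientGroup.mk' (om p M)
  have hUline : ∀ e ∈ E2, ∀ w ∈ U, ⁅e, w⁆ ∈ om p M := by
    intro e he w hw
    have hle : U ≤ (centralizer {π e}).comap π := (Subgroup.closure_le _).2 (by
      rintro y ⟨α, hα, x, hx, rfl⟩
      rw [SetLike.mem_coe, Subgroup.mem_comap, mem_centralizer_singleton_iff]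
      have h := img_comm_le hom2 hline hα he (mem_img.2 ⟨x, hx, rfl⟩)
      rw [← QuotientGroup.eq_one_iff] at h
      have h' : π ⁅e, (α x : M)⁆ = 1 := h
      rw [map_commutatorElement, commutatorElement_eq_one_iff_mul_comm] at h'
      exact h'.symm)
    rw [← QuotientGroup.eq_one_iff]
    show π ⁅e, w⁆ = 1
    rw [map_commutatorElement, commutatorElement_eq_one_iff_mul_comm]
    exact (mem_centralizer_singleton_iff.1 (hle hw)).symm
  have hUV : ∀ (m : M), ∀ w ∈ U, ⁅m, w⁆ ∈ V := fun m w hw =>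
    comm_mem_of_card_le F.isP hVU (by rw [hU3, hV, pow_succ']) m hw
  obtain ⟨y, hy1, hy2⟩ : ∃ y ∈ E1, y ∉ E2 := by
    by_contra h
    push Not at h
    refine hn2 ?_
    have heq : E1 = E2 := Subgroup.eq_of_le_of_card_ge h (le_of_eq (Nat.eq_of_mul_eq_mul_right hp.out.pos (by
      conv_lhs => rw [← F.index h2, Subgroup.card_mul_index]
      rw [← Subgroup.card_mul_index E1, F.index h1])))
    subst heq
    exact inv_span
  obtain ⟨s, hs, hys⟩ : ∃ s ∈ U, ⁅y, s⁆ ∉ om p M := by
    by_contra h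
    push Not at h
    refine hn2 (inv_of_trivial h2 inv_orbitSpan hom2 (om_le_span h1) hVU hG fun m w hw => ?_)
    obtain ⟨e, he, i, rfl⟩ := exists_dec h2 hy2 m
    rw [← QuotientGroup.eq_one_iff]
    show π ⁅e * y ^ i, w⁆ = 1
    have h' : ∀ m' : M, ⁅m', w⁆ ∈ om p M → Commute (π m') (π w) := fun m' hm => by
      rw [← commutatorElement_eq_one_iff_commute, ← map_commutatorElement]
      exact (QuotientGroup.eq_one_iff _).2 hm
    rw [map_commutatorElement, map_mul, map_pow, commutatorElement_eq_one_iff_commute]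
    exact (h' e (hUline e he w hw)).mul_left ((h' y (h w hw)).pow_left i)
  set v1 := ⁅y, s⁆
  have hv1 : v1 ∈ V := hUV y s hs
  have hsV : s ∉ V := fun h => hys (by
    rw [show v1 = 1 from commutatorElement_eq_one_iff_commute.2 (hVc s h y hy1).symm]; exact one_mem _)
  have hUdec : ∀ w ∈ U, ∃ v ∈ V, ∃ k : ℕ, w = v * s ^ k := by
    intro w hw
    have heq : V ⊔ zpowers s = U := Subgroup.eq_of_le_of_card_ge (sup_le hVU (zpowers_le.2 hs)) (by
      have := mul_card_le F.isP (lt_of_le_not_ge (le_sup_left : V ≤ V ⊔ zpowers s)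
        fun h => hsV (h (mem_sup_right (mem_zpowers s))))
      rwa [hV, ← pow_succ', ← hU3] at this)
    obtain ⟨v, hv, z, hz, rfl⟩ := Subgroup.mem_sup_of_normal_left.1 (heq.ge hw)
    obtain ⟨k, rfl⟩ := (isOfFinOrder_of_finite s).mem_powers_iff_mem_zpowers.2 hz
    exact ⟨v, hv, k, rfl⟩
  have hsdiv : ∀ {v : M} {k : ℕ}, v ∈ V → v * s ^ k ∈ V → p ∣ k := fun {v k} hv h => by
    by_contra hk
    refine hsV (mem_of_pow_mem_of_coprime (by rw [hUp s hs]; exact one_mem _) ?_ hk)
    have := mul_mem (inv_mem hv) h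
    rwa [inv_mul_cancel_left] at this
  -- the centraliser
  set C := centralizer (U : Set M) with hCdef
  have hCU : ∀ c ∈ C, ∀ w ∈ U, Commute w c := fun c hc w hw => Subgroup.mem_centralizer_iff.1 hc w hw
  have hUC : U ≤ C := fun w hw => Subgroup.mem_centralizer_iff.2 fun x hx => (hUc x hx w hw).eq
  haveI hCn : C.Normal := ⟨fun c hc m => Subgroup.mem_centralizer_iff.2 fun w hw => by
    have h := ((hCU c hc _ (hUn.conj_mem' w hw m)).map (MulAut.conj m).toMonoidHom).eq
    simpa [mul_assoc] using h⟩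
  have hC1 : C ≤ E1 := fun c hc => mem_of_commute h1 hn1 fun v hv => (hCU c hc v (hVU hv)).symm
  have hC2 : C ≤ E2 := fun c hc => by
    by_contra hc2
    obtain ⟨e, he, i, rfl⟩ := exists_dec h2 hy2 c
    have hpi : ¬ p ∣ i := fun ⟨q, hq⟩ => hc2 (mul_mem he (by rw [hq, pow_mul]; exact pow_mem (pow_mem' h2 y) q))
    refine hys ?_
    have h1' : Commute (π e) (π s) := by
      rw [← commutatorElement_eq_one_iff_commute, ← map_commutatorElement]
      exact (QuotientGroup.eq_one_iff _).2 (hUline e he s hs)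
    have h2' : π y ^ i ∈ centralizer {π s} := by
      rw [mem_centralizer_singleton_iff]
      have h3' : Commute (π (e * y ^ i)) (π s) := ((hCU _ hc s hs).map π).symm
      rw [map_mul, map_pow] at h3'
      have := h1'.inv_left.mul_left h3'
      rwa [inv_mul_cancel_left] at this
    have h4' : (π y) ^ p ∈ centralizer {π s} := by
      rw [mem_centralizer_singleton_iff, ← map_pow]
      have h5' : π ⁅y ^ p, s⁆ = 1 := (QuotientGroup.eq_one_iff _).2 (hUline _ (pow_mem' h2 y) s hs)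
      rw [map_commutatorElement, commutatorElement_eq_one_iff_mul_comm] at h5'
      exact h5'
    have h6' := mem_centralizer_singleton_iff.1 (mem_of_pow_mem_of_coprime h4' h2' hpi)
    rw [← QuotientGroup.eq_one_iff]
    show π ⁅y, s⁆ = 1
    rw [map_commutatorElement, commutatorElement_eq_one_iff_mul_comm]
    exact h6'
  have hord : ∀ x ∈ C, x ^ p = 1 → x ∈ U := fun x hx hxp => by
    refine F.le_of_commute hUn hUc hUp (B := zpowers x) ?_ ?_ ?_ hU3.ge (mem_zpowers x)
    · rintro _ ⟨i, rfl⟩ _ ⟨j, rfl⟩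
      exact (Commute.refl x).zpow_zpow i j
    · rintro _ ⟨i, rfl⟩
      show (x ^ i) ^ p = 1
      rw [← zpow_natCast, ← zpow_mul, mul_comm, zpow_mul, zpow_natCast, hxp, one_zpow]
    · rintro a ha _ ⟨i, rfl⟩
      exact (hCU x hx a ha).zpow_right i
  -- elements of `U` centralised by `E2` are central
  have hW : ∀ w ∈ U, (∀ e ∈ E2, Commute e w) → w ∈ om p M := by
    intro w hw hc
    have key : ∀ v ∈ V, (∀ e ∈ E2, Commute e v) → v ∈ om p M := fun v hv hv2 =>
      ⟨mem_center_of h2 hy2 (fun e he => (hv2 e he).symm) (hVc v hv y hy1), span_pow hv⟩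
    obtain ⟨v, hv, k, rfl⟩ := hUdec w hw
    by_cases hk : p ∣ k
    · obtain ⟨q, rfl⟩ := hk
      rw [pow_mul, hUp s hs, one_pow, mul_one] at hc ⊢
      exact key v hv hc
    · exfalso
      refine hys ?_
      have hyv : ⁅y, v * s ^ k⁆ ∈ om p M := by
        refine key _ (hUV y _ hw) fun e he => ?_
        have he' : y⁻¹ * e * y ∈ E2 := (inferInstance : E2.Normal).conj_mem' e he y
        have h3' : Commute e (y * (v * s ^ k) * y⁻¹) := by
          have := (hc _ he').map (MulAut.conj y).toMonoidHom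
          simpa [mul_assoc] using this
        rw [commutatorElement_def]
        exact h3'.mul_right (hc e he).inv_right
      have h7 : Commute (π y) (π s) := by
        have h8 : Commute (π y) (π v * π s ^ k) := by
          rw [← map_pow, ← map_mul, ← commutatorElement_eq_one_iff_commute, ← map_commutatorElement]
          exact (QuotientGroup.eq_one_iff _).2 hyv
        have h9 := ((hVc v hv y hy1).symm.map π).inv_right.mul_right h8
        rw [inv_mul_cancel_left] at h9
        exact (mem_centralizer_singleton_iff.1 (mem_of_pow_mem_of_coprime (Y := centralizer {π y})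
          (by rw [← map_pow, hUp s hs, map_one]; exact one_mem _)
          (mem_centralizer_singleton_iff.2 h9.symm.eq) hk)).symm
      rw [← QuotientGroup.eq_one_iff]
      show π ⁅y, s⁆ = 1
      rw [map_commutatorElement, commutatorElement_eq_one_iff_commute]
      exact h7
  -- `U` is invariant in `E1`
  have hUinv1 : F.Inv U E1 := by
    set Y := F.orbitSpan E1 U
    have hY1 : Y ≤ E1 := orbitSpan_le
    haveI hYn : Y.Normal := inv_orbitSpan.normal h1 hY1
    have hYV : ∀ b ∈ Y, ∀ e ∈ E1, ⁅e, b⁆ ∈ V := by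
      intro b hb e he
      set q := QuotientGroup.mk' V
      have hle : Y ≤ (centralizer {q e}).comap q := (Subgroup.closure_le _).2 (by
        rintro z ⟨α, hα, x, hx, rfl⟩
        rw [SetLike.mem_coe, Subgroup.mem_comap, mem_centralizer_singleton_iff]
        have h := img_comm_le inv_span hUV hα he (mem_img.2 ⟨x, hx, rfl⟩)
        rw [← QuotientGroup.eq_one_iff] at h
        have h' : q ⁅e, (α x : M)⁆ = 1 := h
        rw [map_commutatorElement, commutatorElement_eq_one_iff_mul_comm] at h'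
        exact h'.symm)
      rw [← QuotientGroup.eq_one_iff]
      show q ⁅e, b⁆ = 1
      rw [map_commutatorElement, commutatorElement_eq_one_iff_mul_comm]
      exact (mem_centralizer_singleton_iff.1 (hle hb)).symm
    have hYcc : ∀ a ∈ Y, ∀ b ∈ Y, ∀ c ∈ Y, Commute ⁅a, b⁆ c := fun a ha b hb c hc =>
      hVc _ (hYV b hb a (hY1 ha)) c (hY1 hc)
    have hYp : ∀ b ∈ Y, b ^ p = 1 := by
      intro b hb
      induction hb using Subgroup.closure_induction with
      | mem z hz =>
        obtain ⟨α, -, x, hx, rfl⟩ := hz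
        exact img_pow hUp _ (mem_img.2 ⟨x, hx, rfl⟩)
      | one => exact one_pow _
      | mul a b ha hb iha ihb =>
        have he : b⁻¹ * a⁻¹ * b * a = ⁅b⁻¹, a⁻¹⁆ := by rw [commutatorElement_def]; group
        have hc : ∀ c ∈ Y, Commute (b⁻¹ * a⁻¹ * b * a) c := he ▸ hYcc _ (inv_mem hb) _ (inv_mem ha)
        rw [mul_pow_prime F.odd (hc a ha) (hc b hb) (he ▸ span_pow (hYV _ (inv_mem ha) _ (hY1 (inv_mem hb)))),
          iha, ihb, one_mul]
      | inv a _ ih => rw [inv_pow, ih, inv_one]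
    have hbil : ∀ a ∈ Y, ∀ b ∈ Y, ∀ c ∈ Y, ⁅a * b, c⁆ = ⁅a, c⁆ * ⁅b, c⁆ := fun a ha b hb c hc => by
      rw [show ⁅a * b, c⁆ = a * ⁅b, c⁆ * a⁻¹ * ⁅a, c⁆ by simp only [commutatorElement_def]; group,
        ← (hYcc b hb c hc a ha).eq, mul_inv_cancel_right]
      exact (hVc _ (hYV c hc b (hY1 hb)) _ (span_le (hYV c hc a (hY1 ha)))).eq
    have hbilr : ∀ a ∈ Y, ∀ b ∈ Y, ∀ c ∈ Y, ⁅c, a * b⁆ = ⁅c, a⁆ * ⁅c, b⁆ := fun a ha b hb c hc => by
      rw [show ⁅c, a * b⁆ = ⁅c, a⁆ * (a * ⁅c, b⁆ * a⁻¹) by simp only [commutatorElement_def]; group,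
        ← (hYcc c hc b hb a ha).eq, mul_inv_cancel_right]
    have hUY : U ≤ Y := le_orbitSpan hU1
    have hsY : s ∈ Y := hUY hs
    let lam : Y →* V := MonoidHom.mk' (fun b => ⟨⁅s, (b : M)⁆, hYV b b.2 s (hU1 hs)⟩) fun a b =>
      Subtype.ext (hbilr a a.2 b b.2 s hsY)
    have hker : ∀ b : Y, lam b = 1 → (b : M) ∈ U := fun b hb => by
      refine hord b (Subgroup.mem_centralizer_iff.2 fun w hw => ?_) (hYp b b.2)
      obtain ⟨v, hv, k, rfl⟩ := hUdec w hw
      exact ((hVc v hv b (hY1 b.2)).mul_left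
        ((commutatorElement_eq_one_iff_commute.1 (congrArg Subtype.val hb)).pow_left k)).eq
    intro α hα x hx
    by_contra hne
    set a : Y := ⟨(α x : M), Subgroup.subset_closure ⟨α, hα, x, hx, rfl⟩⟩
    have ha : (a : M) ∉ U := hne
    set r := lam.range.map V.subtype
    have hrV : r ≤ V := Subgroup.map_subtype_le _
    have hlam : ∀ b : Y, ⁅s, (b : M)⁆ ∈ r := fun b => ⟨_, ⟨b, rfl⟩, rfl⟩
    by_cases hrc : Nat.card r = p ^ 2
    · -- a larger elementary subgroup
      have hr : r = V := Subgroup.eq_of_le_of_card_ge hrV (by rw [hrc, hV])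
      obtain ⟨t, ht, ht1⟩ : ∃ t ∈ om p M, t ≠ 1 := by
        obtain ⟨t, ht⟩ := (Subgroup.ne_bot_iff_exists_ne_one (H := om p M)).1 fun h => by
          rw [h, Subgroup.card_bot] at hom; exact hp.out.one_lt.ne hom
        exact ⟨t, t.2, fun h => ht (Subtype.ext h)⟩
      obtain ⟨_, ⟨b1, rfl⟩, hb1⟩ := hr.ge (om_le_span h1 ht)
      obtain ⟨_, ⟨b2, rfl⟩, hb2⟩ := hr.ge hv1
      change ⁅s, (b1 : M)⁆ = t at hb1
      change ⁅s, (b2 : M)⁆ = v1 at hb2
      have hv1t : v1 ∉ zpowers t := fun h => hys ((zpowers_le.2 ht : zpowers t ≤ om p M) h)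
      have hb12 : ⁅(b1 : M), (b2 : M)⁆ ∈ V := hYV b2 b2.2 b1 (hY1 b1.2)
      obtain ⟨β, α', hαβ⟩ := exists_pair F.isP hV.le hv1 (om_le_span h1 ht) hv1t ht1 ht.2
        (hcz ht v1).symm hb12
      set x' := (p - 1) * β
      set c1 := (b1 : M) * s ^ x'
      set c2 := (b2 : M) * s ^ α'
      have hc1 : c1 ∈ Y := mul_mem b1.2 (pow_mem hsY _)
      have hc2 : c2 ∈ Y := mul_mem b2.2 (pow_mem hsY _)
      have hpowr : ∀ b ∈ Y, ∀ k : ℕ, ⁅s ^ k, b⁆ = ⁅s, b⁆ ^ k := fun b hb k => by
        induction k with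
        | zero => simp
        | succ k ih => rw [pow_succ, hbil _ (pow_mem hsY k) s hsY b hb, ih, pow_succ]
      have hpowl : ∀ b ∈ Y, ∀ k : ℕ, ⁅b, s ^ k⁆ = (⁅s, b⁆ ^ k)⁻¹ := fun b hb k => by
        rw [← commutatorElement_inv, hpowr b hb k]
      have hcc : Commute c1 c2 := by
        rw [← commutatorElement_eq_one_iff_commute, hbil _ b1.2 _ (pow_mem hsY _) _ hc2,
          hbilr _ b2.2 _ (pow_mem hsY _) _ b1.2, hbilr _ b2.2 _ (pow_mem hsY _) _ (pow_mem hsY _),
          hpowl _ b1.2, hpowr _ b2.2, commutatorElement_eq_one_iff_commute.2 ((Commute.refl s).pow_pow x' α'),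
          mul_one, hb1, hb2, hαβ, mul_inv_cancel_right, ← pow_add]
        show v1 ^ (β + (p - 1) * β) = 1
        rw [show β + (p - 1) * β = p * β by
          conv_rhs => rw [← Nat.sub_add_cancel hp.out.one_le, add_mul, one_mul, add_comm], pow_mul,
          span_pow hv1, one_pow]
      set H := closure ((V : Set M) ∪ {c1, c2})
      have hgenc : ∀ w ∈ (V : Set M) ∪ {c1, c2}, w ∈ Y ∧ ∀ w' ∈ (V : Set M) ∪ {c1, c2}, Commute w w' := by
        have hVY : ∀ v ∈ V, v ∈ Y := fun v hv => hUY (hVU hv)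
        have hin : ∀ w ∈ (V : Set M) ∪ {c1, c2}, w ∈ Y := by
          rintro w (hw | rfl | rfl)
          exacts [hVY w hw, hc1, hc2]
        intro w hw
        refine ⟨hin w hw, fun w' hw' => ?_⟩
        rcases hw with hw | hw
        · exact hVc w hw w' (hY1 (hin w' hw'))
        rcases hw' with hw' | hw'
        · exact (hVc w' hw' w (hY1 (hin w (Or.inr hw)))).symm
        rcases hw with rfl | rfl <;> rcases hw' with rfl | rfl
        exacts [Commute.refl _, hcc, hcc.symm, Commute.refl _]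
      have hHY : H ≤ Y := (closure_le _).2 fun w hw => (hgenc w hw).1
      haveI : IsMulCommutative H := isMulCommutative_closure fun w hw w' hw' => ((hgenc w hw).2 w' hw').eq
      have hH3 := F.card_le_cube (H := H) (fun u hu' w hw =>
        (congrArg Subtype.val (mul_comm' (⟨u, hu'⟩ : H) ⟨w, hw⟩) :)) fun u hu' => hYp u (hHY hu')
      set ι := Subgroup.inclusion hHY
      have hrange : (lam.comp ι).range = ⊤ := by
        refine eq_top_iff.2 fun v _ => ?_
        obtain ⟨i, j, hij⟩ := exists_pair F.isP hV.le hv1 (om_le_span h1 ht) hv1t ht1 ht.2 (hcz ht v1).symm v.2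
        have e1 : ((lam.comp ι) ⟨c1, subset_closure (by simp)⟩ : M) = t := by
          show ⁅s, c1⁆ = t
          rw [hbilr _ b1.2 _ (pow_mem hsY _) _ hsY, hb1,
            commutatorElement_eq_one_iff_commute.2 ((Commute.refl s).pow_right _), mul_one]
        have e2 : ((lam.comp ι) ⟨c2, subset_closure (by simp)⟩ : M) = v1 := by
          show ⁅s, c2⁆ = v1
          rw [hbilr _ b2.2 _ (pow_mem hsY _) _ hsY, hb2,
            commutatorElement_eq_one_iff_commute.2 ((Commute.refl s).pow_right _), mul_one]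
        refine ⟨⟨c2, subset_closure (by simp)⟩ ^ i * ⟨c1, subset_closure (by simp)⟩ ^ j, Subtype.ext ?_⟩
        rw [map_mul, map_pow, map_pow, Subgroup.coe_mul, SubmonoidClass.coe_pow, SubmonoidClass.coe_pow, e1, e2, hij]
      have hVker : V.subgroupOf H ≤ (lam.comp ι).ker := fun v hv => Subtype.ext (by
        show ⁅s, (v : M)⁆ = 1
        exact commutatorElement_eq_one_iff_commute.2 (hVc _ (Subgroup.mem_subgroupOf.1 hv) s (hU1 hs)).symm)
      have h4 := Subgroup.card_mul_index (lam.comp ι).ker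
      rw [Subgroup.index_ker, hrange, Subgroup.card_top, hV] at h4
      have h5 := Subgroup.card_le_of_le hVker
      rw [Nat.card_congr (Subgroup.subgroupOfEquivOfLe (fun v hv => subset_closure (Or.inl hv) : V ≤ H)).toEquiv,
        hV] at h5
      have h6 : p ^ 2 * p ^ 2 ≤ p ^ 3 := (Nat.mul_le_mul_right _ h5).trans (h4.le.trans hH3)
      rw [← pow_add] at h6
      exact absurd ((Nat.pow_le_pow_iff_right hp.out.one_lt).1 h6) (by norm_num)
    · -- the derived subgroup is a line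
      have hsa : ⁅s, (a : M)⁆ ≠ 1 := fun h => ha (hker a (Subtype.ext h))
      have hrle : Nat.card r ≤ p := by
        obtain ⟨i, hi⟩ := IsPGroup.iff_card.1 (F.isP.to_subgroup r)
        have := (Nat.pow_le_pow_iff_right hp.out.one_lt).1 ((hi ▸ Subgroup.card_le_of_le hrV).trans_eq hV)
        rw [hi] at hrc ⊢
        have hi1 : i ≤ 1 := by by_contra h; exact hrc (by rw [show i = 2 by omega])
        exact (Nat.pow_le_pow_right hp.out.pos hi1).trans_eq (pow_one p)
      have hYeq : U ⊔ zpowers (a : M) = Y := by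
        refine Subgroup.eq_of_le_of_card_ge (sup_le hUY (zpowers_le.2 a.2)) ?_
        have h4 := Subgroup.card_mul_index lam.ker
        have h5 : Nat.card lam.range ≤ p := by
          rw [← Subgroup.card_map_of_injective V.subtype_injective]; exact hrle
        have h6 : Nat.card lam.ker ≤ p ^ 3 := by
          rw [← hU3, ← Subgroup.card_map_of_injective Y.subtype_injective]
          refine Subgroup.card_le_of_le ?_
          rintro _ ⟨b, hb, rfl⟩
          exact hker b hb
        rw [Subgroup.index_ker] at h4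
        have h7 := mul_card_le F.isP (lt_of_le_not_ge (le_sup_left : U ≤ U ⊔ zpowers (a : M))
          fun h => ha (h (mem_sup_right (mem_zpowers _))))
        rw [hU3] at h7
        exact (h4.symm.le.trans (Nat.mul_le_mul h6 h5)).trans ((le_of_eq (mul_comm _ _)).trans h7)
      have hrVc : ∀ v ∈ r, ∀ e ∈ E1, Commute v e := fun v hv e he => hVc v (hrV hv) e he
      have hUa : ∀ w ∈ U, ∀ b ∈ Y, ⁅w, b⁆ ∈ r := by
        intro w hw b hb
        obtain ⟨v, hv, k, rfl⟩ := hUdec w hw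
        rw [hbil v (hUY (hVU hv)) _ (pow_mem hsY k) b hb,
          commutatorElement_eq_one_iff_commute.2 (hVc v hv b (hY1 hb)), one_mul]
        clear hw
        induction k with
        | zero => simp
        | succ k ih =>
          rw [pow_succ, hbil _ (pow_mem hsY k) s hsY b hb]
          exact mul_mem ih (hlam ⟨b, hb⟩)
      have hder : ∀ c ∈ Y, ∀ b ∈ Y, ⁅c, b⁆ ∈ r := by
        intro c hc b hb
        obtain ⟨w, hw, z, hz, rfl⟩ := Subgroup.mem_sup_of_normal_left.1 (hYeq.ge hc)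
        obtain ⟨w', hw', z', hz', rfl⟩ := Subgroup.mem_sup_of_normal_left.1 (hYeq.ge hb)
        have hzY : ∀ {z}, z ∈ zpowers (a : M) → z ∈ Y := fun h => zpowers_le.2 a.2 h
        rw [hbil w (hUY hw) z (hzY hz) _ hb, hbilr w' (hUY hw') z' (hzY hz') z (hzY hz)]
        obtain ⟨i, rfl⟩ := hz
        obtain ⟨j, rfl⟩ := hz'
        rw [commutatorElement_eq_one_iff_commute.2 ((Commute.refl (a : M)).zpow_zpow i j), mul_one,
          ← commutatorElement_inv w' ((a : M) ^ i)]
        exact mul_mem (hUa w hw _ hb) (inv_mem (hUa w' hw' _ (hzY ⟨i, rfl⟩)))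
      have hrinv : F.Inv r E1 := by
        intro γ hγ v hv
        obtain ⟨_, ⟨b, rfl⟩, hb⟩ := hv
        have hb' : v = ⁅(⟨s, hU1 hs⟩ : E1), ⟨b, hY1 b.2⟩⁆ :=
          Subtype.ext (by rw [← hb, ← Subgroup.coe_subtype E1, map_commutatorElement]; rfl)
        rw [hb', map_commutatorElement, ← Subgroup.coe_subtype, map_commutatorElement]
        exact hder _ (inv_orbitSpan γ hγ _ hsY) _ (inv_orbitSpan γ hγ _ b.2)
      haveI : r.Normal := hrinv.normal h1 (hrV.trans span_le)
      have hrne : r ≠ ⊥ := fun h => hsa (Subgroup.mem_bot.1 (h ▸ hlam a))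
      have := Subgroup.card_le_of_le (span_le_of_inv hrinv (om_le_of_normal F hom hrne) : V ≤ r)
      rw [hV] at this
      have h8 : p ^ 2 ≤ p ^ 1 := this.trans (hrle.trans_eq (pow_one p).symm)
      exact absurd ((Nat.pow_le_pow_iff_right hp.out.one_lt).1 h8) (by norm_num)
  -- the top powers of the centraliser
  have hcp : PGroups.IsPCentralIn p C := fun x hx hxp c hc => hCU c hc x (hord x hx hxp)
  obtain ⟨m, hmexp, x0, hx0, hx0m⟩ : ∃ m, (∀ x ∈ C, x ^ p ^ (m + 1) = 1) ∧ ∃ x ∈ C, x ^ p ^ m ≠ 1 := by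
    obtain ⟨j, hj⟩ := IsPGroup.iff_card.1 F.isP
    have hex : ∃ n, ∀ x ∈ C, x ^ p ^ n = 1 := ⟨j, fun x _ => by rw [← hj]; exact pow_card_eq_one'⟩
    have h0 : Nat.find hex ≠ 0 := fun h => hsV (by
      have := (Nat.find_spec hex) s (hUC hs)
      rw [h, pow_zero, pow_one] at this
      rw [this]; exact one_mem _)
    obtain ⟨m, hm⟩ := Nat.exists_eq_succ_of_ne_zero h0
    refine ⟨m, fun x hx => by have := (Nat.find_spec hex) x hx; rwa [hm] at this, ?_⟩
    have := Nat.find_min hex (m := m) (by omega)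
    push Not at this
    exact this
  set k := p ^ m
  have hmul : ∀ x ∈ C, ∀ x' ∈ C, (x * x') ^ k = x ^ k * x' ^ k :=
    pow_hom_of_pCentral F.odd m M F.isP C hcp hmexp
  have hkU : ∀ x ∈ C, x ^ k ∈ U := fun x hx => hord _ (pow_mem hx k) (by
    rw [← pow_mul, show k * p = p ^ (m + 1) from (pow_succ p m).symm]; exact hmexp x hx)
  let J : Subgroup M :=
    { carrier := {z | ∃ x ∈ C, x ^ k = z}
      one_mem' := ⟨1, one_mem _, one_pow _⟩
      mul_mem' := by
        rintro _ _ ⟨x, hx, rfl⟩ ⟨x', hx', rfl⟩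
        exact ⟨x * x', mul_mem hx hx', hmul x hx x' hx'⟩
      inv_mem' := by
        rintro _ ⟨x, hx, rfl⟩
        exact ⟨x⁻¹, inv_mem hx, inv_pow x k⟩ }
  have hJinv : ∀ {E : Subgroup M}, F.Inv C E → C ≤ E → F.Inv J E := by
    intro E hCinv hCE α hα z hz
    obtain ⟨x, hx, he⟩ := hz
    refine ⟨_, hCinv α hα ⟨x, hCE hx⟩ hx, ?_⟩
    rw [← SubmonoidClass.coe_pow, ← map_pow]
    exact congrArg (fun w : E => (α w : M)) (Subtype.ext (by simpa using he))
  have hCinv2 : F.Inv C E2 := inv_centralizer inv_orbitSpan hU2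
  have hJC2 : J ≤ E2 := by
    rintro _ ⟨x, hx, rfl⟩
    exact pow_mem (hC2 hx) _
  haveI hJn : J.Normal := (hJinv hCinv2 hC2).normal h2 hJC2
  have hJne : J ≠ ⊥ := fun h => hx0m (Subgroup.mem_bot.1 (h ▸ (⟨x0, hx0, rfl⟩ : x0 ^ k ∈ J)))
  have hUJ : U ≤ J := orbitSpan_le_of_inv (hJinv hCinv2 hC2)
    (span_le_of_inv (hJinv (inv_centralizer hUinv1 hU1) hC1) (om_le_of_normal F hom hJne))
  let K : Subgroup M :=
    { carrier := {x | x ∈ C ∧ x ^ k ∈ om p M}
      one_mem' := ⟨one_mem _, by rw [one_pow]; exact one_mem _⟩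
      mul_mem' := fun {a b} ha hb => ⟨mul_mem ha.1 hb.1, by rw [hmul a ha.1 b hb.1]; exact mul_mem ha.2 hb.2⟩
      inv_mem' := fun {a} ha => ⟨inv_mem ha.1, by rw [inv_pow]; exact inv_mem ha.2⟩ }
  let K1 : Subgroup M :=
    { carrier := {x | x ∈ C ∧ x ^ k ∈ V}
      one_mem' := ⟨one_mem _, by rw [one_pow]; exact one_mem _⟩
      mul_mem' := fun {a b} ha hb => ⟨mul_mem ha.1 hb.1, by rw [hmul a ha.1 b hb.1]; exact mul_mem ha.2 hb.2⟩
      inv_mem' := fun {a} ha => ⟨inv_mem ha.1, by rw [inv_pow]; exact inv_mem ha.2⟩ }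
  have hKK1 : K < K1 := lt_of_le_not_ge (fun x hx => ⟨hx.1, om_le_span h1 hx.2⟩) fun h => by
    obtain ⟨x, hx, hxe⟩ := hUJ (hVU hv1)
    exact hys (hxe ▸ (h ⟨hx, hxe ▸ hv1⟩).2)
  have hK1C : K1 < C := lt_of_le_not_ge (fun x hx => hx.1) fun h => by
    obtain ⟨x, hx, hxe⟩ := hUJ hs
    exact hsV (hxe ▸ (h hx).2)
  -- `E2` over the centraliser
  have hh : ∀ {e : M}, e ∈ E2 → ∀ e' : M, ∀ w ∈ U, e' ∈ E2 → ⁅e * e', w⁆ = ⁅e, w⁆ * ⁅e', w⁆ := by
    intro e he e' w hw he'
    rw [show ⁅e * e', w⁆ = e * ⁅e', w⁆ * e⁻¹ * ⁅e, w⁆ by simp only [commutatorElement_def]; group,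
      ← (hcz (hUline e' he' w hw) e).eq, mul_inv_cancel_right, (hcz (hUline e' he' w hw) _).eq]
  have hhp : ∀ {e : M}, e ∈ E2 → ∀ w ∈ U, ∀ i : ℕ, ⁅e ^ i, w⁆ = ⁅e, w⁆ ^ i := by
    intro e he w hw i
    induction i with
    | zero => simp
    | succ i ih => rw [pow_succ, hh (pow_mem he i) e w hw he, ih, pow_succ]
  have hpow : ∀ {a : M}, a ∈ om p M → a ≠ 1 → ∀ {b : M}, b ∈ om p M → ∃ i : ℕ, b = a ^ i := by
    intro a ha ha1 b hb
    have heq : zpowers a = om p M := Subgroup.eq_of_le_of_card_ge (zpowers_le.2 ha) (by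
      rw [hom, card_zpowers_prime ha.2 ha1])
    obtain ⟨i, hi⟩ := (isOfFinOrder_of_finite a).mem_powers_iff_mem_zpowers.2 (heq.ge hb)
    exact ⟨i, hi.symm⟩
  obtain ⟨f, hf, hfv⟩ : ∃ f ∈ E2, ⁅f, v1⁆ ≠ 1 := by
    by_contra h
    push Not at h
    exact hys (hW v1 (hVU hv1) fun e he => commutatorElement_eq_one_iff_commute.1 (h e he))
  have hcut : ∀ e ∈ E2, ∃ i : ℕ, ⁅e * (f ^ i)⁻¹, v1⁆ = 1 := by
    intro e he
    obtain ⟨i, hi⟩ := hpow (hUline f hf v1 (hVU hv1)) hfv (hUline e he v1 (hVU hv1))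
    refine ⟨i, ?_⟩
    have hf' : (f ^ i)⁻¹ ∈ E2 := inv_mem (pow_mem hf i)
    have hz : ⁅(f ^ i)⁻¹, v1⁆ * ⁅f ^ i, v1⁆ = 1 := by
      rw [← hh hf' (f ^ i) v1 (hVU hv1) (pow_mem hf i), inv_mul_cancel, commutatorElement_one_left]
    rw [hh he _ v1 (hVU hv1) hf', hi, ← hhp hf v1 (hVU hv1), (hcz (hUline _ (pow_mem hf i) v1 (hVU hv1)) _).eq, hz]
  obtain ⟨e0, he0, he0v, he0s⟩ : ∃ e ∈ E2, ⁅e, v1⁆ = 1 ∧ ⁅e, s⁆ ≠ 1 := by
    by_contra h
    push Not at h
    -- an element of `U` outside `V` fixed by `f`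
    obtain ⟨j, hj⟩ := hpow (hUline f hf v1 (hVU hv1)) hfv (hUline f hf s hs)
    set w := s * v1 ^ ((p - 1) * j)
    have hw : w ∈ U := mul_mem hs (pow_mem (hVU hv1) _)
    have hfw : ⁅f, w⁆ = 1 := by
      have hcv : ∀ i : ℕ, ⁅f, v1 ^ i⁆ = ⁅f, v1⁆ ^ i := by
        intro i
        induction i with
        | zero => simp
        | succ i ih =>
          rw [show ⁅f, v1 ^ (i + 1)⁆ = ⁅f, v1 ^ i⁆ * (v1 ^ i * ⁅f, v1⁆ * (v1 ^ i)⁻¹) by
            rw [pow_succ]; simp only [commutatorElement_def]; group,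
            ← (hcz (hUline f hf v1 (hVU hv1)) _).eq, mul_inv_cancel_right, ih, pow_succ]
      rw [show ⁅f, w⁆ = ⁅f, s⁆ * (s * ⁅f, v1 ^ ((p - 1) * j)⁆ * s⁻¹) by
          simp only [w, commutatorElement_def]; group,
        ← (hcz (hUline f hf _ (pow_mem (hVU hv1) _)) _).eq, mul_inv_cancel_right, hcv, hj, ← pow_add,
        show j + (p - 1) * j = p * j by
          conv_rhs => rw [← Nat.sub_add_cancel hp.out.one_le, add_mul, one_mul, add_comm],
        pow_mul, (hUline f hf v1 (hVU hv1)).2, one_pow]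
    refine hsV ?_
    have hwom : w ∈ om p M := hW w hw fun e he => by
      obtain ⟨i, hi⟩ := hcut e he
      have he' : e * (f ^ i)⁻¹ ∈ E2 := mul_mem he (inv_mem (pow_mem hf i))
      have hsc := h _ he' hi
      have h9 : Commute (e * (f ^ i)⁻¹) w := (commutatorElement_eq_one_iff_commute.1 hsc).mul_right
        ((commutatorElement_eq_one_iff_commute.1 hi).pow_right _)
      have h10 := h9.mul_left ((commutatorElement_eq_one_iff_commute.1 hfw).pow_left i)
      rwa [inv_mul_cancel_right] at h10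
    have := mul_mem (om_le_span h1 hwom) (inv_mem (pow_mem hv1 ((p - 1) * j)))
    rwa [mul_inv_cancel_right] at this
  set C1 := E2 ⊓ centralizer {v1}
  have hCC1 : C < C1 := lt_of_le_not_ge
    (fun c hc => ⟨hC2 hc, mem_centralizer_singleton_iff.2 (hCU c hc v1 (hVU hv1)).symm.eq⟩) fun h =>
    he0s (commutatorElement_eq_one_iff_commute.2
      (hCU _ (h ⟨he0, mem_centralizer_singleton_iff.2 (commutatorElement_eq_one_iff_commute.1 he0v).eq⟩) s hs).symm)
  have hC1E : C1 < E2 := lt_of_le_not_ge inf_le_left fun h =>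
    hfv (commutatorElement_eq_one_iff_commute.2 (mem_centralizer_singleton_iff.1 (h hf).2))
  have hdec : ∀ e ∈ E2, ∃ c ∈ C, ∃ i j : ℕ, e = c * e0 ^ j * f ^ i := by
    intro e he
    obtain ⟨i, hi⟩ := hcut e he
    set e' := e * (f ^ i)⁻¹
    have he' : e' ∈ E2 := mul_mem he (inv_mem (pow_mem hf i))
    obtain ⟨j, hj⟩ := hpow (hUline e0 he0 s hs) he0s (hUline e' he' s hs)
    have hej : (e0 ^ j)⁻¹ ∈ E2 := inv_mem (pow_mem he0 j)
    refine ⟨e' * (e0 ^ j)⁻¹, Subgroup.mem_centralizer_iff.2 fun w hw => ?_, i, j, by simp only [e']; group⟩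
    have hsc : ⁅e' * (e0 ^ j)⁻¹, s⁆ = 1 := by
      have hz : ⁅(e0 ^ j)⁻¹, s⁆ * ⁅e0 ^ j, s⁆ = 1 := by
        rw [← hh hej (e0 ^ j) s hs (pow_mem he0 j), inv_mul_cancel, commutatorElement_one_left]
      rw [hh he' _ s hs hej, hj, ← hhp he0 s hs, (hcz (hUline _ (pow_mem he0 j) s hs) _).eq, hz]
    have hvc : Commute (e' * (e0 ^ j)⁻¹) v1 := (commutatorElement_eq_one_iff_commute.1 hi).mul_left
      ((commutatorElement_eq_one_iff_commute.1 he0v).pow_left j).inv_left
    obtain ⟨v, hv, l, rfl⟩ := hUdec w hw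
    have hvom : Commute (e' * (e0 ^ j)⁻¹) v := by
      obtain ⟨t, ht⟩ := (Subgroup.ne_bot_iff_exists_ne_one (H := om p M)).1 fun h => by
        rw [h, Subgroup.card_bot] at hom; exact hp.out.one_lt.ne hom
      obtain ⟨a', b', hab⟩ := exists_pair F.isP hV.le hv1 (om_le_span h1 t.2)
        (fun h => hys ((zpowers_le.2 t.2 : zpowers (t : M) ≤ om p M) h)) (fun h => ht (Subtype.ext h)) t.2.2
        (hcz t.2 v1).symm hv
      rw [hab]
      exact (hvc.pow_right a').mul_right (((hcz t.2 _).symm).pow_right b')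
    exact ((hvom.mul_right ((commutatorElement_eq_one_iff_commute.1 hsc).pow_right l))).symm.eq
  haveI hKn : K.Normal := ⟨fun x hx g => ⟨hCn.conj_mem x hx.1 g, by
    rw [conj_pow]; exact hon.conj_mem _ hx.2 g⟩⟩
  have hKC : ∀ e ∈ E2, ∀ c ∈ C, ⁅e, c⁆ ∈ K := fun e he c hc => by
    have hcc : e * c * e⁻¹ ∈ C := hCn.conj_mem c hc e
    rw [commutatorElement_def]
    refine ⟨mul_mem hcc (inv_mem hc), ?_⟩
    rw [hmul _ hcc _ (inv_mem hc), conj_pow, inv_pow, ← commutatorElement_def]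
    exact hUline e he _ (hkU c hc)
  -- commutators are in `C`
  have hderC : ∀ a ∈ E2, ∀ b ∈ E2, ⁅a, b⁆ ∈ C := by
    intro a ha b hb
    refine Subgroup.mem_centralizer_iff.2 fun w hw => Eq.symm ?_
    have key : ∀ z ∈ E2, z * w * z⁻¹ = w * ⁅z, w⁆ := fun z hz => by
      rw [← (hcz (hUline z hz w hw) w).eq, commutatorElement_def]; group
    have h11 : ⁅⁅a, b⁆, w⁆ = 1 := by
      rw [commutatorElement_def a b, hh (mul_mem (mul_mem ha hb) (inv_mem ha)) _ w hw (inv_mem hb),
        hh (mul_mem ha hb) _ w hw (inv_mem ha), hh ha _ w hw hb]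
      have hz : ∀ {z}, z ∈ E2 → ⁅z⁻¹, w⁆ = ⁅z, w⁆⁻¹ := fun {z} hz => by
        refine eq_inv_of_mul_eq_one_left ?_
        rw [← hh (inv_mem hz) z w hw hz, inv_mul_cancel, commutatorElement_one_left]
      rw [hz ha, hz hb, (hcz (hUline a ha w hw) _).eq, mul_inv_cancel_right, mul_inv_cancel]
    exact (commutatorElement_eq_one_iff_commute.1 h11).eq
  -- the derived subgroup lands in `K`
  set q := QuotientGroup.mk' K
  have hqC : ∀ e ∈ E2, ∀ c ∈ C, Commute (q e) (q c) := fun e he c hc => by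
    rw [← commutatorElement_eq_one_iff_commute, ← map_commutatorElement]
    exact (QuotientGroup.eq_one_iff _).2 (hKC e he c hc)
  set w0 := ⁅e0, f⁆ ^ k
  set P := om p M ⊔ zpowers w0
  have hw0U : w0 ∈ U := hkU _ (hderC e0 he0 f hf)
  have hP : ∀ a ∈ E2, ∀ b ∈ E2, ⁅a, b⁆ ^ k ∈ P := by
    intro a ha b hb
    have hcq : ∀ z ∈ E2, Commute ⁅q e0, q f⁆ (q z) := fun z hz => by
      rw [← map_commutatorElement]; exact (hqC z hz _ (hderC e0 he0 f hf)).symm
    obtain ⟨c, hc, i, j, rfl⟩ := hdec a ha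
    obtain ⟨c', hc', i', j', rfl⟩ := hdec b hb
    have hmem : ∀ i j : ℕ, q e0 ^ j * q f ^ i ∈ closure {q e0, q f} := fun i j =>
      mul_mem (pow_mem (subset_closure (by simp)) j) (pow_mem (subset_closure (by simp)) i)
    obtain ⟨l, hl⟩ := comm_mem_zpowers (hcq e0 he0) (hcq f hf) (hmem i j) (hmem i' j')
    have hqe : q ⁅c * e0 ^ j * f ^ i, c' * e0 ^ j' * f ^ i'⁆ = q (⁅e0, f⁆ ^ l) := by
      have hA : ∀ {c : M}, c ∈ C → ∀ i j : ℕ, Commute (q c) (q e0 ^ j * q f ^ i) := fun {c} hc i j =>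
        ((hqC e0 he0 c hc).symm.pow_right j).mul_right ((hqC f hf c hc).symm.pow_right i)
      rw [map_zpow, map_commutatorElement, map_commutatorElement, map_mul, map_mul, map_mul, map_mul, map_pow,
        map_pow, map_pow, map_pow, mul_assoc (q c), mul_assoc (q c')]
      rw [commutator_mul_of_commute ((hqC c (hC2 hc) c' hc')) (hA hc i j) (hA hc i' j') (hA hc' i j) (hA hc' i' j')]
      exact hl.symm
    have hd := QuotientGroup.eq.1 hqe
    set z := ⁅c * e0 ^ j * f ^ i, c' * e0 ^ j' * f ^ i'⁆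
    have hzC : z ∈ C := hderC _ ha _ hb
    have hlC : ⁅e0, f⁆ ^ l ∈ C := zpow_mem (hderC e0 he0 f hf) l
    have h12 := hd.2
    rw [hmul _ (inv_mem hzC) _ hlC, inv_pow] at h12
    have h13 : (⁅e0, f⁆ ^ l) ^ k = w0 ^ l := by
      simp only [w0]
      rw [← zpow_natCast (⁅e0, f⁆ ^ l), ← zpow_mul, mul_comm, zpow_mul, zpow_natCast]
    rw [h13] at h12
    have := mul_mem (mem_sup_right (S := om p M) (zpow_mem (mem_zpowers w0) l))
      (mem_sup_left (T := zpowers w0) (inv_mem h12))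
    rwa [mul_inv_rev, inv_inv, ← mul_assoc, mul_inv_cancel, one_mul] at this
  have hw0 : w0 ∈ om p M := by
    by_contra hne
    have hPU : P ≤ U := sup_le ((om_le_span h1).trans hVU) (zpowers_le.2 hw0U)
    have hPcard : Nat.card P ≤ p ^ 2 := by
      rw [show P = zpowers w0 ⊔ om p M from sup_comm _ _, pow_two]
      refine (card_sup_le_mul _ _).trans (le_of_eq ?_)
      rw [hom, card_zpowers_prime (hUp w0 hw0U) (fun h => hne (h ▸ one_mem _))]
    have hPinv : F.Inv P E2 := by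
      intro α hα v hv
      have hle : P ≤ (P.comap (E2.subtype.comp (α : E2 ≃* E2).toMonoidHom)).map E2.subtype := by
        refine sup_le (fun t ht => ⟨⟨t, om_le h2 ht⟩, mem_sup_left (hom2 α hα _ ht), rfl⟩)
          (zpowers_le.2 ⟨⁅(⟨e0, he0⟩ : E2), ⟨f, hf⟩⁆ ^ k, ?_, ?_⟩)
        · show ((α (⁅(⟨e0, he0⟩ : E2), ⟨f, hf⟩⁆ ^ k) : E2) : M) ∈ P
          rw [map_pow, SubmonoidClass.coe_pow, map_commutatorElement, ← Subgroup.coe_subtype,
            map_commutatorElement]
          exact hP _ (α ⟨e0, he0⟩).2 _ (α ⟨f, hf⟩).2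
        · rw [map_pow, map_commutatorElement]
          rfl
      obtain ⟨v', hv', he⟩ := hle hv
      rwa [show v' = v from Subtype.ext he] at hv'
    haveI hPn : P.Normal := hPinv.normal h2 (hPU.trans hU2)
    have hPV : P = V := by
      obtain ⟨v, hv, l, hl⟩ := hUdec w0 hw0U
      have hlt : om p M < P := lt_of_le_not_ge le_sup_left fun h => hne (h (mem_sup_right (mem_zpowers w0)))
      have hPc : Nat.card P = p ^ 2 := le_antisymm hPcard (by
        have := mul_card_le F.isP hlt; rwa [hom, ← pow_two] at this)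
      by_cases hl' : p ∣ l
      · obtain ⟨q', rfl⟩ := hl'
        rw [pow_mul, hUp s hs, one_pow, mul_one] at hl
        exact Subgroup.eq_of_le_of_card_ge (sup_le (om_le_span h1) (zpowers_le.2 (hl ▸ hv))) (by rw [hV, hPc])
      · exfalso
        have hPy : ⁅y, w0⁆ ∈ P := by
          rw [commutatorElement_def]
          exact mul_mem (hPn.conj_mem _ (mem_sup_right (mem_zpowers w0)) y) (inv_mem (mem_sup_right (mem_zpowers w0)))
        have hyw : ⁅y, w0⁆ ∉ om p M := fun h => by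
          refine hys ?_
          have h14 : Commute (π y) (π v * π s ^ l) := by
            rw [← map_pow, ← map_mul, ← hl, ← commutatorElement_eq_one_iff_commute, ← map_commutatorElement]
            exact (QuotientGroup.eq_one_iff _).2 h
          have h15 := ((hVc v hv y hy1).symm.map π).inv_right.mul_right h14
          rw [inv_mul_cancel_left] at h15
          rw [← QuotientGroup.eq_one_iff]
          show π ⁅y, s⁆ = 1
          rw [map_commutatorElement, commutatorElement_eq_one_iff_commute]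
          exact (mem_centralizer_singleton_iff.1 (mem_of_pow_mem_of_coprime (Y := centralizer {π y})
            (by rw [← map_pow, hUp s hs, map_one]; exact one_mem _)
            (mem_centralizer_singleton_iff.2 h15.symm.eq) hl')).symm
        have hsub : om p M < V ⊓ P := lt_of_le_not_ge (le_inf (om_le_span h1) le_sup_left) fun h =>
          hyw (h ⟨hUV y w0 hw0U, hPy⟩)
        have h16 := mul_card_le F.isP hsub
        rw [hom, ← pow_two] at h16
        have heq : V ⊓ P = P := Subgroup.eq_of_le_of_card_ge inf_le_right (hPc.le.trans h16)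
        exact hl' (hsdiv hv (hl ▸ (heq.ge (mem_sup_right (mem_zpowers w0))).1))
    exact hn2 (hPV ▸ hPinv)
  have hdK : ∀ a ∈ E2, ∀ b ∈ E2, ⁅a, b⁆ ∈ K := fun a ha b hb =>
    ⟨hderC a ha b hb, (sup_le le_rfl (zpowers_le.2 hw0) : P ≤ om p M) (hP a ha b hb)⟩
  have hpC : ∀ e ∈ E2, e ^ p ∈ C := fun e he => Subgroup.mem_centralizer_iff.2 fun w hw => by
    have h17 : ⁅e ^ p, w⁆ = 1 := by rw [hhp he w hw, (hUline e he w hw).2]
    exact (commutatorElement_eq_one_iff_commute.1 h17).symm.eq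
  have hpK : ∀ e ∈ E2, e ^ p ∈ K := by
    intro e he
    refine ⟨hpC e he, hW _ (hkU _ (hpC e he)) fun e' he' => ?_⟩
    set c := ⁅e', e⁆
    have hc : c ∈ K := hdK e' he' e he
    have hit : ∀ n : ℕ, ∃ d ∈ C, d ^ k = (c ^ k) ^ n ∧ (c * e) ^ n = d * e ^ n := by
      intro n
      induction n with
      | zero => exact ⟨1, one_mem _, by simp, by simp⟩
      | succ n ih =>
        obtain ⟨d, hd, hdk, hdn⟩ := ih
        have hce : e ^ n * c * (e ^ n)⁻¹ ∈ C := hCn.conj_mem c hc.1 _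
        refine ⟨d * (e ^ n * c * (e ^ n)⁻¹), mul_mem hd hce, ?_, ?_⟩
        · rw [hmul d hd _ hce, hdk, conj_pow, ← (hcz hc.2 (e ^ n)).eq, mul_inv_cancel_right, pow_succ]
        · rw [pow_succ, hdn, pow_succ]; group
    obtain ⟨d, hd, hdk, hdn⟩ := hit p
    have h18 : e' * e ^ p * e'⁻¹ = d * e ^ p := by
      rw [← conj_pow, show e' * e * e'⁻¹ = c * e by simp only [c, commutatorElement_def]; group, hdn]
    have h19 : e' * (e ^ p) ^ k * e'⁻¹ = (e ^ p) ^ k := by
      rw [← conj_pow, h18, hmul d hd _ (hpC e he), hdk, hc.2.2, one_mul]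
    exact mul_inv_eq_iff_eq_mul.1 h19
  have hrel := relIndex_le_cube F.rank (H := E2) (K := K) (fun a ha b hb => hdK a ha b hb) hpK
  have h20 := card_mul_relIndex (fun x hx => hC2 hx.1 : K ≤ E2)
  have a1 := mul_card_le F.isP hKK1
  have a2 := mul_card_le F.isP hK1C
  have a3 := mul_card_le F.isP hCC1
  have a4 := mul_card_le F.isP hC1E
  have h21 : p ^ 4 * Nat.card K ≤ Nat.card K * p ^ 3 :=
    calc p ^ 4 * Nat.card K = p * (p * (p * (p * Nat.card K))) := by ring
      _ ≤ Nat.card E2 := le_trans (Nat.mul_le_mul_left _ (le_trans (Nat.mul_le_mul_left _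
          (le_trans (Nat.mul_le_mul_left _ a1) a2)) a3)) a4
      _ ≤ _ := h20.symm.le.trans (Nat.mul_le_mul_left _ hrel)
  rw [mul_comm (Nat.card K)] at h21
  exact absurd ((Nat.pow_le_pow_iff_right hp.out.one_lt).1 (Nat.le_of_mul_le_mul_right h21 Nat.card_pos))
    (by norm_num)

end Fam

end Cfsg.Agent.H91.Rank3
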