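import Cfsg.Agent.H91.Rank3.CaseTwo

/-!
A span of order `p ^ 2`, and an image of it not commuting with it: impossible.
-/

set_option autoImplicit false
set_option linter.unusedSectionVars false
set_option linter.style.haveILetI false

namespace Cfsg.Agent.H91.Rank3

open Subgroup
open Cfsg.Agent.H91.Small (TvData)
open scoped commutatorElement

section Tools

variable {M : Type*} [Group M] [Finite M] {p : ℕ} [hp : Fact p.Prime]

/-- A subgroup which, modulo `A` and its Frattini subgroup, has order at most `p`. -/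
theorem exists_eq_sup_zpowers (hM : IsPGroup p M) {A C : Subgroup M} (hA : A ≤ C)
    (h : Nat.card C ≤ p * Nat.card (A ⊔ pser p C 1 : Subgroup M)) : ∃ c ∈ C, C = A ⊔ zpowers c := by
  set K := A ⊔ pser p C 1
  have hKC : K ≤ C := sup_le hA (pser_le C 1)
  have hmap : (A.subgroupOf C ⊔ frattini C).map C.subtype = K := by
    rw [Subgroup.map_sup, Subgroup.subgroupOf_map_subtype, inf_eq_left.2 hA, frattini_map hM]
  obtain ⟨c, hc, hcC⟩ : ∃ c ∈ C, K ⊔ zpowers c = C := by
    by_cases hle : C ≤ K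
    · exact ⟨1, one_mem _, by rw [Subgroup.zpowers_one_eq_bot, sup_bot_eq]; exact le_antisymm hKC hle⟩
    · obtain ⟨c, hc, hcK⟩ := SetLike.not_le_iff_exists.1 hle
      refine ⟨c, hc, eq_of_step le_sup_right hKC hc hcK (le_antisymm h ?_)⟩
      exact mul_card_le hM (lt_of_le_not_ge hKC hle)
  refine ⟨c, hc, le_antisymm ?_ (sup_le hA (zpowers_le.2 hc))⟩
  have htop : A.subgroupOf C ⊔ zpowers (⟨c, hc⟩ : C) ⊔ frattini C = ⊤ := by
    apply Subgroup.map_injective C.subtype_injective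
    rw [← MonoidHom.range_eq_map, Subgroup.range_subtype, sup_right_comm, Subgroup.map_sup, hmap,
      MonoidHom.map_zpowers]
    exact hcC
  have := frattini_nongenerating htop
  intro x hx
  have h2 := Subgroup.mem_map_of_mem C.subtype (this.ge (mem_top (⟨x, hx⟩ : C)))
  rwa [Subgroup.map_sup, Subgroup.subgroupOf_map_subtype, inf_eq_left.2 hA, MonoidHom.map_zpowers] at h2

/-- Commutators of products of commuting factors. -/
theorem commutator_mul_of_commute {G : Type*} [Group G] {x x' y y' : G} (hxx : Commute x x') (hxy : Commute x y)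
    (hxy' : Commute x y') (hx'y : Commute x' y) (hx'y' : Commute x' y') : ⁅x * y, x' * y'⁆ = ⁅y, y'⁆ := by
  have h1 : Commute (x * x') ⁅y, y'⁆ := by
    rw [commutatorElement_def]
    exact (((hxy.mul_left hx'y).mul_right (hxy'.mul_left hx'y')).mul_right
      (hxy.mul_left hx'y).inv_right).mul_right (hxy'.mul_left hx'y').inv_right
  have e1 : x * y * (x' * y') = x * x' * (y * y') := by rw [mul_assoc, ← mul_assoc y, ← hx'y.eq]; group
  have e2 : x' * y' * (x * y) = x * x' * (y' * y) := by rw [mul_assoc, ← mul_assoc y', ← hxy'.eq, hxx.eq]; group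
  rw [show ⁅x * y, x' * y'⁆ = (x * y * (x' * y')) * (x' * y' * (x * y))⁻¹ by rw [commutatorElement_def]; group,
    e1, e2, show x * x' * (y * y') * (x * x' * (y' * y))⁻¹ = x * x' * ⁅y, y'⁆ * (x * x')⁻¹ by
      rw [commutatorElement_def]; group, h1.eq, mul_inv_cancel_right]

end Tools

namespace Fam

variable {M : Type*} [Group M] [Finite M] {p : ℕ} [hp : Fact p.Prime] {F : Fam p M} {E1 E2 : Subgroup M}

/-- Commutators with images of a subgroup. -/
theorem img_comm_le {Q Q0 : Subgroup M} (hQ0 : F.Inv Q0 E2) (hQ : ∀ (m : M), ∀ v ∈ Q, ⁅m, v⁆ ∈ Q0) {g : MulAut E2}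
    (hg : g ∈ F.G E2) {e b : M} (he : e ∈ E2) (hb : b ∈ img g Q) : ⁅e, b⁆ ∈ Q0 := by
  obtain ⟨x, hx, rfl⟩ := mem_img.1 hb
  have h : ((g ⁅g⁻¹ ⟨e, he⟩, x⁆ : E2) : M) ∈ Q0 := by
    refine hQ0 g hg _ ?_
    rw [← Subgroup.coe_subtype, map_commutatorElement]
    exact hQ _ _ hx
  rwa [map_commutatorElement, MulAut.apply_inv_self, ← Subgroup.coe_subtype, map_commutatorElement] at h

/-- The orders for a span of order less than `p ^ 3`. -/
theorem small_span (h1 : F.Ess E1) (hn1 : ¬ F.Inv (om p M) E1) (hcard : Nat.card (F.span E1) ≠ p ^ 3) :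
    Nat.card (F.span E1) = p ^ 2 ∧ Nat.card (om p M) = p ∧
      ∀ (m : M), ∀ v ∈ F.span E1, ⁅m, v⁆ ∈ om p M := by
  haveI := span_normal h1
  haveI := om_normal (M := M) (p := p)
  obtain ⟨i, hi⟩ := IsPGroup.iff_card.1 (F.isP.to_subgroup (F.span E1))
  have h3 := card_span_le (F := F) (E := E1)
  have h4 := mul_card_le F.isP (om_lt_span h1 hn1)
  have h5 := p_le_card_om h1 hn1
  have h6 : p ^ 2 ≤ p ^ i := by
    rw [← hi, pow_two]
    exact le_trans (Nat.mul_le_mul_left _ h5) h4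
  rw [hi] at h3 hcard
  have := (Nat.pow_le_pow_iff_right hp.out.one_lt).1 h3
  have := (Nat.pow_le_pow_iff_right hp.out.one_lt).1 h6
  have : i ≠ 3 := fun h => hcard (by rw [h])
  have hi2 : Nat.card (F.span E1) = p ^ 2 := by rw [hi, show i = 2 by omega]
  have hom : Nat.card (om p M) = p := by
    refine le_antisymm ?_ h5
    rw [hi2, pow_two] at h4
    exact (Nat.mul_le_mul_left_iff hp.out.pos).1 h4
  refine ⟨hi2, hom, fun m v hv => comm_mem_of_card_le F.isP (om_le_span h1) ?_ m hv⟩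
  rw [hi2, hom, pow_two]

/-- The central elements of order `p` lie in every nontrivial normal subgroup. -/
theorem om_le_of_normal (F : Fam p M) (hom : Nat.card (om p M) = p) {N : Subgroup M} [N.Normal] (hN : N ≠ ⊥) : om p M ≤ N := by
  obtain ⟨x, hx, hxo, hx1⟩ := exists_mem_om F hN
  have heq : zpowers x = om p M := Subgroup.eq_of_le_of_card_ge (zpowers_le.2 hxo) (by
    rw [hom, card_zpowers_prime hxo.2 hx1])
  exact heq ▸ zpowers_le.2 hx

variable (hu : ∀ E, F.Ess E → ¬ F.Inv (om p M) E → E = E1) (h1 : F.Ess E1) (hn1 : ¬ F.Inv (om p M) E1)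
include hu h1 hn1

omit hu in
set_option maxHeartbeats 400000 in
/-- An image not commuting with the span is impossible. -/
theorem caseTwo_pair (hall : ∀ E E', F.Ess E → F.Ess E' → F.span E ≤ E') (h2 : F.Ess E2)
    (hom2 : F.Inv (om p M) E2) (hcard : Nat.card (F.span E1) ≠ p ^ 3) {g : MulAut E2} (hg : g ∈ F.G E2)
    {a u : M} (ha : a ∈ F.span E1) (hub : u ∈ img g (F.span E1)) (hau : ¬ Commute a u) : False := by
  classical
  obtain ⟨hV, hom, hline⟩ := small_span h1 hn1 hcard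
  set V := F.span E1
  haveI hVn : V.Normal := span_normal h1
  haveI := normal h1
  haveI := normal h2
  haveI hon := om_normal (M := M) (p := p)
  have hVc : ∀ a ∈ V, ∀ b ∈ E1, Commute a b := fun a ha b hb => span_comm ha hb
  have hV2 : V ≤ E2 := hall E1 E2 h1 h2
  have hV12 : V ≤ E1 ⊓ E2 := le_inf span_le hV2
  have hu1 : u ∉ E1 := fun h => hau (hVc a ha u h)
  have hu2 : u ∈ E2 := img_le hub
  have hup : u ^ p = 1 := img_pow (fun v hv => span_pow hv) u hub
  have hcz : ∀ {t : M}, t ∈ om p M → ∀ g, Commute t g := fun ht g => ((mem_om.1 ht).1 g).symm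
  set t := ⁅a, u⁆ with htdef
  have ht : t ∈ om p M := img_comm_le hom2 hline hg (hV2 ha) hub
  have ht1 : t ≠ 1 := fun h => hau (commutatorElement_eq_one_iff_commute.1 h)
  have hgen : zpowers t = om p M := Subgroup.eq_of_le_of_card_ge (zpowers_le.2 ht) (by
    rw [hom, card_zpowers_prime ht.2 ht1])
  set R := E1 ⊓ E2 ⊓ centralizer {u}
  have hRu : ∀ r ∈ R, Commute r u := fun r hr => mem_centralizer_singleton_iff.1 hr.2
  have homR : om p M ≤ R := fun x hx =>
    ⟨⟨om_le h1 hx, om_le h2 hx⟩, mem_centralizer_singleton_iff.2 (hcz hx u).eq⟩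
  -- decomposition of the intersection
  have hdecI : ∀ x ∈ E1 ⊓ E2, ∃ j : ℕ, ∃ r ∈ R, x = a ^ j * r := by
    intro x hx
    obtain ⟨j, hj⟩ := (isOfFinOrder_of_finite t).mem_powers_iff_mem_zpowers.2
      (hgen.ge (img_comm_le hom2 hline hg hx.2 hub))
    simp only at hj
    refine ⟨j, (a ^ j)⁻¹ * x, ⟨(E1 ⊓ E2).mul_mem ((E1 ⊓ E2).inv_mem (pow_mem (hV12 ha) j)) hx, ?_⟩, by group⟩
    refine mem_centralizer_singleton_iff.2 ?_
    have hxu : x * u = t ^ j * (u * x) := by rw [hj, commutatorElement_def]; group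
    have hau' : ∀ j : ℕ, a ^ j * u = t ^ j * (u * a ^ j) := by
      intro j
      induction j with
      | zero => simp
      | succ j ih =>
        calc a ^ (j + 1) * u = a ^ j * (a * u) := by rw [pow_succ, mul_assoc]
          _ = a ^ j * t * (u * a) := by rw [htdef, commutatorElement_def]; group
          _ = t * (a ^ j * u) * a := by rw [← (hcz ht (a ^ j)).eq]; group
          _ = t * (t ^ j * (u * a ^ j)) * a := by rw [ih]
          _ = _ := by rw [pow_succ', pow_succ]; group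
    have key : (a ^ j)⁻¹ * (t ^ j * u) = u * (a ^ j)⁻¹ := by
      rw [inv_mul_eq_iff_eq_mul, ← mul_assoc, eq_mul_inv_iff_mul_eq, hau' j]
      group
    rw [mul_assoc, hxu, ← mul_assoc (t ^ j), ← mul_assoc ((a ^ j)⁻¹), key, mul_assoc]
  have hdec : ∀ e ∈ E2, ∃ j : ℕ, ∃ r ∈ R, ∃ i : ℕ, e = a ^ j * r * u ^ i := by
    intro e he
    obtain ⟨x, hx, i, rfl⟩ := exists_dec h1 hu1 e
    have hx2 : x ∈ E2 := by
      have := mul_mem he (inv_mem (pow_mem hu2 i))
      rwa [mul_inv_cancel_right] at this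
    obtain ⟨j, r, hr, rfl⟩ := hdecI x ⟨hx, hx2⟩
    exact ⟨j, r, hr, i, rfl⟩
  set K := om p M ⊔ pser p R 1
  have hKR : K ≤ R := sup_le homR (pser_le R 1)
  set π := QuotientGroup.mk' (om p M)
  have hπt : π t = 1 := (QuotientGroup.eq_one_iff t).2 ht
  have hπau : Commute (π a) (π u) := by
    rw [← commutatorElement_eq_one_iff_commute, ← map_commutatorElement]; exact hπt
  have hra : ∀ r ∈ R, Commute a r := fun r hr => hVc a ha r hr.1.1
  have hKmem : ∀ {x k : M}, k ∈ K → π x = π k → x ∈ K := fun {x k} hk h => by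
    have := mul_mem hk (mem_sup_left (T := pser p R 1) (QuotientGroup.eq.1 h.symm))
    rwa [mul_inv_cancel_left] at this
  have hrel : K.relIndex E2 ≤ p ^ 3 := by
    refine relIndex_le_cube F.rank (fun e he f hf => ?_) fun e he => ?_
    · obtain ⟨j, r, hr, i, rfl⟩ := hdec e he
      obtain ⟨j', r', hr', i', rfl⟩ := hdec f hf
      refine hKmem (k := ⁅r, r'⁆) (mem_sup_right (comm_mem_pser_one hr hr')) ?_
      have h1' := (hra r hr).map π
      have h2' := (hra r' hr').map π
      have h3' := ((hRu r hr)).map π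
      have h4' := ((hRu r' hr')).map π
      simp only [map_commutatorElement, map_mul, map_pow]
      have eA : ∀ k l : ℕ, Commute (π a ^ k * π u ^ l) (π r) ∧ Commute (π a ^ k * π u ^ l) (π r') := fun k l =>
        ⟨(h1'.pow_left k).mul_left (h3'.symm.pow_left l), (h2'.pow_left k).mul_left (h4'.symm.pow_left l)⟩
      rw [show π a ^ j * π r * π u ^ i = π a ^ j * π u ^ i * π r by
          rw [mul_assoc, (h3'.pow_right i).eq, ← mul_assoc],
        show π a ^ j' * π r' * π u ^ i' = π a ^ j' * π u ^ i' * π r' by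
          rw [mul_assoc, (h4'.pow_right i').eq, ← mul_assoc]]
      exact commutator_mul_of_commute ((((Commute.refl _).pow_pow j j').mul_right (hπau.pow_pow j i')).mul_left
          ((hπau.symm.pow_pow i j').mul_right ((Commute.refl _).pow_pow i i'))) (eA j i).1 (eA j i).2
        (eA j' i').1 (eA j' i').2
    · obtain ⟨j, r, hr, i, rfl⟩ := hdec e he
      refine hKmem (k := r ^ p) (mem_sup_right (pow_mem_pser_one hr)) ?_
      simp only [map_mul, map_pow]
      have hA : π a ^ p = 1 := by rw [← map_pow, span_pow ha, map_one]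
      have hU : π u ^ p = 1 := by rw [← map_pow, hup, map_one]
      rw [Commute.mul_pow ((hπau.pow_pow j i).mul_left (((hRu r hr).map π).pow_right i)),
        (((hra r hr).map π).pow_left j).mul_pow, pow_right_comm, hA, one_pow, one_mul, ← pow_mul, mul_comm i,
        pow_mul, hU, one_pow, mul_one]
  obtain ⟨r0, -, hR0⟩ := exists_eq_sup_zpowers F.isP homR (by
    have h3 := card_mul_relIndex (hKR.trans (inf_le_left.trans inf_le_right) : K ≤ E2)
    have hT : R < E1 ⊓ E2 := lt_of_le_not_ge inf_le_left fun h =>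
      hau (hRu a (h (hV12 ha)))
    have hTE : E1 ⊓ E2 < E2 := lt_of_le_not_ge inf_le_right fun h => hu1 (h hu2).1
    have h4 := mul_card_le F.isP hT
    have h5 := mul_card_le F.isP hTE
    refine (Nat.mul_le_mul_left_iff (Nat.mul_pos hp.out.pos hp.out.pos)).1 ?_
    calc p * p * Nat.card R = p * (p * Nat.card R) := by ring
      _ ≤ p * Nat.card (E1 ⊓ E2 : Subgroup M) := Nat.mul_le_mul_left _ h4
      _ ≤ Nat.card K * p ^ 3 := h5.trans (h3.symm.le.trans (Nat.mul_le_mul_left _ hrel))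
      _ = p * p * (p * Nat.card K) := by ring)
  have hRc : ∀ r ∈ R, ∀ s ∈ R, Commute r s := by
    intro r hr s hs
    obtain ⟨x, hx, _, ⟨k, rfl⟩, rfl⟩ := Subgroup.mem_sup_of_normal_left.1 (hR0.le hr)
    obtain ⟨x', hx', _, ⟨k', rfl⟩, rfl⟩ := Subgroup.mem_sup_of_normal_left.1 (hR0.le hs)
    exact (hcz hx _).mul_left (((hcz hx' _).symm).mul_right ((Commute.refl r0).zpow_zpow k k'))
  have hRE : ∀ r ∈ R, ∀ e ∈ E2, Commute r e := by
    intro r hr e he
    obtain ⟨j, r', hr', i, rfl⟩ := hdec e he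
    exact (((hra r hr).symm.pow_right j).mul_right (hRc r hr r' hr')).mul_right ((hRu r hr).pow_right i)
  haveI hRn : R.Normal := ⟨fun r hr m => by
    have hm2 : m * r * m⁻¹ ∈ E2 := (inferInstance : E2.Normal).conj_mem r hr.1.2 m
    refine ⟨⟨(inferInstance : E1.Normal).conj_mem r hr.1.1 m, hm2⟩, mem_centralizer_singleton_iff.2 ?_⟩
    have hu' : m⁻¹ * u * m ∈ E2 := (inferInstance : E2.Normal).conj_mem' u hu2 m
    have h := (hRE r hr _ hu').map (MulAut.conj m).toMonoidHom
    simpa [mul_assoc] using h.eq⟩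
  have haR : a ∉ R := fun h => hau (hRu a h)
  have hI : ∀ x ∈ E1 ⊓ E2, ∀ e ∈ E1, ⁅x, e⁆ ∈ R := by
    intro x hx e he
    obtain ⟨j, r, hr, rfl⟩ := hdecI x hx
    rw [show ⁅a ^ j * r, e⁆ = a ^ j * ⁅r, e⁆ * (a ^ j)⁻¹ * ⁅a ^ j, e⁆ by
      simp only [commutatorElement_def]; group,
      commutatorElement_eq_one_iff_commute.2 ((hVc a ha e he).pow_left j), mul_one]
    refine hRn.conj_mem _ ?_ _
    rw [show ⁅r, e⁆ = r * (e * r⁻¹ * e⁻¹) by rw [commutatorElement_def]; group]
    exact mul_mem hr (hRn.conj_mem _ (inv_mem hr) e)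
  obtain ⟨y, hy1, hy2⟩ : ∃ y ∈ E1, y ∉ E2 := by
    by_contra h
    push Not at h
    refine hu1 ((Subgroup.eq_of_le_of_card_ge h (le_of_eq (Nat.eq_of_mul_eq_mul_right hp.out.pos ?_))).ge hu2)
    conv_lhs => rw [← F.index h2, Subgroup.card_mul_index]
    rw [← Subgroup.card_mul_index E1, F.index h1]
  have hdec1 : ∀ x ∈ E1, ∃ m ∈ E1 ⊓ E2, ∃ l : ℕ, x = m * y ^ l := by
    intro x hx
    obtain ⟨m, hm, l, rfl⟩ := exists_dec h2 hy2 x
    refine ⟨m, ⟨?_, hm⟩, l, rfl⟩
    have := mul_mem hx (inv_mem (pow_mem hy1 l))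
    rwa [mul_inv_cancel_right] at this
  -- the commutators and powers of `E1` centralise `u`
  have hder : ∀ x ∈ E1, ∀ x' ∈ E1, ⁅x, x'⁆ ∈ R := by
    intro x hx x' hx'
    obtain ⟨m, hm, l, rfl⟩ := hdec1 x hx
    obtain ⟨m', hm', l', rfl⟩ := hdec1 x' hx'
    set q := QuotientGroup.mk' R
    rw [← QuotientGroup.eq_one_iff]
    show q ⁅m * y ^ l, m' * y ^ l'⁆ = 1
    have hq : ∀ m ∈ E1 ⊓ E2, ∀ e ∈ E1, Commute (q m) (q e) := fun m hm e he => by
      rw [← commutatorElement_eq_one_iff_commute, ← map_commutatorElement]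
      exact (QuotientGroup.eq_one_iff _).2 (hI m hm e he)
    rw [map_commutatorElement, commutatorElement_eq_one_iff_commute, map_mul, map_mul, map_pow, map_pow]
    exact ((hq m hm m' hm'.1).mul_right ((hq m hm y hy1).pow_right l')).mul_left
      (((hq m' hm' y hy1).symm.pow_left l).mul_right ((Commute.refl _).pow_pow l l'))
  have hpser : pser p E1 1 ≤ centralizer {u} → pser p E1 1 = ⊥ := fun hle => by
    by_contra hne
    have h6 := span_le_of_inv (inv_pser_one F) (om_le_of_normal F hom hne)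
    exact hau (mem_centralizer_singleton_iff.1 (hle (h6 ha)))
  have hE1c : ∀ x ∈ E1, ∀ x' ∈ E1, Commute x x' := by
    intro x hx x' hx'
    rw [← commutatorElement_eq_one_iff_commute]
    by_contra hne
    have hN : (⁅E1, E1⁆ : Subgroup M) ≠ ⊥ := fun hb =>
      hne (Subgroup.mem_bot.1 (hb ▸ commutator_mem_commutator hx hx'))
    have hle : (⁅E1, E1⁆ : Subgroup M) ≤ R := commutator_le.2 hder
    have hinv : F.Inv ⁅E1, E1⁆ E1 := fun α _ v hv => by
      have hmap : (⁅(⊤ : Subgroup E1), (⊤ : Subgroup E1)⁆).map E1.subtype = ⁅E1, E1⁆ := by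
        rw [Subgroup.map_commutator, ← MonoidHom.range_eq_map, Subgroup.range_subtype]
      have hv' : v ∈ ⁅(⊤ : Subgroup E1), (⊤ : Subgroup E1)⁆ :=
        (Subgroup.mem_map_iff_mem E1.subtype_injective).1 (hmap.ge hv)
      have h7 := Subgroup.mem_map_of_mem (α : E1 ≃* E1).toMonoidHom hv'
      rw [Subgroup.map_commutator, Subgroup.map_top_of_surjective _ (α : E1 ≃* E1).surjective] at h7
      exact hmap.le ⟨_, h7, rfl⟩
    exact haR (hle (span_le_of_inv hinv (om_le_of_normal F hom hN) ha))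
  have hnorm2 : ∀ x ∈ E1, ⁅u, x⁆ ∈ E1 ⊓ E2 := fun x hx => ⟨comm_mem h1 u x, comm_mem h2 u x⟩
  have hw2 : ∀ w ∈ E1 ⊓ E2, ∃ s ∈ om p M, u * w * u⁻¹ = w * s := by
    intro w hw
    refine ⟨⁅w⁻¹, u⁆, img_comm_le hom2 hline hg (inv_mem hw.2) hub, ?_⟩
    rw [commutatorElement_def]; group
  have hyp : ∀ x ∈ E1, Commute (x ^ p) u := by
    intro x hx
    set w := x⁻¹ * (u * x * u⁻¹)
    have hw : w ∈ E1 ⊓ E2 := by
      rw [show w = ⁅x⁻¹, u⁆ by simp only [w, commutatorElement_def]; group]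
      exact ⟨comm_mem h1 _ _, comm_mem h2 _ _⟩
    obtain ⟨s, hs, hws⟩ := hw2 w hw
    have hit : ∀ i : ℕ, u ^ i * x * (u ^ i)⁻¹ = x * w ^ i * s ^ i.choose 2 := by
      intro i
      induction i with
      | zero => simp
      | succ i ih =>
        rw [pow_succ' u, show u * u ^ i * x * (u * u ^ i)⁻¹ = u * (u ^ i * x * (u ^ i)⁻¹) * u⁻¹ by group, ih,
          show u * (x * w ^ i * s ^ i.choose 2) * u⁻¹ =
              (u * x * u⁻¹) * (u * w * u⁻¹) ^ i * (u * s * u⁻¹) ^ i.choose 2 by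
            rw [conj_pow, conj_pow]; group,
          hws, ((hcz hs w).symm).mul_pow, ← (hcz hs u).eq, mul_inv_cancel_right,
          show u * x * u⁻¹ = x * w by simp only [w]; group, Nat.choose_succ_succ', Nat.choose_one_right,
          pow_add s, pow_succ' w]
        group
    obtain ⟨k, hk⟩ : p ∣ p.choose 2 :=
      hp.out.dvd_choose_self two_ne_zero (lt_of_le_of_ne hp.out.two_le (Ne.symm F.odd))
    have hp' := hit p
    rw [hup, one_mul, inv_one, mul_one, hk, pow_mul, hs.2, one_pow, mul_one, left_eq_mul] at hp'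
    have hxw : Commute x w := hE1c x hx w hw.1
    have h10 : u * x ^ p * u⁻¹ = x ^ p := by
      rw [← conj_pow, show u * x * u⁻¹ = x * w by simp only [w]; group, hxw.mul_pow, hp', mul_one]
    exact (mul_inv_eq_iff_eq_mul.1 h10).symm
  have hE1e : pser p E1 1 = ⊥ := hpser (pser_succ_le_of
    (fun x hx x' hx' => by
      rw [commutatorElement_eq_one_iff_commute.2 (hE1c x hx x' hx')]; exact one_mem _)
    fun x hx => mem_centralizer_singleton_iff.2 (hyp x hx).eq)
  have hE1p : ∀ x ∈ E1, x ^ p = 1 := fun x hx => Subgroup.mem_bot.1 (hE1e ▸ pow_mem_pser_one hx)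
  have hlt : E1 ⊓ E2 < E1 := lt_of_le_not_ge inf_le_left fun h => hy2 (h hy1).2
  have hcard1 : Nat.card E1 = p ^ 3 := by
    refine le_antisymm (F.card_le_cube hE1c hE1p) ?_
    have h11 := (Nat.mul_le_mul_left p (Subgroup.card_le_of_le hV12)).trans (mul_card_le F.isP hlt)
    rwa [hV, ← pow_succ'] at h11
  have hI2 : V = E1 ⊓ E2 := Subgroup.eq_of_le_of_card_ge hV12 (by
    have h12 := mul_card_le F.isP hlt
    rw [hcard1, pow_succ'] at h12
    rw [hV]
    exact (Nat.mul_le_mul_left_iff hp.out.pos).1 h12)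
  -- the regular element
  set w := y⁻¹ * (u * y * u⁻¹) with hwdef
  have hwV : w ∈ V := by
    rw [hI2, show w = ⁅y⁻¹, u⁆ by rw [hwdef, commutatorElement_def]; group]
    exact ⟨comm_mem h1 _ _, comm_mem h2 _ _⟩
  have hwu : ¬ Commute w u := fun hc => by
    have hwom : w ∈ om p M := ⟨mem_center_of h1 hu1 (fun e he => hVc w hwV e he) hc, span_pow hwV⟩
    obtain ⟨k, hk⟩ := (isOfFinOrder_of_finite t).mem_powers_iff_mem_zpowers.2 (hgen.ge hwom)
    simp only at hk
    have ha' : u * a * u⁻¹ = a * t⁻¹ := by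
      rw [(hcz (inv_mem ht) a).symm.eq, htdef, commutatorElement_def]; group
    have hfix : u * (y * a ^ k) * u⁻¹ = y * a ^ k := by
      rw [show u * (y * a ^ k) * u⁻¹ = (u * y * u⁻¹) * (u * a * u⁻¹) ^ k by rw [conj_pow]; group, ha',
        ((hcz (inv_mem ht) a).symm).mul_pow, show u * y * u⁻¹ = y * w by rw [hwdef]; group, ← hk,
        ← mul_assoc, mul_assoc y, (hcz (pow_mem ht k) (a ^ k)).eq, mul_assoc y, mul_assoc (a ^ k), ← mul_assoc,
        inv_pow, mul_inv_cancel, mul_one]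
    have hmem : y * a ^ k ∈ E1 := mul_mem hy1 (pow_mem (span_le ha) k)
    have hcen : y * a ^ k ∈ om p M := ⟨mem_center_of h1 hu1 (fun e he => hE1c _ hmem e he)
      (mul_inv_eq_iff_eq_mul.1 hfix).symm, hE1p _ hmem⟩
    refine hy2 ?_
    have := mul_mem (om_le h2 hcen) (inv_mem (pow_mem (hV2 ha) k))
    rwa [mul_inv_cancel_right] at this
  letI : CommGroup E1 :=
    { (inferInstance : Group E1) with mul_comm := fun x x' => Subtype.ext (hE1c x x.2 x' x'.2).eq }
  haveI := F.finite_G E1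
  obtain ⟨A, hA⟩ := exists_sylow h1
  set z : F.G E1 := ⟨cj h1 u, cjG h1 u⟩
  have hAz : (A : Subgroup (F.G E1)) = zpowers z := by
    rw [hA]
    refine le_antisymm ?_ (zpowers_le.2 (Subgroup.mem_subgroupOf.2 (cj_mem h1 u)))
    intro f hf
    obtain ⟨m, hm⟩ := eq_cj h1 (Subgroup.mem_subgroupOf.1 hf)
    obtain ⟨x, hx, i, rfl⟩ := exists_dec h1 hu1 m
    refine ⟨i, Subtype.ext ?_⟩
    simp only
    rw [zpow_natCast, SubmonoidClass.coe_pow, hm, map_mul, map_pow,
      show cj h1 x = 1 from MulEquiv.ext fun v => Subtype.ext (by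
        rw [coe_cj, (hE1c x hx v v.2).eq, mul_inv_cancel_right]; rfl), one_mul]
  have hv0 : disp (z : MulAut E1) (disp (z : MulAut E1) ⟨y, hy1⟩) ≠ 1 := by
    intro h
    have h' := congrArg Subtype.val ((disp_eq_one).1 h)
    simp only [disp_apply, z, coe_cj, Subgroup.coe_mul, Subgroup.coe_inv] at h'
    rw [← hwdef] at h'
    exact hwu ((mul_inv_eq_iff_eq_mul.1 h').symm)
  have hz1 : z ≠ 1 := fun h => hv0 (by simp [h, disp_apply])
  have hAc : Nat.card (A : Subgroup (F.G E1)) = p := by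
    rw [hAz, Nat.card_zpowers]
    refine orderOf_eq_prime (Subtype.ext ?_) hz1
    rw [SubmonoidClass.coe_pow, OneMemClass.coe_one]
    show cj h1 u ^ p = 1
    rw [← map_pow, hup, map_one]
  set Y := normalizer ((A : Subgroup (F.G E1)) : Set (F.G E1))
  have hY : Y ≠ ⊤ := fun h => by
    obtain ⟨α, hα, β, hβ, hne⟩ := F.notNormal h1
    refine hne ?_
    have h13 := (Subgroup.mem_normalizer_iff.1 (h.ge (mem_top (⟨α, hα⟩ : F.G E1))) ⟨β, F.indG h1 hβ⟩).1
      (hA.ge (Subgroup.mem_subgroupOf.2 hβ))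
    have h14 := hA.le h13
    rw [Subgroup.mem_subgroupOf] at h14
    simpa using h14
  have hemb : ∀ Q : Subgroup (F.G E1), Q ≤ (A : Subgroup (F.G E1)) → Q ≠ ⊥ →
      normalizer (Q : Set (F.G E1)) ≤ Y := fun Q hQ hQne => by
    rcases (Nat.dvd_prime hp.out).1 (hAc ▸ Subgroup.card_dvd_of_le hQ) with h | h
    · exact absurd (Subgroup.card_eq_one.1 h) hQne
    · rw [Subgroup.eq_of_le_of_card_ge hQ (by rw [hAc, h])]
  rcases no_invariant F.odd (fun v => Subtype.ext (hE1p v v.2)) hcard1 A Y hY hAc hemb (hAz.ge (mem_zpowers z))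
    hv0 (V.subgroupOf E1) (fun f hf c hc => Subgroup.mem_subgroupOf.2
      (inv_span f hf c (Subgroup.mem_subgroupOf.1 hc))) with h | h
  · have ha1 : (⟨a, span_le ha⟩ : E1) ∈ V.subgroupOf E1 := Subgroup.mem_subgroupOf.2 ha
    rw [h, Subgroup.mem_bot] at ha1
    refine hau ?_
    rw [show a = 1 from congrArg Subtype.val ha1]
    exact Commute.one_left u
  · exact hy2 (hV2 (Subgroup.mem_subgroupOf.1 (h.ge (mem_top (⟨y, hy1⟩ : E1)))))

end Fam

end Cfsg.Agent.H91.Rank3
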