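import Cfsg.Agent.H91.Rank3.Kinds

/-!
The third kind excludes the others in one group, and fixes the line of its central generator.
-/

set_option autoImplicit false
set_option linter.unusedSectionVars false
set_option linter.style.haveILetI false

namespace Cfsg.Agent.H91.Rank3

open Subgroup
open scoped commutatorElement

namespace BData

variable {N : Type*} [Group N] [Finite N] {p : ℕ} [hp : Fact p.Prime] {t : MulAut N} {n w c : N} {l : (ZMod p)ˣ}
  (D : BData p t n w c l)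

include D

/-- Outside a maximal subgroup missing `c`, commutators are those of the maximal subgroup. -/
theorem comm_eq (hN : IsPGroup p N) {M : Subgroup N} (hM : M.index = p) (hc : c ∉ M) (g x : N) :
    ∃ e ∈ M, ⁅g, x⁆ = ⁅e, x⁆ := by
  haveI := (mem_of_index_eq hN hM).1
  have htop : M ⊔ zpowers c = ⊤ := Subgroup.eq_top_of_card_eq _ (by
    rw [PGroups.card_sup_zpowers (p := p) M hc ((mem_of_index_eq hN hM).2.1 c), ← Subgroup.card_mul_index M, hM,
      mul_comm])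
  obtain ⟨e, he, y, hy, rfl⟩ := Subgroup.mem_sup_of_normal_left.1 (htop.ge (mem_top g))
  obtain ⟨i, rfl⟩ := hy
  refine ⟨e, he, ?_⟩
  have h : c ^ i * x * (c ^ i)⁻¹ = x := by rw [((D.cc x).zpow_left i).eq, mul_inv_cancel_right]
  simp only [commutatorElement_def]
  rw [show e * c ^ i * x * (e * c ^ i)⁻¹ = e * (c ^ i * x * (c ^ i)⁻¹) * e⁻¹ by group, h]

/-- No maximal subgroup is regular. -/
theorem not_regular (hN : IsPGroup p N) {M : Subgroup N} (R : RegularData p M) : False := by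
  haveI := R.normal hN
  haveI := D.dnormal
  obtain ⟨g, v, hv, hgv⟩ := R.reg
  apply hgv
  have hP : (pser p M 1).Normal := by
    rw [← frattini_map hN M]
    infer_instance
  by_cases hc : c ∈ M
  · have h1 : ⁅g, v⁆ ∈ closure {⁅n, w⁆, c} := D.phi_le (D.comm_mem g v)
    have h2 := D.t_central h1 g
    rw [← commutatorElement_inv] at h2
    exact (zpowers_le.2 (pow_mem_pser_one hc) : zpowers (c ^ p) ≤ pser p M 1) (inv_mem_iff.1 h2)
  · obtain ⟨e, he, heq⟩ := D.comm_eq hN R.index hc g v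
    rw [heq, commutatorElement_def g]
    exact mul_mem (hP.conj_mem _ (comm_mem_pser_one he hv) g) (inv_mem (comm_mem_pser_one he hv))

/-- No maximal subgroup carries the two-generator data. -/
theorem not_rankTwo (hN : IsPGroup p N) {M : Subgroup N} (R : RankTwoData p M) : False := by
  haveI := R.normal hN
  haveI := D.dnormal
  have key : ⁅⁅(⊤ : Subgroup N), (⊤ : Subgroup N)⁆, (⊤ : Subgroup N)⁆ ≤ pser p M 2 := by
    by_cases hc : c ∈ M
    · refine le_trans ?_ (zpowers_le.2 (R.pow0 c hc) : zpowers (c ^ p) ≤ pser p M 2)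
      refine commutator_le.2 fun x hx g _ => D.t_central ?_ g
      exact (commutator_le.2 fun a _ b _ => D.phi_le (D.comm_mem a b) :
        ⁅(⊤ : Subgroup N), (⊤ : Subgroup N)⁆ ≤ closure {⁅n, w⁆, c}) hx
    · have hder : ⁅(⊤ : Subgroup N), (⊤ : Subgroup N)⁆ ≤ pser p M 1 := commutator_le.2 fun a _ b _ => by
        obtain ⟨e, he, heq⟩ := D.comm_eq hN R.index hc a b
        obtain ⟨f, hf, hfeq⟩ := D.comm_eq hN R.index hc b e
        rw [heq, ← commutatorElement_inv b e, hfeq]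
        exact inv_mem (comm_mem_pser_one hf he)
      refine commutator_le.2 fun x hx g _ => ?_
      obtain ⟨e, he, heq⟩ := D.comm_eq hN R.index hc g x
      rw [← commutatorElement_inv g x, heq, commutatorElement_inv]
      exact comm_mem_pser_succ (hder hx) he
  have h := Subgroup.card_le_of_le (R.low.trans (sup_le key le_rfl))
  rw [R.card1] at h
  have h2 : 2 * Nat.card (pser p M 2) ≤ p * Nat.card (pser p M 2) := Nat.mul_le_mul_right _ hp.out.two_le
  have h3 : 0 < Nat.card (pser p M 2) := Nat.card_pos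
  omega

variable (hD : c ^ p = 1)
include hD

theorem u_comm (g : N) : Commute ⁅n, w⁆ g := by
  rw [← commutatorElement_eq_one_iff_commute]
  have := D.u_central g
  rwa [hD, Subgroup.zpowers_one_eq_bot, Subgroup.mem_bot] at this

theorem t_form' {x : N} (hx : x ∈ closure {⁅n, w⁆, c}) : ∃ k m : ℕ, x = ⁅n, w⁆ ^ k * c ^ m := by
  obtain ⟨k, m, h⟩ := D.t_form hx
  rw [hD, Subgroup.zpowers_one_eq_bot, Subgroup.mem_bot, inv_mul_eq_one] at h
  exact ⟨k, m, h.symm⟩

theorem coords {a b a' b' : ℕ} (h : ⁅n, w⁆ ^ a * c ^ b = ⁅n, w⁆ ^ a' * c ^ b') :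
    (a : ZMod p) = a' ∧ (b : ZMod p) = b' := by
  have hc : ∀ i j : ℕ, Commute (c ^ i) (⁅n, w⁆ ^ j) := fun i j => ((D.cc _).pow_left i).pow_right j
  have hs : ∀ e : ℕ, (p - 1) * e + e = p * e := fun e => by
    conv_rhs => rw [← Nat.sub_add_cancel hp.out.one_le, add_mul, one_mul]
  have h1 : ⁅n, w⁆ ^ (a + (p - 1) * a') * c ^ (b + (p - 1) * b') = 1 := by
    rw [pow_add, pow_add, mul_assoc, ← mul_assoc (⁅n, w⁆ ^ ((p - 1) * a')), ← (hc b _).eq, mul_assoc,
      ← mul_assoc (⁅n, w⁆ ^ a) (c ^ b), h, mul_assoc, ← mul_assoc (c ^ b'), (hc b' _).eq, ← mul_assoc,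
      ← mul_assoc, ← pow_add, mul_assoc, ← pow_add, add_comm a', add_comm b', hs, hs, pow_mul, pow_mul, D.up,
      hD, one_pow, one_pow, one_mul]
  obtain ⟨-, -, h2, h3⟩ := D.indep 0 0 _ _ (by rw [pow_zero, pow_zero, one_mul, one_mul, h1]; exact one_mem _)
  rw [← ZMod.natCast_eq_zero_iff, Nat.cast_add, Nat.cast_mul, Nat.cast_sub hp.out.one_le, ZMod.natCast_self,
    Nat.cast_one, zero_sub, neg_mul, one_mul, ← sub_eq_add_neg, sub_eq_zero] at h2 h3
  exact ⟨h2, h3⟩

theorem tu : t ⁅n, w⁆ = ⁅n, w⁆ ^ uval l := by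
  have h1 : ∀ i : ℕ, ⁅n ^ i, w⁆ = ⁅n, w⁆ ^ i := fun i => by
    rw [commutatorElement_def (n ^ i), D.npow_w]
    group
  have h2 : ∀ i j : ℕ, ⁅n ^ i, w ^ j⁆ = ⁅n, w⁆ ^ (i * j) := fun i j => by
    induction j with
    | zero => simp
    | succ j ih =>
      rw [show ⁅n ^ i, w ^ (j + 1)⁆ = ⁅n ^ i, w ^ j⁆ * (w ^ j * ⁅n ^ i, w⁆ * (w ^ j)⁻¹) by
        simp only [commutatorElement_def, pow_succ]; group,
        ih, h1, ← ((D.u_comm hD (w ^ j)).pow_left i).eq, mul_inv_cancel_right, ← pow_add, Nat.mul_succ]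
  rw [map_commutatorElement, D.tn, D.tw, h2]
  refine pow_eq_pow_zmod D.up ?_
  rw [Nat.cast_mul, Nat.cast_mul, ZMod.natCast_zmod_val, ZMod.natCast_zmod_val, mul_assoc, Units.mul_inv, mul_one]

theorem l_ne_one (h5 : 5 ≤ p) : (l : ZMod p) ≠ 1 := fun h => by
  have h1 : l = 1 := Units.ext h
  have := D.lord
  rw [h1, orderOf_one] at this
  omega

/-- Automorphisms from a group containing the torus in which a power prime to `p` of every element fixes `c`
preserve the line of `c`. -/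
theorem fixed_line (h5 : 5 ≤ p) (G : Subgroup (MulAut N)) (ht : t ∈ G) {r : ℕ} (hr : ¬ p ∣ r)
    (hfix : ∀ γ ∈ G, (γ ^ r) c = c) {α : MulAut N} (hα : α ∈ G) : α c ∈ zpowers c := by
  have hp2 : p ≠ 2 := by omega
  obtain ⟨b, m, hαc⟩ := D.t_form' hD ((D.invariant hp2 α).2.2 c (Subgroup.subset_closure (by simp)))
  obtain ⟨a, hαu⟩ : ∃ a : ℕ, α ⁅n, w⁆ = ⁅n, w⁆ ^ a := by
    have h := (D.invariant hp2 α).2.1 _ (mem_sup_left (mem_zpowers ⁅n, w⁆))
    rw [hD, Subgroup.zpowers_one_eq_bot, sup_bot_eq] at h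
    obtain ⟨a, ha⟩ := (isOfFinOrder_of_finite _).mem_powers_iff_mem_zpowers.2 h
    exact ⟨a, ha.symm⟩
  set u := ⁅n, w⁆
  set γ := (α * t)⁻¹ * (t * α)
  have hγu : γ u = u := by
    show (α * t)⁻¹ (t (α u)) = u
    rw [hαu, map_pow, D.tu hD, ← pow_mul, mul_comm, pow_mul, ← hαu, ← map_pow α, ← D.tu hD]
    exact MulEquiv.symm_apply_apply (α * t : MulAut N) u
  set e := uval l * b + (p - 1) * b
  have h1 : γ c = c * (α * t)⁻¹ (u ^ e) := by
    show (α * t)⁻¹ (t (α c)) = _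
    have h2 : t (α c) = (α * t) c * u ^ e := by
      rw [MulAut.mul_apply, D.tc, hαc, map_mul, map_pow, map_pow, D.tu hD, D.tc, ← pow_mul,
        mul_assoc (u ^ b), (((D.u_comm hD (c ^ m)).pow_left e).symm).eq, ← mul_assoc, ← pow_add]
      congr 1
      refine pow_eq_pow_zmod D.up ?_
      simp only [e]
      push_cast [Nat.cast_sub hp.out.one_le, ZMod.natCast_self]
      ring
    rw [h2, map_mul, MulAut.inv_apply_self]
  obtain ⟨z, hz⟩ : ∃ z, z = (α * t)⁻¹ (u ^ e) := ⟨_, rfl⟩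
  rw [← hz] at h1
  have hzp : z ^ p = 1 := by rw [hz, ← map_pow, ← pow_mul, mul_comm, pow_mul, D.up, one_pow, _root_.map_one]
  have hγz : γ z = z := by
    have hzm : z ∈ zpowers u := by
      rw [hz]
      have h := (D.invariant hp2 (α * t)⁻¹).2.1 _ (mem_sup_left (Subgroup.pow_mem _ (mem_zpowers u) e))
      rwa [hD, Subgroup.zpowers_one_eq_bot, sup_bot_eq] at h
    obtain ⟨i, hi⟩ := hzm
    rw [← show u ^ i = z from hi, map_zpow, hγu]
  have hk : ∀ k : ℕ, (γ ^ k) c = c * z ^ k := by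
    intro k
    induction k with
    | zero => simp
    | succ k ih => rw [pow_succ', MulAut.mul_apply, ih, map_mul, map_pow, hγz, h1, pow_succ', mul_assoc]
  have hz1 : z = 1 := by
    have h := hfix γ (mul_mem (inv_mem (mul_mem hα ht)) (mul_mem ht hα))
    rw [hk, mul_eq_left] at h
    have hd := Nat.dvd_gcd (orderOf_dvd_of_pow_eq_one hzp) (orderOf_dvd_of_pow_eq_one h)
    rw [((Nat.Prime.coprime_iff_not_dvd hp.out).2 hr).gcd_eq_one, Nat.dvd_one] at hd
    exact orderOf_eq_one_iff.1 hd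
  have he : u ^ e = 1 := by
    have h := congrArg (α * t) (hz.symm.trans hz1)
    rwa [MulAut.apply_inv_self, _root_.map_one] at h
  have h0 := (D.coords hD (a := e) (b := 0) (a' := 0) (b' := 0) (by rw [he]; simp)).1
  have hb : (b : ZMod p) = 0 := by
    refine (mul_eq_zero.1 ?_).resolve_left (sub_ne_zero.2 (D.l_ne_one hD h5))
    simp only [e, Nat.cast_add, Nat.cast_mul, Nat.cast_sub hp.out.one_le, ZMod.natCast_self,
      ZMod.natCast_zmod_val, Nat.cast_zero, Nat.cast_one] at h0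
    rw [← h0]
    ring
  rw [hαc, pow_eq_pow_zmod (x := u) D.up (b := 0) (by rw [hb, Nat.cast_zero]), pow_zero, one_mul]
  exact Subgroup.pow_mem _ (mem_zpowers c) m

/-- Two central generators compatible with each other's torus span the same line. -/
theorem same_line (h5 : 5 ≤ p) {t₁ : MulAut N} {n₁ w₁ c₁ : N} {l₁ : (ZMod p)ˣ} (D₁ : BData p t₁ n₁ w₁ c₁ l₁)
    (hD₁ : c₁ ^ p = 1) (G : Subgroup (MulAut N)) (ht : t ∈ G) (ht₁ : t₁ ∈ G) {r : ℕ} (hr : ¬ p ∣ r)
    (hfix : ∀ γ ∈ G, (γ ^ r) c₁ = c₁) : c₁ ∈ zpowers c := by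
  have hT : c₁ ∈ closure {⁅n, w⁆, c} := D.mem_t_iff.2 fun g => by
    rw [commutatorElement_eq_one_iff_commute.2 (D₁.cc g)]
    exact one_mem _
  obtain ⟨i, j, hij⟩ := D.t_form' hD hT
  obtain ⟨d, hd⟩ := (isOfFinOrder_of_finite c₁).mem_powers_iff_mem_zpowers.2
    (D₁.fixed_line hD₁ h5 G ht₁ hr hfix ht)
  simp only at hd
  rw [hij, map_mul, map_pow, map_pow, D.tu hD, D.tc, ← pow_mul,
    (((D.cc (⁅n, w⁆ ^ i)).pow_left j).symm).mul_pow, ← pow_mul, ← pow_mul] at hd
  obtain ⟨h1, h2⟩ := D.coords hD hd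
  push_cast [ZMod.natCast_zmod_val] at h1 h2
  have hj : (j : ZMod p) ≠ 0 := by
    intro hj
    have hu : ⁅n, w⁆ ∈ zpowers ⁅n₁, w₁⁆ ⊔ zpowers (c₁ ^ p) := D₁.comm_mem n w
    refine D₁.index_step.2.2.2 ?_
    have hc1 : c₁ = ⁅n, w⁆ ^ i := by
      rw [hij, pow_eq_pow_zmod hD (a := j) (b := 0) (by rw [hj, Nat.cast_zero]), pow_zero, mul_one]
    have hm := Subgroup.pow_mem _ hu i
    rw [← hc1] at hm
    exact hm
  have hd1 : (d : ZMod p) = 1 := mul_left_cancel₀ hj (by rw [h2, mul_one])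
  rw [hd1, mul_one] at h1
  have hi0 : (i : ZMod p) = 0 := by
    refine (mul_eq_zero.1 ?_).resolve_left (sub_ne_zero.2 (D.l_ne_one hD h5))
    linear_combination -h1
  rw [hij, pow_eq_pow_zmod (x := ⁅n, w⁆) D.up (b := 0) (by rw [hi0, Nat.cast_zero]), pow_zero, one_mul]
  exact Subgroup.pow_mem _ (mem_zpowers c) j

end BData

end Cfsg.Agent.H91.Rank3
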