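import Cfsg.Agent.H91.Rank3.Family
import Cfsg.Agent.H91.Nilpotency

/-!
The group generated by the conjugates of the induced automorphisms on a member of a family, and the family with
one member cut down to it.
-/

set_option autoImplicit false
set_option linter.unusedSectionVars false
set_option linter.style.haveILetI false

namespace Cfsg.Agent.H91.Rank3

open Subgroup
open scoped commutatorElement

/-- An automorphism of order prime to `p` of a `p`-group fixing a displacement fixes the element. -/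
theorem fix_of_diff_fix {H : Type*} [Group H] {p : ℕ} [hp : Fact p.Prime] (hH : IsPGroup p H) {δ : MulAut H}
    {m : ℕ} (hm : m.Coprime p) (hδ : δ ^ m = 1) {x : H} (h : δ (x⁻¹ * δ x) = x⁻¹ * δ x) : δ x = x := by
  have h1 := pow_apply_fix h m
  rw [hδ, MulAut.one_apply, left_eq_mul] at h1
  obtain ⟨k, hk⟩ := hH (x⁻¹ * δ x)
  have h2 : x⁻¹ * δ x = 1 := by
    rw [← orderOf_eq_one_iff]
    exact Nat.eq_one_of_dvd_coprimes (hm.pow_right k) (orderOf_dvd_of_pow_eq_one h1)
      (orderOf_dvd_of_pow_eq_one hk)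
  exact (inv_mul_eq_one.1 h2).symm

namespace Fam

variable {M : Type*} [Group M] [Finite M] {p : ℕ} [hp : Fact p.Prime] (F : Fam p M)

/-- The group generated by the conjugates of the induced automorphisms. -/
def conjClosure (E : Subgroup M) : Subgroup (MulAut E) :=
  Subgroup.closure {f | ∃ α ∈ F.G E, ∃ β ∈ indM E, f = α * β * α⁻¹}

variable {F} {E : Subgroup M}

theorem conjClosure_le (hE : F.Ess E) : F.conjClosure E ≤ F.G E := (Subgroup.closure_le _).2 (by
  rintro f ⟨α, hα, β, hβ, rfl⟩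
  exact mul_mem (mul_mem hα (F.indG hE hβ)) (inv_mem hα))

theorem indM_le_conjClosure : indM E ≤ F.conjClosure E :=
  fun β hβ => Subgroup.subset_closure ⟨1, one_mem _, β, hβ, by simp⟩

theorem cj_mem_conjClosure (hE : F.Ess E) (m : M) : cj hE m ∈ F.conjClosure E :=
  indM_le_conjClosure (cj_mem hE m)

theorem conj_mem_conjClosure {α f : MulAut E} (hα : α ∈ F.G E) (hf : f ∈ F.conjClosure E) :
    α * f * α⁻¹ ∈ F.conjClosure E := by
  induction hf using Subgroup.closure_induction with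
  | mem f hf =>
    obtain ⟨γ, hγ, β, hβ, rfl⟩ := hf
    exact Subgroup.subset_closure ⟨α * γ, mul_mem hα hγ, β, hβ, by group⟩
  | one => simp
  | mul f g _ _ ihf ihg => rw [← conj_mul]; exact mul_mem ihf ihg
  | inv f _ ih => rw [← conj_inv]; exact inv_mem ih

/-- A subgroup containing the induced automorphisms and stable under conjugation contains the closure. -/
theorem conjClosure_le_of {H : Subgroup (MulAut E)} (h1 : indM E ≤ H)
    (h2 : ∀ α ∈ F.G E, ∀ h ∈ H, α * h * α⁻¹ ∈ H) : F.conjClosure E ≤ H := (Subgroup.closure_le _).2 (by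
  rintro f ⟨α, hα, β, hβ, rfl⟩
  exact h2 α hα β (h1 hβ))

/-- The closure contains a nontrivial element of order prime to `p`. -/
theorem exists_coprime (hE : F.Ess E) :
    ∃ τ ∈ F.conjClosure E, ∃ m : ℕ, m.Coprime p ∧ τ ^ m = 1 ∧ τ ≠ 1 := by
  haveI := finite_aut (G := E)
  by_contra h
  push Not at h
  have hP : IsPGroup p (F.conjClosure E) := H91.isPGroup_of_no_coprime fun a ha =>
    Subtype.ext (h _ a.2 (orderOf a) ha (by rw [← SubmonoidClass.coe_pow, pow_orderOf_eq_one, OneMemClass.coe_one]))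
  have hle := F.sylow hE _ (conjClosure_le hE) hP indM_le_conjClosure
  obtain ⟨α, hα, β, hβ, hne⟩ := F.notNormal hE
  exact hne (hle (Subgroup.subset_closure ⟨α, hα, β, hβ, rfl⟩))

theorem inv_bot : F.Inv ⊥ E := fun α _ x hx => by
  rw [Subgroup.mem_bot] at hx ⊢
  rw [show x = 1 from Subtype.ext hx, map_one, OneMemClass.coe_one]

/-- The closure is trivial on invariant sections with trivial action of the whole group. -/
theorem trivial_layer (hE : F.Ess E) {A B : Subgroup M} (hB : F.Inv B E) (hA : F.Inv A E)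
    (htriv : ∀ m : M, ∀ b ∈ B, ⁅m, b⁆ ∈ A) {f : MulAut E} (hf : f ∈ F.conjClosure E) (b : E)
    (hb : (b : M) ∈ B) : ((f b * b⁻¹ : E) : M) ∈ A := by
  let H : Subgroup (MulAut E) :=
    { carrier := {f | f ∈ F.G E ∧ ∀ b : E, (b : M) ∈ B → ((f b * b⁻¹ : E) : M) ∈ A}
      one_mem' := ⟨one_mem _, fun b _ => by simp⟩
      mul_mem' := fun {f g} hf hg => ⟨mul_mem hf.1 hg.1, fun b hb => by
        have h1 := mul_mem (hf.2 (g b) (hB g hg.1 b hb)) (hg.2 b hb)
        rw [← Subgroup.coe_mul] at h1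
        rwa [MulAut.mul_apply, show f (g b) * b⁻¹ = f (g b) * (g b)⁻¹ * (g b * b⁻¹) by group]⟩
      inv_mem' := fun {f} hf => ⟨inv_mem hf.1, fun b hb => by
        have h1 := A.inv_mem (hf.2 (f⁻¹ b) (hB _ (inv_mem hf.1) b hb))
        rw [← Subgroup.coe_inv, MulAut.apply_inv_self] at h1
        rwa [mul_inv_rev, inv_inv] at h1⟩ }
  have hle : F.conjClosure E ≤ H := by
    refine conjClosure_le_of (fun β hβ => ⟨F.indG hE hβ, fun b hb => ?_⟩) fun α hα h hh => ⟨?_, fun b hb => ?_⟩
    · obtain ⟨m, hm⟩ := hβ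
      rw [Subgroup.coe_mul, Subgroup.coe_inv, hm]
      exact htriv m b hb
    · exact mul_mem (mul_mem hα hh.1) (inv_mem hα)
    · have h1 := hA α hα _ (hh.2 (α⁻¹ b) (hB _ (inv_mem hα) b hb))
      rw [map_mul, map_inv, MulAut.apply_inv_self] at h1
      rwa [MulAut.mul_apply, MulAut.mul_apply]
  exact (hle hf).2 b hb

/-- The closure fixes invariant central subgroups. -/
theorem fix_central (hE : F.Ess E) {A : Subgroup M} (hA : F.Inv A E) (hAc : A ≤ center M) {f : MulAut E}
    (hf : f ∈ F.conjClosure E) (a : E) (ha : (a : M) ∈ A) : f a = a := by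
  have h := trivial_layer hE hA inv_bot (fun m b hb => ?_) hf a ha
  · rw [Subgroup.mem_bot, OneMemClass.coe_eq_one, mul_inv_eq_one] at h
    exact h
  · rw [Subgroup.mem_bot, commutatorElement_eq_one_iff_commute]
    exact (Subgroup.mem_center_iff.1 (hAc hb) m)

variable (F) in
/-- The part of `Γ` inducing elements of the closure on `E`. -/
def gammaOn (E : Subgroup M) : Subgroup (MulAut M) where
  carrier := {γ | γ ∈ F.Γ ∧ ∃ β ∈ F.conjClosure E, ∀ x : E, γ (x : M) = (β x : M)}
  one_mem' := ⟨one_mem _, 1, one_mem _, fun x => rfl⟩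
  mul_mem' := by
    rintro γ δ ⟨hγ, β, hβ, hβe⟩ ⟨hδ, β', hβ', hβ'e⟩
    exact ⟨mul_mem hγ hδ, β * β', mul_mem hβ hβ', fun x => by
      rw [MulAut.mul_apply, MulAut.mul_apply, hβ'e, hβe]⟩
  inv_mem' := by
    rintro γ ⟨hγ, β, hβ, hβe⟩
    refine ⟨inv_mem hγ, β⁻¹, inv_mem hβ, fun x => γ.injective ?_⟩
    rw [hβe, MulAut.apply_inv_self, MulAut.apply_inv_self]

theorem mem_gammaOn {γ : MulAut M} :
    γ ∈ F.gammaOn E ↔ γ ∈ F.Γ ∧ ∃ β ∈ F.conjClosure E, ∀ x : E, γ (x : M) = (β x : M) := Iff.rfl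

variable (F) in
/-- The family with the single member `E` and the closure on it. -/
def single (hE : F.Ess E) (hΓE : ∀ γ ∈ F.Γ, E.map (γ : M ≃* M).toMonoidHom = E) : Fam p M where
  isP := F.isP
  odd := F.odd
  rank := F.rank
  Γ := F.gammaOn E
  inner := fun g => ⟨F.inner g, cj hE g, cj_mem_conjClosure hE g, fun x => by rw [coe_cj]; rfl⟩
  r := F.r
  coprime := F.coprime
  pow := fun γ hγ => F.pow γ hγ.1
  Ess := fun X => X = E
  G := fun X => F.conjClosure X
  index := by rintro X rfl; exact F.index hE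
  centric := by rintro X rfl; exact F.centric hE
  indG := by rintro X rfl; exact indM_le_conjClosure
  sylow := by rintro X rfl K hK; exact F.sylow hE K (hK.trans (conjClosure_le hE))
  notNormal := by
    rintro X rfl
    by_contra hall
    push Not at hall
    obtain ⟨α, hα, β, hβ, hne⟩ := F.notNormal hE
    set K := (indM X).map (MulAut.conj α).toMonoidHom
    have hK : K ≤ F.conjClosure X := by
      rintro _ ⟨f, hf, rfl⟩
      exact Subgroup.subset_closure ⟨α, hα, f, hf, rfl⟩
    have hKp : IsPGroup p K := (indM_isPGroup hE).map _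
    have hn : K ≤ Subgroup.normalizer (indM X : Set (MulAut X)) := fun f hf => by
      refine Subgroup.mem_normalizer_iff.2 fun h => ⟨hall f (hK hf) h, fun hh => ?_⟩
      have := hall f⁻¹ (inv_mem (hK hf)) _ hh
      rwa [show f⁻¹ * (f * h * f⁻¹) * f⁻¹⁻¹ = h by group] at this
    have hle := F.sylow hE (K ⊔ indM X) ((sup_le hK indM_le_conjClosure).trans (conjClosure_le hE))
      (hKp.to_sup_of_normal_right' (indM_isPGroup hE) hn) le_sup_right
    exact hne (hle (mem_sup_left ⟨β, hβ, rfl⟩))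
  ext := by
    rintro X rfl α hα hn
    obtain ⟨γ, hγ, hγe⟩ := F.ext hE α (conjClosure_le hE hα) hn
    exact ⟨γ, ⟨hγ, α, hα, hγe⟩, hγe⟩
  transport := by
    rintro X rfl γ ⟨hγ, β0, hβ0, hβe⟩
    refine ⟨hΓE γ hγ, fun α hα => ?_⟩
    have key : ∀ X' : Subgroup M, X' = X → ∀ h : ∀ x : X, γ (x : M) ∈ X', ∃ β ∈ F.conjClosure X',
        ∀ x : X, (β ⟨γ (x : M), h x⟩ : M) = γ (α x : M) := by
      rintro X' rfl h
      refine ⟨β0 * α * β0⁻¹, mul_mem (mul_mem hβ0 hα) (inv_mem hβ0), fun x => ?_⟩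
      rw [show (⟨γ (x : M), h x⟩ : X') = β0 x from Subtype.ext (hβe x), MulAut.mul_apply, MulAut.mul_apply,
        MulAut.inv_apply_self, hβe]
    exact key _ (hΓE γ hγ) fun x => ⟨x, x.2, rfl⟩

end Fam

end Cfsg.Agent.H91.Rank3
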