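import Cfsg.Agent.H91.Rank3.Layers
import Cfsg.Agent.H91.Rank3.CaseA

/-!
A maximal subgroup with a torus and two generators: it is small, or it is the only maximal subgroup of its
shape, and then it excludes the irreducible case.
-/

set_option autoImplicit false
set_option linter.unusedSectionVars false
set_option linter.style.haveILetI false

namespace Cfsg.Agent.H91.Rank3

open Subgroup
open scoped commutatorElement

variable {N : Type*} [Group N] {p : ℕ}

/-- Intrinsic data of a two-generator maximal subgroup with a nontrivial third layer. -/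
structure RankTwoData (p : ℕ) (E : Subgroup N) : Prop where
  index : E.index = p
  card0 : Nat.card E = p ^ 2 * Nat.card (pser p E 1)
  card1 : Nat.card (pser p E 1) = p * Nat.card (pser p E 2)
  card2 : p ^ 2 * Nat.card (pser p E 3) ≤ Nat.card (pser p E 2)
  pow : ∀ x ∈ pser p E 1, x ^ p ∈ pser p E 3
  pow0 : ∀ x ∈ E, x ^ p ∈ pser p E 2
  low : pser p E 1 ≤ ⁅⁅(⊤ : Subgroup N), (⊤ : Subgroup N)⁆, (⊤ : Subgroup N)⁆ ⊔ pser p E 2
  act : ∃ g : N, ∃ v ∈ pser p E 2, ⁅g, v⁆ ∉ pser p E 3

/-- The series commutes with homomorphisms. -/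
theorem pser_map {M : Type*} [Group M] (f : N →* M) (E : Subgroup N) :
    ∀ i, (pser p E i).map f = pser p (E.map f) i := by
  intro i
  induction i with
  | zero => rfl
  | succ i ih =>
    show (⁅pser p E i, E⁆ ⊔ Cfsg.powerClosure p 1 (pser p E i)).map f =
      ⁅pser p (E.map f) i, E.map f⁆ ⊔ Cfsg.powerClosure p 1 (pser p (E.map f) i)
    rw [Subgroup.map_sup, map_commutator, ← ih, Cfsg.powerClosure, Cfsg.powerClosure, MonoidHom.map_closure]
    congr 2
    ext y
    constructor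
    · rintro ⟨_, ⟨x, hx, rfl⟩, rfl⟩
      exact ⟨f x, ⟨x, hx, rfl⟩, by rw [map_pow]⟩
    · rintro ⟨_, ⟨x, hx, rfl⟩, rfl⟩
      exact ⟨x ^ p ^ 1, ⟨x, hx, rfl⟩, by rw [map_pow]⟩

variable [hp : Fact p.Prime] [Finite N]

/-- The data is carried along by automorphisms. -/
theorem RankTwoData.map {E : Subgroup N} (D : RankTwoData p E) (α : N ≃* N) :
    RankTwoData p (E.map α.toMonoidHom) := by
  set f := α.toMonoidHom
  have hf : Function.Injective f := α.injective
  have hc : ∀ H : Subgroup N, Nat.card (H.map f) = Nat.card H := fun H => Subgroup.card_map_of_injective hf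
  refine ⟨(Subgroup.index_map_equiv E α).trans D.index, ?_, ?_, ?_, ?_, ?_, ?_, ?_⟩
  · rw [← pser_map, hc, hc]; exact D.card0
  · rw [← pser_map, ← pser_map, hc, hc]; exact D.card1
  · rw [← pser_map, ← pser_map, hc, hc]; exact D.card2
  · rw [← pser_map, ← pser_map]
    rintro _ ⟨x, hx, rfl⟩
    exact ⟨x ^ p, D.pow x hx, map_pow f x p⟩
  · rw [← pser_map]
    rintro _ ⟨x, hx, rfl⟩
    exact ⟨x ^ p, D.pow0 x hx, map_pow f x p⟩
  · have htop : (⊤ : Subgroup N).map f = ⊤ := Subgroup.map_top_of_surjective f α.surjective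
    have := Subgroup.map_mono (f := f) D.low
    rwa [Subgroup.map_sup, map_commutator, map_commutator, htop, pser_map, pser_map] at this
  · obtain ⟨g, v, hv, h⟩ := D.act
    refine ⟨f g, f v, ?_, fun h' => h ?_⟩
    · rw [← pser_map]; exact ⟨v, hv, rfl⟩
    · rw [← map_commutatorElement, ← pser_map] at h'
      exact (Subgroup.mem_map_iff_mem hf).1 h'

/-- Iterated commutators with the whole group fall through a normal section of bounded order. -/
theorem iterate_top_le (hN : IsPGroup p N) {R : Subgroup N} [R.Normal] :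
    ∀ (k : ℕ) (H : Subgroup N) [H.Normal], R ≤ H → Nat.card H ≤ p ^ k * Nat.card R →
      (fun K : Subgroup N => ⁅K, (⊤ : Subgroup N)⁆)^[k] H ≤ R := by
  intro k
  induction k with
  | zero =>
    intro H _ hle hc
    exact (Subgroup.eq_of_le_of_card_ge hle (by simpa using hc)).ge
  | succ k ih =>
    intro H _ hle hc
    have hmono : ∀ j, ∀ A B : Subgroup N, A ≤ B → (fun K : Subgroup N => ⁅K, (⊤ : Subgroup N)⁆)^[j] A ≤
        (fun K : Subgroup N => ⁅K, (⊤ : Subgroup N)⁆)^[j] B := by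
      intro j
      induction j with
      | zero => exact fun A B h => h
      | succ j ihj =>
        intro A B h
        rw [Function.iterate_succ_apply, Function.iterate_succ_apply]
        exact ihj _ _ (commutator_mono h le_rfl)
    rw [Function.iterate_succ_apply]
    refine (hmono k _ (⁅H, (⊤ : Subgroup N)⁆ ⊔ R) le_sup_left).trans (ih _ le_sup_right ?_)
    rcases hle.eq_or_lt with rfl | hlt
    · rw [sup_eq_right.2 (commutator_le_left R ⊤)]
      exact Nat.le_mul_of_pos_left _ (pow_pos hp.out.pos k)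
    · have hlt' := lt_of_commutator hN hlt
      obtain ⟨i, hi⟩ := (IsPGroup.iff_card (p := p)).1 (hN.to_subgroup (⁅H, (⊤ : Subgroup N)⁆ ⊔ R))
      obtain ⟨j, hj⟩ := (IsPGroup.iff_card (p := p)).1 (hN.to_subgroup H)
      have hij : i < j := by
        by_contra hle'
        exact hlt'.ne (Subgroup.eq_of_le_of_card_ge hlt'.le
          (by rw [hi, hj]; exact Nat.pow_le_pow_right hp.out.pos (not_lt.1 hle')))
      refine Nat.le_of_mul_le_mul_left (c := p) ?_ hp.out.pos
      calc p * Nat.card (⁅H, (⊤ : Subgroup N)⁆ ⊔ R : Subgroup N) ≤ Nat.card H := by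
            rw [hi, hj, ← pow_succ']; exact Nat.pow_le_pow_right hp.out.pos hij
        _ ≤ _ := hc.trans_eq (by rw [pow_succ' p k, mul_assoc])

/-- The derived group lies in the commutator of a maximal subgroup with the group. -/
theorem derived_le (hN : IsPGroup p N) {M : Subgroup N} (hM : M.index = p) :
    ⁅(⊤ : Subgroup N), (⊤ : Subgroup N)⁆ ≤ ⁅M, (⊤ : Subgroup N)⁆ := by
  haveI := (mem_of_index_eq hN hM).1
  obtain ⟨g, hg⟩ : ∃ g, g ∉ M := by
    by_contra h
    push Not at h
    rw [show M = ⊤ from eq_top_iff.2 fun x _ => h x, Subgroup.index_top] at hM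
    exact hp.out.one_lt.ne hM
  have htop : M ⊔ zpowers g = ⊤ := by
    refine Subgroup.eq_top_of_card_eq _ ?_
    rw [PGroups.card_sup_zpowers (p := p) M hg ((mem_of_index_eq hN hM).2.1 g),
      ← Subgroup.card_mul_index M, hM, mul_comm]
  set π := QuotientGroup.mk' ⁅M, (⊤ : Subgroup N)⁆
  have h1 : ∀ a ∈ M, ∀ b, Commute (π a) (π b) := fun a ha b => by
    rw [← commutatorElement_eq_one_iff_commute, ← map_commutatorElement]
    exact (QuotientGroup.eq_one_iff _).2 (commutator_mem_commutator ha (mem_top b))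
  have h2 : ∀ b, Commute (π g) (π b) := fun b => by
    have hle : M ⊔ zpowers g ≤ (centralizer {π g}).comap π := sup_le
      (fun a ha => mem_comap.2 (mem_centralizer_singleton_iff.2 (h1 a ha g).eq))
      (zpowers_le.2 (mem_comap.2 (mem_centralizer_singleton_iff.2 rfl)))
    exact (mem_centralizer_singleton_iff.1 (hle (htop.ge (mem_top b)))).symm
  refine commutator_le.2 fun a _ b _ => (QuotientGroup.eq_one_iff _).1 ?_
  show π ⁅a, b⁆ = 1
  rw [map_commutatorElement, commutatorElement_eq_one_iff_commute]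
  have hle : M ⊔ zpowers g ≤ (centralizer {π b}).comap π := sup_le
    (fun x hx => mem_comap.2 (mem_centralizer_singleton_iff.2 (h1 x hx b).eq))
    (zpowers_le.2 (mem_comap.2 (mem_centralizer_singleton_iff.2 (h2 b).eq)))
  exact mem_centralizer_singleton_iff.1 (hle (htop.ge (mem_top a)))

namespace RankTwoData

variable {E M : Subgroup N} (D : RankTwoData p E) (hN : IsPGroup p N)
include D hN

theorem normal : E.Normal := (mem_of_index_eq hN D.index).1

theorem comm_one {x : N} (hx : x ∈ pser p E 1) (g : N) : ⁅x, g⁆ ∈ pser p E 2 := by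
  haveI := D.normal hN
  refine iterate_top_le hN 1 (pser p E 1) (pser_succ_le E 1) (by rw [pow_one]; exact D.card1.le) ?_
  exact commutator_mem_commutator hx (mem_top g)

variable (D' : RankTwoData p M)
include D'

theorem card_eq : Nat.card E = Nat.card M := by
  have h1 := Subgroup.card_mul_index E
  have h2 := Subgroup.card_mul_index M
  rw [D.index] at h1
  rw [D'.index, ← h1] at h2
  exact (Nat.eq_of_mul_eq_mul_right hp.out.pos h2).symm

theorem pser_one_eq : pser p E 1 = pser p M 1 := by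
  haveI := D.normal hN
  haveI := D'.normal hN
  refine Subgroup.eq_of_le_of_card_ge ?_ ?_
  · refine pser_one_le hN (D.low.trans (sup_le ?_ le_sup_right))
    refine le_sup_of_le_left ?_
    have h := iterate_top_le hN 2 M (pser_le (p := p) M 1) D'.card0.le
    exact (commutator_mono (derived_le hN D'.index) le_rfl).trans h
  · refine Nat.le_of_mul_le_mul_left (c := p ^ 2) ?_ (pow_pos hp.out.pos 2)
    rw [← D.card0, ← D'.card0, D.card_eq hN D']

theorem pser_two_eq : pser p E 2 = pser p M 2 := by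
  have key : ∀ {E M : Subgroup N}, RankTwoData p E → RankTwoData p M → pser p E 1 = pser p M 1 →
      pser p M 2 ≤ pser p E 2 := fun {E M} D _ he => pser_succ_le_of
    (fun x hx e _ => D.comm_one hN (he.ge hx) e) fun x hx => pser_succ_le E 2 (D.pow x (he.ge hx))
  exact le_antisymm (key D' D (D.pser_one_eq hN D').symm) (key D D' (D.pser_one_eq hN D'))

/-- Only one maximal subgroup has this shape. -/
theorem eq_of_data (hsr : Cfsg.SectionalPRankLE p 3 N) (hp2 : p ≠ 2) : M = E := by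
  by_contra hne
  haveI := D.normal hN
  haveI := D'.normal hN
  have hP := D.pser_one_eq hN D'
  have hQ := D.pser_two_eq hN D'
  by_cases h3 : pser p E 3 = pser p M 3
  · obtain ⟨g, v, hv, hgv⟩ := D.act
    obtain ⟨x, hx, hxE⟩ : ∃ x ∈ M, x ∉ E := by
      by_contra hcon
      push Not at hcon
      exact hne (Subgroup.eq_of_le_of_card_ge hcon (D.card_eq hN D').le)
    have htop : E ⊔ zpowers x = ⊤ := by
      refine Subgroup.eq_top_of_card_eq _ ?_
      rw [PGroups.card_sup_zpowers (p := p) E hxE ((mem_of_index_eq hN D.index).2.1 x),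
        ← Subgroup.card_mul_index E, D.index, mul_comm]
    set π := QuotientGroup.mk' (pser p E 3)
    have hπ1 : ∀ {y}, π y = 1 ↔ y ∈ pser p E 3 := fun {y} => QuotientGroup.eq_one_iff y
    have hcom : ∀ y, ⁅y, v⁆ ∈ pser p E 3 → y ∈ (centralizer {π v}).comap π := fun y hy => by
      rw [mem_comap, mem_centralizer_singleton_iff]
      have : Commute (π y) (π v) := by
        rw [← commutatorElement_eq_one_iff_commute, ← map_commutatorElement]
        exact hπ1.2 hy
      exact this.eq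
    have hle : E ⊔ zpowers x ≤ (centralizer {π v}).comap π :=
      sup_le (fun y hy => hcom y (comm_mem_pser_succ' hv hy))
        (zpowers_le.2 (hcom x (h3.ge (comm_mem_pser_succ' (hQ.le hv) hx))))
    refine hgv (hπ1.1 ?_)
    rw [map_commutatorElement, commutatorElement_eq_one_iff_mul_comm]
    exact mem_centralizer_singleton_iff.1 (hle (htop.ge (mem_top g)))
  · set I := pser p E 3 ⊓ pser p M 3
    have hrel := relIndex_le_cube hsr (H := pser p E 1) (K := I)
      (fun a ha b hb => ⟨comm_pser_pser_one hp2 ha hb, comm_pser_pser_one hp2 (hP.le ha) (hP.le hb)⟩)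
      fun a ha => ⟨D.pow a ha, D'.pow a (hP.le ha)⟩
    have hI : I ≤ pser p E 1 := inf_le_left.trans (pser_antitone E (by omega))
    have hc := card_mul_relIndex hI
    obtain ⟨i, hi⟩ := (IsPGroup.iff_card (p := p)).1 (hN.to_subgroup I)
    have hsmall : p * Nat.card I ≤ Nat.card (pser p E 3) ∨ p * Nat.card I ≤ Nat.card (pser p M 3) := by
      by_contra hcon
      push Not at hcon
      have heq : ∀ H : Subgroup N, I ≤ H → Nat.card H < p * Nat.card I → I = H := fun H hle hlt => by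
        refine Subgroup.eq_of_le_of_card_ge hle ?_
        obtain ⟨j, hj⟩ := (IsPGroup.iff_card (p := p)).1 (hN.to_subgroup H)
        rw [hi, hj, ← pow_succ'] at hlt
        rw [hi, hj]
        exact Nat.pow_le_pow_right hp.out.pos (Nat.lt_succ_iff.1 ((Nat.pow_lt_pow_iff_right hp.out.one_lt).1 hlt))
      exact h3 ((heq _ inf_le_left hcon.1).symm.trans (heq _ inf_le_right hcon.2))
    have hbig : p ^ 3 * (p * Nat.card I) ≤ Nat.card (pser p E 1) := by
      rcases hsmall with h | h
      · calc p ^ 3 * (p * Nat.card I) ≤ p * (p ^ 2 * Nat.card (pser p E 3)) := by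
              rw [← mul_assoc p, show p * p ^ 2 = p ^ 3 by ring]
              exact Nat.mul_le_mul_left _ h
          _ ≤ _ := (Nat.mul_le_mul_left p D.card2).trans_eq D.card1.symm
      · calc p ^ 3 * (p * Nat.card I) ≤ p * (p ^ 2 * Nat.card (pser p M 3)) := by
              rw [← mul_assoc p, show p * p ^ 2 = p ^ 3 by ring]
              exact Nat.mul_le_mul_left _ h
          _ ≤ _ := (Nat.mul_le_mul_left p D'.card2).trans_eq (by rw [← hQ]; exact D.card1.symm)
    have hle : Nat.card (pser p E 1) ≤ p ^ 3 * Nat.card I := by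
      rw [← hc, mul_comm]
      exact Nat.mul_le_mul_right _ hrel
    have h1 := Nat.le_of_mul_le_mul_left (hbig.trans hle) (pow_pos hp.out.pos 3)
    have h2 : 2 * Nat.card I ≤ 1 * Nat.card I :=
      (Nat.mul_le_mul_right _ hp.out.two_le).trans (h1.trans_eq (one_mul _).symm)
    exact absurd (Nat.le_of_mul_le_mul_right h2 Nat.card_pos) (by norm_num)

end RankTwoData

/-- The irreducible case excludes the two-generator case. -/
theorem RegularData.not_rankTwo {E M : Subgroup N} (D : RegularData p E) (D' : RankTwoData p M)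
    (hN : IsPGroup p N) (hsr : Cfsg.SectionalPRankLE p 3 N) (h5 : 5 ≤ p) : False := by
  haveI := D.normal hN
  haveI := D'.normal hN
  have hp2 : p ≠ 2 := by omega
  have hEM : Nat.card E = Nat.card M := by
    have h1 := Subgroup.card_mul_index E
    have h2 := Subgroup.card_mul_index M
    rw [D.index] at h1
    rw [D'.index, ← h1] at h2
    exact (Nat.eq_of_mul_eq_mul_right hp.out.pos h2).symm
  by_cases hne : pser p E 1 = ⊥
  · have h1 : p ^ 5 ≤ Nat.card M := by
      rw [D'.card0, D'.card1]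
      calc p ^ 5 = p ^ 2 * (p * (p ^ 2 * 1)) := by ring
        _ ≤ _ := Nat.mul_le_mul_left _ (Nat.mul_le_mul_left _
          ((Nat.mul_le_mul_left _ Nat.card_pos).trans D'.card2))
    rw [← hEM, D.card, hne, Subgroup.card_bot, mul_one] at h1
    exact absurd h1 (Nat.pow_lt_pow_right hp.out.one_lt (by norm_num)).not_ge
  obtain ⟨g, hg, hgE⟩ : ∃ g ∈ M, g ∉ E := by
    by_contra hcon
    push Not at hcon
    have heq : M = E := Subgroup.eq_of_le_of_card_ge hcon hEM.le
    have h := D'.card0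
    rw [heq, D.card] at h
    have := Nat.pow_right_injective hp.out.two_le (Nat.eq_of_mul_eq_mul_right Nat.card_pos h)
    omega
  refine D.pow_not_mem hN hsr h5 hne hgE ?_
  have h3 : ⁅⁅(⊤ : Subgroup N), (⊤ : Subgroup N)⁆, (⊤ : Subgroup N)⁆ ≤ E := (commutator_le_left _ _).trans
    ((derived_le hN D.index).trans (commutator_le_left _ _))
  have hP : pser p M 1 ≤ ⁅⁅(⊤ : Subgroup N), (⊤ : Subgroup N)⁆, (⊤ : Subgroup N)⁆ := pser_one_le hN D'.low
  have h4 : ⁅⁅⁅(⊤ : Subgroup N), (⊤ : Subgroup N)⁆, (⊤ : Subgroup N)⁆, (⊤ : Subgroup N)⁆ ≤ pser p E 1 :=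
    (commutator_mono (commutator_mono (derived_le hN D.index) le_rfl) le_rfl).trans
      (iterate_top_le hN 3 E (pser_le E 1) D.card.le)
  refine pser_succ_le_of (Y := pser p E 1) (fun x hx e _ => ?_) (fun x hx => pow_mem_pser_one (h3 (hP hx)))
    (D'.pow0 g hg)
  exact h4 (commutator_mem_commutator (hP hx) (mem_top e))

namespace Torus

variable {E : Subgroup N} {t : MulAut N} {s : N → N} {n a w : N}
  {l : (ZMod p)ˣ} (D : Torus p E t s n a w 1 l) (hN : IsPGroup p N)
  (hsr : Cfsg.SectionalPRankLE p 3 N) (h5 : 5 ≤ p)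

include D hN hsr h5

/-- A two-generator maximal subgroup with a torus is small or carries the data above. -/
theorem pearl_or_data : (Nat.card E = p ^ 2 ∧ (∀ x ∈ E, ∀ y ∈ E, Commute x y) ∧ ∀ x ∈ E, x ^ p = 1) ∨
    (Nat.card E = p ^ 3 ∧ (∃ x ∈ E, ∃ y ∈ E, ¬ Commute x y) ∧ ∀ x ∈ E, x ^ p = 1) ∨
    RankTwoData p E := by
  haveI := D.normal hN
  have hp2 : p ≠ 2 := by omega
  obtain ⟨hap, hwp⟩ := D.pow_aw hN hsr h5
  obtain ⟨hzp, -, -, -, hgen⟩ := D.second_layer hN hsr h5
  set z := ⁅a, w⁆ with hzdef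
  have hz1 : z ∈ pser p E 1 := comm_mem_pser_one D.aE D.wE
  have hP1 : ∀ Y : Subgroup N, pser p E 2 ≤ Y → z ∈ Y → pser p E 1 ≤ Y := fun Y h2 hz =>
    D.pser_one_gen hN hsr h5 h2 hz (by rw [one_pow]; exact one_mem _)
  have hcard0 : Nat.card E = p ^ 2 * Nat.card (pser p E 1) := by
    have ha : a ∉ pser p E 1 := D.a1
    have hle : pser p E 1 ⊔ zpowers a ≤ E := sup_le (pser_le E 1) (zpowers_le.2 D.aE)
    have hw : w ∉ pser p E 1 ⊔ zpowers a := fun h => by
      obtain ⟨q, hq, d, hd, he⟩ := Subgroup.mem_sup_of_normal_left.1 h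
      obtain ⟨i, rfl⟩ := (isOfFinOrder_of_finite a).mem_powers_iff_mem_zpowers.2 hd
      obtain ⟨k, hk⟩ : ∃ k, a ^ k = (a ^ i)⁻¹ := (isOfFinOrder_of_finite a).mem_powers_iff_mem_zpowers.2
        (inv_mem (pow_mem (mem_zpowers a) i))
      have h' : a ^ k * w ^ 1 * (1 : N) ^ 0 ∈ pser p E 1 := by
        rw [hk, ← he, pow_one, pow_zero, mul_one, ← mul_assoc]
        have := (inferInstance : (pser p E 1).Normal).conj_mem q hq (a ^ i)⁻¹
        rwa [inv_inv] at this
      exact hp.out.ne_one (Nat.dvd_one.1 (D.indep hN h5 h').2.1)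
    have h2 : (pser p E 1 ⊔ zpowers a) ⊔ zpowers w = E := le_antisymm (sup_le hle (zpowers_le.2 D.wE))
      (D.le_of_gen hN (le_sup_left.trans le_sup_left)
        (mem_sup_left (mem_sup_right (mem_zpowers a))) (mem_sup_right (mem_zpowers w)) (one_mem _))
    conv_lhs => rw [← h2, card_step le_sup_left hle D.wE hw, card_step le_rfl (pser_le E 1) D.aE ha]
    ring
  have hpow0 : ∀ x ∈ E, x ^ p ∈ pser p E 2 := by
    let H : Subgroup N :=
      { carrier := {x | x ∈ E ∧ x ^ p ∈ pser p E 2}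
        one_mem' := ⟨E.one_mem, by simp⟩
        mul_mem' := fun {x y} hx hy => ⟨E.mul_mem hx.1 hy.1, by
          rw [show (x * y) ^ p = x ^ p * y ^ p * ((x ^ p * y ^ p)⁻¹ * (x * y) ^ p) by group]
          exact mul_mem (mul_mem hx.2 hy.2) (mul_pow_congr hp2 (i := 0) hx.1 hy.1)⟩
        inv_mem' := fun {x} hx => ⟨E.inv_mem hx.1, by rw [inv_pow]; exact inv_mem hx.2⟩ }
    exact fun x hx => (D.le_of_gen hN (H := H) (fun y hy => ⟨pser_le E 1 hy, pow_mem_pser_succ hy⟩)
      ⟨D.aE, hap⟩ ⟨D.wE, hwp⟩ ⟨E.one_mem, by rw [one_pow]; exact one_mem _⟩ hx).2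
  by_cases hz2 : z ∈ pser p E 2
  · have hbot : pser p E 1 = ⊥ := pser_eq_bot hN (hP1 _ le_rfl hz2)
    refine Or.inl ⟨by rw [hcard0, hbot, Subgroup.card_bot, mul_one], fun x hx y hy => ?_, fun x hx => ?_⟩
    · have := comm_mem_pser_one (p := p) hx hy
      rwa [hbot, Subgroup.mem_bot, commutatorElement_eq_one_iff_commute] at this
    · have := pow_mem_pser_one (p := p) hx
      rwa [hbot, Subgroup.mem_bot] at this
  have hcard1 : Nat.card (pser p E 1) = p * Nat.card (pser p E 2) := by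
    rw [← PGroups.card_sup_zpowers (p := p) (pser p E 2) hz2 (pser_succ_le E 2 hzp)]
    exact congrArg (fun H : Subgroup N => Nat.card H) (le_antisymm
      (hP1 _ le_sup_left (mem_sup_right (mem_zpowers z))) (sup_le (pser_succ_le E 1) (zpowers_le.2 hz1)))
  by_cases hza : ⁅z, a⁆ ∈ pser p E 3
  · have hbot : pser p E 2 = ⊥ := pser_eq_bot hN (hgen le_rfl hza ((D.za_iff hN hsr h5).1 hza)
      (by rw [one_pow]; exact one_mem _))
    rw [hbot, Subgroup.card_bot, mul_one] at hcard1
    refine Or.inr (Or.inl ⟨by rw [hcard0, hcard1]; ring, ⟨a, D.aE, w, D.wE, fun h => hz2 ?_⟩,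
      fun x hx => Subgroup.mem_bot.1 (hbot ▸ hpow0 x hx)⟩)
    rw [hzdef, commutatorElement_eq_one_iff_commute.2 h]
    exact one_mem _
  refine Or.inr (Or.inr ⟨D.index, hcard0, hcard1, ?_, ?_, hpow0, ?_, ?_⟩)
  · have hzw : ⁅z, w⁆ ∉ pser p E 3 := fun h => hza ((D.za_iff hN hsr h5).2 h)
    have hf := D.autT hN
    obtain ⟨-, -, hl3, -, -⟩ := D.l_ne h5
    have hza2 : ⁅z, a⁆ ∈ pser p E 2 := comm_mem_pser_succ hz1 D.aE
    have hzw2 : ⁅z, w⁆ ∈ pser p E 2 := comm_mem_pser_succ hz1 D.wE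
    have h1 : pser p (pser p E 2) 1 ≤ pser p E 3 := pser_succ_le_of
      (fun x hx e he => comm_mem_pser_succ (i := 2) hx (pser_le E 2 he)) fun x hx => pow_mem_pser_succ hx
    have hle : pser p E 3 ⊔ zpowers ⁅z, a⁆ ≤ pser p E 2 := sup_le (pser_succ_le E 2) (zpowers_le.2 hza2)
    have hnot : ⁅z, w⁆ ∉ pser p E 3 ⊔ zpowers ⁅z, a⁆ := fun h => by
      obtain ⟨q, hq, d, hd, he⟩ := Subgroup.mem_sup_of_normal_left.1 h
      obtain ⟨i, rfl⟩ := (isOfFinOrder_of_finite ⁅z, a⁆).mem_powers_iff_mem_zpowers.2 hd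
      have wza : Wt p E (fun x => t x) 2 ⁅z, a⁆ (uval l) :=
        ((D.wt_z hN hsr h5).comm hf hp2 (D.wt_a hN)).congr_exp (by rw [one_mul])
      have wzw : Wt p E (fun x => t x) 2 ⁅z, w⁆ (uval l⁻¹) :=
        ((D.wt_z hN hsr h5).comm hf hp2 (D.wt_w hN)).congr_exp (by rw [one_mul])
      refine hzw (Wt.split_two hf wzw ((wza.pow hf i).inv hf)
        (by rw [cast_uval D, cast_uval D]; exact hl3.symm) ?_).1
      rw [← he, mul_inv_cancel_right]
      exact hq
    calc p ^ 2 * Nat.card (pser p E 3) = p * (p * Nat.card (pser p E 3)) := by ring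
      _ = Nat.card (pser p E 3 ⊔ zpowers ⁅z, a⁆ ⊔ zpowers ⁅z, w⁆ : Subgroup N) := by
          rw [card_step (h1.trans le_sup_left) hle hzw2 hnot, card_step h1 (pser_succ_le E 2) hza2 hza]
      _ ≤ _ := Subgroup.card_le_of_le (sup_le hle (zpowers_le.2 hzw2))
  · let H : Subgroup N :=
      { carrier := {x | x ∈ pser p E 1 ∧ x ^ p ∈ pser p E 3}
        one_mem' := ⟨one_mem _, by simp⟩
        mul_mem' := fun {x y} hx hy => ⟨mul_mem hx.1 hy.1, by
          rw [show (x * y) ^ p = x ^ p * y ^ p * ((x ^ p * y ^ p)⁻¹ * (x * y) ^ p) by group]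
          exact mul_mem (mul_mem hx.2 hy.2) (mul_pow_congr hp2 (i := 1) hx.1 hy.1)⟩
        inv_mem' := fun {x} hx => ⟨inv_mem hx.1, by rw [inv_pow]; exact inv_mem hx.2⟩ }
    exact fun x hx => (hP1 H (fun y hy => ⟨pser_succ_le E 1 hy, pow_mem_pser_succ hy⟩) ⟨hz1, hzp⟩ hx).2
  · refine hP1 _ le_sup_right ?_
    set π := QuotientGroup.mk' (pser p E (0 + 2))
    have hmem : ⁅⁅n, w⁆, w⁆ ∈ ⁅⁅(⊤ : Subgroup N), (⊤ : Subgroup N)⁆, (⊤ : Subgroup N)⁆ :=
      commutator_mem_commutator (commutator_mem_commutator (mem_top n) (mem_top w)) (mem_top w)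
    have e : π ⁅⁅n, w⁆, w⁆ = π z := mk_comm_congr hp2 (i := 0) D.aE D.nw D.wE (by simp)
    rw [show z = ⁅⁅n, w⁆, w⁆ * (⁅⁅n, w⁆, w⁆⁻¹ * z) by group]
    exact mul_mem (mem_sup_left hmem) (mem_sup_right (QuotientGroup.eq.1 e))
  · refine ⟨n, ⁅z, w⁆, comm_mem_pser_succ hz1 D.wE, fun h => hza ?_⟩
    set π := QuotientGroup.mk' (pser p E (1 + 2))
    have hπ1 : ∀ {x}, π x = 1 ↔ x ∈ pser p E 3 := fun {x} => QuotientGroup.eq_one_iff x
    have hnz : z⁻¹ * (n * z * n⁻¹) ∈ pser p E 2 := by
      have := iterate_top_le hN 1 (pser p E 1) (pser_succ_le E 1) (by rw [pow_one]; exact hcard1.le)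
        (commutator_mem_commutator (inv_mem hz1) (mem_top n))
      rwa [commutatorElement_def, inv_inv, mul_assoc z⁻¹, mul_assoc z⁻¹] at this
    have hnw : (a * w)⁻¹ * (n * w * n⁻¹) ∈ pser p E 1 := by
      rw [show (a * w)⁻¹ * (n * w * n⁻¹) = w⁻¹ * (a⁻¹ * ⁅n, w⁆) * w by rw [commutatorElement_def]; group]
      exact (inferInstance : (pser p E 1).Normal).conj_mem' _ D.nw w
    have h1 : π (n * ⁅z, w⁆ * n⁻¹) = π ⁅z, w⁆ := by
      rw [show n * ⁅z, w⁆ * n⁻¹ = ⁅n, ⁅z, w⁆⁆ * ⁅z, w⁆ by rw [commutatorElement_def]; group, map_mul,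
        hπ1.2 h, one_mul]
    rw [show n * ⁅z, w⁆ * n⁻¹ = ⁅n * z * n⁻¹, n * w * n⁻¹⁆ by simp only [commutatorElement_def]; group,
      mk_comm_congr hp2 (i := 1) hz1 hnz (E.mul_mem D.aE D.wE) hnw,
      mk_comm_mul_right hp2 (i := 1) hz1 D.aE D.wE, mul_eq_right] at h1
    exact hπ1.1 h1

end Torus

end Cfsg.Agent.H91.Rank3
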