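import Cfsg.Agent.H91.Rank3.BQuot
import Cfsg.Agent.H91.Rank3.Twist
import Cfsg.Agent.H91.Rank3.RankTwo

/-!
The group of the third case is not properly normal in a `p`-group of sectional rank three to which the torus
extends and which respects the flag.
-/

set_option autoImplicit false
set_option linter.unusedSectionVars false
set_option linter.style.haveILetI false

namespace Cfsg.Agent.H91.Rank3

open Subgroup
open scoped commutatorElement

variable {R : Type*} [Group R] [Finite R] {p : ℕ} [hp : Fact p.Prime]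

theorem no_bigger (hR : IsPGroup p R) (hsr : Cfsg.SectionalPRankLE p 3 R) (h5 : 5 ≤ p)
    (N : Subgroup R) [hNn : N.Normal] (hlt : N ≠ ⊤) {t : MulAut N} {n w c : N} {l : (ZMod p)ˣ}
    (D : BData p t n w c l)
    (hline : ∀ r : R, MulAut.conjNormal r n ∈ closure {⁅n, w⁆, c} ⊔ zpowers n)
    (hmove : ∀ r : R, MulAut.conjNormal r w ∈ closure {⁅n, w⁆, w, c} → r ∈ N)
    (τ : R →* R) (hτ : ∀ x : N, τ x = t x) : False := by
  have hp2 : p ≠ 2 := by omega
  have hNp : IsPGroup p N := hR.to_subgroup N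
  haveI := D.dnormal
  haveI := D.t_normal
  obtain ⟨hB1n, hnT, hwB, hcF⟩ := D.index_step
  set u := ⁅n, w⁆ with hu
  set T := closure {u, c}
  set F := zpowers u ⊔ zpowers (c ^ p)
  set B := T ⊔ zpowers n
  have hconj : ∀ (r : R) (x : N), ((MulAut.conjNormal r x : N) : R) = r * (x : R) * r⁻¹ := fun r x => rfl
  have hinv : ∀ r : R, ∀ {H : Subgroup N}, (∀ x ∈ H, MulAut.conjNormal r x ∈ H) →
      ∀ x ∈ H.map N.subtype, r * x * r⁻¹ ∈ H.map N.subtype := by
    rintro r H h _ ⟨x, hx, rfl⟩
    exact ⟨_, h x hx, hconj r x⟩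
  have hBinv : ∀ r : R, ∀ x ∈ B, MulAut.conjNormal r x ∈ B := fun r x hx => by
    have hle : B ≤ B.comap (MulAut.conjNormal r : N ≃* N).toMonoidHom := sup_le
      (fun y hy => mem_sup_left ((D.invariant hp2 _).2.2 y hy)) (zpowers_le.2 (hline r))
    exact hle hx
  haveI hDR : ((zpowers (c ^ p)).map N.subtype).Normal :=
    ⟨fun x hx r => hinv r (D.invariant hp2 (MulAut.conjNormal r)).1 x hx⟩
  haveI hFR : (F.map N.subtype).Normal := ⟨fun x hx r => hinv r (D.invariant hp2 (MulAut.conjNormal r)).2.1 x hx⟩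
  haveI hTR : (T.map N.subtype).Normal := ⟨fun x hx r => hinv r (D.invariant hp2 (MulAut.conjNormal r)).2.2 x hx⟩
  haveI hBR : (B.map N.subtype).Normal := ⟨fun x hx r => hinv r (hBinv r) x hx⟩
  haveI : F.Normal := ⟨fun x hx g => by
    rw [show g * x * g⁻¹ = ⁅g, x⁆ * x by rw [commutatorElement_def]; group]
    exact mul_mem (D.comm_mem g x) hx⟩
  -- the steps of the flag
  have hstep : ∀ (H K : Subgroup N) [H.Normal] [(H.map N.subtype).Normal] [(K.map N.subtype).Normal],
      H ≤ K → ∀ g : N, g ∉ H → g ^ p ∈ H → K ≤ H ⊔ zpowers g →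
        ∀ x ∈ K, ∀ r : R, MulAut.conjNormal r x * x⁻¹ ∈ H := by
    intro H K _ _ _ hHK g hg hgp hK x hx r
    have hcard : Nat.card (K.map N.subtype) ≤ p ^ 1 * Nat.card (H.map N.subtype) := by
      rw [pow_one, Subgroup.card_map_of_injective N.subtype_injective,
        Subgroup.card_map_of_injective N.subtype_injective, ← PGroups.card_sup_zpowers (p := p) H hg hgp]
      exact Subgroup.card_le_of_le hK
    have := iterate_top_le hR 1 (K.map N.subtype) (Subgroup.map_mono hHK) hcard
      (commutator_mem_commutator ⟨x, hx, rfl⟩ (mem_top r))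
    obtain ⟨y, hy, he⟩ := this
    have : MulAut.conjNormal r x * x⁻¹ = y⁻¹ := by
      apply N.subtype_injective
      rw [map_mul, map_inv, map_inv, he]
      show r * (x : R) * r⁻¹ * (x : R)⁻¹ = (⁅(x : R), r⁆)⁻¹
      rw [commutatorElement_def]
      group
    rw [this]
    exact inv_mem hy
  haveI : ((⊤ : Subgroup N).map N.subtype).Normal := by
    rw [← MonoidHom.range_eq_map, Subgroup.range_subtype]; exact hNn
  have hsN := hstep B ⊤ le_top w hwB (by rw [D.wp]; exact one_mem _) D.top_eq.ge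
  have hsB := hstep T B le_sup_left n hnT (by rw [D.np]; exact one_mem _) le_rfl
  have hsT := hstep F T D.phi_le c hcF (mem_sup_right (mem_zpowers _)) ((closure_le _).2 (by
    rintro x (rfl | rfl)
    exacts [mem_sup_left (mem_sup_left (mem_zpowers _)), mem_sup_right (mem_zpowers _)]))
  -- the quotient
  set DR := (zpowers (c ^ p)).map N.subtype
  set π := QuotientGroup.mk' DR
  set g := π.comp N.subtype with hg
  have hg1 : ∀ {x : N}, g x = 1 ↔ x ∈ zpowers (c ^ p) := fun {x} =>
    (QuotientGroup.eq_one_iff (N := DR) (x : R)).trans (Subgroup.mem_map_iff_mem N.subtype_injective)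
  have hgc : ∀ (r : R) (x : N), π r * g x * (π r)⁻¹ = g (MulAut.conjNormal r x) := fun r x => by
    show π r * π x * (π r)⁻¹ = π (r * x * r⁻¹)
    rw [map_mul, map_mul, map_inv]
  have hgu : ∀ x, Commute (g u) (g x) := fun x => by
    rw [← commutatorElement_eq_one_iff_commute, ← map_commutatorElement, hg1]
    exact D.u_central x
  have hgT : ∀ {x}, x ∈ T → ∃ k m : ℕ, g x = g c ^ m * g u ^ k := fun {x} hx => by
    obtain ⟨k, m, hk⟩ := D.t_form hx
    refine ⟨k, m, ?_⟩
    have h1 := hg1.2 hk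
    rw [map_mul, map_inv, inv_mul_eq_one] at h1
    rw [← h1, map_mul, map_pow, map_pow, ((hgu c).pow_pow k m).eq]
  have hcomap : DR ≤ DR.comap τ := by
    rintro _ ⟨x, hx, rfl⟩
    refine ⟨x, hx, ?_⟩
    obtain ⟨i, rfl⟩ := hx
    show _ = τ (((c ^ p) ^ i : N) : R)
    rw [hτ, map_zpow t, map_pow t, D.tc]
    rfl
  set τ' := QuotientGroup.map DR DR τ hcomap
  have hτ' : ∀ x : N, τ' (g x) = g (t x) := fun x => by
    show QuotientGroup.mk' DR (τ x) = QuotientGroup.mk' DR (t x : R)
    rw [hτ]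
  have hE : ∀ {x}, x ∈ T → x ∈ closure {u, w, c} := fun hx =>
    Subgroup.closure_mono (by rintro y (rfl | rfl) <;> simp) hx
  obtain ⟨y0, hy0⟩ : ∃ y, y ∉ N := by
    by_contra h
    push Not at h
    exact hlt (eq_top_iff.2 fun x _ => h x)
  have hDN : DR ≤ N := Subgroup.map_subtype_le _
  have hNb : ∀ {r : R}, π r ∈ N.map π → r ∈ N := fun {r} hr => by
    obtain ⟨x, hx, he⟩ := hr
    simpa using mul_mem hx (hDN (QuotientGroup.eq.1 he))
  have DT : Twist p τ' (N.map π) (g n) (g w) (g u) (g c) l := by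
    refine ⟨D.lord, ?_, ?_, ?_, ?_, ?_, ?_, ?_, (D.cc n).map g, (D.cc w).map g, hgu n, hgu w, ?_,
      ⟨n, n.2, rfl⟩, ⟨w, w.2, rfl⟩, ?_, ?_, ?_, ?_, ?_, ?_, ⟨π y0, fun h => hy0 (hNb h)⟩⟩
    · rw [hτ', D.tn, map_pow]
    · rw [hτ', D.tw, map_pow]
    · rw [hτ', D.tc]
    · rw [← map_pow, D.np, map_one]
    · rw [← map_pow, D.wp, map_one]
    · rw [← map_pow, D.up, map_one]
    · rw [← map_pow, hg1]; exact mem_zpowers _
    · rw [← map_mul, ← map_mul, ← map_mul]
      congr 1
      have := D.npow_w 1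
      rwa [pow_one, pow_one] at this
    · intro i j k m h
      rw [← map_pow, ← map_pow, ← map_pow, ← map_pow, ← map_mul, ← map_mul, ← map_mul, hg1] at h
      exact D.indep i j k m h
    · rintro _ ⟨x, hx, rfl⟩
      obtain ⟨i, j, k, m, hf⟩ := D.exists_form ⟨x, hx⟩
      refine ⟨i, j, k, m, ?_⟩
      have h1 := hg1.2 hf
      rw [map_mul, map_inv, inv_mul_eq_one, map_mul, map_mul, map_mul, map_pow, map_pow, map_pow, map_pow] at h1
      exact h1.symm
    · intro y
      obtain ⟨r, rfl⟩ := QuotientGroup.mk'_surjective DR y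
      have hmem := hsT c (Subgroup.subset_closure (by simp)) r
      obtain ⟨a, ha, d, hd, he⟩ := Subgroup.mem_sup_of_normal_right.1 hmem
      obtain ⟨k, rfl⟩ := (isOfFinOrder_of_finite u).mem_powers_iff_mem_zpowers.2 ha
      refine ⟨k, ?_⟩
      simp only at he
      rw [hgc, show MulAut.conjNormal r c = u ^ k * d * c by rw [he, inv_mul_cancel_right],
        map_mul, map_mul, hg1.2 hd, mul_one, map_pow, ((hgu c).pow_left k).eq]
    · intro y
      obtain ⟨r, rfl⟩ := QuotientGroup.mk'_surjective DR y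
      obtain ⟨k, m, hkm⟩ := hgT (hsB n (mem_sup_right (mem_zpowers n)) r)
      refine ⟨m, k, ?_⟩
      rw [hgc, show MulAut.conjNormal r n = (MulAut.conjNormal r n * n⁻¹) * n by rw [inv_mul_cancel_right],
        map_mul, hkm, (((D.cc n).map g).pow_left m |>.mul_left ((hgu n).pow_left k)).eq]
    · intro y
      obtain ⟨r, rfl⟩ := QuotientGroup.mk'_surjective DR y
      obtain ⟨x, hx, z, hz, he⟩ := Subgroup.mem_sup_of_normal_left.1 (hsN w (mem_top w) r)
      obtain ⟨i, rfl⟩ := (isOfFinOrder_of_finite n).mem_powers_iff_mem_zpowers.2 hz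
      obtain ⟨k, m, hkm⟩ := hgT hx
      refine ⟨i, m, k + i, ?_⟩
      simp only at he
      rw [hgc, show MulAut.conjNormal r w = x * (n ^ i * w) by rw [← mul_assoc, he, inv_mul_cancel_right],
        D.npow_w, map_mul, map_mul, map_mul, map_pow, map_pow, hkm, mul_assoc (g c ^ m), ← mul_assoc (g u ^ k),
        ← pow_add, ← mul_assoc,
        ((((D.cc w).map g).pow_left m).mul_left ((hgu w).pow_left (k + i))).mul_right
          ((((D.cc n).map g).pow_left m).mul_left ((hgu n).pow_left (k + i)) |>.pow_right i) |>.eq]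
    · intro y hy
      obtain ⟨r, rfl⟩ := QuotientGroup.mk'_surjective DR y
      obtain ⟨γ, η, he⟩ := hy
      rw [hgc, ← map_pow, ← map_pow, ← map_mul, ← map_mul] at he
      have h1 : (w * (c ^ γ * u ^ η))⁻¹ * MulAut.conjNormal r w ∈ zpowers (c ^ p) := by
        rw [← hg1, map_mul, map_inv, he, inv_mul_cancel]
      refine ⟨r, hmove r ?_, rfl⟩
      have hw : w * (c ^ γ * u ^ η) ∈ closure {u, w, c} := mul_mem (Subgroup.subset_closure (by simp))
        (mul_mem (Subgroup.pow_mem _ (Subgroup.subset_closure (by simp)) γ)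
          (Subgroup.pow_mem _ (Subgroup.subset_closure (by simp)) η))
      have := mul_mem hw (hE (D.dle h1))
      rwa [mul_inv_cancel_left] at this
  obtain ⟨y, hy, hyp, hyn, hyu, hyc⟩ := DT.exists_commuting h5
  obtain ⟨r, rfl⟩ := QuotientGroup.mk'_surjective DR y
  have hrN : r ∉ N := fun h => hy ⟨r, h, rfl⟩
  have hrp : r ^ p ∈ DR := (QuotientGroup.eq_one_iff _).1 hyp
  have hcm : ∀ {a b : R}, Commute (π a) (π b) → ⁅a, b⁆ ∈ DR := fun {a b} h => (QuotientGroup.eq_one_iff _).1 (by
    show π ⁅a, b⁆ = 1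
    rw [map_commutatorElement, commutatorElement_eq_one_iff_commute]
    exact h)
  refine no_four hsr DR ![r, n, u, c] ?_ ?_ ?_ ?_
  · intro i
    exact Subgroup.normalizer_eq_top (H := DR) ▸ mem_top _
  · intro i j
    fin_cases i <;> fin_cases j
    exacts [hcm (Commute.refl _), hcm hyn, hcm hyu, hcm hyc, hcm hyn.symm, hcm (Commute.refl _),
      hcm (hgu n).symm, hcm ((D.cc n).map g).symm, hcm hyu.symm, hcm (hgu n), hcm (Commute.refl _),
      hcm ((D.cc u).map g).symm, hcm hyc.symm, hcm ((D.cc n).map g), hcm ((D.cc u).map g),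
      hcm (Commute.refl _)]
  · intro i
    fin_cases i
    · exact hrp
    · exact ⟨n ^ p, by rw [D.np]; exact one_mem _, map_pow N.subtype n p⟩
    · exact ⟨u ^ p, by rw [D.up]; exact one_mem _, map_pow N.subtype u p⟩
    · exact ⟨c ^ p, mem_zpowers _, map_pow N.subtype c p⟩
  · intro a b d e h
    simp only [Matrix.cons_val_zero, Matrix.cons_val_one, Matrix.cons_val_two, Matrix.cons_val_three,
      Matrix.tail_cons, Matrix.head_cons] at h
    have ha : p ∣ a := by
      by_contra hd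
      refine hrN (mem_of_pow_mem_of_coprime (hDN hrp) ?_ hd)
      have := mul_mem (hDN h) (inv_mem (mul_mem (mul_mem (N.pow_mem n.2 b) (N.pow_mem u.2 d)) (N.pow_mem c.2 e)))
      convert this using 1
      group
    have h' : ((n ^ b * w ^ 0 * u ^ d * c ^ e : N) : R) ∈ DR := by
      obtain ⟨a', rfl⟩ := ha
      have := mul_mem (inv_mem (DR.pow_mem hrp a')) h
      rw [pow_mul] at this
      convert this using 1
      simp [mul_assoc]
    obtain ⟨hb, -, hd, he⟩ := D.indep b 0 d e ((Subgroup.mem_map_iff_mem N.subtype_injective).1 h')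
    exact ⟨ha, hb, hd, he⟩

end Cfsg.Agent.H91.Rank3
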