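import Cfsg.Agent.H91.Rank3.CaseTwoComm

/-!
A family either contains the pair of the symplectic Sylow subgroup or has a common subgroup.
-/

set_option autoImplicit false
set_option linter.unusedSectionVars false

namespace Cfsg.Agent.H91.Rank3

open Subgroup

variable {M : Type*} [Group M] [Finite M] {p : ℕ} [hp : Fact p.Prime]

theorem Fam.main (F : Fam p M) (hnt : ¬ Cfsg.SectionalPRankLE p 2 M) :
    (∃ E1 E2, F.Ess E1 ∧ F.Ess E2 ∧ SpPair p E1 E2) ∨ ∃ Q, F.Common Q := by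
  rcases Fam.exists_not_inv F hnt with ⟨E1, h1, hn1⟩ | h
  swap
  · exact Or.inr h
  by_cases hall : ∀ E E', F.Ess E → F.Ess E' → F.span E ≤ E'
  swap
  · push Not at hall
    obtain ⟨E, E', hE, hE', hle⟩ := hall
    obtain ⟨z, hz, hz'⟩ := SetLike.not_le_iff_exists.1 hle
    rcases Fam.caseOne hnt hE hE' hz hz' with h | h
    · exact Or.inl ⟨E, E', hE, hE', h⟩
    · exact Or.inr h
  right
  have hu : ∀ E, F.Ess E → ¬ F.Inv (om p M) E → E = E1 := fun E hE hn => Fam.caseTwo_unique hall hE h1 hn hn1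
  by_cases hV : ∀ E, F.Ess E → F.Inv (F.span E1) E
  · refine ⟨F.span E1, fun hbot => hn1 ((Fam.inv_om_iff h1).2 (le_antisymm ?_ (Fam.om_le_span h1))),
      fun E hE => ⟨hall E1 E h1 hE, hV E hE⟩, Fam.gInv_span hu h1 hn1⟩
    rw [hbot]
    exact bot_le
  push Not at hV
  obtain ⟨E2, h2, hn2⟩ := hV
  have hom2 : F.Inv (om p M) E2 := by
    by_contra hn
    obtain rfl := hu E2 h2 hn
    exact hn2 Fam.inv_span
  by_cases hcard : Nat.card (F.span E1) = p ^ 3
  · exact Fam.caseTwo_cube hu h1 hn1 hall h2 hn2 hcard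
  exfalso
  by_cases hcomm : ∀ g ∈ F.G E2, ∀ a ∈ F.span E1, ∀ b ∈ Fam.img g (F.span E1), Commute a b
  · exact Fam.caseTwo_comm h1 hn1 hall h2 hom2 hn2 hcard hcomm (Fam.gInv_span hu h1 hn1)
  · push Not at hcomm
    obtain ⟨g, hg, a, ha, b, hb, hab⟩ := hcomm
    exact Fam.caseTwo_pair h1 hn1 hall h2 hom2 hcard hg ha hb hab

end Cfsg.Agent.H91.Rank3
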