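import Cfsg.Agent.H91.Rank3.Setup
import Mathlib.GroupTheory.GroupAction.ConjAct

/-!
Families of automorphism groups on subgroups of index `p` of a `p`-group of sectional rank three, abstracting the
essential subgroups of a saturated system in which all of them are normal.
-/

set_option autoImplicit false
set_option linter.unusedSectionVars false
set_option linter.style.haveILetI false

namespace Cfsg.Agent.H91.Rank3

open Subgroup
open scoped commutatorElement

section Series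

variable {H : Type*} [Group H]

/-- Automorphisms moving everything inside `W`, elements of `W` inside `T`, and fixing `T`. -/
def serStab (T W : Subgroup H) : Subgroup (MulAut H) where
  carrier := {δ | (∀ a ∈ T, δ a = a) ∧ (∀ b ∈ W, b⁻¹ * δ b ∈ T) ∧ ∀ x, x⁻¹ * δ x ∈ W}
  one_mem' := ⟨fun a _ => rfl, fun b _ => by simp, fun x => by simp⟩
  mul_mem' {δ ε} hd he := by
    refine ⟨fun a ha => by rw [MulAut.mul_apply, he.1 a ha, hd.1 a ha], fun b hb => ?_, fun x => ?_⟩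
    · have hy : b⁻¹ * ε b ∈ T := he.2.1 b hb
      have h : δ (ε b) = δ b * (b⁻¹ * ε b) := by
        conv_rhs => rw [← hd.1 _ hy, ← map_mul, mul_inv_cancel_left]
      rw [MulAut.mul_apply, h, ← mul_assoc]
      exact T.mul_mem (hd.2.1 b hb) hy
    · have := W.mul_mem (he.2.2 x) (hd.2.2 (ε x))
      rwa [← mul_assoc, mul_inv_cancel_right] at this
  inv_mem' {δ} hd := by
    have hT : ∀ a ∈ T, δ⁻¹ a = a := fun a ha => by
      conv_lhs => rw [← hd.1 a ha, MulAut.inv_apply_self]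
    have hW : ∀ x, x⁻¹ * δ⁻¹ x ∈ W := fun x => by
      have := W.inv_mem (hd.2.2 (δ⁻¹ x))
      rwa [MulAut.apply_inv_self, mul_inv_rev, inv_inv] at this
    refine ⟨hT, fun b hb => ?_, hW⟩
    have hb' : δ⁻¹ b ∈ W := by
      have := W.mul_mem hb (hW b)
      rwa [mul_inv_cancel_left] at this
    have := T.inv_mem (hd.2.1 _ hb')
    rwa [MulAut.apply_inv_self, mul_inv_rev, inv_inv] at this

theorem pow_apply_fix {δ : MulAut H} {x : H} (h : δ (x⁻¹ * δ x) = x⁻¹ * δ x) :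
    ∀ k : ℕ, (δ ^ k) x = x * (x⁻¹ * δ x) ^ k
  | 0 => by simp
  | k + 1 => by
    have hk : ∀ m : ℕ, (δ ^ m) (x⁻¹ * δ x) = x⁻¹ * δ x := by
      intro m
      induction m with
      | zero => rfl
      | succ m ih => rw [pow_succ, MulAut.mul_apply, h, ih]
    rw [pow_succ δ, MulAut.mul_apply]
    conv_lhs => rw [show δ x = x * (x⁻¹ * δ x) by group, map_mul, pow_apply_fix h k, hk, mul_assoc, ← pow_succ]

theorem serStab_isPGroup {p : ℕ} {T W : Subgroup H} (hT : ∀ a ∈ T, a ^ p = 1) (hW : ∀ b ∈ W, b ^ p = 1) :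
    IsPGroup p (serStab T W) := by
  rintro ⟨δ, hd⟩
  refine ⟨2, Subtype.ext (MulEquiv.ext fun x => ?_)⟩
  show (δ ^ p ^ 2) x = x
  have hfix : ∀ b ∈ W, (δ ^ p) b = b := fun b hb => by
    rw [pow_apply_fix (hd.1 _ (hd.2.1 b hb)) p, hT _ (hd.2.1 b hb), mul_one]
  have hmem : x⁻¹ * (δ ^ p) x ∈ W := ((serStab T W).pow_mem hd p).2.2 x
  rw [pow_two, pow_mul, pow_apply_fix (hfix _ hmem) p, hW _ hmem, mul_one]

end Series

variable {M : Type*} [Group M]

/-- The automorphisms of `E` induced by conjugation. -/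
def indM (E : Subgroup M) : Subgroup (MulAut E) where
  carrier := {f | ∃ m, ∀ x : E, (f x : M) = m * x * m⁻¹}
  one_mem' := ⟨1, fun x => by simp⟩
  mul_mem' := by
    rintro f g ⟨m, hm⟩ ⟨n, hn⟩
    exact ⟨m * n, fun x => by rw [MulAut.mul_apply, hm, hn]; group⟩
  inv_mem' := by
    rintro f ⟨m, hm⟩
    refine ⟨m⁻¹, fun x => ?_⟩
    have := hm (f⁻¹ x)
    rw [MulAut.apply_inv_self] at this
    rw [this]
    group

/-- The central elements of order dividing `p`. -/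
def om (p : ℕ) (M : Type*) [Group M] : Subgroup M where
  carrier := {x | x ∈ center M ∧ x ^ p = 1}
  one_mem' := ⟨one_mem _, one_pow _⟩
  mul_mem' {x y} hx hy := ⟨mul_mem hx.1 hy.1, by
    rw [Commute.mul_pow (Subgroup.mem_center_iff.1 hy.1 x), hx.2, hy.2, one_mul]⟩
  inv_mem' {x} hx := ⟨inv_mem hx.1, by rw [inv_pow, hx.2, inv_one]⟩

theorem mem_om {p : ℕ} {x : M} : x ∈ om p M ↔ (∀ g, Commute g x) ∧ x ^ p = 1 :=
  and_congr_left' Subgroup.mem_center_iff

/-- The data. -/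
structure Fam (p : ℕ) (M : Type*) [Group M] where
  isP : IsPGroup p M
  odd : p ≠ 2
  rank : Cfsg.SectionalPRankLE p 3 M
  Γ : Subgroup (MulAut M)
  inner : ∀ g, MulAut.conj g ∈ Γ
  r : ℕ
  coprime : ¬ p ∣ r
  pow : ∀ γ ∈ Γ, ∃ g, γ ^ r = MulAut.conj g
  Ess : Subgroup M → Prop
  G : (E : Subgroup M) → Subgroup (MulAut E)
  index : ∀ {E : Subgroup M}, Ess E → E.index = p
  centric : ∀ {E : Subgroup M}, Ess E → ∀ m : M, (∀ e ∈ E, Commute m e) → m ∈ E
  indG : ∀ {E : Subgroup M}, Ess E → indM E ≤ G E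
  sylow : ∀ {E : Subgroup M}, Ess E → ∀ K ≤ G E, IsPGroup p K → indM E ≤ K → K ≤ indM E
  notNormal : ∀ {E : Subgroup M}, Ess E → ∃ α ∈ G E, ∃ β ∈ indM E, α * β * α⁻¹ ∉ indM E
  ext : ∀ {E : Subgroup M}, Ess E → ∀ α ∈ G E, (∀ β ∈ indM E, α * β * α⁻¹ ∈ indM E) →
    ∃ γ ∈ Γ, ∀ x : E, γ (x : M) = (α x : M)
  transport : ∀ {E : Subgroup M}, Ess E → ∀ γ ∈ Γ, Ess (E.map (γ : M ≃* M).toMonoidHom) ∧ ∀ α ∈ G E,
    ∃ β ∈ G (E.map (γ : M ≃* M).toMonoidHom), ∀ x : E,
      (β ⟨γ (x : M), (x : M), x.2, rfl⟩ : M) = γ (α x : M)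

variable [Finite M] {p : ℕ} [hp : Fact p.Prime] (F : Fam p M)

namespace Fam

/-- Invariance under the group on `E`. -/
def Inv (Q E : Subgroup M) : Prop := ∀ α ∈ F.G E, ∀ x : E, (x : M) ∈ Q → (α x : M) ∈ Q

/-- Invariance under `Γ`. -/
def GInv (Q : Subgroup M) : Prop := ∀ γ ∈ F.Γ, ∀ x ∈ Q, γ x ∈ Q

variable {F} {E Q : Subgroup M}

theorem normal (hE : F.Ess E) : E.Normal := (mem_of_index_eq F.isP (F.index hE)).1

theorem pow_mem' (hE : F.Ess E) (g : M) : g ^ p ∈ E := (mem_of_index_eq F.isP (F.index hE)).2.1 g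

theorem comm_mem (hE : F.Ess E) (g h : M) : ⁅g, h⁆ ∈ E := (mem_of_index_eq F.isP (F.index hE)).2.2 g h

/-- Conjugation on `E`. -/
noncomputable def cj (hE : F.Ess E) : M →* MulAut E :=
  haveI := normal hE
  MulAut.conjNormal

theorem coe_cj (hE : F.Ess E) (m : M) (x : E) : (cj hE m x : M) = m * x * m⁻¹ := rfl

theorem cj_mem (hE : F.Ess E) (m : M) : cj hE m ∈ indM E := ⟨m, fun _ => rfl⟩

theorem eq_cj (hE : F.Ess E) {f : MulAut E} (hf : f ∈ indM E) : ∃ m, f = cj hE m := by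
  obtain ⟨m, hm⟩ := hf
  exact ⟨m, MulEquiv.ext fun x => Subtype.ext (by rw [hm, coe_cj])⟩

theorem indM_eq_range (hE : F.Ess E) : indM E = (cj hE).range := by
  ext f
  exact ⟨fun h => (eq_cj hE h).imp fun m hm => hm.symm, fun ⟨m, hm⟩ => hm ▸ cj_mem hE m⟩

theorem indM_isPGroup (hE : F.Ess E) : IsPGroup p (indM E) := by
  rw [indM_eq_range hE]
  exact F.isP.of_surjective _ (cj hE).rangeRestrict_surjective

theorem cjG (hE : F.Ess E) (m : M) : cj hE m ∈ F.G E := F.indG hE (cj_mem hE m)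

theorem finite_G (E : Subgroup M) : Finite (F.G E) := by
  haveI := finite_aut (G := E)
  infer_instance

/-- The Sylow subgroup induced by conjugation. -/
theorem exists_sylow (hE : F.Ess E) :
    ∃ A : Sylow p (F.G E), (A : Subgroup (F.G E)) = (indM E).subgroupOf (F.G E) := by
  haveI := F.finite_G E
  have h1 : IsPGroup p ((indM E).subgroupOf (F.G E)) :=
    (indM_isPGroup hE).of_equiv (Subgroup.subgroupOfEquivOfLe (F.indG hE)).symm
  obtain ⟨A, hA⟩ := h1.exists_le_sylow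
  refine ⟨A, le_antisymm (fun x hx => ?_) hA⟩
  rw [Subgroup.mem_subgroupOf]
  refine F.sylow hE _ (Subgroup.map_subtype_le _) (A.isPGroup'.map _) ?_ ⟨x, hx, rfl⟩
  intro f hf
  exact ⟨⟨f, F.indG hE hf⟩, hA (Subgroup.mem_subgroupOf.2 hf), rfl⟩

/-- Elements normalising a subgroup above `indM` are corrected inside it to normalise `indM`. -/
theorem exists_normalising (hE : F.Ess E) {K : Subgroup (MulAut E)} (hK : K ≤ F.G E) (hle : indM E ≤ K)
    {α : MulAut E} (hα : α ∈ F.G E) (hn : ∀ f ∈ K, α * f * α⁻¹ ∈ K) :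
    ∃ k ∈ K, k⁻¹ * α ∈ F.G E ∧ ∀ β ∈ indM E, k⁻¹ * α * β * (k⁻¹ * α)⁻¹ ∈ indM E := by
  haveI := finite_aut (G := E)
  obtain ⟨A, hA⟩ := exists_sylow hE
  set K' := K.subgroupOf (F.G E)
  have hAK : (A : Subgroup (F.G E)) ≤ K' := fun x hx => hle ((hA.le hx : x ∈ (indM E).subgroupOf (F.G E)))
  have hgK : ((⟨α, hα⟩ : F.G E) • A : Sylow p (F.G E)) ≤ K' := by
    intro x hx
    rw [Sylow.coe_subgroup_smul] at hx
    obtain ⟨y, hy, rfl⟩ := hx
    exact hn _ (hle (hA.le hy : y ∈ (indM E).subgroupOf (F.G E)))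
  obtain ⟨k, hk⟩ := MulAction.exists_smul_eq K' (A.subtype hAK) (((⟨α, hα⟩ : F.G E) • A).subtype hgK)
  rw [Sylow.smul_subtype hAK] at hk
  have hk' := Sylow.subtype_injective hk
  refine ⟨((k : F.G E) : MulAut E), k.2, mul_mem (inv_mem (k : F.G E).2) hα, fun β hβ => ?_⟩
  have h1 : ((k : F.G E)⁻¹ * ⟨α, hα⟩) • A = A := by
    rw [mul_smul, ← hk']
    exact inv_smul_smul (k : F.G E) A
  have h2 := (Sylow.smul_eq_iff_mem_normalizer.1 h1)
  have h3 := (Subgroup.mem_normalizer_iff.1 h2 ⟨β, F.indG hE hβ⟩).1 (hA.ge (Subgroup.mem_subgroupOf.2 hβ))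
  have h4 := hA.le h3
  rw [Subgroup.mem_subgroupOf] at h4
  simpa using h4

/-- The group on `E` is generated by the normalising elements and the conjugates of `indM`. -/
theorem gen_le (hE : F.Ess E) {H : Subgroup (MulAut E)}
    (h1 : ∀ α ∈ F.G E, (∀ β ∈ indM E, α * β * α⁻¹ ∈ indM E) → α ∈ H)
    (h2 : ∀ α ∈ F.G E, ∀ β ∈ indM E, α * β * α⁻¹ ∈ H) : F.G E ≤ H := by
  set K := Subgroup.closure {f | ∃ α ∈ F.G E, ∃ β ∈ indM E, f = α * β * α⁻¹}
  have hKG : K ≤ F.G E := (Subgroup.closure_le _).2 (by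
    rintro f ⟨α, hα, β, hβ, rfl⟩
    exact mul_mem (mul_mem hα (F.indG hE hβ)) (inv_mem hα))
  have hKH : K ≤ H := (Subgroup.closure_le _).2 (by
    rintro f ⟨α, hα, β, hβ, rfl⟩
    exact h2 α hα β hβ)
  intro α hα
  obtain ⟨k, hk, hkG, hkn⟩ := exists_normalising hE hKG
    (fun β hβ => Subgroup.subset_closure ⟨1, one_mem _, β, hβ, by simp⟩) hα (fun f hf => by
      induction hf using Subgroup.closure_induction with
      | mem f hf =>
        obtain ⟨γ, hγ, β, hβ, rfl⟩ := hf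
        exact Subgroup.subset_closure ⟨α * γ, mul_mem hα hγ, β, hβ, by group⟩
      | one => simp
      | mul f g _ _ ihf ihg => rw [← conj_mul]; exact mul_mem ihf ihg
      | inv f _ ih => rw [← conj_inv]; exact inv_mem ih)
  have := H.mul_mem (hKH hk) (h1 _ hkG hkn)
  rwa [mul_inv_cancel_left] at this

/-- Decomposition over `E`. -/
theorem exists_dec (hE : F.Ess E) {z : M} (hz : z ∉ E) (m : M) : ∃ e ∈ E, ∃ i : ℕ, m = e * z ^ i := by
  haveI := normal hE
  obtain ⟨i, hi⟩ : QuotientGroup.mk' E m ∈ Submonoid.powers (QuotientGroup.mk' E z) :=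
    mem_powers_of_prime_card (p := p) (by rw [← Subgroup.index_eq_card, F.index hE])
      fun h => hz ((QuotientGroup.eq_one_iff z).1 h)
  refine ⟨m * (z ^ i)⁻¹, ?_, i, by group⟩
  rw [← QuotientGroup.eq_one_iff]
  show QuotientGroup.mk' E _ = 1
  rw [map_mul, map_inv, map_pow, ← hi, mul_inv_cancel]

theorem exists_not_mem (hE : F.Ess E) : ∃ z, z ∉ E := by
  by_contra h
  push Not at h
  have := F.index hE
  rw [show E = ⊤ from eq_top_iff.2 fun x _ => h x, Subgroup.index_top] at this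
  exact hp.out.one_lt.ne this

theorem mem_center_of (hE : F.Ess E) {z : M} (hz : z ∉ E) {x : M} (he : ∀ e ∈ E, Commute x e)
    (hxz : Commute x z) : x ∈ center M := by
  refine Subgroup.mem_center_iff.2 fun g => ?_
  obtain ⟨e, hee, i, rfl⟩ := exists_dec hE hz g
  exact ((he e hee).mul_right (hxz.pow_right i)).symm.eq

theorem center_le (hE : F.Ess E) : center M ≤ E := fun x hx =>
  F.centric hE x fun e _ => (Subgroup.mem_center_iff.1 hx e).symm

theorem om_le (hE : F.Ess E) : om p M ≤ E := fun _ hx => center_le hE hx.1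

/-- A conjugate of the generator outside. -/
theorem exists_moved (hE : F.Ess E) {z : M} (hz : z ∉ E) :
    ∃ g ∈ F.G E, g * cj hE z * g⁻¹ ∉ indM E := by
  obtain ⟨g, hg, β, hβ, hne⟩ := F.notNormal hE
  refine ⟨g, hg, fun hc => hne ?_⟩
  obtain ⟨m, rfl⟩ := eq_cj hE hβ
  obtain ⟨e, he, i, rfl⟩ := exists_dec hE hz m
  rw [map_mul, map_pow, ← conj_mul, ← conj_pow]
  refine mul_mem ⟨(g ⟨e, he⟩ : M), fun x => ?_⟩ (pow_mem hc i)
  rw [MulAut.mul_apply, MulAut.mul_apply]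
  have h1 : cj hE e (g⁻¹ x) = ⟨e, he⟩ * g⁻¹ x * ⟨e, he⟩⁻¹ := Subtype.ext (by rw [coe_cj]; simp)
  rw [h1, map_mul, map_mul, map_inv, MulAut.apply_inv_self]
  simp

/-- An automorphism in the stabiliser of a series with elementary members is induced, if the generator is. -/
theorem mem_ind_of_series (hE : F.Ess E) {z : M} (hz : z ∉ E) {T W : Subgroup E}
    (hT : ∀ a ∈ T, a ^ p = 1) (hW : ∀ b ∈ W, b ^ p = 1) (hzs : cj hE z ∈ serStab T W) {β : MulAut E}
    (hβ : β ∈ F.G E) (hβs : β ∈ serStab T W) : β ∈ indM E := by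
  set I := (MulAut.conj : E →* MulAut E).range
  haveI : I.Normal := ⟨by
    rintro _ ⟨e, rfl⟩ a
    exact ⟨a e, MulEquiv.ext fun x => by simp⟩⟩
  have hI : IsPGroup p I := (F.isP.to_subgroup E).of_surjective _ (MulAut.conj : E →* MulAut E).rangeRestrict_surjective
  have hIind : I ≤ indM E := by
    rintro _ ⟨e, rfl⟩
    exact ⟨e, fun x => by simp⟩
  have hK : IsPGroup p ((serStab T W ⊓ F.G E ⊔ I : Subgroup (MulAut E))) :=
    ((serStab_isPGroup hT hW).to_le inf_le_left).to_sup_of_normal_right hI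
  refine F.sylow hE _ (sup_le inf_le_right (hIind.trans (F.indG hE))) hK ?_ (mem_sup_left ⟨hβs, hβ⟩)
  intro f hf
  obtain ⟨m, rfl⟩ := eq_cj hE hf
  obtain ⟨e, he, i, rfl⟩ := exists_dec hE hz m
  rw [map_mul, map_pow]
  exact mul_mem (mem_sup_right (MonoidHom.mem_range.2 ⟨⟨e, he⟩, MulEquiv.ext fun x => Subtype.ext (by rw [coe_cj]; simp)⟩))
    (pow_mem (mem_sup_left (Subgroup.mem_inf.2 ⟨hzs, cjG hE z⟩)) i)

/-- No invariant elementary subgroup is fixed by the generator and absorbs what it moves. -/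
theorem no_series (hE : F.Ess E) {z : M} (hz : z ∉ E) {W : Subgroup M} (hW : F.Inv W E)
    (hexp : ∀ b ∈ W, b ^ p = 1) (hfix : ∀ b ∈ W, b ∈ E → z * b * z⁻¹ = b)
    (hmove : ∀ x ∈ E, x⁻¹ * (z * x * z⁻¹) ∈ W) : False := by
  have hser : ∀ α : MulAut E, (∀ b : E, (b : M) ∈ W → α b = b) → (∀ x : E, ((x⁻¹ * α x : E) : M) ∈ W) →
      α ∈ serStab (W.subgroupOf E) (W.subgroupOf E) := fun α h1 h2 =>
    ⟨fun a ha => h1 a (Subgroup.mem_subgroupOf.1 ha), fun b _ => Subgroup.mem_subgroupOf.2 (h2 b),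
      fun x => Subgroup.mem_subgroupOf.2 (h2 x)⟩
  have hexp' : ∀ b ∈ W.subgroupOf E, b ^ p = 1 := fun b hb => Subtype.ext (by
    rw [SubmonoidClass.coe_pow, hexp _ (Subgroup.mem_subgroupOf.1 hb), OneMemClass.coe_one])
  obtain ⟨g, hg, hne⟩ := exists_moved hE hz
  refine hne (mem_ind_of_series hE hz hexp' hexp' (hser _ (fun b hb => Subtype.ext ?_) fun x => ?_)
    (mul_mem (mul_mem hg (cjG hE z)) (inv_mem hg)) (hser _ (fun b hb => ?_) fun x => ?_))
  · rw [coe_cj]; exact hfix b hb b.2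
  · rw [Subgroup.coe_mul, Subgroup.coe_inv, coe_cj]; exact hmove x x.2
  · have h1 : cj hE z (g⁻¹ b) = g⁻¹ b := Subtype.ext (by
      rw [coe_cj]; exact hfix _ (hW _ (inv_mem hg) b hb) (g⁻¹ b).2)
    rw [MulAut.mul_apply, MulAut.mul_apply, h1, MulAut.apply_inv_self]
  · have h1 : ((g⁻¹ x)⁻¹ * cj hE z (g⁻¹ x) : E) = g⁻¹ (x⁻¹ * (g * cj hE z * g⁻¹) x) := by
      simp [MulAut.mul_apply]
    have h2 : (((g⁻¹ x)⁻¹ * cj hE z (g⁻¹ x) : E) : M) ∈ W := by
      rw [Subgroup.coe_mul, Subgroup.coe_inv, coe_cj]; exact hmove _ (g⁻¹ x).2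
    rw [h1] at h2
    have h3 := hW g hg _ h2
    rwa [MulAut.apply_inv_self] at h3

theorem Inv.mem_iff (h : F.Inv Q E) {α : MulAut E} (hα : α ∈ F.G E) (x : E) :
    (α x : M) ∈ Q ↔ (x : M) ∈ Q := by
  refine ⟨fun hx => ?_, h α hα x⟩
  have := h α⁻¹ (inv_mem hα) (α x) hx
  rwa [MulAut.inv_apply_self] at this

theorem GInv.mem_iff (h : F.GInv Q) {γ : MulAut M} (hγ : γ ∈ F.Γ) (x : M) : γ x ∈ Q ↔ x ∈ Q := by
  refine ⟨fun hx => ?_, h γ hγ x⟩
  have := h γ⁻¹ (inv_mem hγ) _ hx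
  rwa [MulAut.inv_apply_self] at this

theorem GInv.normal (h : F.GInv Q) : Q.Normal :=
  ⟨fun x hx g => by simpa using h _ (F.inner g) x hx⟩

theorem Inv.normal (hE : F.Ess E) (h : F.Inv Q E) (hQE : Q ≤ E) : Q.Normal :=
  ⟨fun x hx g => by
    have := h _ (cjG hE g) ⟨x, hQE hx⟩ hx
    rwa [coe_cj] at this⟩

/-- A `Γ`-invariant subgroup between invariant ones with trivial action on the factor is invariant. -/
theorem inv_of_trivial (hE : F.Ess E) {U Z0 : Subgroup M} (hU : F.Inv U E) (hZ : F.Inv Z0 E) (hZQ : Z0 ≤ Q)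
    (hQU : Q ≤ U) (hQ : F.GInv Q) (htriv : ∀ m : M, ∀ u ∈ U, ⁅m, u⁆ ∈ Z0) : F.Inv Q E := by
  let H : Subgroup (MulAut E) :=
    { carrier := {α | ∀ x : E, (α x : M) ∈ Q ↔ (x : M) ∈ Q}
      one_mem' := fun x => Iff.rfl
      mul_mem' := fun {α β} ha hb x => (ha (β x)).trans (hb x)
      inv_mem' := fun {α} ha x => by
        have := ha (α⁻¹ x)
        rw [MulAut.apply_inv_self] at this
        exact this.symm }
  have hle : F.G E ≤ H := by
    refine gen_le hE (fun α hα hn x => ?_) fun α hα β hβ x => ?_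
    · obtain ⟨γ, hγ, hγe⟩ := F.ext hE α hα hn
      rw [← hγe x]
      exact hQ.mem_iff hγ x
    · have key : ∀ (δ : MulAut E), δ ∈ indM E → ∀ y : E, (y : M) ∈ Q → ((α * δ * α⁻¹) y : M) ∈ Q := by
        rintro δ ⟨m, hm⟩ y hy
        set u := α⁻¹ y
        have hu : (u : M) ∈ U := hU _ (inv_mem hα) y (hQU hy)
        have hc : ((δ u * u⁻¹ : E) : M) ∈ Z0 := by
          rw [Subgroup.coe_mul, Subgroup.coe_inv, hm]
          exact htriv m u hu
        have h1 : (α * δ * α⁻¹) y = α (δ u * u⁻¹) * y := by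
          rw [MulAut.mul_apply, MulAut.mul_apply, map_mul, map_inv, show α u = y from MulAut.apply_inv_self ..,
            inv_mul_cancel_right]
        rw [h1, Subgroup.coe_mul]
        exact mul_mem (hZQ (hZ α hα _ hc)) hy
      refine ⟨fun hx => ?_, key β hβ x⟩
      have := key β⁻¹ (inv_mem hβ) _ hx
      rwa [← MulAut.mul_apply, show α * β⁻¹ * α⁻¹ * (α * β * α⁻¹) = 1 by group, MulAut.one_apply] at this
  exact fun α hα x hx => (hle hα x).2 hx

theorem gInv_om : F.GInv (om p M) := fun γ _ x hx => by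
  rw [mem_om] at hx ⊢
  refine ⟨fun g => ?_, by rw [← map_pow, hx.2, map_one]⟩
  have := (hx.1 (γ⁻¹ g)).map (γ : M ≃* M).toMonoidHom
  simpa using this

theorem exists_mem_om (F : Fam p M) {N : Subgroup M} [N.Normal] (hN : N ≠ ⊥) : ∃ x ∈ N, x ∈ om p M ∧ x ≠ 1 := by
  obtain ⟨x, hx, hc, ho⟩ := PGroups.exists_mem_center_orderOf_eq F.isP N hN
  exact ⟨x, hx, ⟨hc, ho ▸ pow_orderOf_eq_one x⟩, fun h => by
    rw [h, orderOf_one] at ho; exact hp.out.one_lt.ne ho⟩

/-- Elementary abelian subgroups have order at most `p ^ 3`. -/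
theorem card_le_cube (F : Fam p M) {H : Subgroup M} (hc : ∀ x ∈ H, ∀ y ∈ H, Commute x y)
    (hexp : ∀ x ∈ H, x ^ p = 1) : Nat.card H ≤ p ^ 3 := by
  rw [← Subgroup.relIndex_bot_left]
  refine relIndex_le_cube F.rank (fun x hx y hy => ?_) fun x hx => Subgroup.mem_bot.2 (hexp x hx)
  rw [Subgroup.mem_bot, commutatorElement_eq_one_iff_commute]
  exact hc x hx y hy

variable (F) in
/-- The subgroup generated by the images of the central elements of order `p`. -/
def span (E : Subgroup M) : Subgroup M :=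
  Subgroup.closure {y | ∃ α ∈ F.G E, ∃ x : E, (x : M) ∈ om p M ∧ (α x : M) = y}

theorem span_le : F.span E ≤ E := (Subgroup.closure_le _).2 (by
  rintro y ⟨α, -, x, -, rfl⟩
  exact (α x).2)

theorem om_le_span (hE : F.Ess E) : om p M ≤ F.span E := fun x hx =>
  Subgroup.subset_closure ⟨1, one_mem _, ⟨x, om_le hE hx⟩, hx, rfl⟩

theorem span_comm {v e : M} (hv : v ∈ F.span E) (he : e ∈ E) : Commute v e := by
  induction hv using Subgroup.closure_induction with
  | mem y hy =>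
    obtain ⟨α, -, x, hx, rfl⟩ := hy
    have h1 : Commute x (α.symm ⟨e, he⟩) := Subtype.ext ((mem_om.1 hx).1 _).symm
    simpa using (h1.map (α : E ≃* E).toMonoidHom).map E.subtype
  | one => exact Commute.one_left e
  | mul a b _ _ iha ihb => exact iha.mul_left ihb
  | inv a _ iha => exact iha.inv_left

theorem span_pow {v : M} (hv : v ∈ F.span E) : v ^ p = 1 := by
  induction hv using Subgroup.closure_induction with
  | mem y hy =>
    obtain ⟨α, -, x, hx, rfl⟩ := hy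
    have h1 : x ^ p = 1 := Subtype.ext (by simpa using (mem_om.1 hx).2)
    rw [← SubmonoidClass.coe_pow, ← map_pow, h1, map_one, OneMemClass.coe_one]
  | one => exact one_pow _
  | mul a b ha hb iha ihb => rw [(span_comm ha (span_le hb)).mul_pow, iha, ihb, one_mul]
  | inv a _ iha => rw [inv_pow, iha, inv_one]

theorem inv_span : F.Inv (F.span E) E := by
  intro α hα x hx
  have hle : F.span E ≤ ((F.span E).comap (E.subtype.comp (α : E ≃* E).toMonoidHom)).map E.subtype := by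
    refine (Subgroup.closure_le _).2 ?_
    rintro y ⟨β, hβ, u, hu, rfl⟩
    exact ⟨β u, Subgroup.subset_closure ⟨α * β, mul_mem hα hβ, u, hu, rfl⟩, rfl⟩
  obtain ⟨x', hx', he⟩ := hle hx
  rwa [show x' = x from Subtype.ext he] at hx'

theorem span_normal (hE : F.Ess E) : (F.span E).Normal := inv_span.normal hE span_le

theorem card_span_le : Nat.card (F.span E) ≤ p ^ 3 :=
  F.card_le_cube (fun _ hx _ hy => span_comm hx (span_le hy)) fun _ hx => span_pow hx

theorem span_le_of_inv (hQ : F.Inv Q E) (hom : om p M ≤ Q) : F.span E ≤ Q := (Subgroup.closure_le _).2 (by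
  rintro y ⟨α, hα, x, hx, rfl⟩
  exact hQ α hα x (hom hx))

theorem inv_om_iff (hE : F.Ess E) : F.Inv (om p M) E ↔ F.span E = om p M :=
  ⟨fun h => le_antisymm (span_le_of_inv h le_rfl) (om_le_span hE), fun h => h ▸ inv_span⟩

theorem span_transport (hE : F.Ess E) {γ : MulAut M} (hγ : γ ∈ F.Γ) {v : M} (hv : v ∈ F.span E) :
    γ v ∈ F.span (E.map (γ : M ≃* M).toMonoidHom) := by
  induction hv using Subgroup.closure_induction with
  | mem y hy =>
    obtain ⟨α, hα, x, hx, rfl⟩ := hy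
    obtain ⟨β, hβ, hβe⟩ := (F.transport hE γ hγ).2 α hα
    rw [← hβe x]
    exact Subgroup.subset_closure ⟨β, hβ, _, gInv_om γ hγ _ hx, rfl⟩
  | one => rw [map_one]; exact one_mem _
  | mul a b _ _ iha ihb => rw [map_mul]; exact mul_mem iha ihb
  | inv a _ iha => rw [map_inv]; exact inv_mem iha

theorem not_inv_transport (hE : F.Ess E) (h : ¬ F.Inv (om p M) E) {γ : MulAut M} (hγ : γ ∈ F.Γ) :
    ¬ F.Inv (om p M) (E.map (γ : M ≃* M).toMonoidHom) := fun h' => h ((inv_om_iff hE).2 (le_antisymm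
  (fun v hv => (gInv_om.mem_iff hγ v).1 (((inv_om_iff (F.transport hE γ hγ).1).1 h').le
    (span_transport hE hγ hv))) (om_le_span hE)))

variable (F) in
/-- A nontrivial subgroup invariant in every member and under `Γ`. -/
def Common (Q : Subgroup M) : Prop :=
  Q ≠ ⊥ ∧ (∀ E, F.Ess E → Q ≤ E ∧ F.Inv Q E) ∧ F.GInv Q

/-- Some member moves the central elements, unless these are common. -/
theorem exists_not_inv (F : Fam p M) (hnt : ¬ Cfsg.SectionalPRankLE p 2 M) : (∃ E, F.Ess E ∧ ¬ F.Inv (om p M) E) ∨ ∃ Q, F.Common Q := by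
  by_cases h : ∀ E, F.Ess E → F.Inv (om p M) E
  swap
  · push Not at h
    exact Or.inl h
  refine Or.inr ⟨_, fun hbot => hnt fun H N _ A _ _ => ?_, fun E hE => ⟨om_le hE, h E hE⟩, gInv_om⟩
  have hM : (⊤ : Subgroup M) = ⊥ := by
    by_contra hne
    obtain ⟨x, -, hx, hx1⟩ := exists_mem_om F (N := ⊤) hne
    exact hx1 (Subgroup.mem_bot.1 (hbot ▸ hx))
  haveI : Subsingleton M := ⟨fun a b => (Subgroup.mem_bot.1 (hM.le (mem_top a))).trans
    (Subgroup.mem_bot.1 (hM.le (mem_top b))).symm⟩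
  rw [Nat.card_unique]
  exact Nat.one_le_pow _ _ hp.out.pos

end Fam

end Cfsg.Agent.H91.Rank3
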