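import Cfsg.Agent.H91.Rank3.Setup

/-!
An essential subgroup has index `p` in its normalizer, for every odd `p`, when the sectional rank is three.
-/

set_option autoImplicit false
set_option linter.unusedSectionVars false
set_option linter.style.haveILetI false

namespace Cfsg.Agent.H91.Rank3

open Subgroup
open Cfsg Cfsg.FusionSystem Cfsg.Agent.FusionSys
open Cfsg.FusionSystem (centralizerIn normalizerIn)
open Cfsg.Agent.H49 (frattiniQuot frattiniQuot_mk)
open scoped commutatorElement

variable {p : ℕ} [hp : Fact p.Prime]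

/-- The Sylow subgroup of the image on a Frattini quotient of order at most `p ^ 3`. -/
theorem card_sylow_image {H : Type*} [Group H] [Finite H] (hH : IsPGroup p H)
    (hidx : (frattini H).index ≤ p ^ 3) {G : Subgroup (MulAut H)} (A : Sylow p (G.map (frattiniQuot H)))
    (Y : Subgroup (G.map (frattiniQuot H))) (hY : Y ≠ ⊤) (hA : (A : Subgroup (G.map (frattiniQuot H))) ≠ ⊥)
    (hemb : ∀ Q : Subgroup (G.map (frattiniQuot H)), Q ≤ A → Q ≠ ⊥ →
      Subgroup.normalizer (Q : Set (G.map (frattiniQuot H))) ≤ Y) :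
    Nat.card (A : Subgroup (G.map (frattiniQuot H))) = p := by
  let X := G.map (frattiniQuot H)
  letI : CommGroup (H ⧸ frattini H) :=
    { (inferInstance : Group (H ⧸ frattini H)) with
      mul_comm := fun x y => by
        obtain ⟨u, rfl⟩ := QuotientGroup.mk'_surjective (frattini H) x
        obtain ⟨v, rfl⟩ := QuotientGroup.mk'_surjective (frattini H) y
        rw [← commutatorElement_eq_one_iff_mul_comm, ← map_commutatorElement]
        exact (QuotientGroup.eq_one_iff _).2 (PGroups.commutator_le_frattini hH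
          (Subgroup.commutator_mem_commutator (mem_top u) (mem_top v))) }
  haveI := finite_aut (G := H ⧸ frattini H)
  have hexp : ∀ v : H ⧸ frattini H, v ^ p = 1 := H49.quot_pow hH
  obtain ⟨k, hk⟩ := hH.index (H := frattini H)
  have hV : Nat.card (H ⧸ frattini H) = p ^ k := by rw [← Subgroup.index_eq_card, hk]
  have hk3 : k ≤ 3 := (Nat.pow_le_pow_iff_right hp.out.one_lt).1 (hk ▸ hidx)
  have hk2 : 2 ≤ k := by
    by_contra hlt
    obtain ⟨j, hj⟩ := IsPGroup.iff_card.1 A.isPGroup'
    have hj0 : j ≠ 0 := fun h => hA (Subgroup.card_eq_one.1 (by rw [hj, h, pow_zero]))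
    obtain ⟨z, hz⟩ := exists_prime_orderOf_dvd_card' (G := (A : Subgroup X)) p (hj ▸ dvd_pow_self p hj0)
    have hzp : ((z : X) : MulAut (H ⧸ frattini H)) ^ p = 1 := by
      have h1 : z ^ p = 1 := orderOf_dvd_iff_pow_eq_one.1 hz.dvd
      rw [← Subgroup.coe_pow, ← Subgroup.coe_pow, h1]
      rfl
    have : ((z : X) : MulAut (H ⧸ frattini H)) = 1 := by
      rcases Nat.lt_or_ge k 1 with h | h
      · haveI : Subsingleton (H ⧸ frattini H) :=
          (Nat.card_eq_one_iff_unique.1 (by rw [hV, show k = 0 by omega, pow_zero])).1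
        exact MulEquiv.ext fun v => Subsingleton.elim _ _
      · exact aut_prime_trivial (by rw [hV, show k = 1 by omega, pow_one]) hzp
    have hz1 : z = 1 := Subtype.ext (Subtype.ext this)
    rw [hz1, orderOf_one] at hz
    exact hp.out.one_lt.ne hz
  rcases Nat.lt_or_ge k 3 with h | h
  · exact (rank_two_data hexp (by rw [hV, show k = 2 by omega]) A Y hY hA hemb).1
  · exact card_sylow_rank_three hexp (by rw [hV, show k = 3 by omega]) A Y hY hA hemb

variable {Ω : Type*} [Group Ω] {S : Subgroup Ω} [Finite S] {F : FusionSystem S}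

/-- The index in the normalizer. -/
theorem index_normalizerIn (hS : IsPGroup p S) (hF : F.IsSaturated p) (hsr : Cfsg.SectionalPRankLE p 3 S)
    {E : Subgroup Ω} (hE : F.IsEssential p E) : (E.subgroupOf (normalizerIn S E)).index = p := by
  classical
  obtain ⟨⟨hES, hcen⟩, hEn, hn, Y0, hY0⟩ := id hE
  haveI : Finite E := finite_of_le hES
  haveI : Finite (normalizerIn S E) := finite_of_le normalizerIn_le
  haveI := finite_autGroup F hES
  have hEp : IsPGroup p E := hS.to_le hES
  have hC : centralizerIn S E ≤ E := centralizerIn_le_of_isCentric hE.1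
  set G := F.autGroup E
  set fq := frattiniQuot E
  set π := QuotientGroup.mk' (frattini E)
  set I := (Inn E).subgroupOf G
  have happ : ∀ (ω : MulAut E) (x : E), π (ω x) = fq ω (π x) := fun ω x => (frattiniQuot_mk ω x).symm
  have hfqinn : ∀ ω ∈ Inn E, fq ω = 1 := by
    rintro _ ⟨e, rfl⟩
    refine MulEquiv.ext fun v => ?_
    obtain ⟨x, rfl⟩ := QuotientGroup.mk'_surjective (frattini E) v
    rw [← happ, MulAut.conj_apply, MulAut.one_apply]
    refine (QuotientGroup.eq.2 ?_).symm
    rw [show x⁻¹ * (e * x * e⁻¹) = ⁅x⁻¹, e⁆ by rw [commutatorElement_def]; group]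
    exact PGroups.commutator_le_frattini hEp (commutator_mem_commutator (mem_top _) (mem_top _))
  have hkerI : ∀ g : G, fq (g : MulAut E) = 1 → g ∈ I := fun g hg => by
    have hle' : ((fq.comp G.subtype).ker : Subgroup G) ≤ pCore p G :=
      le_sSup (show (fq.comp G.subtype).ker ∈ {K : Subgroup G | K.Normal ∧ IsPGroup p K} from
        ⟨inferInstance, H49.isPGroup_ker hEp G⟩)
    exact Subgroup.mem_subgroupOf.2 ((isRadical_of_isEssential hS hE).2.le ⟨g, hle' hg, rfl⟩)
  set ρ := fq.subgroupMap G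
  have hρ : Function.Surjective ρ := MonoidHom.subgroupMap_surjective _ _
  set σI := QuotientGroup.mk' I
  have hσI : Function.Surjective σI := QuotientGroup.mk'_surjective _
  have hker : ρ.ker = I := by
    ext g
    rw [MonoidHom.mem_ker, Subtype.ext_iff]
    exact ⟨hkerI g, fun h => hfqinn _ (Subgroup.mem_subgroupOf.1 h)⟩
  have hkerσ : σI.ker = I := QuotientGroup.ker_mk' I
  obtain ⟨-, AG, hAG⟩ := isFullyAutomized_of_isFullyNormalized hS hF hEn
  have hIA : I ≤ (AG : Subgroup G) := by
    rw [hAG]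
    exact fun g hg => inn_le_autInducedBy hES hg
  obtain ⟨Y1, hY1, hA1, hemb1⟩ := exists_stronglyEmbedded_over hY0 (AG.mapSurjective hσI)
  rw [Sylow.coe_mapSurjective] at hA1 hemb1
  set AX := AG.mapSurjective hρ
  have hAXc : (AX : Subgroup (G.map fq)) = (AG : Subgroup G).map ρ := Sylow.coe_mapSurjective _ _
  have hcomap : (AX : Subgroup (G.map fq)).comap ρ = AG := by
    rw [hAXc, Subgroup.comap_map_eq, hker, sup_eq_left.2 hIA]
  obtain ⟨Y, hY, hA, hemb⟩ : ∃ Y : Subgroup (G.map fq), Y ≠ ⊤ ∧ (AX : Subgroup (G.map fq)) ≠ ⊥ ∧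
      ∀ Q : Subgroup (G.map fq), Q ≤ AX → Q ≠ ⊥ → Subgroup.normalizer (Q : Set (G.map fq)) ≤ Y := by
    refine ⟨(Y1.comap σI).map ρ, fun h => hY1 ?_, fun h => hA1 ?_, fun Q hQ hQne x hx => ?_⟩
    · have h' := congrArg (Subgroup.comap ρ) h
      rw [Subgroup.comap_map_eq, Subgroup.comap_top, hker,
        sup_eq_left.2 (hkerσ.ge.trans (Subgroup.ker_le_comap σI Y1))] at h'
      rw [← Subgroup.map_comap_eq_self_of_surjective hσI Y1, h', Subgroup.map_top_of_surjective _ hσI]
    · rw [Subgroup.map_eq_bot_iff, hkerσ, ← hker, ← Subgroup.map_eq_bot_iff, ← hAXc]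
      exact h
    · obtain ⟨g, rfl⟩ := hρ x
      refine ⟨g, hemb1 ((Q.comap ρ).map σI) (Subgroup.map_mono ((Subgroup.comap_mono hQ).trans hcomap.le))
        (fun h => hQne ?_) (Subgroup.le_normalizer_map σI ⟨g, ?_, rfl⟩), rfl⟩
      · rw [Subgroup.map_eq_bot_iff, hkerσ, ← hker] at h
        rw [← Subgroup.map_comap_eq_self_of_surjective hρ Q, Subgroup.map_eq_bot_iff]
        exact h
      · refine Subgroup.mem_normalizer_iff.2 fun h => ?_
        rw [Subgroup.mem_comap, Subgroup.mem_comap, map_mul, map_mul, map_inv]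
        exact Subgroup.mem_normalizer_iff.1 hx _
  have hidx : (frattini E).index ≤ p ^ 3 := by
    rw [← Subgroup.relIndex_top_right]
    exact relIndex_le_cube
      (sectional_of_injective (Subgroup.inclusion hES) (Subgroup.inclusion_injective hES) hsr)
      (fun x _ y _ => PGroups.commutator_le_frattini hEp (commutator_mem_commutator (mem_top _) (mem_top _)))
      (fun x _ => PGroups.pow_mem_frattini hEp x)
  have hAc := card_sylow_image hEp hidx AX Y hY hA hemb
  let φ : ↥(normalizerIn S E) →* MulAut (E ⧸ frattini E) :=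
    fq.comp ((conjAutHom E).comp (Subgroup.inclusion (inf_le_right : normalizerIn S E ≤ _)))
  have hφ : ∀ x : ↥(normalizerIn S E), φ x = fq (conjAut x.2.2) := fun x => rfl
  have hconjG : ∀ x : ↥(normalizerIn S E), conjAut x.2.2 ∈ G := fun x => conjAut_mem_autGroup F hES x.2
  have hφker : φ.ker = E.subgroupOf (normalizerIn S E) := by
    ext x
    rw [MonoidHom.mem_ker, hφ, Subgroup.mem_subgroupOf]
    constructor
    · intro h
      exact mem_of_conjAut_mem_inn hC hES x.2.1 x.2.2 (Subgroup.mem_subgroupOf.1 (hkerI ⟨_, hconjG x⟩ h))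
    · intro hx
      exact hfqinn _ ⟨⟨x, hx⟩, MulEquiv.ext fun y => Subtype.ext rfl⟩
  have hφrange : φ.range = imA AX := by
    refine le_antisymm ?_ ?_
    · rintro _ ⟨x, rfl⟩
      refine ⟨ρ ⟨_, hconjG x⟩, ?_, rfl⟩
      rw [hAXc]
      exact ⟨_, hAG.ge (mem_autInducedBy.2 ⟨x, x.2.1, x.2.2, rfl⟩ : conjAut x.2.2 ∈ autInducedBy S E), rfl⟩
    · rintro _ ⟨y, hy, rfl⟩
      obtain ⟨g, hg, rfl⟩ := hAXc.le hy
      obtain ⟨x, hxS, hxn, he⟩ := mem_autInducedBy.1 (hAG.le hg)
      exact ⟨⟨x, hxS, hxn⟩, (hφ _).trans (congrArg fq he.symm)⟩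
  rw [← hφker, Subgroup.index_ker, hφrange]
  exact (Subgroup.card_map_of_injective (G.map fq).subtype_injective).trans hAc

end Cfsg.Agent.H91.Rank3
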