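import Cfsg.Agent.H91.Rank3.FamMain
import Cfsg.Agent.H91.Rank3.IndexNormal
import Cfsg.Agent.H91.Small.Essential

/-!
The family of a saturated fusion system: normal subgroups of index `p`, centric, with `Aut_S` not normal.
-/

set_option autoImplicit false
set_option linter.unusedSectionVars false
set_option linter.style.haveILetI false

namespace Cfsg.Agent.H91.Rank3

open Subgroup
open Cfsg Cfsg.FusionSystem Cfsg.Agent.FusionSys
open Cfsg.FusionSystem (centralizerIn normalizerIn)

variable {Ω : Type*} [Group Ω] {S : Subgroup Ω} [Finite S] {p : ℕ} [hp : Fact p.Prime] (F : FusionSystem S)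

/-- The automorphisms on a subgroup of the group `S`. -/
noncomputable def grp (E : Subgroup S) : Subgroup (MulAut E) :=
  (F.autGroup (E.map S.subtype)).comap
    (MulAut.congr (E.equivMapOfInjective S.subtype S.subtype_injective)).toMonoidHom

/-- The members. -/
def Good (p : ℕ) (E : Subgroup S) : Prop :=
  E.index = p ∧ (∀ m : S, (∀ e ∈ E, Commute m e) → m ∈ E) ∧
    ∃ α ∈ grp F E, ∃ β ∈ indM E, α * β * α⁻¹ ∉ indM E

theorem mem_grp {E : Subgroup S} {α : MulAut E} :
    α ∈ grp F E ↔ IsMap F (E.map S.subtype) (autMap (MulAut.congr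
      (E.equivMapOfInjective S.subtype S.subtype_injective) α)) := by
  rw [grp, Subgroup.mem_comap, mem_autGroup_iff (map_subtype_le E)]
  rfl

theorem coe_congr {E : Subgroup S} (α : MulAut E) (x : E) :
    autMap (MulAut.congr (E.equivMapOfInjective S.subtype S.subtype_injective) α) ((x : S) : Ω) =
      ((α x : S) : Ω) := by
  rw [show ((x : S) : Ω) = S.subtype (x : S) from rfl, autMap_apply _ (Subgroup.mem_map_of_mem S.subtype x.2)]
  show (((E.equivMapOfInjective S.subtype S.subtype_injective)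
      (α ((E.equivMapOfInjective S.subtype S.subtype_injective).symm ⟨_, _⟩)) : E.map S.subtype) : Ω) = _
  have hx : (E.equivMapOfInjective S.subtype S.subtype_injective).symm
      ⟨S.subtype (x : S), Subgroup.mem_map_of_mem S.subtype x.2⟩ = x := by
    rw [MulEquiv.symm_apply_eq]
    exact Subtype.ext rfl
  rw [hx]
  rfl

theorem mem_normalizer_map {E : Subgroup S} (hE : E.Normal) {s : Ω} (hs : s ∈ S) :
    s ∈ Subgroup.normalizer ((E.map S.subtype : Subgroup Ω) : Set Ω) := by
  haveI : Finite (E.map S.subtype) := finite_of_le (map_subtype_le E)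
  refine mem_normalizer_of_maps fun y hy => ?_
  obtain ⟨x, hx, rfl⟩ := hy
  exact ⟨⟨s, hs⟩ * x * ⟨s, hs⟩⁻¹, hE.conj_mem x hx _, rfl⟩

theorem mem_indM_iff {E : Subgroup S} (hE : E.Normal) (α : MulAut E) :
    α ∈ indM E ↔ MulAut.congr (E.equivMapOfInjective S.subtype S.subtype_injective) α ∈
      autInducedBy S (E.map S.subtype) := by
  rw [mem_autInducedBy]
  constructor
  · rintro ⟨m, hm⟩
    refine ⟨m, m.2, mem_normalizer_map hE m.2, MulEquiv.ext fun y => Subtype.ext ?_⟩
    obtain ⟨x, hx, he⟩ := y.2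
    rw [coe_conjAut, ← autMap_coe, ← he]
    exact (coe_congr α ⟨x, hx⟩).trans (congrArg Subtype.val (hm ⟨x, hx⟩))
  · rintro ⟨s, hs, hn, he⟩
    refine ⟨⟨s, hs⟩, fun x => Subtype.ext ?_⟩
    rw [← coe_congr α x, he, show ((x : S) : Ω) = S.subtype (x : S) from rfl, autMap_conjAut hn (Subgroup.mem_map_of_mem S.subtype x.2)]
    rfl

theorem aut_mem {γ : MulAut S} (hγ : γ ∈ F.autGroup S) {E : Subgroup S} {α : MulAut E} (hα : α ∈ grp F E) :
    ∃ β ∈ grp F (E.map (γ : S ≃* S).toMonoidHom), ∀ x : E,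
      (β ⟨γ (x : S), (x : S), x.2, rfl⟩ : S) = γ (α x : S) := by
  set E' := E.map (γ : S ≃* S).toMonoidHom
  set e := E.equivMapOfInjective (γ : S ≃* S).toMonoidHom γ.injective
  refine ⟨MulAut.congr e α, ?_, fun x => ?_⟩
  · rw [mem_grp] at hα ⊢
    have hγi : IsMap F S (autMap γ⁻¹) := (mem_autGroup_iff le_rfl).1 (inv_mem hγ)
    have hγm : IsMap F S (autMap γ) := (mem_autGroup_iff le_rfl).1 hγ
    have h1 : ∀ y ∈ E'.map S.subtype, autMap γ⁻¹ y ∈ E.map S.subtype := by
      rintro _ ⟨_, ⟨x, hx, rfl⟩, rfl⟩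
      refine ⟨x, hx, ?_⟩
      rw [Subgroup.coe_subtype, autMap_coe]
      exact congrArg Subtype.val (MulAut.inv_apply_self S γ x).symm
    refine (((hγi.mono (map_subtype_le E')).comp hα h1).comp hγm
      (fun y hy => map_subtype_le E (autMap_mem _ (h1 y hy)))).congr ?_
    rintro _ ⟨_, ⟨x, hx, rfl⟩, rfl⟩
    simp only [Function.comp_apply, Subgroup.coe_subtype, MulEquiv.coe_toMonoidHom]
    rw [autMap_coe γ⁻¹, MulAut.inv_apply_self, coe_congr α ⟨x, hx⟩, autMap_coe,
      show γ x = ((e ⟨x, hx⟩ : E') : S) from rfl, coe_congr _ (e ⟨x, hx⟩)]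
    show (((e (α (e.symm (e ⟨x, hx⟩)))) : E') : S).1 = _
    rw [MulEquiv.symm_apply_apply]
    rfl
  · show ((e (α (e.symm ⟨γ (x : S), _⟩))) : S) = _
    rw [show (⟨γ (x : S), (x : S), x.2, rfl⟩ : E') = e x from Subtype.ext rfl, MulEquiv.symm_apply_apply]
    rfl

theorem good_map {γ : MulAut S} (hγ : γ ∈ F.autGroup S) {E : Subgroup S} (hE : Good F p E) :
    Good F p (E.map (γ : S ≃* S).toMonoidHom) := by
  obtain ⟨hidx, hc, α, hα, β, hβ, hne⟩ := hE
  refine ⟨(Subgroup.index_map_equiv _ _).trans hidx, fun m hm => ?_, ?_⟩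
  · refine ⟨γ⁻¹ m, hc _ fun e he => ?_, MulAut.apply_inv_self S γ m⟩
    have := (hm (γ e) ⟨e, he, rfl⟩).map (γ⁻¹ : MulAut S).toMonoidHom
    simpa using this
  · obtain ⟨α', hα', hα'e⟩ := aut_mem F hγ hα
    obtain ⟨m, hm⟩ := hβ
    set e := E.equivMapOfInjective (γ : S ≃* S).toMonoidHom γ.injective
    refine ⟨α', hα', MulAut.congr e β, ⟨γ m, fun y => ?_⟩, ?_⟩
    · obtain ⟨x, rfl⟩ := e.surjective y
      show ((e (β (e.symm (e x)))) : S) = _
      rw [MulEquiv.symm_apply_apply]
      show γ (β x : S) = γ m * γ x * (γ m)⁻¹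
      rw [hm, map_mul, map_mul, map_inv]
    · rintro ⟨m', hm'⟩
      refine hne ⟨γ⁻¹ m', fun x => γ.injective ?_⟩
      have hα'e' : α' = MulAut.congr e α := MulEquiv.ext fun y => Subtype.ext (by
        obtain ⟨x, rfl⟩ := e.surjective y
        show (α' (e x) : S) = ((e (α (e.symm (e x)))) : S)
        rw [MulEquiv.symm_apply_apply]
        exact hα'e x)
      have h := hm' (e x)
      rw [hα'e', ← map_inv (MulAut.congr e), ← map_mul, ← map_mul] at h
      change ((e ((α * β * α⁻¹) (e.symm (e x)))) : S) = _ at h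
      rw [MulEquiv.symm_apply_apply] at h
      rw [map_mul, map_mul, map_inv, MulAut.apply_inv_self]
      exact h

variable {F}

/-- The family cut out by an invariant predicate. -/
theorem exists_fam (P : Subgroup S → Prop)
    (hP : ∀ γ ∈ F.autGroup S, ∀ E, P E → P (E.map (γ : S ≃* S).toMonoidHom))
    (hS : IsPGroup p S) (hp2 : p ≠ 2) (hsr : Cfsg.SectionalPRankLE p 3 S)
    (hF : F.IsSaturated p) :
    ∃ Φ : Fam p S, Φ.Γ = F.autGroup S ∧ (∀ E, Φ.Ess E ↔ P E ∧ Good F p E) ∧ ∀ E, Φ.G E = grp F E := by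
  haveI := finite_autGroup F (le_refl S)
  obtain ⟨-, R, hR⟩ := isFullyAutomized_of_isFullyNormalized hS hF (isFullyNormalized_S F)
  haveI hRn : (R : Subgroup (F.autGroup S)).Normal := by
    rw [hR, ← inn_eq_autInducedBy_self]; exact inn_subgroupOf_normal S _
  refine ⟨{
    isP := hS
    odd := hp2
    rank := hsr
    Γ := F.autGroup S
    inner := fun g => ?_
    r := (R : Subgroup (F.autGroup S)).index
    coprime := R.not_dvd_index
    pow := fun γ hγ => ?_
    Ess := fun E => P E ∧ Good F p E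
    G := grp F
    index := fun h => h.2.1
    centric := fun h => h.2.2.1
    indG := fun {E} h => ?_
    sylow := fun {E} h K hK hKp hle => ?_
    notNormal := fun h => h.2.2.2
    ext := fun {E} h α hα hn => ?_
    transport := fun h γ hγ => ⟨⟨hP γ hγ _ h.1, good_map F hγ h.2⟩, fun α hα => aut_mem F hγ hα⟩ },
    rfl, fun E => Iff.rfl, fun E => rfl⟩
  · have he : MulAut.conj g = conjAut (Subgroup.le_normalizer g.2) :=
      MulEquiv.ext fun x => Subtype.ext rfl
    rw [he]
    exact conjAut_mem_autGroup F le_rfl ⟨g.2, Subgroup.le_normalizer g.2⟩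
  · have h := Subgroup.pow_index_mem (R : Subgroup (F.autGroup S)) ⟨γ, hγ⟩
    generalize (R : Subgroup (F.autGroup S)).index = r at h ⊢
    rw [hR, Subgroup.mem_subgroupOf, ← inn_eq_autInducedBy_self] at h
    obtain ⟨g, hg⟩ := h
    exact ⟨g, hg.symm⟩
  all_goals
    have hEn : E.Normal := (mem_of_index_eq hS h.2.1).1
    have hle' : E.map S.subtype ≤ S := map_subtype_le E
    set c := MulAut.congr (E.equivMapOfInjective S.subtype S.subtype_injective)
  · intro f hf
    obtain ⟨s, hs, hn, he⟩ := mem_autInducedBy.1 ((mem_indM_iff hEn f).1 hf)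
    rw [grp, Subgroup.mem_comap]
    show c f ∈ _
    rw [he]
    exact conjAut_mem_autGroup F hle' ⟨hs, hn⟩
  · haveI : Finite (normalizerIn S (E.map S.subtype)) := finite_of_le normalizerIn_le
    have hfn : F.IsFullyNormalized (E.map S.subtype) :=
      ⟨hle', fun R _ => Subgroup.card_le_of_le fun x hx => ⟨hx.1, mem_normalizer_map hEn hx.1⟩⟩
    intro f hf
    refine (mem_indM_iff hEn f).2 (Small.le_autInducedBy hS hF hfn (K := K.map c.toMonoidHom) ?_ (hKp.map _) ?_
      ⟨f, hf, rfl⟩)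
    · rintro _ ⟨k, hk, rfl⟩
      exact hK hk
    · intro g hg
      exact ⟨c.symm g, hle ((mem_indM_iff hEn _).2 (by rwa [MulEquiv.apply_symm_apply])),
        c.apply_symm_apply g⟩
  · have hcS : S ≤ Subgroup.normalizer ((E.map S.subtype : Subgroup Ω) : Set Ω) :=
      fun s hs => mem_normalizer_map hEn hs
    obtain ⟨t, ht, hte⟩ := Small.extend_normal hS hF hle' hcS (α := c α) hα fun s hs => by
      have hb : c.symm (conjAut (hcS hs)) ∈ indM E := (mem_indM_iff hEn _).2 (by
        rw [MulEquiv.apply_symm_apply]; exact mem_autInducedBy.2 ⟨s, hs, hcS hs, rfl⟩)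
      have h1 := (mem_indM_iff hEn _).1 (hn _ hb)
      rwa [map_mul, map_mul, map_inv, MulEquiv.apply_symm_apply] at h1
    refine ⟨t, ht, fun x => Subtype.ext ?_⟩
    rw [← autMap_coe t (x : S), show ((x : S) : Ω) = S.subtype (x : S) from rfl,
      hte _ (Subgroup.mem_map_of_mem S.subtype x.2)]
    exact coe_congr α x

/-- Normal essential subgroups are members. -/
theorem good_of_essential (hS : IsPGroup p S) (hsr : Cfsg.SectionalPRankLE p 3 S) (hF : F.IsSaturated p)
    {E : Subgroup Ω} (hE : F.IsEssential p E) (hn : S ≤ Subgroup.normalizer (E : Set Ω)) :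
    Good F p (E.subgroupOf S) := by
  have hES := hE.1.1
  have hN : normalizerIn S E = S := le_antisymm normalizerIn_le fun x hx => ⟨hx, hn hx⟩
  have hidx := index_normalizerIn hS hF hsr hE
  rw [hN] at hidx
  have hmap : (E.subgroupOf S).map S.subtype = E := by rw [Subgroup.subgroupOf_map_subtype, inf_eq_left.2 hES]
  haveI hnorm := (mem_of_index_eq hS hidx).1
  refine ⟨hidx, fun m hm => ?_, ?_⟩
  · exact Subgroup.mem_subgroupOf.2 (centralizerIn_le_of_isCentric hE.1 (FusionSys.mem_centralizerIn.2 ⟨m.2,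
      fun y hy => congrArg Subtype.val (hm ⟨y, hES hy⟩ (Subgroup.mem_subgroupOf.2 hy)).symm.eq⟩))
  by_contra hno
  push Not at hno
  set c := MulAut.congr ((E.subgroupOf S).equivMapOfInjective S.subtype S.subtype_injective)
  have key : ∀ E' : Subgroup Ω, E' = E → (autInducedBy S E').subgroupOf (F.autGroup E') ≤ pCore p (F.autGroup E') →
      False := by
    rintro E' rfl hle
    refine (lt_of_isEssential hS hF hE).not_ge fun s hs => ?_
    have hmem : conjAut (hn hs) ∈ Inn E' := by
      refine (isRadical_of_isEssential hS hE).2.le ⟨⟨_, conjAut_mem_autGroup F hES ⟨hs, hn hs⟩⟩, hle ?_, rfl⟩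
      exact Subgroup.mem_subgroupOf.2 (mem_autInducedBy.2 ⟨s, hs, hn hs, rfl⟩)
    exact mem_of_conjAut_mem_inn (centralizerIn_le_of_isCentric hE.1) hES hs (hn hs) hmem
  refine key _ hmap (le_sSup ⟨⟨fun g hg a => ?_⟩, ?_⟩)
  · rw [Subgroup.mem_subgroupOf] at hg ⊢
    have hga := hno (c.symm (a : MulAut _)) (by
      rw [grp, Subgroup.mem_comap]
      show c (c.symm _) ∈ _
      rw [MulEquiv.apply_symm_apply]; exact a.2) (c.symm (g : MulAut _))
      ((mem_indM_iff hnorm _).2 (by rw [MulEquiv.apply_symm_apply]; exact hg))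
    rw [← map_inv, ← map_mul, ← map_mul, mem_indM_iff hnorm, MulEquiv.apply_symm_apply] at hga
    exact hga
  · haveI : Finite (normalizerIn S ((E.subgroupOf S).map S.subtype)) := finite_of_le normalizerIn_le
    refine IsPGroup.comap_subtype ?_
    rw [← range_conjAutIn]
    exact (hS.to_le normalizerIn_le).of_surjective _ (conjAutIn S _).rangeRestrict_surjective

/-- An automorphism mapping a subgroup into itself fixes it. -/
theorem image_eq {P Q : Subgroup Ω} (hP : P ≤ S) (hQ : Q ≤ P) {α : MulAut P} (hα : α ∈ F.autGroup P)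
    (h : ∀ x ∈ Q, autMap α x ∈ Q) : autMap α '' (Q : Set Ω) = Q := by
  haveI := finite_of_le (hQ.trans hP)
  exact (((mem_autGroup_iff hP).1 hα).mono hQ).image_eq_of_mapsTo h

/-- With all essential subgroups normal, the family has no common subgroup. -/
theorem no_common (hS : IsPGroup p S) (hsr : Cfsg.SectionalPRankLE p 3 S) (hF : F.IsSaturated p)
    (hO : F.core = ⊥) (hall : ∀ E, F.IsEssential p E → S ≤ Subgroup.normalizer (E : Set Ω)) {Φ : Fam p S}
    (hΓ : Φ.Γ = F.autGroup S) (hEss : ∀ E, Good F p E → Φ.Ess E) (hG : ∀ E, Φ.G E = grp F E) {Q : Subgroup S}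
    (hQ : Φ.Common Q) : False := by
  obtain ⟨hne, hinv, hGinv⟩ := hQ
  set Q' := Q.map S.subtype
  have hQS : Q' ≤ S := map_subtype_le Q
  have hN : F.IsNormal Q' := isNormal_of_essential hS hF fun P hP => by
    rcases hP with rfl | hP
    · refine ⟨hQS, fun α hα => image_eq le_rfl hQS hα ?_⟩
      rintro _ ⟨x, hx, rfl⟩
      exact ⟨α x, hGinv α (hΓ ▸ hα) x hx, (autMap_coe α x).symm⟩
    · have hPS := hP.1.1
      set E := P.subgroupOf S with hEdef
      have hmap : E.map S.subtype = P := by rw [hEdef, Subgroup.subgroupOf_map_subtype, inf_eq_left.2 hPS]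
      obtain ⟨hQE, hQinv⟩ := hinv E (hEss E (good_of_essential hS hsr hF hP (hall P hP)))
      have hQP : Q' ≤ P := (Subgroup.map_mono hQE).trans hmap.le
      refine ⟨hQP, fun α hα => image_eq hPS hQP hα ?_⟩
      rintro _ ⟨x, hx, rfl⟩
      set c := MulAut.congr (E.equivMapOfInjective S.subtype S.subtype_injective)
      have key : ∀ P' : Subgroup Ω, P' = P → ∃ α' ∈ F.autGroup P', ∀ y, autMap α' y = autMap α y := by
        rintro P' rfl; exact ⟨α, hα, fun y => rfl⟩
      obtain ⟨α', hα', hαe⟩ := key _ hmap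
      have hβ : c.symm α' ∈ Φ.G E := by
        rw [hG, grp, Subgroup.mem_comap]
        show c (c.symm α') ∈ _
        rw [MulEquiv.apply_symm_apply]; exact hα'
      have h := hQinv _ hβ ⟨x, hQE hx⟩ hx
      refine ⟨_, h, ?_⟩
      rw [Subgroup.coe_subtype, ← hαe, ← coe_congr, MulEquiv.apply_symm_apply]
  have hle : Q' ≤ F.core := le_sSup (show Q' ∈ {R : Subgroup Ω | F.IsNormal R} from hN)
  have hbot := le_bot_iff.1 (hle.trans hO.le)
  exact hne ((Subgroup.map_eq_bot_iff_of_injective Q S.subtype_injective).1 hbot)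

end Cfsg.Agent.H91.Rank3
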