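import Cfsg.Agent.H91.Small.Transvection
import Cfsg.Agent.H49.RankTwoAut
import Cfsg.Agent.PGroups.Basic

/-!
Automorphism groups of elementary abelian groups of rank at most three with a strongly embedded subgroup:
the Sylow subgroup has order `p`, and its generator is regular unipotent or a transvection with a torus.
-/

set_option autoImplicit false
set_option linter.style.haveILetI false
set_option linter.unusedSectionVars false

namespace Cfsg.Agent.H91.Rank3

open Subgroup
open Cfsg.Agent.H90 (seriesStab seriesStab_isPGroup pow_apply_of_fix exists_pow_eq exists_pow_div_mem)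
open Cfsg.Agent.H91.Small (TvData)
open Cfsg.Agent.H91.Small.TvData (fixed)

variable {p : ℕ} [hp : Fact p.Prime] {E : Type*} [CommGroup E] [Finite E]

theorem fix_pow {G : Type*} [Group G] {δ : MulAut G} {v : G} (h : δ v = v) : ∀ k : ℕ, (δ ^ k) v = v
  | 0 => rfl
  | k + 1 => by rw [pow_succ, MulAut.mul_apply, h, fix_pow h k]

theorem finite_aut {G : Type*} [Group G] [Finite G] : Finite (MulAut G) :=
  Finite.of_injective (fun e : MulAut G => ((e : G ≃* G) : G → G)) DFunLike.coe_injective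

/-- The displacement of an automorphism of an abelian group. -/
def disp (z : MulAut E) : E →* E :=
  MonoidHom.mk' (fun v => v⁻¹ * z v) fun u v => by
    rw [map_mul, mul_inv_rev]
    simp [mul_assoc, mul_comm, mul_left_comm]

theorem disp_apply (z : MulAut E) (v : E) : disp z v = v⁻¹ * z v := rfl

theorem disp_eq_one {z : MulAut E} {v : E} : disp z v = 1 ↔ z v = v :=
  inv_mul_eq_one.trans eq_comm

section Frame

variable {X : Subgroup (MulAut E)} {A : Sylow p X} {Y : Subgroup X} {z : X} {a : E}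

/-- A transvection and a conjugate of it generate a torus and a Weyl element on a plane, centralising the
intersection of their axes. -/
theorem exists_frame (D : TvData p X A Y z a) (l : (ZMod p)ˣ) :
    ∃ (g τ s : X) (m : ℕ), g ∉ Y ∧ ¬ p ∣ m ∧
      ((z ^ m : X) : MulAut E) ((g : MulAut E) a) = (g : MulAut E) a * a ∧
      (τ : MulAut E) a = a ^ (l : ZMod p).val ∧
      (τ : MulAut E) ((g : MulAut E) a) = (g : MulAut E) a ^ ((l⁻¹ : (ZMod p)ˣ) : ZMod p).val ∧
      τ ^ (p - 1) = 1 ∧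
      (s : MulAut E) a = ((g : MulAut E) a)⁻¹ ∧ (s : MulAut E) ((g : MulAut E) a) = a ∧
      (∀ c, (z : MulAut E) c = c → ((g * z * g⁻¹ : X) : MulAut E) c = c →
        (τ : MulAut E) c = c ∧ (s : MulAut E) c = c) ∧
      ∀ v, ∃ (i j : ℕ) (c : E), v = a ^ i * (g : MulAut E) a ^ j * c ∧ (z : MulAut E) c = c ∧
        ((g * z * g⁻¹ : X) : MulAut E) c = c := by
  obtain ⟨g, hg⟩ : ∃ g : X, g ∉ Y := by
    by_contra h
    push Not at h
    exact D.ne (eq_top_iff.2 fun x _ => h x)
  set a' := (g : MulAut E) a with ha'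
  set v' : X := g * z * g⁻¹ with hv'
  have hva : (v' : MulAut E) a ≠ a := fun h => hg (D.mem_of_fix h)
  have hua : (z : MulAut E) a' ≠ a' := D.moved hg
  have hvfix : (v' : MulAut E) a' = a' := by
    simp only [hv', Subgroup.coe_mul, Subgroup.coe_inv, MulAut.mul_apply, ha', MulAut.inv_apply_self, D.fix]
  have hvd : a⁻¹ * (v' : MulAut E) a ∈ Subgroup.zpowers a' := by
    obtain ⟨i, hi⟩ := D.diff ((g : MulAut E)⁻¹ a)
    refine ⟨i, ?_⟩
    simp only at hi ⊢
    rw [← map_zpow, hi, map_mul, map_inv, MulAut.apply_inv_self]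
    simp only [hv', Subgroup.coe_mul, Subgroup.coe_inv, MulAut.mul_apply]
  have hca : Nat.card (Subgroup.zpowers a') = p := by
    rw [Nat.card_zpowers]
    exact orderOf_eq_prime (D.exp a') ((map_ne_one_iff _ (g : MulAut E).injective).2 D.ane)
  obtain ⟨m, hm⟩ := exists_pow_eq D.card_a (D.diff a')
    (fun h => hua (inv_mul_eq_one.1 h).symm) (Subgroup.mem_zpowers a)
  obtain ⟨m', hm'⟩ := exists_pow_eq hca hvd
    (fun h => hva (inv_mul_eq_one.1 h).symm) (Subgroup.mem_zpowers a')
  let f : ZMod p → ZMod p → E := fun i j => a ^ i.val * a' ^ j.val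
  have hpow : ∀ {b : E} (i j : ℕ), (i : ZMod p) = j → b ^ i = b ^ j := fun {b} i j hij => by
    rw [ZMod.natCast_eq_natCast_iff'] at hij
    rw [pow_eq_pow_mod i (D.exp b), pow_eq_pow_mod j (D.exp b), hij]
  let U : ZMod p → X := fun x => z ^ (m * x.val)
  let V : ZMod p → X := fun x => v' ^ (m' * x.val)
  have hUa : ∀ x, (U x : MulAut E) a = a := fun x => by
    simp only [U, SubmonoidClass.coe_pow]
    rw [pow_apply_of_fix _ (by simp [D.fix]), D.fix, inv_mul_cancel, one_pow, mul_one]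
  have hzfix : (z : MulAut E) (a'⁻¹ * (z : MulAut E) a') = a'⁻¹ * (z : MulAut E) a' := by
    obtain ⟨i, hi⟩ := D.diff a'
    simp only at hi
    rw [← hi, map_zpow, D.fix]
  have hvfix' : (v' : MulAut E) (a⁻¹ * (v' : MulAut E) a) = a⁻¹ * (v' : MulAut E) a := by
    obtain ⟨i, hi⟩ := hvd
    simp only at hi
    rw [← hi, map_zpow, hvfix]
  have hUd : ∀ x, (U x : MulAut E) a' = a' * a ^ x.val := fun x => by
    simp only [U, SubmonoidClass.coe_pow]
    rw [pow_apply_of_fix _ hzfix, pow_mul, hm]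
  have hVd : ∀ y, (V y : MulAut E) a = a * a' ^ y.val ∧ (V y : MulAut E) a' = a' := fun y => by
    simp only [V, SubmonoidClass.coe_pow]
    refine ⟨by rw [pow_apply_of_fix _ hvfix', pow_mul, hm'], ?_⟩
    rw [pow_apply_of_fix _ (by simp [hvfix]), hvfix, inv_mul_cancel, one_pow, mul_one]
  have hU : ∀ x i j, (U x : MulAut E) (f i j) = f (i + x * j) j := fun x i j => by
    simp only [f, map_mul, map_pow, hUa, hUd]
    rw [mul_pow, ← pow_mul, mul_comm (a' ^ j.val), ← mul_assoc, ← pow_add]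
    congr 1
    refine hpow _ _ ?_
    simp
  have hV : ∀ y i j, (V y : MulAut E) (f i j) = f i (j + y * i) := fun y i j => by
    simp only [f, map_mul, map_pow, (hVd y).1, (hVd y).2]
    rw [mul_pow, ← pow_mul, mul_assoc, ← pow_add]
    congr 1
    refine hpow _ _ ?_
    simp
    ring
  let W : (ZMod p)ˣ → X := fun x => U x * V (-((x⁻¹ : (ZMod p)ˣ) : ZMod p)) * U x
  have hW : ∀ (x : (ZMod p)ˣ) i j, (W x : MulAut E) (f i j) =
      f (x * j) (-((x⁻¹ : (ZMod p)ˣ) : ZMod p) * i) := fun x i j => by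
    simp only [W, Subgroup.coe_mul, MulAut.mul_apply, hU, hV]
    congr 1
    · linear_combination (-(i + (x : ZMod p) * j)) * x.mul_inv
    · linear_combination (-j) * x.inv_mul
  have h1p : ((1 : ZMod p)).val = 1 := ZMod.val_one p
  have h0p : (0 : ZMod p).val = 0 := ZMod.val_zero
  have hfa : f 1 0 = a := by simp [f, h1p]
  have hfa' : f 0 1 = a' := by simp [f, h1p]
  have hWc : ∀ (x : (ZMod p)ˣ) c, (z : MulAut E) c = c → (v' : MulAut E) c = c →
      (W x : MulAut E) c = c := fun x c hzc hvc => by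
    have hUc : ∀ x, (U x : MulAut E) c = c := fun x => by
      simp only [U, SubmonoidClass.coe_pow]
      rw [pow_apply_of_fix _ (by simp [hzc]), hzc, inv_mul_cancel, one_pow, mul_one]
    have hVc : ∀ x, (V x : MulAut E) c = c := fun x => by
      simp only [V, SubmonoidClass.coe_pow]
      rw [pow_apply_of_fix _ (by simp [hvc]), hvc, inv_mul_cancel, one_pow, mul_one]
    simp only [W, Subgroup.coe_mul, MulAut.mul_apply, hUc, hVc]
  have hT : ∀ i j, ((W l * W (-1) : X) : MulAut E) (f i j) =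
      f ((l : ZMod p) * i) (((l⁻¹ : (ZMod p)ˣ) : ZMod p) * j) := fun i j => by
    have e : (((-1 : (ZMod p)ˣ)⁻¹ : (ZMod p)ˣ) : ZMod p) = -1 :=
      inv_eq_of_mul_eq_one_left (a := ((-1 : (ZMod p)ˣ))) (by rw [neg_mul_neg, mul_one]) ▸ rfl
    rw [Subgroup.coe_mul, MulAut.mul_apply, hW, hW, e]
    congr 1
    · ring
    · rw [Units.val_neg, Units.val_one]
      ring
  have hTa : ((W l * W (-1) : X) : MulAut E) a = a ^ (l : ZMod p).val := by
    conv_lhs => rw [← hfa]
    rw [hT]
    simp only [f, mul_one, mul_zero, h0p, pow_zero]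
  have hTa' : ((W l * W (-1) : X) : MulAut E) a' = a' ^ ((l⁻¹ : (ZMod p)ˣ) : ZMod p).val := by
    conv_lhs => rw [← hfa']
    rw [hT]
    simp only [f, mul_one, mul_zero, h0p, pow_zero, one_mul]
  have hTc : ∀ c, (z : MulAut E) c = c → (v' : MulAut E) c = c →
      ((W l * W (-1) : X) : MulAut E) c = c := fun c h1 h2 => by
    rw [Subgroup.coe_mul, MulAut.mul_apply, hWc _ c h1 h2, hWc _ c h1 h2]
  have hdec : ∀ v, ∃ (i j : ℕ) (c : E), v = a ^ i * a' ^ j * c ∧ (z : MulAut E) c = c ∧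
      (v' : MulAut E) c = c := fun v => by
    obtain ⟨j, hj⟩ := exists_pow_div_mem D.index_fixed (a := a') (fun h => hua h) v
    obtain ⟨i, hi⟩ := D.fixed_dec hg (v * (a' ^ j)⁻¹)
    refine ⟨i, j, v * (a' ^ j)⁻¹ * (a ^ i)⁻¹, ?_, ?_, hi⟩
    · rw [mul_comm (a ^ i * a' ^ j)]
      group
    · rw [map_mul, map_inv, map_pow, D.fix]
      exact congrArg (· * (a ^ i)⁻¹) hj
  refine ⟨g, W l * W (-1), W 1, m, hg, fun hd => ?_, ?_, hTa, hTa', ?_, ?_, ?_,
    fun c h1 h2 => ⟨hTc c h1 h2, hWc 1 c h1 h2⟩, hdec⟩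
  · obtain ⟨k, rfl⟩ := hd
    rw [pow_mul, D.exp, one_pow] at hm
    exact D.ane hm.symm
  · rw [← ha', SubmonoidClass.coe_pow, pow_apply_of_fix _ hzfix, hm]
  · have hl : ∀ (u : (ZMod p)ˣ) (b : E) (k : ℕ),
        ((W l * W (-1) : X) : MulAut E) b = b ^ (u : ZMod p).val →
        (((W l * W (-1)) ^ k : X) : MulAut E) b = b ^ ((u ^ k : (ZMod p)ˣ) : ZMod p).val := by
      intro u b k hb
      induction k with
      | zero => simp [ZMod.val_one p]
      | succ k ih =>
        rw [pow_succ, Subgroup.coe_mul, MulAut.mul_apply, hb, map_pow, ih, ← pow_mul]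
        refine hpow _ _ ?_
        simp [pow_succ]
    have hone : ∀ u : (ZMod p)ˣ, u ^ (p - 1) = 1 := fun u => ZMod.units_pow_card_sub_one_eq_one p u
    refine Subtype.ext (MulEquiv.ext fun v => ?_)
    obtain ⟨i, j, c, rfl, h1, h2⟩ := hdec v
    have hc : ∀ k : ℕ, (((W l * W (-1)) ^ k : X) : MulAut E) c = c := by
      intro k
      induction k with
      | zero => rfl
      | succ k ih => rw [pow_succ, Subgroup.coe_mul, MulAut.mul_apply, hTc c h1 h2, ih]
    rw [map_mul, map_mul, map_pow, map_pow, hl l a _ hTa, hl l⁻¹ a' _ hTa', hone, hone, hc]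
    simp [ZMod.val_one p]
  · conv_lhs => rw [← hfa]
    rw [hW]
    simp only [f, inv_one, Units.val_one, mul_one, mul_zero, h0p, pow_zero, one_mul]
    refine eq_inv_of_mul_eq_one_left ?_
    rw [← pow_succ]
    refine (hpow _ 0 ?_).trans (pow_zero _)
    simp
  · show (W 1 : MulAut E) a' = a
    conv_lhs => rw [← hfa']
    rw [hW]
    simp [f, h1p]

/-- If `Y` normalises the group of the transvection, the plane of centres and the common axis are invariant. -/
theorem frame_invariant (D : TvData p X A Y z a) (hY : ∀ y ∈ Y, ∃ e : ℕ, y * z * y⁻¹ = z ^ e)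
    {g : X} {m : ℕ} (hg : g ∉ Y)
    (hm : ((z ^ m : X) : MulAut E) ((g : MulAut E) a) = (g : MulAut E) a * a) (h : X) :
    (∀ c, (z : MulAut E) c = c → ((g * z * g⁻¹ : X) : MulAut E) c = c →
      (z : MulAut E) ((h : MulAut E) c) = (h : MulAut E) c ∧
        ((g * z * g⁻¹ : X) : MulAut E) ((h : MulAut E) c) = (h : MulAut E) c) ∧
    (∀ v ∈ zpowers a ⊔ zpowers ((g : MulAut E) a),
      (h : MulAut E) v ∈ zpowers a ⊔ zpowers ((g : MulAut E) a)) := by
  set a' := (g : MulAut E) a with ha'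
  set P := zpowers a ⊔ zpowers a'
  have hconj : ∀ (k : X) (v : E), ((k * z * k⁻¹ : X) : MulAut E) v = v ↔
      (z : MulAut E) ((k : MulAut E)⁻¹ v) = (k : MulAut E)⁻¹ v := fun k v => by
    rw [Subgroup.coe_mul, Subgroup.coe_mul, Subgroup.coe_inv, MulAut.mul_apply, MulAut.mul_apply]
    refine ⟨fun h => ?_, fun h => by rw [h, MulAut.apply_inv_self]⟩
    conv_rhs => rw [← h, MulAut.inv_apply_self]
  -- `Y` preserves the axis and the centre
  have hYa : ∀ y ∈ Y, (y : MulAut E) a ∈ zpowers a ∧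
      ∀ v, (z : MulAut E) v = v → (z : MulAut E) ((y : MulAut E) v) = (y : MulAut E) v := by
    intro y hy
    have hy' := Y.inv_mem hy
    obtain ⟨e, he⟩ := hY y hy
    refine ⟨?_, fun v hv => ?_⟩
    · obtain ⟨w, hw⟩ : ∃ w, w⁻¹ * (z : MulAut E) w ≠ 1 := by
        by_contra hcon
        push Not at hcon
        exact D.zne (Subtype.ext (MulEquiv.ext fun v => (inv_mul_eq_one.1 (hcon v)).symm))
      have hd := D.diff w
      obtain ⟨i, hi⟩ := exists_pow_eq D.card_a hd hw (Subgroup.mem_zpowers a)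
      have hya : (y : MulAut E) a = (y : MulAut E) (w⁻¹ * (z : MulAut E) w) ^ i := by
        conv_lhs => rw [← hi, map_pow]
      rw [hya]
      refine Subgroup.pow_mem _ ?_ i
      have hyz : (y : MulAut E) ((z : MulAut E) w) = ((z ^ e : X) : MulAut E) ((y : MulAut E) w) := by
        rw [← he, Subgroup.coe_mul, Subgroup.coe_mul, Subgroup.coe_inv, MulAut.mul_apply, MulAut.mul_apply,
          MulAut.inv_apply_self]
      rw [map_mul, map_inv, hyz]
      have : ∀ (k : ℕ) (v : E), v⁻¹ * ((z ^ k : X) : MulAut E) v ∈ zpowers a := by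
        intro k v
        rw [SubmonoidClass.coe_pow, pow_apply_of_fix _ (by
          obtain ⟨j, hj⟩ := D.diff v
          simp only at hj
          rw [← hj, map_zpow, D.fix]), inv_mul_cancel_left]
        exact Subgroup.pow_mem _ (D.diff v) k
      exact this e _
    · obtain ⟨e', he'⟩ := hY y⁻¹ hy'
      have h1 : ((y⁻¹ * z * y⁻¹⁻¹ : X) : MulAut E) v = v := by
        rw [he', SubmonoidClass.coe_pow]
        clear he'
        induction e' with
        | zero => rfl
        | succ k ih => rw [pow_succ, MulAut.mul_apply, hv, ih]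
      rw [hconj, Subgroup.coe_inv, inv_inv] at h1
      exact h1
  -- every element is a translate of an element of `Y`
  have hcov : ∀ h : X, h ∈ Y ∨ ∃ k : ℕ, (z ^ k * g)⁻¹ * h ∈ Y := by
    intro h
    by_cases hfa : ((h * z * h⁻¹ : X) : MulAut E) a = a
    · exact Or.inl (D.mem_of_fix hfa)
    · right
      have hidx : (fixed ((h * z * h⁻¹ : X) : MulAut E)).index = p := by
        rw [show fixed ((h * z * h⁻¹ : X) : MulAut E)
            = (fixed (z : MulAut E)).comap ((h : MulAut E)⁻¹ : MulAut E).toMonoidHom from by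
          ext v
          exact hconj h v,
          Subgroup.index_comap_of_surjective _ ((h : MulAut E)⁻¹ : MulAut E).surjective]
        exact D.index_fixed
      obtain ⟨i, hi⟩ := exists_pow_div_mem hidx (a := a) hfa a'
      refine ⟨m * ((p - 1) * i), ?_⟩
      set k := m * ((p - 1) * i) with hk
      have hka : ((z ^ k * g : X) : MulAut E) a = a' * (a ^ i)⁻¹ := by
        have hzk : ∀ j : ℕ, (((z ^ m) ^ j : X) : MulAut E) a' = a' * a ^ j := by
          intro j
          induction j with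
          | zero => simp
          | succ j ih =>
            have hza : ((z ^ m : X) : MulAut E) a = a := by
              rw [SubmonoidClass.coe_pow, fix_pow D.fix]
            rw [pow_succ', Subgroup.coe_mul, MulAut.mul_apply, ih, map_mul, map_pow, hm, hza, pow_succ']
            ac_rfl
        rw [Subgroup.coe_mul, MulAut.mul_apply, hk, pow_mul, ← ha', hzk]
        congr 1
        refine eq_inv_of_mul_eq_one_left ?_
        rw [← pow_add, show (p - 1) * i + i = p * i by
          rw [Nat.sub_mul, one_mul, Nat.sub_add_cancel (Nat.le_mul_of_pos_left i hp.out.pos)],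
          pow_mul, D.exp, one_pow]
      refine D.mem_of_fix ?_
      have hi' : ((h * z * h⁻¹ : X) : MulAut E) (((z ^ k * g : X) : MulAut E) a)
          = ((z ^ k * g : X) : MulAut E) a := hka ▸ hi
      rw [hconj] at hi' ⊢
      rw [Subgroup.coe_mul, Subgroup.coe_inv, mul_inv_rev, inv_inv, MulAut.mul_apply]
      exact hi'
  -- the common axis lies in every axis
  have hC : ∀ c, (z : MulAut E) c = c → ((g * z * g⁻¹ : X) : MulAut E) c = c →
      ∀ h : X, ((h * z * h⁻¹ : X) : MulAut E) c = c := by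
    intro c hzc hgc h
    rcases hcov h with hy | ⟨k, hy⟩
    · rw [hconj]
      have := (hYa _ (Y.inv_mem hy)).2 c hzc
      rwa [Subgroup.coe_inv] at this
    · rw [hconj]
      have hzk : ((z ^ k : X) : MulAut E) c = c := by
        rw [SubmonoidClass.coe_pow]
        clear hy
        induction k with
        | zero => rfl
        | succ k ih => rw [pow_succ, MulAut.mul_apply, hzc, ih]
      have h1 : (z : MulAut E) ((((z ^ k * g : X) : MulAut E))⁻¹ c) = (((z ^ k * g : X) : MulAut E))⁻¹ c := by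
        have hinv : ((z ^ k : X) : MulAut E)⁻¹ c = c := by
          conv_lhs => rw [← hzk, MulAut.inv_apply_self]
        rw [Subgroup.coe_mul, mul_inv_rev, MulAut.mul_apply, hinv]
        exact (hconj g c).1 hgc
      have h2 := (hYa _ (Y.inv_mem hy)).2 _ h1
      rw [Subgroup.coe_inv, Subgroup.coe_mul, mul_inv_rev, Subgroup.coe_inv, inv_inv, MulAut.mul_apply,
        MulAut.apply_inv_self] at h2
      exact h2
  refine ⟨fun c hzc hgc => ⟨?_, ?_⟩, ?_⟩
  · have := (hconj h⁻¹ c).1 (hC c hzc hgc h⁻¹)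
    rwa [Subgroup.coe_inv, inv_inv] at this
  · have := (hconj (h⁻¹ * g) c).1 (hC c hzc hgc (h⁻¹ * g))
    rw [Subgroup.coe_mul, Subgroup.coe_inv, mul_inv_rev, inv_inv, MulAut.mul_apply] at this
    exact (hconj g _).2 this
  · have haP : ∀ h : X, (h : MulAut E) a ∈ P := by
      intro h
      rcases hcov h with hy | ⟨k, hy⟩
      · exact mem_sup_left (hYa h hy).1
      · obtain ⟨i, hi⟩ := (hYa _ hy).1
        simp only at hi
        have : (h : MulAut E) a = ((z ^ k * g : X) : MulAut E) (a ^ i) := by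
          rw [hi, ← MulAut.mul_apply, ← Subgroup.coe_mul, mul_inv_cancel_left]
        rw [this, map_zpow]
        refine Subgroup.zpow_mem _ ?_ i
        rw [Subgroup.coe_mul, MulAut.mul_apply, SubmonoidClass.coe_pow, pow_apply_of_fix _ (by
          obtain ⟨j, hj⟩ := D.diff a'
          simp only at hj
          rw [← hj, map_zpow, D.fix])]
        exact mul_mem (mem_sup_right (mem_zpowers _)) (mem_sup_left (Subgroup.pow_mem _ (D.diff a') k))
    intro v hv
    obtain ⟨x, ⟨i, rfl⟩, y, ⟨j, rfl⟩, rfl⟩ := Subgroup.mem_sup.1 hv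
    simp only [map_mul, map_zpow]
    refine mul_mem (Subgroup.zpow_mem _ (haP h) i) (Subgroup.zpow_mem _ ?_ j)
    rw [ha', ← MulAut.mul_apply, ← Subgroup.coe_mul]
    exact haP (h * g)

end Frame

section RankThree

variable {X : Subgroup (MulAut E)}

theorem card_le_sq_of_sq_dvd {j : ℕ} (h : p ^ j * p ^ j ≤ p ^ 3) : j ≤ 1 := by
  rw [← pow_add] at h
  have := (Nat.pow_le_pow_iff_right hp.out.one_lt).1 h
  omega

/-- A transvection that is central in a Sylow subgroup under a strongly embedded subgroup: that subgroup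
fixes its centre. -/
theorem tvData_of_range (hexp : ∀ v : E, v ^ p = 1) (A : Sylow p X) (Y : Subgroup X) (hY : Y ≠ ⊤)
    (hemb : ∀ Q : Subgroup X, Q ≤ (A : Subgroup X) → Q ≠ ⊥ → Subgroup.normalizer (Q : Set X) ≤ Y)
    {z : X} (hzA : z ∈ (A : Subgroup X)) (hz1 : z ≠ 1)
    (hzz : ∀ v, disp (z : MulAut E) (disp (z : MulAut E) v) = 1)
    (hcard : Nat.card E ≤ p ^ 3) (hc : ∀ w ∈ (A : Subgroup X), Commute w z) :
    ∃ a, TvData p X A Y z a ∧ ∀ w ∈ (A : Subgroup X), (w : MulAut E) a = a := by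
  set d := disp (z : MulAut E) with hd
  have hle : d.range ≤ d.ker := by
    rintro _ ⟨v, rfl⟩
    exact hzz v
  have hcr : Nat.card d.range * Nat.card d.ker = Nat.card E := by
    rw [← Subgroup.index_ker, mul_comm, Subgroup.card_mul_index]
  obtain ⟨j, hj⟩ := ((IsPGroup.iff_card (p := p)).1
    ((show IsPGroup p E from fun v => ⟨1, by rw [pow_one]; exact hexp v⟩).to_subgroup d.range))
  have hj1 : j ≤ 1 := card_le_sq_of_sq_dvd (p := p) (by
    rw [← hj]
    exact (Nat.mul_le_mul_left _ (Subgroup.card_le_of_le hle)).trans (hcr.le.trans hcard))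
  have hne : d.range ≠ ⊥ := fun h => hz1 (Subtype.ext (MulEquiv.ext fun v => by
    have : d v = 1 := Subgroup.mem_bot.1 (h ▸ ⟨v, rfl⟩)
    exact disp_eq_one.1 this))
  have hjp : Nat.card d.range = p := by
    have h0 : j ≠ 0 := fun h0 => hne (Subgroup.card_eq_one.1 (by rw [hj, h0, pow_zero]))
    rw [hj, show j = 1 by omega, pow_one]
  obtain ⟨⟨a, ha⟩, hx⟩ := (Subgroup.ne_bot_iff_exists_ne_one (H := d.range)).1 hne
  have ha1 : a ≠ 1 := fun h => hx (Subtype.ext h)
  have hza : zpowers a = d.range := Subgroup.eq_of_le_of_card_ge (zpowers_le.2 ha) (by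
    rw [Nat.card_zpowers, orderOf_eq_prime (hexp a) ha1, hjp])
  have hT : TvData p X A Y z a := ⟨hexp, hY, hemb, hzA, hz1, disp_eq_one.1 (hle ha),
    fun v => hza.ge ⟨v, rfl⟩⟩
  refine ⟨a, hT, fun w hw => ?_⟩
  -- `w` commutes with `z`, so acts on the line of `a`, trivially as a `p`-element
  have hwz : ∀ v, (w : MulAut E) (d v) = d ((w : MulAut E) v) := fun v => by
    have h1 := DFunLike.congr_fun (congrArg Subtype.val (hc w hw).eq) v
    rw [Subgroup.coe_mul, Subgroup.coe_mul, MulAut.mul_apply, MulAut.mul_apply] at h1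
    rw [hd, disp_apply, disp_apply, map_mul, map_inv, h1]
  obtain ⟨v, hv⟩ := ha
  have hmem : (w : MulAut E) a ∈ zpowers a := by
    rw [hza, ← hv, hwz]
    exact ⟨_, rfl⟩
  obtain ⟨i, hi⟩ := hmem
  obtain ⟨k, hk⟩ := A.isPGroup' ⟨w, hw⟩
  have hwk : (w : MulAut E) ^ p ^ k = 1 :=
    congrArg (fun x : (A : Subgroup X) => ((x : X) : MulAut E)) hk
  have hiter : ∀ n : ℕ, ((w : MulAut E) ^ n) a = a ^ i ^ n := by
    intro n
    induction n with
    | zero => simp
    | succ n ih =>
      rw [pow_succ', MulAut.mul_apply, ih, map_zpow, show (w : MulAut E) a = a ^ i from hi.symm, ← zpow_mul,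
        pow_succ']
  have h1 : a ^ i ^ p ^ k = a ^ (1 : ℤ) := by rw [← hiter, hwk, zpow_one]; rfl
  rw [← mul_inv_eq_one, ← zpow_sub, ← orderOf_dvd_iff_zpow_eq_one, orderOf_eq_prime (hexp a) ha1,
    ← ZMod.intCast_zmod_eq_zero_iff_dvd] at h1
  push_cast at h1
  rw [ZMod.pow_card_pow, sub_eq_zero] at h1
  show (w : MulAut E) a = a
  rw [show (w : MulAut E) a = a ^ i from hi.symm]
  conv_rhs => rw [← zpow_one a]
  rw [← mul_inv_eq_one, ← zpow_sub, ← orderOf_dvd_iff_zpow_eq_one, orderOf_eq_prime (hexp a) ha1,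
    ← ZMod.intCast_zmod_eq_zero_iff_dvd]
  push_cast
  rw [h1, sub_self]

/-- On a group of order `p ^ 2`: a transvection in the Sylow subgroup, which has order `p`. -/
theorem rank_two_data (hexp : ∀ v : E, v ^ p = 1) (hcard : Nat.card E = p ^ 2) (A : Sylow p X) (Y : Subgroup X)
    (hY : Y ≠ ⊤) (hA : (A : Subgroup X) ≠ ⊥)
    (hemb : ∀ Q : Subgroup X, Q ≤ (A : Subgroup X) → Q ≠ ⊥ → Subgroup.normalizer (Q : Set X) ≤ Y) :
    Nat.card (A : Subgroup X) = p ∧ ∃ (z : X) (a : E), TvData p X A Y z a ∧ (A : Subgroup X) = zpowers z := by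
  haveI := finite_aut (G := E)
  obtain ⟨e, he, hfix⟩ := H49.exists_fixed_line hcard ((A : Subgroup X).map X.subtype) (A.isPGroup'.map _)
  obtain ⟨⟨z, hz⟩, hx⟩ := (Subgroup.ne_bot_iff_exists_ne_one (H := (A : Subgroup X))).1 hA
  have hz1 : z ≠ 1 := fun h => hx (Subtype.ext h)
  have hA' : ∀ w ∈ (A : Subgroup X), (w : MulAut E) e = e := fun w hw => hfix _ ⟨w, hw, rfl⟩
  obtain ⟨k, hk⟩ := A.isPGroup' ⟨z, hz⟩
  have D : TvData p X A Y z e := ⟨hexp, hY, hemb, hz, hz1, hA' z hz, H49.transvection_of_pGroup hcard hexp he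
    (hA' z hz) ⟨k, congrArg (fun x : (A : Subgroup X) => ((x : X) : MulAut E)) hk⟩⟩
  have hle := D.le_zpowers hA'
  have heq : (A : Subgroup X) = zpowers z := le_antisymm hle (zpowers_le.2 hz)
  refine ⟨?_, z, e, D, heq⟩
  rw [heq, Nat.card_zpowers]
  refine orderOf_eq_prime (Subtype.ext (MulEquiv.ext fun v => ?_)) hz1
  rw [SubmonoidClass.coe_pow, pow_apply_of_fix _ (by
    obtain ⟨i, hi⟩ := D.diff v
    simp only at hi
    rw [← hi, map_zpow, D.fix]), hexp, mul_one]
  rfl

/-- On a group of order `p ^ 3` the Sylow subgroup under a strongly embedded subgroup has order `p`. -/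
theorem card_sylow_rank_three (hexp : ∀ v : E, v ^ p = 1) (hcard : Nat.card E = p ^ 3) (A : Sylow p X)
    (Y : Subgroup X) (hY : Y ≠ ⊤) (hA : (A : Subgroup X) ≠ ⊥)
    (hemb : ∀ Q : Subgroup X, Q ≤ (A : Subgroup X) → Q ≠ ⊥ → Subgroup.normalizer (Q : Set X) ≤ Y) :
    Nat.card (A : Subgroup X) = p := by
  classical
  haveI := finite_aut (G := E)
  obtain ⟨k, hk⟩ := IsPGroup.iff_card.1 A.isPGroup'
  have hk0 : k ≠ 0 := fun h => hA (Subgroup.card_eq_one.1 (by rw [hk, h, pow_zero]))
  by_contra hne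
  have hk2 : 2 ≤ k := by
    rcases Nat.lt_or_ge k 2 with h | h
    · exact absurd (by rw [hk, show k = 1 by omega, pow_one]) hne
    · exact h
  -- a fixed point
  letI : MulAction (A : Subgroup X) E := MulAction.compHom E (X.subtype.comp (A : Subgroup X).subtype)
  have hsm : ∀ (w : (A : Subgroup X)) (v : E), w • v = ((w : X) : MulAut E) v := fun _ _ => rfl
  obtain ⟨a, ha, hane⟩ := A.isPGroup'.exists_fixed_point_of_prime_dvd_card_of_fixed_point E
    (hcard ▸ dvd_pow_self p three_ne_zero) (a := (1 : E)) (fun w => map_one ((w : X) : MulAut E))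
  have hafix : ∀ w ∈ (A : Subgroup X), (w : MulAut E) a = a := fun w hw => ha ⟨w, hw⟩
  set La := zpowers a
  have hcq : Nat.card (E ⧸ La) = p ^ 2 := by
    have h1 := La.card_eq_card_quotient_mul_card_subgroup
    rw [Nat.card_zpowers, orderOf_eq_prime (hexp a) hane.symm, hcard, pow_succ] at h1
    exact (Nat.eq_of_mul_eq_mul_right hp.out.pos h1).symm
  have hqexp : ∀ v : E ⧸ La, v ^ p = 1 := fun v => by
    obtain ⟨u, rfl⟩ := QuotientGroup.mk_surjective v
    rw [← QuotientGroup.mk_pow, hexp, QuotientGroup.mk_one]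
  have hmap : ∀ w : (A : Subgroup X), La.map ((w : X) : MulAut E).toMonoidHom = La := fun w => by
    rw [MonoidHom.map_zpowers]
    exact congrArg zpowers (hafix w w.2)
  let q : (A : Subgroup X) →* MulAut (E ⧸ La) :=
    MonoidHom.mk' (fun w => QuotientGroup.congr La La ((w : X) : MulAut E) (hmap w)) fun u w => by
      refine MulEquiv.ext fun x => ?_
      obtain ⟨v, rfl⟩ := QuotientGroup.mk_surjective x
      rfl
  obtain ⟨e, he, hefix⟩ := H49.exists_fixed_line hcq q.range (A.isPGroup'.of_surjective q.rangeRestrict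
    q.rangeRestrict_surjective)
  have htr : ∀ (w : (A : Subgroup X)) (v : E ⧸ La), v⁻¹ * q w v ∈ zpowers e := fun w v => by
    obtain ⟨j, hj⟩ := A.isPGroup' w
    refine H49.transvection_of_pGroup hcq hqexp he (hefix _ ⟨w, rfl⟩) ⟨j, ?_⟩ v
    rw [← map_pow, hj, map_one]
  set B := (zpowers e).comap (QuotientGroup.mk' La) with hB
  have hBd : ∀ w ∈ (A : Subgroup X), ∀ v, v⁻¹ * (w : MulAut E) v ∈ B := fun w hw v => htr ⟨w, hw⟩ (QuotientGroup.mk v)
  have hBfix : ∀ w ∈ (A : Subgroup X), ∀ b ∈ B, b⁻¹ * (w : MulAut E) b ∈ La := by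
    intro w hw b hb
    obtain ⟨i, hi⟩ := hb
    have h1 : q ⟨w, hw⟩ (QuotientGroup.mk b) = QuotientGroup.mk b := by
      simp only [QuotientGroup.mk'_apply] at hi
      rw [← hi, map_zpow, hefix _ ⟨⟨w, hw⟩, rfl⟩]
    exact QuotientGroup.eq.1 h1.symm
  obtain ⟨b0, hb0⟩ := QuotientGroup.mk'_surjective La e
  have hb0B : b0 ∈ B := by rw [hB, mem_comap, hb0]; exact mem_zpowers e
  have hgen : ∀ b ∈ B, ∃ (i j : ℤ), b = b0 ^ i * a ^ j := by
    intro b hb
    obtain ⟨i, hi⟩ := hb
    simp only at hi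
    rw [← hb0, ← map_zpow] at hi
    obtain ⟨j, hj⟩ : (b0 ^ i)⁻¹ * b ∈ La := QuotientGroup.eq.1 hi
    refine ⟨i, j, ?_⟩
    simp only at hj
    rw [hj, mul_inv_cancel_left]
  -- the elements fixing `B`
  let χ : (A : Subgroup X) →* E := MonoidHom.mk' (fun w => b0⁻¹ * ((w : X) : MulAut E) b0) fun u w => by
    obtain ⟨j, hj⟩ := hBfix w w.2 b0 hb0B
    simp only at hj
    have hwb : ((w : X) : MulAut E) b0 = b0 * a ^ j := by rw [hj, mul_inv_cancel_left]
    show b0⁻¹ * (((u * w : (A : Subgroup X)) : X) : MulAut E) b0 = _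
    rw [Subgroup.coe_mul, Subgroup.coe_mul, MulAut.mul_apply, hwb, map_mul, map_zpow, hafix _ u.2,
      inv_mul_cancel_left, mul_assoc]
  have hK : χ.ker ≠ ⊥ := fun h => by
    have hinj := (MonoidHom.ker_eq_bot_iff χ).1 h
    have hle := Subgroup.card_le_of_le (show χ.range ≤ La from by
      rintro _ ⟨w, rfl⟩
      exact hBfix w w.2 b0 hb0B)
    rw [Nat.card_zpowers, orderOf_eq_prime (hexp a) hane.symm,
      ← Nat.card_congr (MonoidHom.ofInjective hinj).toEquiv, hk] at hle
    have h2 := (Nat.pow_le_pow_iff_right hp.out.one_lt).1 (hle.trans_eq (pow_one p).symm)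
    omega
  haveI : Finite (A : Subgroup X) := inferInstance
  obtain ⟨z, hzK, hzc⟩ : ∃ z ∈ χ.ker, z ≠ 1 ∧ z ∈ center (A : Subgroup X) := by
    have h1 := PGroups.inf_center_ne_bot A.isPGroup' χ.ker hK
    obtain ⟨x, hx⟩ := (Subgroup.ne_bot_iff_exists_ne_one).1 h1
    exact ⟨x.1, x.2.1, fun h => hx (Subtype.ext h), x.2.2⟩
  have hzfix : ∀ b ∈ B, ((z : X) : MulAut E) b = b := fun b hb => by
    obtain ⟨i, j, rfl⟩ := hgen b hb
    have h0 : ((z : X) : MulAut E) b0 = b0 := (inv_mul_eq_one.1 (MonoidHom.mem_ker.1 hzK)).symm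
    rw [map_mul, map_zpow, map_zpow, hafix _ z.2, h0]
  obtain ⟨a1, D, hfix1⟩ := tvData_of_range hexp A Y hY hemb (z := (z : X)) z.2
    (fun h => hzc.1 (Subtype.ext h)) (fun v => disp_eq_one.2 (hzfix _ (hBd _ z.2 v))) hcard.le
    (fun w hw => congrArg Subtype.val (Subgroup.mem_center_iff.1 hzc.2 ⟨w, hw⟩))
  have heq : (A : Subgroup X) = zpowers (z : X) := le_antisymm (D.le_zpowers hfix1) (zpowers_le.2 z.2)
  refine hne ?_
  rw [heq, Nat.card_zpowers]
  refine orderOf_eq_prime (Subtype.ext (MulEquiv.ext fun v => ?_)) (fun h => hzc.1 (Subtype.ext h))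
  rw [SubmonoidClass.coe_pow, pow_apply_of_fix _ (hzfix _ (hBd _ z.2 v)), hexp, mul_one]
  rfl

end RankThree

end Cfsg.Agent.H91.Rank3
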