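import Cfsg.Agent.H91.Rank3.Linear

/-!
A regular unipotent generator of a Sylow subgroup of order `p` under a strongly embedded subgroup of
automorphisms of a group of order `p ^ 3` forces irreducibility.
-/

set_option autoImplicit false
set_option linter.style.haveILetI false
set_option linter.unusedSectionVars false

namespace Cfsg.Agent.H91.Rank3

open Subgroup
open Cfsg.Agent.H90 (pow_apply_of_fix exists_pow_eq)
open Cfsg.Agent.H91.Small (TvData)

variable {p : ℕ} [hp : Fact p.Prime]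

/-- An automorphism of exponent `p` of a group of order `p` is trivial. -/
theorem aut_prime_trivial {V : Type*} [Group V] [Finite V] (hV : Nat.card V = p) {δ : MulAut V}
    (hδ : δ ^ p = 1) : δ = 1 := by
  haveI : IsCyclic V := isCyclic_of_prime_card hV
  have h2 : Nat.card (MulAut V) = p - 1 := by rw [IsCyclic.card_mulAut, hV, Nat.totient_prime hp.out]
  refine orderOf_eq_one_iff.1 (Nat.eq_one_of_dvd_coprimes ?_ (orderOf_dvd_of_pow_eq_one hδ)
    (h2 ▸ orderOf_dvd_natCard δ))
  refine hp.out.coprime_iff_not_dvd.2 fun hd => ?_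
  have := Nat.le_of_dvd (Nat.sub_pos_of_lt hp.out.one_lt) hd
  have := hp.out.two_le
  omega

/-- A group acting on a group of order `p ^ 2` with a nonnormal Sylow subgroup of order `p` acting faithfully
contains an element inverting everything. -/
theorem exists_neg {V : Type*} [CommGroup V] [Finite V] (hexp : ∀ v : V, v ^ p = 1)
    (hcard : Nat.card V = p ^ 2) {G : Type*} [Group G] [Finite G] (ρ : G →* MulAut V) (A : Sylow p G) {z : G}
    (hA : (A : Subgroup G) = zpowers z) (hzp : z ^ p = 1) (hρz : ρ z ≠ 1)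
    (hne : ∃ h, ρ (h * z * h⁻¹) ∉ zpowers (ρ z)) : ∃ h, ∀ v, ρ h v = v⁻¹ := by
  haveI := finite_aut (G := V)
  have hsurj : Function.Surjective ρ.rangeRestrict := ρ.rangeRestrict_surjective
  set A' : Sylow p ρ.range := A.mapSurjective hsurj
  have hA' : (A' : Subgroup ρ.range) = zpowers (ρ.rangeRestrict z) := by
    rw [Sylow.coe_mapSurjective, hA, MonoidHom.map_zpowers]
  have hz1 : ρ.rangeRestrict z ≠ 1 := fun h => hρz (congrArg Subtype.val h)
  have hcA : Nat.card (A' : Subgroup ρ.range) = p := by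
    rw [hA', Nat.card_zpowers]
    exact orderOf_eq_prime (by rw [← map_pow, hzp, map_one]) hz1
  set Y := normalizer ((A' : Subgroup ρ.range) : Set ρ.range)
  have hY : Y ≠ ⊤ := fun h => by
    obtain ⟨g, hg⟩ := hne
    refine hg ?_
    have h1 := (mem_normalizer_iff.1 (h.ge (mem_top (ρ.rangeRestrict g))) (ρ.rangeRestrict z)).1
      (hA' ▸ mem_zpowers _)
    rw [hA'] at h1
    obtain ⟨i, hi⟩ := h1
    refine ⟨i, ?_⟩
    have := congrArg Subtype.val hi
    simpa using this
  have hemb : ∀ Q : Subgroup ρ.range, Q ≤ (A' : Subgroup ρ.range) → Q ≠ ⊥ →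
      normalizer (Q : Set ρ.range) ≤ Y := fun Q hQ hne' => by
    rcases (Nat.dvd_prime hp.out).1 (hcA ▸ Subgroup.card_dvd_of_le hQ) with h | h
    · exact absurd (Subgroup.card_eq_one.1 h) hne'
    · rw [Subgroup.eq_of_le_of_card_ge hQ (by rw [hcA, h])]
  obtain ⟨-, w, a, D, -⟩ := rank_two_data hexp hcard A' Y hY (fun h => hz1 (by
    have := h ▸ (hA'.ge (mem_zpowers (ρ.rangeRestrict z)))
    exact Subgroup.mem_bot.1 this)) hemb
  obtain ⟨g, τ, -, m, hg, -, -, hτa, hτa', -, -, -, -, hdec⟩ := exists_frame D (-1)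
  obtain ⟨h, hh⟩ := hsurj τ
  have hinv : ∀ b : V, b ^ ((((-1 : (ZMod p)ˣ)) : ZMod p)).val = b⁻¹ := fun b => by
    refine eq_inv_of_mul_eq_one_left ?_
    rw [← pow_succ, ← orderOf_dvd_iff_pow_eq_one]
    refine (orderOf_dvd_of_pow_eq_one (hexp b)).trans ((ZMod.natCast_eq_zero_iff _ _).1 ?_)
    simp
  have hneg1 : ((((-1 : (ZMod p)ˣ))⁻¹ : (ZMod p)ˣ) : ZMod p) = ((-1 : (ZMod p)ˣ) : ZMod p) := by simp
  refine ⟨h, fun v => ?_⟩
  rw [show ρ h = (τ : MulAut V) from congrArg Subtype.val hh]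
  obtain ⟨i, j, c, rfl, hc1, hc2⟩ := hdec v
  have hc : c = 1 := by
    have hle : zpowers a ≤ TvData.fixed (w : MulAut V) := zpowers_le.2 D.fix
    have heq : zpowers a = TvData.fixed (w : MulAut V) := by
      refine Subgroup.eq_of_le_of_card_ge hle ?_
      have := Subgroup.card_mul_index (TvData.fixed (w : MulAut V))
      rw [D.index_fixed, hcard, pow_two] at this
      rw [D.card_a]
      exact (Nat.eq_of_mul_eq_mul_right hp.out.pos this).le
    by_contra hne1
    have hca : c ∈ zpowers a := heq.ge hc1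
    obtain ⟨k, hk⟩ := exists_pow_eq D.card_a hca hne1 (mem_zpowers a)
    refine hg (D.mem_of_fix ?_)
    rw [← hk, map_pow, hc2]
  rw [hc, mul_one, map_mul, map_pow, map_pow, hτa, hτa', hneg1, hinv, hinv, inv_pow, inv_pow, mul_inv]

variable {E : Type*} [CommGroup E] [Finite E] {X : Subgroup (MulAut E)}

/-- With a regular unipotent generator no proper nontrivial subgroup is invariant. -/
theorem no_invariant (hp2 : p ≠ 2) (hexp : ∀ v : E, v ^ p = 1) (hcard : Nat.card E = p ^ 3) (A : Sylow p X) (Y : Subgroup X)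
    (hY : Y ≠ ⊤) (hAc : Nat.card (A : Subgroup X) = p)
    (hemb : ∀ Q : Subgroup X, Q ≤ (A : Subgroup X) → Q ≠ ⊥ → Subgroup.normalizer (Q : Set X) ≤ Y)
    {z : X} (hz : z ∈ (A : Subgroup X)) {v0 : E} (hv0 : disp (z : MulAut E) (disp (z : MulAut E) v0) ≠ 1)
    (C : Subgroup E) (hC : ∀ h ∈ X, ∀ c ∈ C, h c ∈ C) : C = ⊥ ∨ C = ⊤ := by
  haveI := finite_aut (G := E)
  by_contra hne
  push Not at hne
  have hz1 : z ≠ 1 := fun h => hv0 (by simp [h, disp_apply])
  have hAz : (A : Subgroup X) = zpowers z := by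
    refine (Subgroup.eq_of_le_of_card_ge (zpowers_le.2 hz) ?_).symm
    rcases (Nat.dvd_prime hp.out).1 (hAc ▸ Subgroup.card_dvd_of_le (zpowers_le.2 hz)) with h | h
    · exact absurd (Subgroup.card_eq_one.1 h) (by simpa [Subgroup.zpowers_eq_bot] using hz1)
    · rw [h, hAc]
  have hzp : z ^ p = 1 := by
    have : (⟨z, hz⟩ : (A : Subgroup X)) ^ Nat.card (A : Subgroup X) = 1 := pow_card_eq_one'
    rw [hAc] at this
    exact congrArg Subtype.val this
  have hzp' : (z : MulAut E) ^ p = 1 := congrArg Subtype.val hzp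
  -- `A` is normal in no subgroup containing all its conjugates
  have hnn : ∀ X1 : Subgroup X, X1.Normal → z ∈ X1 → ∃ h ∈ X1, h * z * h⁻¹ ∉ zpowers z := by
    intro X1 hX1 hz1'
    by_contra hcon
    push Not at hcon
    have hAX1 : (A : Subgroup X) ≤ X1 := hAz ▸ zpowers_le.2 hz1'
    refine hY (eq_top_iff.2 fun g _ => hemb _ le_rfl
      (fun h => hz1 (Subgroup.mem_bot.1 (h ▸ hz))) ?_)
    have hconj : ∀ g : X, g * z * g⁻¹ ∈ (A : Subgroup X) := fun g => by
      have hp' : IsPGroup p ((zpowers (g * z * g⁻¹)).subgroupOf X1) := by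
        refine (IsPGroup.comap_of_injective ?_ X1.subtype X1.subtype_injective)
        rw [show zpowers (g * z * g⁻¹) = (zpowers z).map (MulAut.conj g).toMonoidHom by
          rw [MonoidHom.map_zpowers]; rfl]
        exact (A.isPGroup'.to_le hAz.ge).map _
      obtain ⟨Q, hQ⟩ := hp'.exists_le_sylow
      obtain ⟨x, hx⟩ := MulAction.exists_smul_eq X1 (A.subtype hAX1) Q
      have hm := hQ (show (⟨g * z * g⁻¹, hX1.conj_mem z hz1' g⟩ : X1) ∈ (zpowers (g * z * g⁻¹)).subgroupOf X1
        from mem_zpowers _)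
      rw [← hx, Sylow.coe_subgroup_smul] at hm
      obtain ⟨y, hy, hye⟩ := hm
      have h2 : (x : X) * y * (x : X)⁻¹ = g * z * g⁻¹ := congrArg Subtype.val hye
      have hy' : (y : X) ∈ zpowers z := hAz ▸ hy
      obtain ⟨i, hi⟩ := hy'
      simp only at hi
      rw [hAz, ← h2, ← hi, ← conj_zpow]
      exact Subgroup.zpow_mem _ (hcon x x.2) i
    have hle : (zpowers z).map (MulAut.conj g).toMonoidHom ≤ (A : Subgroup X) := by
      rw [MonoidHom.map_zpowers]
      exact zpowers_le.2 (hconj g)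
    rw [mem_normalizer_iff_map_conj_eq]
    refine Subgroup.eq_of_le_of_card_ge ?_ (Subgroup.card_map_of_injective (MulAut.conj g).injective).ge
    conv_lhs => rw [hAz]
    exact hle
  -- elements stabilising the series `1 ≤ C ≤ E` are trivial
  let K : Subgroup X :=
    { carrier := {h | (∀ c ∈ C, (h : MulAut E) c = c) ∧ ∀ v, v⁻¹ * (h : MulAut E) v ∈ C}
      one_mem' := ⟨fun c _ => rfl, fun v => by simp⟩
      mul_mem' := fun {a b} ha hb => ⟨fun c hc => by rw [Subgroup.coe_mul, MulAut.mul_apply, hb.1 c hc, ha.1 c hc],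
        fun v => by
          rw [Subgroup.coe_mul, MulAut.mul_apply, show v⁻¹ * (a : MulAut E) ((b : MulAut E) v)
            = (v⁻¹ * (b : MulAut E) v) * (((b : MulAut E) v)⁻¹ * (a : MulAut E) ((b : MulAut E) v)) by group]
          exact mul_mem (hb.2 v) (ha.2 _)⟩
      inv_mem' := fun {a} ha => ⟨fun c hc => by
          rw [Subgroup.coe_inv]
          conv_lhs => rw [← ha.1 c hc, MulAut.inv_apply_self],
        fun v => by
          have h := inv_mem (ha.2 ((a : MulAut E)⁻¹ v))
          rw [MulAut.apply_inv_self, mul_inv_rev, inv_inv] at h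
          rwa [Subgroup.coe_inv]⟩ }
  have hKp : IsPGroup p K := fun ⟨h, hh⟩ => ⟨1, Subtype.ext (Subtype.ext (MulEquiv.ext fun v => by
    show ((h ^ p ^ 1 : X) : MulAut E) v = v
    rw [pow_one, SubmonoidClass.coe_pow, pow_apply_of_fix _ (hh.1 _ (hh.2 v)), hexp, mul_one]))⟩
  have hKn : K.Normal := ⟨fun k hk g => by
    refine ⟨fun c hc => ?_, fun v => ?_⟩
    · rw [Subgroup.coe_mul, Subgroup.coe_mul, MulAut.mul_apply, MulAut.mul_apply,
        hk.1 _ (hC _ (g⁻¹).2 c hc), Subgroup.coe_inv, MulAut.apply_inv_self]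
    · have h := hC _ g.2 _ (hk.2 (((g⁻¹ : X) : MulAut E) v))
      rw [map_mul, map_inv, Subgroup.coe_inv, MulAut.apply_inv_self] at h
      rwa [Subgroup.coe_mul, Subgroup.coe_mul, MulAut.mul_apply, MulAut.mul_apply, Subgroup.coe_inv]⟩
  have hKbot : K = ⊥ := by
    haveI := hKn
    have hle := IsPGroup.le_sylow_of_normal hKp A
    rcases (Nat.dvd_prime hp.out).1 (hAc ▸ Subgroup.card_dvd_of_le hle) with h | h
    · exact Subgroup.card_eq_one.1 h
    · refine absurd (eq_top_iff.2 ?_) hY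
      rw [← Subgroup.normalizer_eq_top_iff.2 hKn, Subgroup.eq_of_le_of_card_ge hle (by rw [h, hAc])]
      exact hemb _ le_rfl fun hb => hz1 (Subgroup.mem_bot.1 (hb ▸ hz))
  have hres : ∀ h : X, C.map ((h : MulAut E) : E ≃* E).toMonoidHom = C := fun h => by
    refine Subgroup.eq_of_le_of_card_ge ?_ (Subgroup.card_map_of_injective (h : MulAut E).injective).ge
    rintro _ ⟨c, hc, rfl⟩
    exact hC _ h.2 c hc
  obtain ⟨j, hj, hjC⟩ := (Nat.dvd_prime_pow hp.out).1 (hcard ▸ C.card_subgroup_dvd_card)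
  have hj0 : j ≠ 0 := fun h => hne.1 (Subgroup.card_eq_one.1 (by rw [hjC, h, pow_zero]))
  have hj3 : j ≠ 3 := fun h => hne.2 (Subgroup.eq_top_of_card_eq _ (by rw [hjC, h, hcard]))
  have hQc : Nat.card (E ⧸ C) = p ^ (3 - j) := by
    have h1 := C.card_eq_card_quotient_mul_card_subgroup
    rw [hcard, hjC, show p ^ 3 = p ^ (3 - j) * p ^ j by rw [← pow_add, Nat.sub_add_cancel hj]] at h1
    exact (Nat.eq_of_mul_eq_mul_right (pow_pos hp.out.pos j) h1).symm
  -- the actions on `C` and on `E ⧸ C`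
  let ρC : X →* MulAut C := MonoidHom.mk'
    (fun h => (MulEquiv.subgroupMap ((h : MulAut E) : E ≃* E) C).trans (MulEquiv.subgroupCongr (hres h)))
    fun a b => MulEquiv.ext fun c => Subtype.ext rfl
  have hρC : ∀ (h : X) (c : C), ((ρC h c : C) : E) = (h : MulAut E) c := fun _ _ => rfl
  let ρQ : X →* MulAut (E ⧸ C) := MonoidHom.mk' (fun h => QuotientGroup.congr C C ((h : MulAut E) : E ≃* E) (hres h))
    fun a b => MulEquiv.ext fun x => by
      obtain ⟨v, rfl⟩ := QuotientGroup.mk_surjective x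
      rfl
  have hρQ : ∀ (h : X) (v : E), ρQ h (QuotientGroup.mk v) = QuotientGroup.mk ((h : MulAut E) v) :=
    fun _ _ => rfl
  have hinj : ∀ h h' : X, ρC h = ρC h' → ρQ h = ρQ h' → h = h' := by
    intro h h' h1 h2
    have : h⁻¹ * h' ∈ K := ⟨fun c hc => by
        have := congrArg Subtype.val (DFunLike.congr_fun h1 ⟨c, hc⟩)
        rw [hρC, hρC] at this
        rw [Subgroup.coe_mul, MulAut.mul_apply, Subgroup.coe_inv, ← this, MulAut.inv_apply_self],
      fun v => by
        have := DFunLike.congr_fun h2 (QuotientGroup.mk v)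
        rw [hρQ, hρQ, QuotientGroup.eq] at this
        have h3 := hC _ (h⁻¹).2 _ this
        rwa [map_mul, map_inv, Subgroup.coe_inv, MulAut.inv_apply_self] at h3⟩
    rw [hKbot, Subgroup.mem_bot, inv_mul_eq_one] at this
    exact this
  have hexpC : ∀ c : C, c ^ p = 1 := fun c => Subtype.ext (hexp c)
  have hexpQ : ∀ x : E ⧸ C, x ^ p = 1 := fun x => by
    obtain ⟨v, rfl⟩ := QuotientGroup.mk_surjective x
    rw [← QuotientGroup.mk_pow, hexp, QuotientGroup.mk_one]
  rcases (show j = 1 ∨ j = 2 by omega) with rfl | rfl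
  · -- an invariant line
    rw [pow_one] at hjC
    set X1 := ρC.ker
    have hzX1 : z ∈ X1 := aut_prime_trivial hjC (by rw [← map_pow, hzp, map_one])
    obtain ⟨h0, hh0, hh0'⟩ := hnn X1 inferInstance hzX1
    have hQ1 : ρQ z ≠ 1 := fun h => hz1 (hinj z 1 (by rw [map_one]; exact hzX1) (by rw [h, map_one]))
    have hAX1 : (A : Subgroup X) ≤ X1 := hAz ▸ zpowers_le.2 hzX1
    obtain ⟨h, hh⟩ := exists_neg hexpQ hQc (ρQ.comp X1.subtype) (A.subtype hAX1) (z := ⟨z, hzX1⟩)
      (by
        ext x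
        rw [Sylow.coe_subtype, Subgroup.mem_subgroupOf, hAz]
        refine ⟨fun ⟨i, hi⟩ => ⟨i, Subtype.ext hi⟩, fun ⟨i, hi⟩ => ⟨i, congrArg Subtype.val hi⟩⟩)
      (Subtype.ext hzp) hQ1 ⟨⟨h0, hh0⟩, by
        rintro ⟨i, hi⟩
        refine hh0' ⟨i, hinj _ _ ?_ ?_⟩
        · show ρC (z ^ i) = ρC (h0 * z * h0⁻¹)
          rw [show ρC (z ^ i) = 1 from X1.zpow_mem hzX1 i,
            show ρC (h0 * z * h0⁻¹) = 1 from (inferInstance : X1.Normal).conj_mem z hzX1 h0]
        · simpa using hi⟩
    have hh' : ∀ v, QuotientGroup.mk (((h : X) : MulAut E) v) = (QuotientGroup.mk v : E ⧸ C)⁻¹ := fun v => hh (QuotientGroup.mk v)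
    have hcom : (h : X) * z = z * h := hinj _ _
      (by rw [map_mul, map_mul, show ρC z = 1 from hzX1, show ρC h = 1 from h.2])
      (MulEquiv.ext fun x => by
        rw [map_mul, map_mul, MulAut.mul_apply, MulAut.mul_apply]
        show ρQ h (ρQ z x) = ρQ z (ρQ h x)
        rw [show ρQ h (ρQ z x) = (ρQ z x)⁻¹ from hh _, show ρQ h x = x⁻¹ from hh x, map_inv])
    have hcom' : ∀ v, ((h : X) : MulAut E) (disp (z : MulAut E) v) = disp (z : MulAut E) (((h : X) : MulAut E) v) :=
      fun v => by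
        have := DFunLike.congr_fun (congrArg Subtype.val hcom) v
        rw [Subgroup.coe_mul, Subgroup.coe_mul, MulAut.mul_apply, MulAut.mul_apply] at this
        rw [disp_apply, disp_apply, map_mul, map_inv, this]
    have hzC : ∀ c ∈ C, (z : MulAut E) c = c := fun c hc => by
      have h1 := congrArg Subtype.val (DFunLike.congr_fun (show ρC z = 1 from hzX1) (⟨c, hc⟩ : C))
      rw [hρC] at h1
      exact h1
    -- the square of the displacement falls into `C`
    have hd2 : ∀ v, disp (z : MulAut E) (disp (z : MulAut E) v) ∈ C := by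
      have hzpow : (ρQ z) ^ p ^ 1 = 1 := by rw [pow_one, ← map_pow, hzp, map_one]
      obtain ⟨e, he, hefix⟩ := H49.exists_fixed_line hQc (zpowers (ρQ z))
        (IsPGroup.of_card (n := 1) (by
          rw [Nat.card_zpowers, pow_one]
          exact orderOf_eq_prime (by rw [← map_pow, hzp, map_one]) hQ1))
      intro v
      obtain ⟨i, hi⟩ := H49.transvection_of_pGroup hQc hexpQ he (hefix _ (mem_zpowers _)) ⟨1, hzpow⟩
        (QuotientGroup.mk v)
      simp only at hi
      rw [← QuotientGroup.eq_one_iff, disp_apply, QuotientGroup.mk_mul, QuotientGroup.mk_inv, ← hρQ,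
        show (QuotientGroup.mk (disp (z : MulAut E) v) : E ⧸ C) = e ^ i by
          rw [hi, disp_apply, QuotientGroup.mk_mul, QuotientGroup.mk_inv, hρQ],
        map_zpow, hefix _ (mem_zpowers _), inv_mul_cancel]
    refine hv0 ?_
    set d := disp (z : MulAut E) (disp (z : MulAut E) v0) with hd
    have h1 : ((h : X) : MulAut E) d = d := by
      have h1 := congrArg Subtype.val (DFunLike.congr_fun (show ρC h = 1 from h.2) (⟨d, hd2 v0⟩ : C))
      rw [hρC] at h1
      exact h1
    have hc : v0 * ((h : X) : MulAut E) v0 ∈ C := by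
      rw [← QuotientGroup.eq_one_iff, QuotientGroup.mk_mul, hh', mul_inv_cancel]
    rw [hd, hcom', hcom', show ((h : X) : MulAut E) v0 = v0⁻¹ * (v0 * ((h : X) : MulAut E) v0) by group,
      map_mul, map_mul, map_inv, map_inv, show disp (z : MulAut E) (v0 * ((h : X) : MulAut E) v0) = 1 from
        disp_eq_one.2 (hzC _ hc), map_one, mul_one] at h1
    have h2 : d ^ 2 = 1 := by
      rw [pow_two]
      exact mul_eq_one_iff_eq_inv.2 h1.symm
    rw [← orderOf_eq_one_iff]
    refine Nat.eq_one_of_dvd_coprimes ?_ (orderOf_dvd_of_pow_eq_one h2) (orderOf_dvd_of_pow_eq_one (hexp d))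
    exact (Nat.coprime_primes Nat.prime_two hp.out).2 hp2.symm
  · -- an invariant plane
    have hQ1c : Nat.card (E ⧸ C) = p := by rw [hQc]; norm_num
    set X1 := ρQ.ker
    have hzX1 : z ∈ X1 := aut_prime_trivial hQ1c (by rw [← map_pow, hzp, map_one])
    obtain ⟨h0, hh0, hh0'⟩ := hnn X1 inferInstance hzX1
    have hC1 : ρC z ≠ 1 := fun h => hz1 (hinj z 1 (by rw [h, map_one]) (by rw [map_one]; exact hzX1))
    have hAX1 : (A : Subgroup X) ≤ X1 := hAz ▸ zpowers_le.2 hzX1
    obtain ⟨h, hh⟩ := exists_neg hexpC hjC (ρC.comp X1.subtype) (A.subtype hAX1) (z := ⟨z, hzX1⟩)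
      (by
        ext x
        rw [Sylow.coe_subtype, Subgroup.mem_subgroupOf, hAz]
        refine ⟨fun ⟨i, hi⟩ => ⟨i, Subtype.ext hi⟩, fun ⟨i, hi⟩ => ⟨i, congrArg Subtype.val hi⟩⟩)
      (Subtype.ext hzp) hC1 ⟨⟨h0, hh0⟩, by
        rintro ⟨i, hi⟩
        refine hh0' ⟨i, hinj _ _ ?_ ?_⟩
        · simpa using hi
        · show ρQ (z ^ i) = ρQ (h0 * z * h0⁻¹)
          rw [show ρQ (z ^ i) = 1 from X1.zpow_mem hzX1 i,
            show ρQ (h0 * z * h0⁻¹) = 1 from (inferInstance : X1.Normal).conj_mem z hzX1 h0]⟩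
    have hcom : (h : X) * z = z * h := hinj _ _
      (MulEquiv.ext fun x => by
        rw [map_mul, map_mul, MulAut.mul_apply, MulAut.mul_apply]
        show ρC h (ρC z x) = ρC z (ρC h x)
        rw [show ρC h (ρC z x) = (ρC z x)⁻¹ from hh _, show ρC h x = x⁻¹ from hh x, map_inv])
      (by rw [map_mul, map_mul, show ρQ z = 1 from hzX1, show ρQ h = 1 from h.2])
    have hhC : ∀ c ∈ C, ((h : X) : MulAut E) c = c⁻¹ := fun c hc => congrArg Subtype.val (hh ⟨c, hc⟩)
    have hcom' : ∀ v, ((h : X) : MulAut E) (disp (z : MulAut E) v) = disp (z : MulAut E) (((h : X) : MulAut E) v) :=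
      fun v => by
        have := DFunLike.congr_fun (congrArg Subtype.val hcom) v
        rw [Subgroup.coe_mul, Subgroup.coe_mul, MulAut.mul_apply, MulAut.mul_apply] at this
        rw [disp_apply, disp_apply, map_mul, map_inv, this]
    have hdC : ∀ v, disp (z : MulAut E) v ∈ C := fun v => by
      have := DFunLike.congr_fun (show ρQ z = 1 from hzX1) (QuotientGroup.mk v)
      rw [hρQ, MulAut.one_apply, QuotientGroup.eq] at this
      rw [disp_apply]
      simpa [mul_comm] using C.inv_mem this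
    have hz2 : ∀ c ∈ C, disp (z : MulAut E) (disp (z : MulAut E) c) = 1 := by
      intro c hc
      obtain ⟨e, he, hefix⟩ := H49.exists_fixed_line hjC (zpowers (ρC z))
        (IsPGroup.of_card (n := 1) (by
          rw [Nat.card_zpowers, pow_one]
          exact orderOf_eq_prime (by rw [← map_pow, hzp, map_one]) hC1))
      obtain ⟨i, hi⟩ := H49.transvection_of_pGroup hjC hexpC he (hefix _ (mem_zpowers _))
        ⟨1, by rw [pow_one, ← map_pow, hzp, map_one]⟩ ⟨c, hc⟩
      simp only at hi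
      have hi' : disp (z : MulAut E) c = ((e : E)) ^ i := by
        have := congrArg Subtype.val hi
        rw [SubgroupClass.coe_zpow, Subgroup.coe_mul, Subgroup.coe_inv, hρC] at this
        exact this.symm
      refine disp_eq_one.2 ?_
      rw [hi', map_zpow]
      congr 1
      exact congrArg Subtype.val (hefix _ (mem_zpowers _))
    refine hv0 ?_
    set w := v0⁻¹ * ((h : X) : MulAut E) v0 with hw
    have hwC : w ∈ C := by
      have := DFunLike.congr_fun (show ρQ h = 1 from h.2) (QuotientGroup.mk v0)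
      rw [hρQ, MulAut.one_apply, QuotientGroup.eq] at this
      have h3 := C.inv_mem this
      rwa [mul_inv_rev, inv_inv, ← hw] at h3
    -- the displacement of `v0` is a displacement inside `C`
    have h1 : (disp (z : MulAut E) v0)⁻¹ = disp (z : MulAut E) v0 * disp (z : MulAut E) w := by
      rw [← hhC _ (hdC v0), hcom', hw, show ((h : X) : MulAut E) v0 = v0 * (v0⁻¹ * ((h : X) : MulAut E) v0) by
        rw [mul_inv_cancel_left], map_mul, mul_inv_cancel_left]
    have h2 : disp (z : MulAut E) (disp (z : MulAut E) v0) ^ 2 = 1 := by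
      have h3 := congrArg (disp (z : MulAut E)) h1
      rw [map_inv, map_mul, hz2 w hwC, mul_one] at h3
      rw [pow_two]
      exact mul_eq_one_iff_eq_inv.2 h3.symm
    rw [← orderOf_eq_one_iff]
    refine Nat.eq_one_of_dvd_coprimes ?_ (orderOf_dvd_of_pow_eq_one h2)
      (orderOf_dvd_of_pow_eq_one (hexp _))
    exact (Nat.coprime_primes Nat.prime_two hp.out).2 hp2.symm

end Cfsg.Agent.H91.Rank3
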