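import Cfsg.Agent.H91.Rank3.Torus
import Cfsg.Agent.H91.Rank3.CaseA
import Cfsg.Agent.H91.Rank3.Linear
import Cfsg.Agent.H91.Rank3.Regular
import Cfsg.Agent.H91.Small.Setting
import Cfsg.Agent.H91.Rank3.Twist
import Cfsg.Agent.H49.RankTwoEssential

/-!
Automorphism groups of `p`-groups with at most three generators whose action on the Frattini quotient has a
strongly embedded subgroup: the action is regular, or it has a torus with a common axis.
-/

set_option autoImplicit false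
set_option linter.unusedSectionVars false
set_option linter.style.haveILetI false

namespace Cfsg.Agent.H91.Rank3

open Subgroup
open Cfsg.Agent.H49 (frattiniQuot frattiniQuot_mk)
open Cfsg.Agent.H90 (pow_apply_of_fix)

variable {H : Type*} [Group H] {p : ℕ} {G : Subgroup (MulAut H)}

/-- The Sylow subgroup of the image, inside all automorphisms of the Frattini quotient. -/
noncomputable abbrev imA (A : Sylow p (G.map (frattiniQuot H))) : Subgroup (MulAut (H ⧸ frattini H)) :=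
  (A : Subgroup (G.map (frattiniQuot H))).map (G.map (frattiniQuot H)).subtype

/-- The regular case: three generators, an element of the Sylow subgroup with nonzero square of the
displacement, no invariant proper nontrivial subgroup. -/
structure RegImage (p : ℕ) (G : Subgroup (MulAut H)) (A : Sylow p (G.map (frattiniQuot H))) : Prop where
  index : (frattini H).index = p ^ 3
  irr : ∀ C : Subgroup H, frattini H ≤ C → (∀ ω ∈ G, ∀ x ∈ C, ω x ∈ C) → C = frattini H ∨ C = ⊤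
  reg : ∃ ζ ∈ G, frattiniQuot H ζ ∈ imA A ∧ ∃ v, ζ (ζ v * v⁻¹) * (ζ v * v⁻¹)⁻¹ ∉ frattini H

variable [hp : Fact p.Prime]

/-- The case of transvections: a torus, a Weyl element and their common fixed line. -/
structure TorusImage (p : ℕ) [Fact p.Prime] (G : Subgroup (MulAut H)) (A : Sylow p (G.map (frattiniQuot H)))
    (ζ α σ : MulAut H) (a w c : H) (l : (ZMod p)ˣ) : Prop where
  zG : ζ ∈ G
  aG : α ∈ G
  sG : σ ∈ G
  zA : imA A = zpowers (frattiniQuot H ζ)
  lord : orderOf l = p - 1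
  gen : ∀ x, ∃ i j k : ℕ, (a ^ i * w ^ j * c ^ k)⁻¹ * x ∈ frattini H
  a1 : a ∉ frattini H
  w1 : w ∉ frattini H
  za : a⁻¹ * ζ a ∈ frattini H
  zw : a⁻¹ * (w⁻¹ * ζ w) ∈ frattini H
  zc : c⁻¹ * ζ c ∈ frattini H
  al : (a ^ uval l)⁻¹ * α a ∈ frattini H
  wl : (w ^ uval l⁻¹)⁻¹ * α w ∈ frattini H
  ac : α c = c
  apow : α ^ (p - 1) = 1
  norm : frattiniQuot H α * frattiniQuot H ζ * (frattiniQuot H α)⁻¹ =
    frattiniQuot H ζ ^ (uval l * uval l)
  half : Commute (frattiniQuot H α ^ ((p - 1) / 2)) (frattiniQuot H ζ)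
  sa : w * σ a ∈ frattini H
  sw : a⁻¹ * σ w ∈ frattini H
  sc : c⁻¹ * σ c ∈ frattini H
  inv : ∀ ω ∈ G, ω c ∈ zpowers c ⊔ frattini H
  rank : (c = 1 ∧ (frattini H).index = p ^ 2) ∨ (c ∉ frattini H ∧ (frattini H).index = p ^ 3)

variable [Finite H]

/-- The classification of the images. -/
theorem image_data (hH : IsPGroup p H) (h5 : 5 ≤ p) (hidx : (frattini H).index ≤ p ^ 3)
    (A : Sylow p (G.map (frattiniQuot H))) (Y0 : Subgroup (G.map (frattiniQuot H))) (hY0 : Y0 ≠ ⊤)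
    (hA : (A : Subgroup (G.map (frattiniQuot H))) ≠ ⊥)
    (hemb0 : ∀ Q : Subgroup (G.map (frattiniQuot H)), Q ≤ A → Q ≠ ⊥ →
      Subgroup.normalizer (Q : Set (G.map (frattiniQuot H))) ≤ Y0) :
    Nat.card (A : Subgroup (G.map (frattiniQuot H))) = p ∧
      (RegImage p G A ∨ ∃ ζ α σ a w c l, TorusImage p G A ζ α σ a w c l) := by
  classical
  have hp2 : p ≠ 2 := by omega
  let X := G.map (frattiniQuot H)
  letI : CommGroup (H ⧸ frattini H) :=
    { (inferInstance : Group (H ⧸ frattini H)) with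
      mul_comm := fun x y => by
        obtain ⟨u, rfl⟩ := QuotientGroup.mk'_surjective (frattini H) x
        obtain ⟨v, rfl⟩ := QuotientGroup.mk'_surjective (frattini H) y
        rw [← commutatorElement_eq_one_iff_mul_comm, ← map_commutatorElement]
        exact (QuotientGroup.eq_one_iff _).2 (PGroups.commutator_le_frattini hH
          (Subgroup.commutator_mem_commutator (mem_top u) (mem_top v))) }
  haveI := finite_aut (G := H ⧸ frattini H)
  set π := QuotientGroup.mk' (frattini H) with hπ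
  have hexp : ∀ v : H ⧸ frattini H, v ^ p = 1 := H49.quot_pow hH
  have hone : ∀ {x : H}, π x = 1 ↔ x ∈ frattini H := fun {x} => QuotientGroup.eq_one_iff x
  have hdiv : ∀ {x y : H}, π x = π y ↔ x⁻¹ * y ∈ frattini H := fun {x y} => QuotientGroup.eq
  have happ : ∀ (ω : MulAut H) (x : H), π (ω x) = frattiniQuot H ω (π x) :=
    fun ω x => (frattiniQuot_mk ω x).symm
  -- the order of the Sylow subgroup
  obtain ⟨k, hk⟩ := hH.index (H := frattini H)
  have hV : Nat.card (H ⧸ frattini H) = p ^ k := by rw [← Subgroup.index_eq_card, hk]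
  have hk3 : k ≤ 3 := (Nat.pow_le_pow_iff_right hp.out.one_lt).1 (hk ▸ hidx)
  have hk2 : 2 ≤ k := by
    by_contra hlt
    obtain ⟨j, hj⟩ := IsPGroup.iff_card.1 A.isPGroup'
    have hj0 : j ≠ 0 := fun h => hA (Subgroup.card_eq_one.1 (by rw [hj, h, pow_zero]))
    obtain ⟨z, hz⟩ := exists_prime_orderOf_dvd_card' (G := (A : Subgroup X)) p (hj ▸ dvd_pow_self p hj0)
    have hzp : ((z : X) : MulAut (H ⧸ frattini H)) ^ p = 1 := by
      have h1 : z ^ p = 1 := orderOf_dvd_iff_pow_eq_one.1 hz.dvd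
      rw [← Subgroup.coe_pow, ← Subgroup.coe_pow, h1]
      rfl
    have : ((z : X) : MulAut (H ⧸ frattini H)) = 1 := by
      rcases Nat.lt_or_ge k 1 with h | h
      · haveI : Subsingleton (H ⧸ frattini H) :=
          (Nat.card_eq_one_iff_unique.1 (by rw [hV, show k = 0 by omega, pow_zero])).1
        exact MulEquiv.ext fun v => Subsingleton.elim _ _
      · exact aut_prime_trivial (by rw [hV, show k = 1 by omega, pow_one]) hzp
    have hz1 : z = 1 := Subtype.ext (Subtype.ext this)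
    rw [hz1, orderOf_one] at hz
    exact hp.out.one_lt.ne hz
  have hcV : Nat.card (H ⧸ frattini H) ≤ p ^ 3 := hV.le.trans (Nat.pow_le_pow_right hp.out.pos hk3)
  have hAc : Nat.card (A : Subgroup X) = p := by
    rcases Nat.lt_or_ge k 3 with h | h
    · exact (rank_two_data hexp (by rw [hV, show k = 2 by omega]) A Y0 hY0 hA hemb0).1
    · exact card_sylow_rank_three hexp (by rw [hV, show k = 3 by omega]) A Y0 hY0 hA hemb0
  refine ⟨hAc, ?_⟩
  set Y := Subgroup.normalizer ((A : Subgroup X) : Set X)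
  have hY : Y ≠ ⊤ := fun h => hY0 (top_le_iff.1 (h ▸ hemb0 _ le_rfl hA))
  have hemb : ∀ Q : Subgroup X, Q ≤ (A : Subgroup X) → Q ≠ ⊥ → Subgroup.normalizer (Q : Set X) ≤ Y := by
    intro Q hQ hQne
    have hd : Nat.card Q ∣ p := hAc ▸ Subgroup.card_dvd_of_le hQ
    rcases (Nat.dvd_prime hp.out).1 hd with h | h
    · exact absurd (Subgroup.card_eq_one.1 h) hQne
    · rw [Subgroup.eq_of_le_of_card_ge hQ (by rw [hAc, h])]
  obtain ⟨⟨z0, hz0⟩, hz01⟩ := (Subgroup.ne_bot_iff_exists_ne_one (H := (A : Subgroup X))).1 hA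
  have hz0ne : z0 ≠ 1 := fun h => hz01 (Subtype.ext h)
  have hgenA : ∀ {z : X}, z ∈ (A : Subgroup X) → z ≠ 1 → (A : Subgroup X) = zpowers z := fun {z} hz hne => by
    refine (Subgroup.eq_of_le_of_card_ge (zpowers_le.2 hz) ?_).symm
    have hd : orderOf z ∣ p := hAc ▸ (Nat.card_zpowers z ▸ Subgroup.card_dvd_of_le (zpowers_le.2 hz))
    rw [hAc, Nat.card_zpowers, ((Nat.dvd_prime hp.out).1 hd).resolve_left fun h => hne (orderOf_eq_one_iff.1 h)]
  have hA0 := hgenA hz0 hz0ne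
  by_cases hq : ∀ v, disp (z0 : MulAut (H ⧸ frattini H)) (disp (z0 : MulAut (H ⧸ frattini H)) v) = 1
  swap
  · left
    push Not at hq
    obtain ⟨v0, hv0⟩ := hq
    have hk' : k = 3 := by
      by_contra hne
      obtain ⟨-, z', a, D, hA'⟩ := rank_two_data hexp (by rw [hV, show k = 2 by omega]) A Y hY hA hemb
      refine hv0 ?_
      obtain ⟨i, hi⟩ := (isOfFinOrder_of_finite z').mem_powers_iff_mem_zpowers.2 (hA' ▸ hz0)
      simp only at hi
      have hfz : ∀ u ∈ zpowers a, (z' : MulAut (H ⧸ frattini H)) u = u := by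
        rintro _ ⟨j, rfl⟩
        simp only
        rw [map_zpow, D.fix]
      have hd : disp (z0 : MulAut (H ⧸ frattini H)) v0 ∈ zpowers a := by
        rw [disp_apply, ← hi, SubmonoidClass.coe_pow, pow_apply_of_fix _ (hfz _ (D.diff v0)),
          inv_mul_cancel_left]
        exact pow_mem (D.diff v0) i
      rw [disp_eq_one]
      generalize disp (z0 : MulAut (H ⧸ frattini H)) v0 = d at hd ⊢
      rw [← hi, SubmonoidClass.coe_pow]
      exact fix_pow (hfz _ hd) i
    have hV3 : Nat.card (H ⧸ frattini H) = p ^ 3 := by rw [hV, hk']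
    refine ⟨by rw [hk, hk'], fun C hC hinv => ?_, ?_⟩
    · have h := no_invariant hp2 hexp hV3 A Y hY hAc hemb hz0 hv0 (C.map π) (by
        rintro _ ⟨ω, hω, rfl⟩ _ ⟨x, hx, rfl⟩
        exact ⟨ω x, hinv ω hω x hx, happ ω x⟩)
      have hker : π.ker ≤ C := by rw [hπ, QuotientGroup.ker_mk']; exact hC
      rcases h with h | h
      · left
        refine le_antisymm (fun x hx => hone.1 ?_) hC
        exact Subgroup.mem_bot.1 (h ▸ ⟨x, hx, rfl⟩)
      · right
        refine eq_top_iff.2 fun x _ => ?_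
        obtain ⟨y, hy, he⟩ := h.ge (mem_top (π x))
        have := C.mul_mem hy (hC (hdiv.1 he))
        rwa [mul_inv_cancel_left] at this
    · obtain ⟨ζ, hζ, hζe⟩ := z0.2
      obtain ⟨v, rfl⟩ := QuotientGroup.mk'_surjective (frattini H) v0
      refine ⟨ζ, hζ, hζe ▸ ⟨z0, hz0, rfl⟩, v, fun h => hv0 ?_⟩
      have h1 := hone.2 h
      have hd : π (ζ v * v⁻¹) = disp (z0 : MulAut (H ⧸ frattini H)) (π v) := by
        rw [map_mul, map_inv, happ, hζe, disp_apply, mul_comm]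
      rw [map_mul, map_inv, happ, hd, hζe, mul_comm] at h1
      exact h1
  right
  obtain ⟨l, hl⟩ := Small.exists_unit (p := p)
  have hc : ∀ x ∈ (A : Subgroup X), Commute x z0 := fun x hx => by
    obtain ⟨i, rfl⟩ := hA0 ▸ hx
    exact (Commute.refl z0).zpow_left i
  obtain ⟨a, D, -⟩ := tvData_of_range hexp A Y hY hemb hz0 hz0ne hq hcV hc
  obtain ⟨g, τ, s, m, hg, hm', hm, hτa, hτa', hτp, hsa, hsa', hfix, hdec⟩ := exists_frame D l
  set a' := (g : MulAut (H ⧸ frattini H)) a with ha'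
  set v' : X := g * z0 * g⁻¹ with hv'
  set z1 := ((z0 ^ m : X) : MulAut (H ⧸ frattini H)) with hz1def
  have hua : (z0 : MulAut (H ⧸ frattini H)) a' ≠ a' := D.moved hg
  have hva : (v' : MulAut (H ⧸ frattini H)) a ≠ a := fun h => hg (D.mem_of_fix h)
  have hvfix : (v' : MulAut (H ⧸ frattini H)) a' = a' := by
    simp only [hv', Subgroup.coe_mul, Subgroup.coe_inv, MulAut.mul_apply, ha', MulAut.inv_apply_self, D.fix]
  have ha'ne : a' ≠ 1 := (map_ne_one_iff _ (g : MulAut (H ⧸ frattini H)).injective).2 D.ane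
  have hca' : Nat.card (zpowers a') = p := by
    rw [Nat.card_zpowers]; exact orderOf_eq_prime (hexp a') ha'ne
  -- the common axis
  set f := (disp (z0 : MulAut (H ⧸ frattini H))).prod (disp (v' : MulAut (H ⧸ frattini H))) with hf
  have hker : ∀ c, c ∈ f.ker ↔ (z0 : MulAut (H ⧸ frattini H)) c = c ∧ (v' : MulAut (H ⧸ frattini H)) c = c := by
    intro c
    rw [MonoidHom.mem_ker, hf, MonoidHom.prod_apply, Prod.mk_eq_one, disp_eq_one, disp_eq_one]
  have hrange : f.range = (zpowers a).prod (zpowers a') := by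
    refine le_antisymm ?_ ?_
    · rintro _ ⟨v, rfl⟩
      refine Subgroup.mem_prod.2 ⟨D.diff v, ?_⟩
      obtain ⟨i, hi⟩ := D.diff ((g : MulAut (H ⧸ frattini H))⁻¹ v)
      refine ⟨i, ?_⟩
      simp only at hi
      show a' ^ i = disp (v' : MulAut (H ⧸ frattini H)) v
      rw [disp_apply, ha', ← map_zpow, hi, map_mul, map_inv, MulAut.apply_inv_self, hv', Subgroup.coe_mul,
        Subgroup.coe_mul, Subgroup.coe_inv]
      rfl
    · rintro ⟨x, y⟩ hxy
      obtain ⟨hx, hy⟩ := Subgroup.mem_prod.1 hxy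
      have h1 : disp (z0 : MulAut (H ⧸ frattini H)) a' ≠ 1 := fun h => hua (disp_eq_one.1 h)
      have h2 : disp (v' : MulAut (H ⧸ frattini H)) a ≠ 1 := fun h => hva (disp_eq_one.1 h)
      obtain ⟨i, hi⟩ := H90.exists_pow_eq D.card_a (D.diff a') h1 hx
      have hd2 : disp (v' : MulAut (H ⧸ frattini H)) a ∈ zpowers a' := by
        obtain ⟨j, hj⟩ := D.diff ((g : MulAut (H ⧸ frattini H))⁻¹ a)
        refine ⟨j, ?_⟩
        simp only at hj
        show a' ^ j = disp (v' : MulAut (H ⧸ frattini H)) a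
        rw [disp_apply, ha', ← map_zpow, hj, map_mul, map_inv, MulAut.apply_inv_self, hv', Subgroup.coe_mul,
          Subgroup.coe_mul, Subgroup.coe_inv]
        rfl
      obtain ⟨j, hj⟩ := H90.exists_pow_eq hca' hd2 h2 hy
      refine ⟨a' ^ i * a ^ j, Prod.ext ?_ ?_⟩
      · show disp (z0 : MulAut (H ⧸ frattini H)) (a' ^ i * a ^ j) = x
        rw [map_mul, map_pow, map_pow, (disp_eq_one (z := (z0 : MulAut (H ⧸ frattini H)))).2 D.fix, one_pow,
          mul_one]
        exact hi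
      · show disp (v' : MulAut (H ⧸ frattini H)) (a' ^ i * a ^ j) = y
        rw [map_mul, map_pow, map_pow, (disp_eq_one (z := (v' : MulAut (H ⧸ frattini H)))).2 hvfix, one_pow,
          one_mul]
        exact hj
  have hFx : Nat.card f.ker * (p * p) = p ^ k := by
    rw [← hV, ← Subgroup.card_mul_index f.ker, Subgroup.index_ker, hrange,
      Nat.card_congr ((zpowers a).prodEquiv (zpowers a')).toEquiv, Nat.card_prod, D.card_a, hca']
  have hcase : ∃ c : H ⧸ frattini H, f.ker = zpowers c ∧ ((c = 1 ∧ k = 2) ∨ (c ≠ 1 ∧ k = 3)) := by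
    have h2 : Nat.card f.ker = p ^ (k - 2) := by
      refine Nat.eq_of_mul_eq_mul_right (m := p * p) (by positivity) ?_
      rw [hFx, ← pow_two, ← pow_add]
      congr 1
      omega
    rcases Nat.lt_or_ge k 3 with h | h
    · refine ⟨1, ?_, Or.inl ⟨rfl, by omega⟩⟩
      rw [Subgroup.zpowers_one_eq_bot, Subgroup.eq_bot_iff_card, h2, show k - 2 = 0 by omega, pow_zero]
    · rw [show k - 2 = 1 by omega, pow_one] at h2
      obtain ⟨⟨c, hc⟩, hc1⟩ := (Subgroup.ne_bot_iff_exists_ne_one (H := f.ker)).1 (fun h' => by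
        rw [h', Subgroup.card_bot] at h2
        exact hp.out.one_lt.ne h2)
      have hc1' : c ≠ 1 := fun h => hc1 (Subtype.ext h)
      refine ⟨c, (Subgroup.eq_of_le_of_card_ge (zpowers_le.2 hc) ?_).symm, Or.inr ⟨hc1', by omega⟩⟩
      rw [h2, Nat.card_zpowers, orderOf_eq_prime (hexp c) hc1']
  obtain ⟨c', hkerc, hrank⟩ := hcase
  obtain ⟨hzc', hvc'⟩ := (hker c').1 (hkerc.ge (mem_zpowers c'))
  obtain ⟨hτc', hsc'⟩ := hfix c' hzc' hvc'
  have hz1a : z1 a = a := by rw [hz1def, SubmonoidClass.coe_pow]; exact fix_pow D.fix m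
  have hz1fix : ∀ {v}, (z0 : MulAut (H ⧸ frattini H)) v = v → z1 v = v := fun {v} h => by
    rw [hz1def, SubmonoidClass.coe_pow]; exact fix_pow h m
  have hz1pow : ∀ i : ℕ, (z1 ^ i) a' = a' * a ^ i := by
    intro i
    induction i with
    | zero => simp
    | succ i ih => rw [pow_succ, MulAut.mul_apply, hm, map_mul, ih, fix_pow hz1a, pow_succ, mul_assoc]
  have hnorm : (τ : MulAut (H ⧸ frattini H)) * z1 * (τ : MulAut (H ⧸ frattini H))⁻¹ =
      z1 ^ (uval l * uval l) := by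
    rw [mul_inv_eq_iff_eq_mul]
    refine MulEquiv.ext fun v => ?_
    obtain ⟨i, j, c, rfl, hzc, hvc⟩ := hdec v
    obtain ⟨hτc, -⟩ := hfix c hzc hvc
    have h1 : (τ : MulAut (H ⧸ frattini H)) (z1 a) = (z1 ^ (uval l * uval l)) ((τ : MulAut (H ⧸ frattini H)) a) := by
      rw [hz1a, hτa, map_pow, fix_pow hz1a]
    have h2 : (τ : MulAut (H ⧸ frattini H)) (z1 a') =
        (z1 ^ (uval l * uval l)) ((τ : MulAut (H ⧸ frattini H)) a') := by
      rw [hm, map_mul, hτa', hτa, map_pow, hz1pow, mul_pow]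
      congr 1
      rw [← pow_mul]
      refine pow_eq_pow_zmod (hexp a) ?_
      rw [Nat.cast_mul, Nat.cast_mul, ZMod.natCast_zmod_val, ZMod.natCast_zmod_val]
      rw [mul_assoc, Units.mul_inv, mul_one]
    have h3 : (τ : MulAut (H ⧸ frattini H)) (z1 c) =
        (z1 ^ (uval l * uval l)) ((τ : MulAut (H ⧸ frattini H)) c) := by
      rw [hz1fix hzc, hτc, fix_pow (hz1fix hzc)]
    rw [MulAut.mul_apply, MulAut.mul_apply, map_mul, map_mul, map_mul, map_mul, map_mul, map_mul, map_mul,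
      map_mul, map_pow, map_pow, map_pow, map_pow, map_pow, map_pow, map_pow, map_pow, h1, h2, h3]
  have hz1A : (z0 ^ m : X) ∈ (A : Subgroup X) := pow_mem hz0 m
  have hz1ne : (z0 ^ m : X) ≠ 1 := fun h => by
    have := hm
    rw [hz1def, h, OneMemClass.coe_one, MulAut.one_apply, left_eq_mul] at this
    exact D.ane this
  have hA1 := hgenA hz1A hz1ne
  have hz1p : z1 ^ p = 1 := by
    have : orderOf (z0 ^ m : X) = p := by rw [← Nat.card_zpowers, ← hA1, hAc]
    rw [hz1def, ← SubmonoidClass.coe_pow, show (z0 ^ m : X) ^ p = 1 by rw [← this, pow_orderOf_eq_one]]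
    rfl
  have hlne : ∀ j : ℕ, p ^ j % (p - 1) = 1 := fun j => by
    have h1 : p ≡ 1 [MOD p - 1] := ((Nat.modEq_iff_dvd' hp.out.one_le).2 dvd_rfl).symm
    have h2 := h1.pow j
    rw [one_pow, Nat.ModEq, Nat.one_mod_eq_one.2 (by omega)] at h2
    exact h2
  have hhalf : Commute ((τ : MulAut (H ⧸ frattini H)) ^ ((p - 1) / 2)) z1 := by
    have hit : ∀ i : ℕ, (τ : MulAut (H ⧸ frattini H)) ^ i * z1 =
        z1 ^ ((uval l * uval l) ^ i) * (τ : MulAut (H ⧸ frattini H)) ^ i := by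
      intro i
      induction i with
      | zero => simp
      | succ i ih =>
        have hstep : ∀ q : ℕ, (τ : MulAut (H ⧸ frattini H)) * z1 ^ q =
            z1 ^ (uval l * uval l * q) * (τ : MulAut (H ⧸ frattini H)) := fun q => by
          rw [pow_mul, ← hnorm, conj_pow, inv_mul_cancel_right]
        rw [pow_succ' _ i, mul_assoc, ih, ← mul_assoc, hstep, mul_assoc, ← pow_succ', ← pow_succ']
    refine (hit _).trans ?_
    congr 1
    conv_rhs => rw [← pow_one z1]
    refine pow_eq_pow_zmod hz1p ?_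
    obtain ⟨r, hr⟩ := hp.out.odd_of_ne_two hp2
    rw [show (p - 1) / 2 = r by omega, Nat.cast_pow, Nat.cast_mul, ZMod.natCast_zmod_val, Nat.cast_one,
      ← pow_two, ← pow_mul, show 2 * r = p - 1 by omega, ← Units.val_pow_eq_pow_val,
      ZMod.units_pow_card_sub_one_eq_one, Units.val_one]
  -- lifts
  obtain ⟨ζ, hζ, hζe⟩ := (z0 ^ m : X).2
  obtain ⟨α0, hα0, hα0e⟩ := τ.2
  obtain ⟨σ, hσ, hσe⟩ := s.2
  obtain ⟨α, hα, hαe, hαp⟩ : ∃ α ∈ G, frattiniQuot H α = (τ : MulAut (H ⧸ frattini H)) ∧ α ^ (p - 1) = 1 := by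
    have hτ' : (τ : MulAut (H ⧸ frattini H)) ^ (p - 1) = 1 := by
      rw [← SubmonoidClass.coe_pow, hτp, OneMemClass.coe_one]
    obtain ⟨j, hj⟩ := H49.isPGroup_ker hH G ⟨(⟨α0, hα0⟩ : G) ^ (p - 1), by
      rw [MonoidHom.mem_ker, map_pow, MonoidHom.comp_apply]
      show (frattiniQuot H α0) ^ (p - 1) = 1
      rw [hα0e, hτ']⟩
    refine ⟨α0 ^ p ^ j, pow_mem hα0 _, ?_, ?_⟩
    · rw [map_pow, hα0e, pow_eq_pow_mod _ hτ', hlne, pow_one]
    · have h : ((α0 ^ (p - 1)) ^ p ^ j : MulAut H) = 1 :=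
        congrArg Subtype.val (congrArg Subtype.val hj)
      rw [← pow_mul, mul_comm, pow_mul, h]
  obtain ⟨aH, haH⟩ := QuotientGroup.mk'_surjective (frattini H) a
  obtain ⟨wH, hwH⟩ := QuotientGroup.mk'_surjective (frattini H) a'
  obtain ⟨cH, hcH, hαc, hcrk⟩ : ∃ cH : H, π cH = c' ∧ α cH = cH ∧
      ((cH = 1 ∧ k = 2) ∨ (cH ∉ frattini H ∧ k = 3)) := by
    rcases hrank with ⟨rfl, hk'⟩ | ⟨hc1, hk'⟩
    · exact ⟨1, map_one π, map_one α, Or.inl ⟨rfl, hk'⟩⟩
    · obtain ⟨c0, hc0⟩ := QuotientGroup.mk'_surjective (frattini H) c'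
      have hcop : (p - 1).Coprime p := ((hp.out.coprime_iff_not_dvd).2
        (Nat.not_dvd_of_pos_of_lt (by omega) (by omega))).symm
      obtain ⟨cH, h1, h2⟩ := exists_fixed_coset hH α hcop hαp (frattini H)
        (fun x hx => hone.1 (by rw [happ, hone.2 hx, map_one]))
        (g := c0) (hdiv.1 (by rw [happ, hc0, hαe, hτc']))
      have he : π cH = c' := (hdiv.2 h2).symm.trans hc0
      exact ⟨cH, he, h1, Or.inr ⟨fun h => hc1 (by rw [← he, hone.2 h]), hk'⟩⟩
  refine ⟨ζ, α, σ, aH, wH, cH, l, ⟨hζ, hα, hσ, ?_, hl, fun x => ?_, fun h => ?_, fun h => ?_, ?_, ?_, ?_,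
    ?_, ?_, hαc, hαp, ?_, ?_, ?_, ?_, ?_, fun ω hω => ?_, ?_⟩⟩
  · show (A : Subgroup X).map X.subtype = _
    rw [hA1, MonoidHom.map_zpowers, hζe]
    rfl
  · obtain ⟨i, j, c, hx, hzc, hvc⟩ := hdec (π x)
    obtain ⟨e, he⟩ := (isOfFinOrder_of_finite c').mem_powers_iff_mem_zpowers.2
      (hkerc.le ((hker c).2 ⟨hzc, hvc⟩))
    simp only at he
    refine ⟨i, j, e, hdiv.1 ?_⟩
    rw [map_mul, map_mul, map_pow, map_pow, map_pow, haH, hwH, hcH, he, ← hx]
  · exact D.ane (haH ▸ hone.2 h)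
  · exact ha'ne (hwH ▸ hone.2 h)
  · exact hdiv.1 (by rw [happ, haH, hζe]; exact hz1a.symm)
  · refine hdiv.1 ?_
    rw [map_mul, map_inv, happ, haH, hwH, hζe]
    show a = a'⁻¹ * z1 a'
    rw [hm, inv_mul_cancel_left]
  · exact hdiv.1 (by rw [happ, hcH, hζe]; exact (hz1fix hzc').symm)
  · exact hdiv.1 (by rw [happ, map_pow, haH, hαe, hτa])
  · exact hdiv.1 (by rw [happ, map_pow, hwH, hαe, hτa'])
  · rw [hαe, hζe]; exact hnorm
  · rw [hαe, hζe]; exact hhalf
  · refine hone.1 ?_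
    rw [map_mul, happ, haH, hwH, hσe, hsa, mul_inv_cancel]
  · exact hdiv.1 (by rw [happ, hwH, haH, hσe, hsa'])
  · exact hdiv.1 (by rw [happ, hcH, hσe, hsc'])
  · have hYz : ∀ y ∈ Y, ∃ e : ℕ, y * z0 * y⁻¹ = z0 ^ e := fun y hy => by
      have h1 : y * z0 * y⁻¹ ∈ zpowers z0 := hA0 ▸ (Subgroup.mem_normalizer_iff.1 hy z0).1 hz0
      obtain ⟨e, he⟩ := (isOfFinOrder_of_finite z0).mem_powers_iff_mem_zpowers.2 h1
      exact ⟨e, he.symm⟩
    have h := (frame_invariant D hYz hg hm ⟨frattiniQuot H ω, ω, hω, rfl⟩).1 c' hzc' hvc'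
    have hmem : π (ω cH) ∈ zpowers c' := by
      rw [happ, hcH]
      exact hkerc.le ((hker _).2 h)
    obtain ⟨e, he⟩ := hmem
    rw [show ω cH = cH ^ e * ((cH ^ e)⁻¹ * ω cH) by group]
    refine mul_mem_sup (zpow_mem (mem_zpowers cH) e) (hdiv.1 ?_)
    rw [map_zpow, hcH]
    exact he
  · rcases hcrk with ⟨h1, h2⟩ | ⟨h1, h2⟩
    · exact Or.inl ⟨h1, by rw [hk, h2]⟩
    · exact Or.inr ⟨h1, by rw [hk, h2]⟩

end Cfsg.Agent.H91.Rank3
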