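import Cfsg.Agent.H91.Rank3.Axis

/-!
An element of `Γ` inverting the moved part of a transvection module.
-/

set_option autoImplicit false
set_option linter.unusedSectionVars false
set_option linter.style.haveILetI false

namespace Cfsg.Agent.H91.Rank3

open Subgroup
open Cfsg.Agent.H91.Small (TvData)
open scoped commutatorElement

namespace Fam

variable {M : Type*} [Group M] [Finite M] {p : ℕ} [hp : Fact p.Prime] {F : Fam p M} {E : Subgroup M}

/-- An element of `Γ` inverting `d` and every element of `W` modulo the center. -/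
theorem exists_invert (hE : F.Ess E) {W : Subgroup M} (hW : F.Inv W E) (hWE : W ≤ E)
    (hcomm : ∀ w ∈ W, ∀ e ∈ E, Commute e w) (hexp : ∀ w ∈ W, w ^ p = 1) {d : M} (hd1 : d ≠ 1) (hd : d ∈ W)
    (hdz : d ∈ center M) (hline : ∀ m : M, ∀ w ∈ W, ⁅m, w⁆ ∈ zpowers d) (hne : ¬ F.Inv (W ⊓ center M) E) :
    ∃ γ ∈ F.Γ, γ d = d⁻¹ ∧ ∀ v ∈ W, γ v * v ∈ center M := by
  classical
  letI : CommGroup W :=
    { (inferInstance : Group W) with
      mul_comm := fun u v => Subtype.ext (hcomm v v.2 u (hWE u.2)).eq }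
  haveI := F.finite_G E
  haveI := finite_aut (G := W)
  let res : F.G E → MulAut W := fun α =>
    { toFun := fun w => ⟨((α : MulAut E) ⟨w, hWE w.2⟩ : M), hW _ α.2 _ w.2⟩
      invFun := fun w => ⟨((α : MulAut E)⁻¹ ⟨w, hWE w.2⟩ : M), hW _ (inv_mem α.2) _ w.2⟩
      left_inv := fun w => Subtype.ext (by simp)
      right_inv := fun w => Subtype.ext (by simp)
      map_mul' := fun u v => Subtype.ext (by
        show ((α : MulAut E) ⟨((u * v : W) : M), hWE (u * v).2⟩ : M) = _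
        rw [show (⟨((u * v : W) : M), hWE (u * v).2⟩ : E) = ⟨u, hWE u.2⟩ * ⟨v, hWE v.2⟩ from rfl, map_mul]
        rfl) }
  let ρ : F.G E →* MulAut W := MonoidHom.mk' res fun α β => MulEquiv.ext fun w => Subtype.ext rfl
  have hρ : ∀ (α : F.G E) (w : W), ((ρ α w : W) : M) = ((α : MulAut E) ⟨w, hWE w.2⟩ : M) := fun α w => rfl
  obtain ⟨n, hn⟩ := exists_not_mem hE
  obtain ⟨A0, hA0⟩ := exists_sylow hE
  set X := ρ.range
  have hsurj : Function.Surjective ρ.rangeRestrict := ρ.rangeRestrict_surjective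
  set z : X := ρ.rangeRestrict ⟨cj hE n, cjG hE n⟩
  have hzap : ∀ w : W, (((z : MulAut W) w : W) : M) = n * w * n⁻¹ := fun w => rfl
  have htriv : ∀ e ∈ E, ρ ⟨cj hE e, cjG hE e⟩ = 1 := fun e he => MulEquiv.ext fun w => Subtype.ext (by
    rw [hρ, coe_cj]
    simp [(hcomm w w.2 e he).eq])
  set A := A0.mapSurjective hsurj
  have hA : (A : Subgroup X) = zpowers z := by
    rw [Sylow.coe_mapSurjective, hA0]
    refine le_antisymm ?_ (zpowers_le.2 ⟨_, Subgroup.mem_subgroupOf.2 (cj_mem hE n), rfl⟩)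
    rintro _ ⟨⟨f, hf⟩, hfi, rfl⟩
    obtain ⟨m, rfl⟩ := eq_cj hE (Subgroup.mem_subgroupOf.1 hfi)
    obtain ⟨e, he, i, rfl⟩ := exists_dec hE hn m
    refine ⟨i, Subtype.ext ?_⟩
    simp only
    rw [zpow_natCast, SubmonoidClass.coe_pow]
    show ρ ⟨cj hE n, _⟩ ^ i = ρ ⟨cj hE (e * n ^ i), _⟩
    have : (⟨cj hE (e * n ^ i), cjG hE _⟩ : F.G E) = ⟨cj hE e, cjG hE e⟩ * ⟨cj hE n, cjG hE n⟩ ^ i :=
      Subtype.ext (by simp)
    rw [this, map_mul, map_pow, htriv e he, one_mul]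
  have hzfix : ∀ w : W, (z : MulAut W) w = w ↔ (w : M) ∈ center M := fun w => by
    rw [Subtype.ext_iff, hzap, mul_inv_eq_iff_eq_mul]
    exact ⟨fun h => mem_center_of hE hn (fun e he => (hcomm w w.2 e he).symm) h.symm,
      fun h => Subgroup.mem_center_iff.1 h n⟩
  have hz1 : z ≠ 1 := fun h => hne fun α hα x hx => ⟨hW α hα x hx.1, by
    have := (hzfix ⟨(α x : M), hW α hα x hx.1⟩).1 (by rw [h]; rfl)
    exact this⟩
  have hzp : z ^ p = 1 := Subtype.ext (by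
    rw [SubmonoidClass.coe_pow, OneMemClass.coe_one]
    show ρ ⟨cj hE n, _⟩ ^ p = 1
    rw [← map_pow, show (⟨cj hE n, cjG hE n⟩ : F.G E) ^ p = ⟨cj hE (n ^ p), cjG hE _⟩ from
      Subtype.ext (by simp), htriv _ (pow_mem' hE n)])
  have hAc : Nat.card (A : Subgroup X) = p := by
    rw [hA, Nat.card_zpowers]; exact orderOf_eq_prime hzp hz1
  set Y := normalizer ((A : Subgroup X) : Set X)
  have hYz : ∀ y ∈ Y, ∃ e : ℕ, y * z * y⁻¹ = z ^ e := fun y hy => by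
    obtain ⟨e, he⟩ := (isOfFinOrder_of_finite z).mem_powers_iff_mem_zpowers.2
      (hA ▸ (Subgroup.mem_normalizer_iff.1 hy z).1 (hA ▸ mem_zpowers z))
    exact ⟨e, he.symm⟩
  have hY : Y ≠ ⊤ := fun h => hne fun α hα x hx => ⟨hW α hα x hx.1, by
    set w : W := ⟨x, hx.1⟩
    set h' : X := ρ.rangeRestrict ⟨α, hα⟩
    obtain ⟨e, he⟩ := hYz h'⁻¹ (h ▸ mem_top _)
    rw [inv_inv] at he
    have h1 : ((z ^ e : X) : MulAut W) w = w := by
      rw [SubmonoidClass.coe_pow]; exact fix_pow ((hzfix w).2 hx.2) e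
    rw [← he, Subgroup.coe_mul, Subgroup.coe_mul, Subgroup.coe_inv, MulAut.mul_apply, MulAut.mul_apply] at h1
    have h2 : (z : MulAut W) ((h' : MulAut W) w) = (h' : MulAut W) w := by
      conv_rhs => rw [← h1, MulAut.apply_inv_self]
    exact (hzfix _).1 h2⟩
  have hemb : ∀ Q : Subgroup X, Q ≤ (A : Subgroup X) → Q ≠ ⊥ → normalizer (Q : Set X) ≤ Y := by
    intro Q hQ hQne
    rcases (Nat.dvd_prime hp.out).1 (hAc ▸ Subgroup.card_dvd_of_le hQ) with h | h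
    · exact absurd (Subgroup.card_eq_one.1 h) hQne
    · rw [Subgroup.eq_of_le_of_card_ge hQ (by rw [hAc, h])]
  set a : W := ⟨d, hd⟩
  have D : TvData p X A Y z a := ⟨fun v => Subtype.ext (hexp v v.2), hY, hemb, hA ▸ mem_zpowers z, hz1,
    (hzfix a).2 hdz, fun v => by
      obtain ⟨i, hi⟩ := hline n (v : M)⁻¹ (inv_mem v.2)
      refine ⟨-i, Subtype.ext ?_⟩
      simp only at hi ⊢
      rw [SubgroupClass.coe_zpow, zpow_neg, hi, Subgroup.coe_mul, Subgroup.coe_inv, hzap, commutatorElement_def]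
      group⟩
  obtain ⟨g, τ, s, m, hg, -, hm, hτa, hτa', -, -, -, hfix, hdec⟩ := exists_frame D (-1)
  have hinv : ∀ b : W, b ^ ((((-1 : (ZMod p)ˣ)) : ZMod p)).val = b⁻¹ := fun b => by
    refine eq_inv_of_mul_eq_one_left ?_
    rw [← pow_succ, ← orderOf_dvd_iff_pow_eq_one]
    refine (orderOf_dvd_of_pow_eq_one (D.exp b)).trans ((ZMod.natCast_eq_zero_iff _ _).1 ?_)
    simp
  have hneg : ((((-1 : (ZMod p)ˣ))⁻¹ : (ZMod p)ˣ) : ZMod p) = ((-1 : (ZMod p)ˣ) : ZMod p) := by simp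
  rw [hinv] at hτa
  rw [hneg, hinv] at hτa'
  set a' := (g : MulAut W) a
  -- the torus commutes with `z`
  have hτz : τ * z = z * τ := by
    refine Subtype.ext (MulEquiv.ext fun v => ?_)
    obtain ⟨i, j, c', rfl, h1, h2⟩ := hdec v
    obtain ⟨hτc, -⟩ := hfix c' h1 h2
    obtain ⟨k, hk⟩ := D.diff a'
    simp only at hk
    have hza' : (z : MulAut W) a' = a' * a ^ k := by rw [hk, mul_inv_cancel_left]
    simp only [Subgroup.coe_mul, MulAut.mul_apply, map_mul, map_pow, map_zpow, D.fix, hza', hτa, hτa', hτc,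
      h1, map_inv]
    congr 2
    rw [mul_inv_rev, inv_zpow, mul_comm]
  obtain ⟨⟨α0, hα0⟩, hα0e⟩ := hsurj τ
  obtain ⟨k, hk, hkG, hkn⟩ := exists_normalising hE (K := ((A : Subgroup X).comap ρ.rangeRestrict).map
      (F.G E).subtype) (Subgroup.map_subtype_le _)
    (fun f hf => ⟨⟨f, F.indG hE hf⟩, Subgroup.mem_comap.2 (by
      rw [Sylow.coe_mapSurjective]
      exact ⟨_, hA0.ge (Subgroup.mem_subgroupOf.2 hf), rfl⟩), rfl⟩) hα0 (by
    rintro _ ⟨f, hf, rfl⟩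
    refine ⟨⟨α0, hα0⟩ * f * ⟨α0, hα0⟩⁻¹, ?_, rfl⟩
    rw [SetLike.mem_coe, Subgroup.mem_comap, map_mul, map_mul, map_inv, hα0e]
    obtain ⟨i, hi⟩ := hA ▸ (Subgroup.mem_comap.1 hf)
    simp only at hi
    rw [← hi, (Commute.zpow_right hτz i : Commute τ (z ^ i)).eq, mul_inv_cancel_right, hA]
    exact zpow_mem (mem_zpowers z) i)
  obtain ⟨γ, hγ, hγe⟩ := F.ext hE _ hkG hkn
  obtain ⟨kk, hkk, rfl⟩ := hk
  obtain ⟨i, hi⟩ := hA ▸ (Subgroup.mem_comap.1 hkk)
  simp only at hi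
  have hγv : ∀ w : W, γ (w : M) = (((z : MulAut W) ^ (-i)) ((τ : MulAut W) w) : W) := fun w => by
    rw [show γ (w : M) = _ from hγe ⟨w, hWE w.2⟩]
    have h1 : ((ρ.rangeRestrict (kk⁻¹ * ⟨α0, hα0⟩) : X) : MulAut W) w =
        ((z : MulAut W) ^ (-i)) ((τ : MulAut W) w) := by
      rw [map_mul, map_inv, ← hi, hα0e, ← zpow_neg, Subgroup.coe_mul, MulAut.mul_apply, SubgroupClass.coe_zpow]
    exact congrArg Subtype.val h1
  obtain ⟨j, hj⟩ := (isOfFinOrder_of_finite (z : MulAut W)).mem_powers_iff_mem_zpowers.2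
    (zpow_mem (mem_zpowers (z : MulAut W)) (-i))
  simp only at hj
  have hza : ∀ w : W, (z : MulAut W) w = w → (((z : MulAut W) ^ (-i)) w) = w := fun w hw => by
    rw [← hj]; exact fix_pow hw j
  refine ⟨γ, hγ, ?_, fun v hv => ?_⟩
  · rw [show d = ((a : W) : M) from rfl, hγv a, hτa, hza _ (by rw [map_inv, D.fix])]
    rfl
  obtain ⟨i', j', c', hv', hc1', hc2'⟩ := hdec ⟨v, hv⟩
  obtain ⟨hτc, -⟩ := hfix c' hc1' hc2'
  have hτv : (τ : MulAut W) ⟨v, hv⟩ * ⟨v, hv⟩ = c' ^ 2 := by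
    rw [hv', map_mul, map_mul, map_pow, map_pow, hτa, hτa', hτc, inv_pow, inv_pow]
    generalize a ^ i' = u1, ((g : MulAut W) a) ^ j' = u2
    rw [pow_two, mul_mul_mul_comm, mul_mul_mul_comm u1⁻¹, inv_mul_cancel, inv_mul_cancel, one_mul, one_mul]
  have hz2 : ∀ w : W, ((z : MulAut W) ^ (-i)) w * w⁻¹ ∈ zpowers a := by
    intro w
    rw [← hj]
    clear hj
    induction j with
    | zero => simp
    | succ n ih =>
      have h1 := D.diff (((z : MulAut W) ^ n) w)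
      rw [pow_succ', MulAut.mul_apply]
      have h2 := mul_mem h1 ih
      rwa [← mul_assoc, mul_comm _ ((z : MulAut W) _), mul_assoc ((z : MulAut W) _) _ ((((z : MulAut W) ^ n) w)),
        inv_mul_cancel, mul_one] at h2
  obtain ⟨l, hl⟩ := hz2 ((τ : MulAut W) ⟨v, hv⟩)
  simp only at hl
  have hfin : (((z : MulAut W) ^ (-i)) ((τ : MulAut W) ⟨v, hv⟩) * ⟨v, hv⟩ : W) = a ^ l * c' ^ 2 := by
    rw [hl, ← hτv, mul_assoc, inv_mul_cancel_left]
  rw [hγv ⟨v, hv⟩, show (((((z : MulAut W) ^ (-i)) ((τ : MulAut W) ⟨v, hv⟩) : W) : M) * v) =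
    ((((z : MulAut W) ^ (-i)) ((τ : MulAut W) ⟨v, hv⟩) * ⟨v, hv⟩ : W) : M) from rfl, hfin]
  exact mul_mem (by rw [SubgroupClass.coe_zpow]; exact zpow_mem hdz l)
    ((hzfix _).1 (by rw [map_pow, hc1']))

end Fam

end Cfsg.Agent.H91.Rank3
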