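import Cfsg.Agent.H91.Rank3.Torus

/-!
The third layer: the two brackets of `⁅a, w⁆` are exchanged by `s`; with a third generator outside `Φ(E)`
they vanish and the lower layers are cyclic.
-/

set_option autoImplicit false
set_option linter.unusedSectionVars false
set_option linter.style.haveILetI false

namespace Cfsg.Agent.H91.Rank3

open Subgroup
open scoped commutatorElement

variable {N : Type*} [Group N]

namespace Torus

variable {p : ℕ} [hp : Fact p.Prime] [Finite N] {E : Subgroup N} {t : MulAut N} {s : N → N} {n a w c : N}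
  {l : (ZMod p)ˣ} (D : Torus p E t s n a w c l) (hN : IsPGroup p N)
  (hsr : Cfsg.SectionalPRankLE p 3 N) (h5 : 5 ≤ p)

include D hN hsr h5

theorem wt_z : Wt p E (fun x => t x) 1 ⁅a, w⁆ 1 := by
  haveI := D.normal hN
  exact ((D.wt_a hN).comm (D.autT hN) (by omega) (D.wt_w hN)).congr_exp (by
    rw [Nat.cast_mul, cast_uval D, cast_uval D, l.mul_inv, Nat.cast_one])

/-- `s` fixes `⁅a, w⁆` in the second layer. -/
theorem s_z : ⁅a, w⁆⁻¹ * s ⁅a, w⁆ ∈ pser p E 2 := by
  haveI := D.normal hN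
  have hp2 : p ≠ 2 := by omega
  refine QuotientGroup.eq.1 ?_
  show QuotientGroup.mk' (pser p E (0 + 2)) ⁅a, w⁆ = QuotientGroup.mk' (pser p E (0 + 2)) (s ⁅a, w⁆)
  rw [D.sA.map_comm D.aE D.wE, mk_comm_congr hp2 (i := 0) (x := w⁻¹) (E.inv_mem D.wE)
    (by simpa using D.sa) D.aE D.sw]
  have h3 := mk_comm_mul_left hp2 (i := 0) (E.inv_mem D.wE) D.wE D.aE
  rw [inv_mul_cancel, commutatorElement_one_left, map_one, ← commutatorElement_inv a w, map_inv] at h3
  exact (mul_inv_eq_one.1 h3.symm).symm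

/-- The two brackets vanish together. -/
theorem za_iff : ⁅⁅a, w⁆, a⁆ ∈ pser p E 3 ↔ ⁅⁅a, w⁆, w⁆ ∈ pser p E 3 := by
  haveI := D.normal hN
  have hp2 : p ≠ 2 := by omega
  set z := ⁅a, w⁆
  have hz1 : z ∈ pser p E 1 := comm_mem_pser_one D.aE D.wE
  have hzE : z ∈ E := pser_le E 1 hz1
  have hz := D.s_z hN hsr h5
  set π := QuotientGroup.mk' (pser p E (1 + 2))
  have hπ1 : ∀ {x}, π x = 1 ↔ x ∈ pser p E 3 := fun {x} => QuotientGroup.eq_one_iff x
  have e1 : π (s ⁅z, a⁆) = (π ⁅z, w⁆)⁻¹ := by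
    rw [D.sA.map_comm hzE D.aE, mk_comm_congr hp2 (i := 1) (x := z) (e := w⁻¹) hz1 hz (E.inv_mem D.wE)
      (by simpa using D.sa)]
    have h3 := mk_comm_mul_right hp2 (i := 1) hz1 D.wE (E.inv_mem D.wE)
    rw [mul_inv_cancel, commutatorElement_one_right, map_one] at h3
    exact eq_inv_of_mul_eq_one_right h3.symm
  have e2 : π (s ⁅z, w⁆) = π ⁅z, a⁆ := by
    rw [D.sA.map_comm hzE D.wE, mk_comm_congr hp2 (i := 1) (x := z) (e := a) hz1 hz D.aE D.sw]
  refine ⟨fun h => ?_, fun h => ?_⟩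
  · have h1 := hπ1.2 (D.sA.mem_pser 3 h)
    rw [e1, inv_eq_one] at h1
    exact hπ1.1 h1
  · have h1 := hπ1.2 (D.sA.mem_pser 3 h)
    rw [e2] at h1
    exact hπ1.1 h1

variable (hc1 : c ∉ pser p E 1)
include hc1

/-- With a third generator the brackets vanish in the third layer. -/
theorem za_mem : ⁅⁅a, w⁆, a⁆ ∈ pser p E 3 := by
  haveI := D.normal hN
  have hp2 : p ≠ 2 := by omega
  have hf := D.autT hN
  obtain ⟨hl1, hl2, hl3, -, -⟩ := D.l_ne h5
  obtain ⟨hzp, hzc, hcpa, hcpw, -⟩ := D.second_layer hN hsr h5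
  set z := ⁅a, w⁆
  set za := ⁅z, a⁆
  set zw := ⁅z, w⁆
  have hz1 : z ∈ pser p E 1 := comm_mem_pser_one D.aE D.wE
  have hcp1 : c ^ p ∈ pser p E 1 := pow_mem_pser_one D.cE
  have hza2 : za ∈ pser p E 2 := comm_mem_pser_succ hz1 D.aE
  have hzw2 : zw ∈ pser p E 2 := comm_mem_pser_succ hz1 D.wE
  set π := QuotientGroup.mk' (pser p E 3) with hπ
  have hπ1 : ∀ {x}, π x = 1 ↔ x ∈ pser p E 3 := fun {x} => QuotientGroup.eq_one_iff x
  by_cases hzY : z ∈ pser p E 2 ⊔ zpowers (c ^ p)
  · obtain ⟨y, hy, d, hd, he⟩ := Subgroup.mem_sup_of_normal_left.1 hzY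
    obtain ⟨i, rfl⟩ := (isOfFinOrder_of_finite (c ^ p)).mem_powers_iff_mem_zpowers.2 hd
    rw [← hπ1, hπ, show za = ⁅y * (c ^ p) ^ i, a⁆ by rw [he],
      mk_comm_mul_left hp2 (i := 1) (pser_succ_le E 1 hy) (pow_mem hcp1 i) D.aE,
      mk_comm_pow_left hp2 (i := 1) hcp1 D.aE, hπ1.2 hcpa, one_pow, mul_one]
    exact hπ1.2 (comm_mem_pser_succ hy D.aE)
  by_contra hza
  have hzw : zw ∉ pser p E 3 := fun h => hza ((D.za_iff hN hsr h5).2 h)
  set K := pser p E 3 ⊔ zpowers (c ^ p) with hK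
  have hKP1 : K ≤ pser p E 1 := sup_le (pser_antitone E (by omega)) (zpowers_le.2 hcp1)
  have hKP2 : K ≤ pser p E 2 ⊔ zpowers (c ^ p) := sup_le_sup_right (pser_succ_le E 2) _
  have hcomP : ∀ {x y : N}, ⁅x, y⁆ ∈ pser p E 3 → Commute (π x) (π y) := fun {x y} h => by
    rw [← commutatorElement_eq_one_iff_commute, ← map_commutatorElement]
    exact hπ1.2 h
  have hcK : ∀ x ∈ E, Commute (π x) (π (c ^ p)) → x ∈ normalizer (K : Set N) := by
    intro x hxE hx
    have hle : K ≤ (centralizer ({π x} : Set (N ⧸ pser p E 3))).comap π := by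
      refine sup_le (fun y hy => ?_) (zpowers_le.2 ?_) <;>
        rw [mem_comap, mem_centralizer_singleton_iff]
      · rw [hπ1.2 hy, one_mul, mul_one]
      · exact hx.symm.eq
    have key : ∀ y ∈ K, ∀ g, Commute (π g) (π y) → g * y * g⁻¹ ∈ K := fun y hy g hg => by
      rw [show g * y * g⁻¹ = ⁅g, y⁆ * y by rw [commutatorElement_def]; group]
      refine mul_mem (mem_sup_left (hπ1.1 ?_)) hy
      rw [map_commutatorElement, commutatorElement_eq_one_iff_commute]
      exact hg
    refine mem_normalizer_iff.2 fun y => ⟨fun hy => key y hy x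
      (mem_centralizer_singleton_iff.1 (hle hy) |> fun h => Commute.symm h), fun hy => ?_⟩
    have h1 : Commute (π x) (π (x * y * x⁻¹)) :=
      (show Commute (π (x * y * x⁻¹)) (π x) from mem_centralizer_singleton_iff.1 (hle hy)).symm
    have := key _ hy x⁻¹ (by rw [map_inv]; exact h1.inv_left)
    simpa [mul_assoc] using this
  have hzza : ⁅z, za⁆ ∈ pser p E 3 := comm_pser_pser_one hp2 hz1 (pser_succ_le E 1 hza2)
  have hzzw : ⁅z, zw⁆ ∈ pser p E 3 := comm_pser_pser_one hp2 hz1 (pser_succ_le E 1 hzw2)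
  have hcza : ⁅za, c⁆ ∈ pser p E 3 := comm_mem_pser_succ hza2 D.cE
  have hczw : ⁅zw, c⁆ ∈ pser p E 3 := comm_mem_pser_succ hzw2 D.cE
  refine no_four hsr K ![c, z, za, zw] ?_ ?_ ?_ ?_
  · intro i
    fin_cases i
    exacts [hcK c D.cE (((Commute.refl c).pow_right p).map π),
      hcK z (pser_le E 1 hz1) (hcomP (comm_pser_pser_one hp2 hz1 hcp1)),
      hcK za (pser_le E 2 hza2) (hcomP (pser_antitone E (by omega) (comm_pser_pser_one hp2 hza2 hcp1))),
      hcK zw (pser_le E 2 hzw2) (hcomP (pser_antitone E (by omega) (comm_pser_pser_one hp2 hzw2 hcp1)))]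
  · have hsw : ∀ {x y : N}, ⁅x, y⁆ ∈ pser p E 3 → ⁅y, x⁆ ∈ pser p E 3 := fun {x y} h => by
      simpa using inv_mem h
    have h3 : ⁅za, zw⁆ ∈ pser p E 3 := comm_mem_pser_succ hza2 (pser_le E 2 hzw2)
    intro i j
    refine mem_sup_left ?_
    fin_cases i <;> fin_cases j
    exacts [by simp, hsw hzc, hsw hcza, hsw hczw, hzc, by simp, hzza, hzzw, hcza, hsw hzza, by simp, h3,
      hczw, hsw hzzw, hsw h3, by simp]
  · intro i
    fin_cases i
    exacts [mem_sup_right (mem_zpowers _), mem_sup_left hzp, mem_sup_left (pow_mem_pser_succ hza2),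
      mem_sup_left (pow_mem_pser_succ hzw2)]
  · intro i j k m h
    simp only [Matrix.cons_val_zero, Matrix.cons_val_one, Matrix.cons_val_two, Matrix.cons_val_three,
      Matrix.tail_cons, Matrix.head_cons] at h
    have hrest : z ^ j * za ^ k * zw ^ m ∈ pser p E 1 :=
      mul_mem (mul_mem (pow_mem hz1 j) (pow_mem (pser_succ_le E 1 hza2) k))
        (pow_mem (pser_succ_le E 1 hzw2) m)
    have hci : c ^ i ∈ pser p E 1 := by
      have := mul_mem (hKP1 h) (inv_mem hrest)
      convert this using 1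
      group
    have hi : p ∣ i := by
      by_contra hd
      exact hc1 (mem_of_pow_mem_of_coprime hcp1 hci hd)
    have hci' : c ^ i ∈ K := by
      obtain ⟨i', rfl⟩ := hi
      rw [pow_mul]
      exact mem_sup_right (pow_mem (mem_zpowers _) i')
    have h' : z ^ j * za ^ k * zw ^ m ∈ K := by
      have := mul_mem (inv_mem hci') h
      convert this using 1
      group
    have hj : p ∣ j := by
      by_contra hd
      refine hzY (mem_of_pow_mem_of_coprime (mem_sup_left (pser_succ_le E 2 hzp)) ?_ hd)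
      have := mul_mem (hKP2 h') (inv_mem (mem_sup_left (mul_mem (pow_mem hza2 k) (pow_mem hzw2 m)) :
        za ^ k * zw ^ m ∈ pser p E 2 ⊔ zpowers (c ^ p)))
      convert this using 1
      group
    have h'' : za ^ k * zw ^ m ∈ K := by
      obtain ⟨j', rfl⟩ := hj
      have hzj : z ^ (p * j') ∈ K := by
        rw [pow_mul]
        exact mem_sup_left (pow_mem hzp j')
      have := mul_mem (inv_mem hzj) h'
      convert this using 1
      group
    obtain ⟨q, hq, d, hd, he⟩ := Subgroup.mem_sup_of_normal_left.1 h''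
    have hd2 : d ∈ pser p E 2 := by
      have := mul_mem (inv_mem (pser_succ_le E 2 hq)) (mul_mem (pow_mem hza2 k) (pow_mem hzw2 m))
      rw [← he, inv_mul_cancel_left] at this
      exact this
    have hdt : t d = d := by
      obtain ⟨r, rfl⟩ := hd
      simp only [map_zpow, map_pow, D.tc]
    have wd : Wt p E (fun x => t x) 2 d 1 := ⟨hd2, by simp [hdt]⟩
    have wza : Wt p E (fun x => t x) 2 za (uval l) :=
      ((D.wt_z hN hsr h5).comm hf hp2 (D.wt_a hN)).congr_exp (by rw [one_mul])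
    have wzw : Wt p E (fun x => t x) 2 zw (uval l⁻¹) :=
      ((D.wt_z hN hsr h5).comm hf hp2 (D.wt_w hN)).congr_exp (by rw [one_mul])
    obtain ⟨hk, hm, -⟩ := Wt.split_three hf (wza.pow hf k) (wzw.pow hf m) (wd.inv hf)
      (by rw [cast_uval D, cast_uval D]; exact hl3) (by rw [cast_uval D, Nat.cast_one]; exact hl1)
      (by rw [cast_uval D, Nat.cast_one]; exact hl2) (by rw [← he, mul_inv_cancel_right]; exact hq)
    refine ⟨hi, hj, ?_, ?_⟩
    · by_contra hd
      exact hza (mem_of_pow_mem_of_coprime (pow_mem_pser_succ hza2) hk hd)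
    · by_contra hd
      exact hzw (mem_of_pow_mem_of_coprime (pow_mem_pser_succ hzw2) hm hd)

/-- The second term lies in the powers of `c`. -/
theorem pser_two_le : pser p E 2 ≤ zpowers (c ^ (p * p)) := by
  haveI := D.normal hN
  have hp2 : p ≠ 2 := by omega
  obtain ⟨hzp, hzc, hcpa, hcpw, hgen⟩ := D.second_layer hN hsr h5
  have hza := D.za_mem hN hsr h5 hc1
  have hzw := (D.za_iff hN hsr h5).1 hza
  have hci : ∀ i, c ^ p ^ i ∈ pser p E i := by
    intro i
    induction i with
    | zero => rw [pow_zero, pow_one]; exact D.cE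
    | succ i ih => rw [pow_succ, pow_mul]; exact pow_mem_pser_succ ih
  have hcc : ∀ i, 1 ≤ i → ∀ e ∈ E, ⁅e, c ^ p ^ i⁆ ∈ pser p E (i + 2) := by
    intro i hi
    induction i, hi using Nat.le_induction with
    | base =>
      intro e he
      rw [pow_one]
      set π := QuotientGroup.mk' (pser p E 3)
      have hπ1 : ∀ {x}, π x = 1 ↔ x ∈ pser p E 3 := fun {x} => QuotientGroup.eq_one_iff x
      let H : Subgroup N := E ⊓ (centralizer ({π (c ^ p)} : Set (N ⧸ pser p E 3))).comap π
      have hcom : ∀ {x}, x ∈ E → ⁅c ^ p, x⁆ ∈ pser p E 3 → x ∈ H := fun {x} hxE hx => by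
        refine ⟨hxE, ?_⟩
        show x ∈ (centralizer _).comap π
        rw [mem_comap, mem_centralizer_singleton_iff]
        have : Commute (π (c ^ p)) (π x) := by
          rw [← commutatorElement_eq_one_iff_commute, ← map_commutatorElement]
          exact hπ1.2 hx
        exact this.symm.eq
      have hle := D.le_of_gen hN (H := H)
        (fun f hf => hcom (pser_le E 1 hf) (comm_pser_pser_one hp2 (pow_mem_pser_one D.cE) hf))
        (hcom D.aE hcpa) (hcom D.wE hcpw) (hcom D.cE (by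
          rw [commutatorElement_eq_one_iff_commute.2 (Commute.pow_self c p)]; exact one_mem _)) he
      rw [← hπ1, map_commutatorElement, commutatorElement_eq_one_iff_commute]
      exact mem_centralizer_singleton_iff.1 hle.2
    | succ i hi ih =>
      intro e he
      have h1 := comm_pow_congr hp2 (i := i) (hci i) he
      have h2 := mul_mem (pow_mem_pser_succ (ih e he)) h1
      rw [mul_inv_cancel_left, ← pow_mul, ← pow_succ] at h2
      exact h2
  have hstep : ∀ i, 2 ≤ i → pser p E i ≤ pser p E (i + 1) ⊔ zpowers (c ^ p ^ i) := by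
    intro i hi
    induction i, hi using Nat.le_induction with
    | base =>
      exact hgen le_sup_left (mem_sup_left hza) (mem_sup_left hzw)
        (mem_sup_right (by rw [pow_two]; exact mem_zpowers _))
    | succ i hi ih =>
      refine pser_succ_le_of (fun x hx e he => ?_) fun x hx => ?_
      · obtain ⟨q, hq, d, hd, rfl⟩ := Subgroup.mem_sup_of_normal_left.1 (ih hx)
        obtain ⟨j, rfl⟩ := (isOfFinOrder_of_finite (c ^ p ^ i)).mem_powers_iff_mem_zpowers.2 hd
        refine mem_sup_left ((QuotientGroup.eq_one_iff _).1 ?_)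
        show QuotientGroup.mk' (pser p E (i + 2)) ⁅q * (c ^ p ^ i) ^ j, e⁆ = 1
        rw [mk_comm_mul_left hp2 (pser_succ_le E i hq) (pow_mem (hci i) j) he,
          mk_comm_pow_left hp2 (hci i) he,
          show QuotientGroup.mk' (pser p E (i + 2)) ⁅q, e⁆ = 1 from
            (QuotientGroup.eq_one_iff _).2 (comm_mem_pser_succ hq he),
          show QuotientGroup.mk' (pser p E (i + 2)) ⁅c ^ p ^ i, e⁆ = 1 from
            (QuotientGroup.eq_one_iff _).2 (by simpa using inv_mem (hcc i (by omega) e he)),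
          one_pow, one_mul]
      · obtain ⟨q, hq, d, hd, rfl⟩ := Subgroup.mem_sup_of_normal_left.1 (ih hx)
        obtain ⟨j, rfl⟩ := (isOfFinOrder_of_finite (c ^ p ^ i)).mem_powers_iff_mem_zpowers.2 hd
        have h1 := mul_pow_congr hp2 (pser_succ_le E i hq) (pow_mem (hci i) j)
        rw [show (q * (c ^ p ^ i) ^ j) ^ p = q ^ p * ((c ^ p ^ i) ^ j) ^ p *
          ((q ^ p * ((c ^ p ^ i) ^ j) ^ p)⁻¹ * (q * (c ^ p ^ i) ^ j) ^ p) by group]
        refine mul_mem (mul_mem (mem_sup_left (pow_mem_pser_succ hq)) (mem_sup_right ?_)) (mem_sup_left h1)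
        rw [← pow_mul, mul_comm j p, pow_mul, ← pow_mul c, ← pow_succ]
        exact pow_mem (mem_zpowers _) j
  have hcle : ∀ i, 2 ≤ i → zpowers (c ^ p ^ i) ≤ zpowers (c ^ (p * p)) := by
    intro i hi
    obtain ⟨j, rfl⟩ := Nat.exists_eq_add_of_le hi
    rw [zpowers_le, pow_add, pow_two, pow_mul c (p * p)]
    exact pow_mem (mem_zpowers _) _
  have hall : ∀ j, pser p E 2 ≤ pser p E (2 + j) ⊔ zpowers (c ^ (p * p)) := by
    intro j
    induction j with
    | zero => exact le_sup_left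
    | succ j ih =>
      exact ih.trans (sup_le ((hstep (2 + j) (by omega)).trans (sup_le_sup_left (hcle _ (by omega)) _))
        le_sup_right)
  obtain ⟨k, hk⟩ := exists_pser_eq_bot hN E
  have := hall k
  rwa [show pser p E (2 + k) = ⊥ from le_bot_iff.1 (hk ▸ pser_antitone E (by omega : k ≤ 2 + k)),
    bot_sup_eq] at this

end Torus

end Cfsg.Agent.H91.Rank3
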