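import Cfsg.Agent.H91.Rank3.Kinds
import Cfsg.Agent.H91.Rank3.Extension
import Cfsg.Agent.H91.Rank3.RankTwo

/-!
An essential subgroup needing three generators is normal in a `p`-group of sectional rank three.
-/

set_option autoImplicit false
set_option linter.unusedSectionVars false
set_option linter.style.haveILetI false

namespace Cfsg.Agent.H91.Rank3

open Subgroup
open Cfsg Cfsg.FusionSystem Cfsg.Agent.FusionSys
open Cfsg.FusionSystem (centralizerIn normalizerIn)
open Cfsg.Agent.H49 (frattiniQuot frattiniQuot_mk)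
open Cfsg.Agent.H90 (seriesStab seriesStab_isPGroup pow_apply_of_fix)
open scoped commutatorElement

universe u

variable {Ω : Type u} [Group Ω] {S : Subgroup Ω} [Finite S] {p : ℕ} [hp : Fact p.Prime] {F : FusionSystem S}

set_option maxHeartbeats 800000 in
/-- The third kind cannot be properly contained in its normalizer, once that is fully normalized. -/
theorem no_move (hS : IsPGroup p S) (hF : F.IsSaturated p) (h5 : 5 ≤ p)
    (hsr : Cfsg.SectionalPRankLE p 3 S) {E N : Subgroup Ω} (hEN : E ≤ N) (hN : F.IsFullyNormalized N)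
    (hlt : N < S) (hNE : normalizerIn S E ≤ N) {t : MulAut N} (ht : t ∈ F.autGroup N) {n w c : N}
    {l : (ZMod p)ˣ} (D : BData p t n w c l) (hcl : E.subgroupOf N = closure {⁅n, w⁆, w, c}) : False := by
  classical
  haveI : Finite N := finite_of_le hN.1
  haveI : Finite (normalizerIn S N) := finite_of_le normalizerIn_le
  have hp2 : p ≠ 2 := by omega
  have hR : IsPGroup p (normalizerIn S N) := hS.to_le normalizerIn_le
  have hNp : IsPGroup p N := hS.to_le hN.1
  set G := F.autGroup N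
  haveI := finite_autGroup F hN.1
  let T := closure {⁅n, w⁆, c}
  haveI : T.Normal := D.t_normal
  let π := QuotientGroup.mk' T
  letI : CommGroup (N ⧸ T) :=
    { (inferInstance : Group (N ⧸ T)) with
      mul_comm := fun x y => by
        obtain ⟨a, rfl⟩ := QuotientGroup.mk'_surjective T x
        obtain ⟨b, rfl⟩ := QuotientGroup.mk'_surjective T y
        rw [← commutatorElement_eq_one_iff_mul_comm, ← map_commutatorElement]
        exact (QuotientGroup.eq_one_iff _).2 (D.phi_le (D.comm_mem a b)) }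
  have hone : ∀ {x : N}, π x = 1 ↔ x ∈ T := fun {x} => QuotientGroup.eq_one_iff x
  have hdiv : ∀ {x y : N}, π x = π y ↔ x⁻¹ * y ∈ T := fun {x y} => QuotientGroup.eq
  have hexp : ∀ v : N ⧸ T, v ^ p = 1 := fun v => by
    obtain ⟨a, rfl⟩ := QuotientGroup.mk'_surjective T v
    rw [← map_pow]
    exact hone.2 (D.dle.trans le_rfl (D.pow_mem hp2 a))
  have hform : ∀ v : N ⧸ T, ∃ i j : ℕ, v = π n ^ i * π w ^ j := fun v => by
    obtain ⟨a, rfl⟩ := QuotientGroup.mk'_surjective T v
    obtain ⟨i, j, k, m, hk⟩ := D.exists_form a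
    refine ⟨i, j, ?_⟩
    rw [← hdiv.2 (D.dle hk), map_mul, map_mul, map_mul, map_pow π n, map_pow π w,
      hone.2 (Subgroup.pow_mem _ (Subgroup.subset_closure (by simp)) k),
      hone.2 (Subgroup.pow_mem _ (Subgroup.subset_closure (by simp)) m), mul_one, mul_one]
  have hind : ∀ {i j : ℕ}, π n ^ i * π w ^ j = 1 → p ∣ i ∧ p ∣ j := fun {i j} h =>
    D.plane_indep (hone.1 (by rw [map_mul, map_pow, map_pow]; exact h))
  have hA1 : π n ≠ 1 := fun h =>
    hp.out.ne_one (Nat.dvd_one.1 (hind (i := 1) (j := 0) (by rw [pow_one, pow_zero, mul_one, h])).1)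
  have hW1 : π w ≠ 1 := fun h =>
    hp.out.ne_one (Nat.dvd_one.1 (hind (i := 0) (j := 1) (by rw [pow_one, pow_zero, one_mul, h])).2)
  have hWA : π w ∉ zpowers (π n) := fun h => by
    obtain ⟨i, hi⟩ := (isOfFinOrder_of_finite (π n)).mem_powers_iff_mem_zpowers.2 h
    have := (hind (i := (p - 1) * i) (j := 1) (by
      rw [pow_one, ← hi, ← pow_add,
        show (p - 1) * i + i = p * i by
          conv_rhs => rw [← Nat.sub_add_cancel hp.out.one_le, add_mul, one_mul],
        pow_mul, hexp, one_pow])).2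
    exact hp.out.ne_one (Nat.dvd_one.1 this)
  have hzc : ∀ {v : N ⧸ T}, v ≠ 1 → Nat.card (zpowers v) = p := fun {v} h => by
    rw [Nat.card_zpowers]; exact orderOf_eq_prime (hexp v) h
  have htop : zpowers (π n) ⊔ zpowers (π w) = ⊤ := eq_top_iff.2 fun v _ => by
    obtain ⟨i, j, rfl⟩ := hform v
    exact mul_mem_sup (Subgroup.pow_mem _ (mem_zpowers _) i) (Subgroup.pow_mem _ (mem_zpowers _) j)
  have hcardV : Nat.card (N ⧸ T) = p ^ 2 := by
    rw [← Subgroup.card_top (G := N ⧸ T), ← htop, PGroups.card_sup_zpowers (p := p) _ hWA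
      (by rw [hexp]; exact one_mem _), hzc hA1, pow_two]
  -- automorphisms act on the plane
  have hTinv : ∀ f : MulAut N, T.map (f : N ≃* N).toMonoidHom = T := fun f =>
    Subgroup.eq_of_le_of_card_ge (by rintro _ ⟨x, hx, rfl⟩; exact (D.invariant hp2 f).2.2 x hx)
      (Subgroup.card_map_of_injective (f : N ≃* N).injective).ge
  let ψ : MulAut N →* MulAut (N ⧸ T) :=
    MonoidHom.mk' (fun f => QuotientGroup.congr T T f (hTinv f)) fun f g => by
      refine MulEquiv.ext fun v => ?_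
      obtain ⟨a, rfl⟩ := QuotientGroup.mk'_surjective T v
      rfl
  have hψ : ∀ (f : MulAut N) (x : N), π (f x) = ψ f (π x) := fun f x => rfl
  let η : ↥(normalizerIn S N) →* MulAut N :=
    (conjAutHom N).comp (Subgroup.inclusion (inf_le_right : normalizerIn S N ≤ _))
  have hη : ∀ (r : ↥(normalizerIn S N)) (x : N), ((η r x : N) : Ω) = r * (x : Ω) * (r : Ω)⁻¹ :=
    fun r x => rfl
  have hηG : ∀ r : ↥(normalizerIn S N), η r ∈ G := fun r => conjAut_mem_autGroup F hN.1 r.2
  obtain ⟨e, he1, hefix⟩ := H49.exists_fixed_line hcardV (ψ.comp η).range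
    (hR.of_surjective (ψ.comp η).rangeRestrict (ψ.comp η).rangeRestrict_surjective)
  have hδpow : ∀ r : ↥(normalizerIn S N), ∃ k, ψ (η r) ^ p ^ k = 1 := fun r => by
    obtain ⟨k, hk⟩ := hR r
    exact ⟨k, by rw [← map_pow, ← map_pow, hk, _root_.map_one, _root_.map_one]⟩
  have hδe : ∀ r, ψ (η r) e = e := fun r => hefix _ ⟨r, rfl⟩
  have htv : ∀ r v, v⁻¹ * ψ (η r) v ∈ zpowers e := fun r =>
    H49.transvection_of_pGroup hcardV hexp he1 (hδe r) (hδpow r)
  have hfixW : ∀ r : ↥(normalizerIn S N), ψ (η r) (π w) = π w → (r : Ω) ∈ N := by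
    intro r hr
    have hTE : T ≤ closure {⁅n, w⁆, w, c} := (closure_le _).2 (by
      rintro x (rfl | rfl) <;> exact Subgroup.subset_closure (by simp))
    have hmem : ∀ x ∈ closure {⁅n, w⁆, w, c}, η r x ∈ closure {⁅n, w⁆, w, c} := by
      intro x hx
      refine (closure_le (K := (closure {⁅n, w⁆, w, c}).comap (η r : N ≃* N).toMonoidHom)).2 ?_ hx
      rintro y (rfl | h2 | rfl)
      · exact hTE ((D.invariant hp2 (η r)).2.2 _ (Subgroup.subset_closure (by simp)))
      · rw [h2]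
        show η r w ∈ Subgroup.closure {⁅n, w⁆, w, c}
        rw [← hψ] at hr
        have hw : w ∈ Subgroup.closure {⁅n, w⁆, w, c} := Subgroup.subset_closure (by simp)
        have := mul_mem hw (hTE (hdiv.1 hr.symm))
        rwa [mul_inv_cancel_left] at this
      · exact hTE ((D.invariant hp2 (η r)).2.2 _ (Subgroup.subset_closure (by simp)))
    haveI : Finite E := finite_of_le (hEN.trans hN.1)
    refine hNE ⟨r.2.1, mem_normalizer_of_maps fun y hy => ?_⟩
    have h := hmem ⟨y, hEN hy⟩ (hcl ▸ Subgroup.mem_subgroupOf.2 hy)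
    rw [← hcl, Subgroup.mem_subgroupOf, hη] at h
    exact h
  have hfix2 : ∀ (r : ↥(normalizerIn S N)) (v : N ⧸ T), v ∉ zpowers e → ψ (η r) v ∈ zpowers v →
      (r : Ω) ∈ N := by
    intro r v hv hmem
    obtain ⟨k, hk⟩ := hδpow r
    have h1 := fix_line hk (hexp v) hmem
    have htop' : zpowers e ⊔ zpowers v = ⊤ := Subgroup.eq_top_of_card_eq _ (by
      rw [PGroups.card_sup_zpowers (p := p) _ hv (by rw [hexp]; exact one_mem _), hzc he1, hcardV, pow_two])
    refine hfixW r ((sup_le (zpowers_le.2 (hδe r)) (zpowers_le.2 h1) :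
      zpowers e ⊔ zpowers v ≤ ((ψ (η r) : (N ⧸ T) ≃* (N ⧸ T)).toMonoidHom).eqLocus (MonoidHom.id _))
      (htop'.ge (mem_top _)))
  obtain ⟨r0', hr0, hr0N⟩ := SetLike.exists_of_lt (FusionSys.lt_normalizerIn hS hlt)
  set r0 : ↥(normalizerIn S N) := ⟨r0', hr0⟩
  -- move the line of `n` to the fixed one
  obtain ⟨h, hh, hhn, hhw⟩ : ∃ h ∈ G, zpowers (π (h n)) = zpowers e ∧ π (h w) ∉ zpowers e := by
    suffices hex : ∃ h ∈ G, π (h n) ∈ zpowers e by
      obtain ⟨h, hh, hmem⟩ := hex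
      have hne : π (h n) ≠ 1 := by rw [hψ, map_ne_one_iff _ (ψ h).injective]; exact hA1
      have heq : zpowers (π (h n)) = zpowers e :=
        Subgroup.eq_of_le_of_card_ge (zpowers_le.2 hmem) (by rw [hzc he1, hzc hne])
      refine ⟨h, hh, heq, fun hmw => hWA ?_⟩
      rw [← heq, hψ, hψ] at hmw
      obtain ⟨i, hi⟩ := hmw
      simp only at hi
      rw [← map_zpow, (ψ h).injective.eq_iff] at hi
      exact ⟨i, hi⟩
    obtain ⟨i, j, he⟩ := hform e
    have hpow : ∀ {v : N ⧸ T} {a b : ℕ}, (a : ZMod p) = b → v ^ a = v ^ b :=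
      fun {v a b} h => pow_eq_pow_zmod (hexp v) h
    by_cases hj : p ∣ j
    · refine ⟨1, one_mem _, ?_⟩
      obtain ⟨q, rfl⟩ := hj
      rw [pow_mul (π w), hexp, one_pow, mul_one] at he
      have hle : zpowers e ≤ zpowers (π n) := zpowers_le.2 (he ▸ Subgroup.pow_mem _ (mem_zpowers _) i)
      exact (Subgroup.eq_of_le_of_card_ge hle (by rw [hzc he1, hzc hA1])).ge (mem_zpowers _)
    have hi : ¬ p ∣ i := by
      rintro ⟨q, rfl⟩
      rw [pow_mul, hexp, one_pow, one_mul] at he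
      have hmem : zpowers e ≤ zpowers (π w) := zpowers_le.2 (he ▸ Subgroup.pow_mem _ (mem_zpowers _) j)
      have hWe := (Subgroup.eq_of_le_of_card_ge hmem (by rw [hzc he1, hzc hW1])).ge (mem_zpowers _)
      obtain ⟨a, ha⟩ := hWe
      refine hr0N (hfixW r0 ?_)
      rw [show π w = e ^ a from ha.symm, map_zpow, hδe]
    set δ := ψ (η r0)
    obtain ⟨β, hβ⟩ := (isOfFinOrder_of_finite e).mem_powers_iff_mem_zpowers.2 (htv r0 (π n))
    simp only at hβ
    have hδA : δ (π n) = π n * e ^ β := by rw [hβ, mul_inv_cancel_left]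
    have hAe : π n ∉ zpowers e := fun hm => by
      have h' := (Subgroup.eq_of_le_of_card_ge (zpowers_le.2 hm) (by rw [hzc he1, hzc hA1])).ge (mem_zpowers e)
      obtain ⟨m, hm⟩ := (isOfFinOrder_of_finite (π n)).mem_powers_iff_mem_zpowers.2 h'
      simp only at hm
      have := hind (i := (p - 1) * m + i) (j := j) (by
        rw [pow_add, mul_assoc, ← he, ← hm, ← pow_add, show (p - 1) * m + m = p * m by
          conv_rhs => rw [← Nat.sub_add_cancel hp.out.one_le, add_mul, one_mul], pow_mul, hexp, one_pow])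
      exact hj this.2
    have hβp : ¬ p ∣ β := by
      rintro ⟨q, rfl⟩
      refine hr0N (hfix2 r0 (π n) hAe ?_)
      rw [hδA, pow_mul, hexp, one_pow, mul_one]
      exact mem_zpowers _
    set L := uval l
    set L' := uval l⁻¹
    have hne : ((L * L : ℕ) : ZMod p) - (L' : ZMod p) ≠ 0 := by
      rw [sub_ne_zero, Nat.cast_mul, ZMod.natCast_zmod_val, ZMod.natCast_zmod_val, ← pow_two]
      intro h
      have h3 : (l : ZMod p) ^ 3 = 1 := by rw [pow_succ, h, l.inv_mul]
      exact pow_ne_one_of_lt_orderOf (n := 3) three_ne_zero (by rw [D.lord]; omega) (Units.ext (by simpa using h3))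
    have hi0 : (i : ZMod p) ≠ 0 := fun h => hi ((ZMod.natCast_eq_zero_iff _ _).1 h)
    have hβ0 : (β : ZMod p) ≠ 0 := fun h => hβp ((ZMod.natCast_eq_zero_iff _ _).1 h)
    obtain ⟨sz, hsz⟩ : ∃ sz : ZMod p,
        sz * ((i : ZMod p) * ((l : ZMod p) * l - ((l⁻¹ : (ZMod p)ˣ) : ZMod p))) = 1 := by
      rw [Nat.cast_mul, ZMod.natCast_zmod_val, ZMod.natCast_zmod_val] at hne
      exact ⟨_, inv_mul_cancel₀ (mul_ne_zero hi0 hne)⟩
    obtain ⟨k, hk⟩ : ∃ k : ℕ, (k : ZMod p) * β = sz * ((l⁻¹ : (ZMod p)ˣ) : ZMod p) := by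
      refine ⟨(sz * ((l⁻¹ : (ZMod p)ˣ) : ZMod p) * (β : ZMod p)⁻¹).val, ?_⟩
      rw [ZMod.natCast_zmod_val, mul_assoc, inv_mul_cancel₀ hβ0, mul_one]
    have hfe : δ ((π n)⁻¹ * δ (π n)) = (π n)⁻¹ * δ (π n) := by rw [← hβ, map_pow, hδe]
    refine ⟨t⁻¹ * η r0 ^ k, mul_mem (inv_mem ht) (pow_mem (hηG r0) k), (sz.val : ℤ), ?_⟩
    show e ^ (sz.val : ℤ) = _
    rw [zpow_natCast, hψ, map_mul, map_inv, map_pow, MulAut.mul_apply]
    refine (ψ t).injective ?_
    rw [MulAut.apply_inv_self, pow_apply_of_fix _ hfe, ← hβ, map_pow, ← pow_mul]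
    rw [he, map_mul, map_pow, map_pow, ← hψ, ← hψ, D.tn, D.tw, map_pow π n, map_pow π w, ← pow_mul, ← pow_mul,
      mul_pow, mul_pow, ← pow_mul, ← pow_mul, ← pow_mul, ← pow_mul, ← mul_assoc]
    conv_rhs => arg 1; arg 1; rw [← pow_one (π n)]
    rw [← pow_add]
    congr 1
    · refine hpow ?_
      simp only [Nat.cast_mul, Nat.cast_add, Nat.cast_one, ZMod.natCast_zmod_val]
      linear_combination hsz - (i : ZMod p) * hk
    · refine hpow ?_
      simp only [Nat.cast_mul, ZMod.natCast_zmod_val]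
      linear_combination - (j : ZMod p) * hk
  -- the moved data
  set n' := h n with hn'
  set w' := h w with hw'
  set c' := h c with hc'
  obtain ⟨t', ht'⟩ : ∃ t', t' = h * t * h⁻¹ := ⟨_, rfl⟩
  have ht'G : t' ∈ G := ht'.symm ▸ mul_mem (mul_mem hh ht) (inv_mem hh)
  have D' : BData p t' n' w' c' l := by rw [ht']; exact D.map h
  have hT' : closure {⁅n', w'⁆, c'} = T := by
    refine Eq.trans ?_ (hTinv h)
    rw [MonoidHom.map_closure, Set.image_pair, hn', hw', hc', ← map_commutatorElement h]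
    rfl
  have hπn' : π n' ∈ zpowers e := hhn.le (mem_zpowers _)
  set B := (zpowers e).comap π
  have hTB : T ≤ B := fun x hx => by rw [Subgroup.mem_comap, hone.2 hx]; exact one_mem _
  have hΦ : frattini N ≤ T := by
    rw [PGroups.frattini_eq hNp]
    refine sup_le ?_ ((closure_le _).2 ?_)
    · rw [_root_.commutator_def, commutator_le]
      exact fun a _ b _ => D.phi_le (D.comm_mem a b)
    · rintro _ ⟨x, rfl⟩
      exact D.dle (D.pow_mem hp2 x)
  letI : CommGroup (N ⧸ frattini N) :=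
    { (inferInstance : Group (N ⧸ frattini N)) with
      mul_comm := fun x y => by
        obtain ⟨a, rfl⟩ := QuotientGroup.mk'_surjective (frattini N) x
        obtain ⟨b, rfl⟩ := QuotientGroup.mk'_surjective (frattini N) y
        rw [← commutatorElement_eq_one_iff_mul_comm, ← map_commutatorElement]
        exact (QuotientGroup.eq_one_iff _).2 (PGroups.commutator_le_frattini hNp
          (Subgroup.commutator_mem_commutator (mem_top a) (mem_top b))) }
  haveI : Finite (MulAut (N ⧸ frattini N)) := finite_aut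
  set fq := frattiniQuot N
  set π' := QuotientGroup.mk' (frattini N)
  have happ : ∀ (f : MulAut N) (x : N), π' (f x) = fq f (π' x) := fun f x => (frattiniQuot_mk f x).symm
  set Tb := T.map π'
  set Bb := B.map π'
  set Ss := seriesStab (⊤ : Subgroup (MulAut (N ⧸ frattini N))) Tb Bb
  have hSp : IsPGroup p Ss := seriesStab_isPGroup (fun b _ => H49.quot_pow hNp b) fun b _ => H49.quot_pow hNp b
  set K := (Ss.comap (fq.comp G.subtype)).map G.subtype with hK
  have hKp : IsPGroup p K :=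
    (hSp.comap_of_ker_isPGroup (fq.comp G.subtype) (H49.isPGroup_ker hNp G)).map _
  have hKmem : ∀ {f : MulAut N}, f ∈ G → fq f ∈ Ss → f ∈ K := fun {f} hf hs => ⟨⟨f, hf⟩, hs, rfl⟩
  have hTb : ∀ a ∈ Tb, a ∈ zpowers (π' c') := by
    rintro _ ⟨x, hx, rfl⟩
    rw [← hT'] at hx
    refine (closure_le (K := (zpowers (π' c')).comap π')).2 ?_ hx
    rintro y (h2 | h2) <;> rw [h2]
    · rw [SetLike.mem_coe, Subgroup.mem_comap,
        show π' ⁅n', w'⁆ = 1 from (QuotientGroup.eq_one_iff _).2 (PGroups.commutator_le_frattini hNp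
          (Subgroup.commutator_mem_commutator (mem_top _) (mem_top _)))]
      exact one_mem _
    · exact mem_zpowers (π' c')
  have hconjK : ∀ r, η r ∈ K := by
    intro r
    obtain ⟨k, hk⟩ := hR r
    refine hKmem (hηG r) ⟨mem_top _, fun a ha => ?_, ?_, fun v => ?_⟩
    · have hcfix : fq (η r) (π' c') = π' c' := by
        refine fix_line (k := k) (by rw [← map_pow, ← map_pow, hk, _root_.map_one, _root_.map_one])
          (H49.quot_pow hNp _) (hTb _ ⟨η r c', (D.invariant hp2 (η r)).2.2 c' ?_, happ _ _⟩)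
        rw [show closure {⁅n, w⁆, c} = T from rfl, ← hT']
        exact Subgroup.subset_closure (by simp)
      obtain ⟨m, rfl⟩ := hTb a ha
      simp only
      rw [map_zpow, hcfix]
    · rintro _ ⟨x, hx, rfl⟩
      refine ⟨x⁻¹ * η r x, hdiv.1 ?_, by rw [map_mul, map_inv, happ]⟩
      obtain ⟨m, hm⟩ := hx
      rw [hψ, ← show e ^ m = π x from hm, map_zpow, hδe]
    · obtain ⟨x, rfl⟩ := QuotientGroup.mk'_surjective (frattini N) v
      refine ⟨x⁻¹ * η r x, ?_, by rw [map_mul, map_inv, happ]⟩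
      rw [SetLike.mem_coe, Subgroup.mem_comap, map_mul, map_inv, hψ]
      exact htv r (π x)
  have hAK : autInducedBy S N ≤ K := by
    intro f hf
    obtain ⟨x, hxS, hxn, rfl⟩ := mem_autInducedBy.1 hf
    exact hconjK ⟨x, hxS, hxn⟩
  have hKA : K ≤ autInducedBy S N := Small.le_autInducedBy hS hF hN (by
    rintro _ ⟨f, -, rfl⟩; exact f.2) hKp hAK
  -- `t'` normalises `K`
  have hinvT : ∀ {f : MulAut N} {a}, a ∈ Tb → fq f a ∈ Tb := by
    rintro f _ ⟨x, hx, rfl⟩
    exact ⟨f x, (D.invariant hp2 f).2.2 x hx, happ f x⟩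
  have ht'e : ψ t' e ∈ zpowers e := by
    obtain ⟨m, hm⟩ := hhn.ge (mem_zpowers e)
    have h1 : ψ t' (π n' ^ m) ∈ zpowers e := by
      rw [map_zpow, ← hψ, D'.tn, map_pow]
      exact zpow_mem (Subgroup.pow_mem _ hπn' _) m
    rwa [show π n' ^ m = e from hm] at h1
  have ht'z : (zpowers e).map (ψ t' : (N ⧸ T) ≃* (N ⧸ T)).toMonoidHom = zpowers e :=
    Subgroup.eq_of_le_of_card_ge (by rw [MonoidHom.map_zpowers]; exact zpowers_le.2 ht'e)
      (Subgroup.card_map_of_injective (ψ t' : (N ⧸ T) ≃* (N ⧸ T)).injective).ge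
  have ht'B : B.map (t' : N ≃* N).toMonoidHom = B := by
    refine Subgroup.eq_of_le_of_card_ge ?_ (Subgroup.card_map_of_injective (t' : N ≃* N).injective).ge
    rintro _ ⟨x, hx, rfl⟩
    show π (t' x) ∈ zpowers e
    rw [hψ]
    exact ht'z.le ⟨π x, hx, rfl⟩
  have hnormK : ∀ f ∈ K, t' * f * t'⁻¹ ∈ K := by
    rintro _ ⟨f, hf, rfl⟩
    show t' * (f : MulAut N) * t'⁻¹ ∈ K
    refine hKmem (mul_mem (mul_mem ht'G f.2) (inv_mem ht'G)) ?_
    have hf' : fq (f : MulAut N) ∈ Ss := hf
    obtain ⟨-, h1, h2, h3⟩ := hf'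
    have hback : ∀ b ∈ Bb, (fq t')⁻¹ b ∈ Bb := by
      rintro _ ⟨x, hx, rfl⟩
      obtain ⟨y, hy, rfl⟩ := ht'B.ge hx
      refine ⟨y, hy, ?_⟩
      show π' y = (fq t')⁻¹ (π' (t' y))
      rw [happ, MulAut.inv_apply_self]
    have hfwd : ∀ b ∈ Bb, fq t' b ∈ Bb := by
      rintro _ ⟨x, hx, rfl⟩
      exact ⟨t' x, ht'B.le ⟨x, hx, rfl⟩, happ t' x⟩
    have key : ∀ v, fq (t' * (f : MulAut N) * t'⁻¹) v = fq t' (fq (f : MulAut N) ((fq t')⁻¹ v)) := fun v => by
      rw [map_mul fq (t' * (f : MulAut N)), map_mul fq t', map_inv fq]; rfl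
    have hd : ∀ v, v⁻¹ * fq (t' * (f : MulAut N) * t'⁻¹) v =
        fq t' (((fq t')⁻¹ v)⁻¹ * fq (f : MulAut N) ((fq t')⁻¹ v)) := fun v => by
      rw [key, map_mul, map_inv, MulAut.apply_inv_self]
    refine ⟨mem_top _, fun a ha => ?_, fun b hb => ?_, fun v => ?_⟩
    · have ha' : (fq t')⁻¹ a ∈ Tb := by rw [← map_inv]; exact hinvT ha
      rw [key, h1 _ ha', MulAut.apply_inv_self]
    · rw [hd]; exact hinvT (h2 _ (hback b hb))
    · rw [hd]; exact hfwd _ (h3 _)
  -- extension
  obtain ⟨g, hg, hge⟩ := receptive_extend (receptive_of_isFullyNormalized hS hF hN)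
    (isIso_autMap hN.1 ht'G) (N := normalizerIn S N) fun x hx => inExt_autMap hx.1 hx.2
      (hKA (hnormK _ (hconjK ⟨x, hx⟩)))
  have hNR : N ≤ normalizerIn S N := le_normalizerIn_self hN.1
  rw [sup_eq_left.2 hNR] at hg
  have hgR : ∀ x ∈ normalizerIn S N, g x ∈ normalizerIn S N := fun x hx =>
    (isIso_autMap hN.1 ht'G).mem_normalizerIn_of_extends hg hNR hge hx hx.2
  obtain ⟨τ, -, hτe⟩ := (IsIso.mk hg (hg.image_eq_of_mapsTo hgR)).exists_aut
  set N2 := N.subgroupOf (normalizerIn S N)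
  haveI : N2.Normal := ⟨fun x hx r => by
    rw [Subgroup.mem_subgroupOf] at hx ⊢
    simpa using (Subgroup.mem_normalizer_iff.1 r.2.2 x).1 hx⟩
  let e2 : N ≃* N2 := (Subgroup.subgroupOfEquivOfLe hNR).symm
  have hconj : ∀ (r : ↥(normalizerIn S N)) (x : N), MulAut.conjNormal r (e2 x) = e2 (η r x) :=
    fun r x => Subtype.ext (Subtype.ext rfl)
  have hu2 : ⁅e2 n', e2 w'⁆ = e2 ⁅n', w'⁆ := (map_commutatorElement e2 n' w').symm
  refine no_bigger hR (sectional_of_injective (Subgroup.inclusion normalizerIn_le)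
      (Subgroup.inclusion_injective _) hsr) h5 N2 ?_ (D'.equiv e2) (fun r => ?_) (fun r hr => ?_)
    (τ : ↥(normalizerIn S N) ≃* ↥(normalizerIn S N)).toMonoidHom fun x => ?_
  · intro h'
    exact hr0N (Subgroup.mem_subgroupOf.1 (h'.ge (mem_top r0)))
  · rw [hconj]
    have h1 : π (η r n') = π n' := by
      obtain ⟨m, hm⟩ := hπn'
      rw [hψ, ← show e ^ m = π n' from hm, map_zpow, hδe]
    have h2 : η r n' ∈ closure {⁅n', w'⁆, c'} ⊔ zpowers n' := by
      rw [hT', show η r n' = n' * (n'⁻¹ * η r n') by group]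
      exact mul_mem (mem_sup_right (mem_zpowers _)) (mem_sup_left (hdiv.1 h1.symm))
    have h3 := Subgroup.mem_map_of_mem e2.toMonoidHom h2
    rw [Subgroup.map_sup, MonoidHom.map_zpowers, MonoidHom.map_closure, Set.image_pair] at h3
    rw [hu2]
    exact h3
  · rw [hconj, hu2] at hr
    have h3 : η r w' ∈ closure {⁅n', w'⁆, w', c'} := by
      have hm : (closure {⁅n', w'⁆, w', c'}).map e2.toMonoidHom = closure {e2 ⁅n', w'⁆, e2 w', e2 c'} := by
        rw [MonoidHom.map_closure, Set.image_insert_eq, Set.image_pair]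
        rfl
      rw [← hm] at hr
      exact (Subgroup.mem_map_iff_mem e2.injective).1 hr
    refine Subgroup.mem_subgroupOf.2 (hfix2 r (π w') hhw ?_)
    rw [← hψ]
    refine (closure_le (K := (zpowers (π w')).comap π)).2 ?_ h3
    rintro y (h2 | h2 | h2) <;> rw [h2, SetLike.mem_coe, Subgroup.mem_comap]
    · rw [hone.2 (show ⁅n', w'⁆ ∈ T from hT'.le (Subgroup.subset_closure (by simp)))]
      exact one_mem _
    · exact mem_zpowers (π w')
    · rw [hone.2 (show c' ∈ T from hT'.le (Subgroup.subset_closure (by simp)))]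
      exact one_mem _
  · refine Subtype.ext ?_
    have hx : ((x : ↥(normalizerIn S N)) : Ω) ∈ N := Subgroup.mem_subgroupOf.1 x.2
    show ((τ (x : ↥(normalizerIn S N)) : ↥(normalizerIn S N)) : Ω) =
      (((e2.symm.trans t').trans e2 x : N2) : ↥(normalizerIn S N))
    rw [← autMap_coe τ x, hτe _ (x : ↥(normalizerIn S N)).2, hge _ hx, autMap_apply _ hx]
    rfl

/-- An element normalizing `N` normalizes a regular maximal subgroup of it. -/
theorem regular_conj {E N : Subgroup Ω} [Finite N] (hEN : E ≤ N) (DA : RegularData p (E.subgroupOf N))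
    (hN : IsPGroup p N) (hsr : Cfsg.SectionalPRankLE p 3 N) (h5 : 5 ≤ p) {x : Ω}
    (hx : x ∈ Subgroup.normalizer (N : Set Ω)) : x ∈ Subgroup.normalizer (E : Set Ω) := by
  haveI : Finite E := finite_of_le hEN
  obtain ⟨cx, hcx⟩ : ∃ cx : MulAut N, ∀ z : N, ((cx z : N) : Ω) = x * (z : Ω) * x⁻¹ :=
    ⟨conjAut hx, fun z => coe_conjAut hx z⟩
  have h := DA.eq_of_mulEquiv hN hsr h5 (E2 := (E.subgroupOf N).map (cx : N ≃* N).toMonoidHom)
    ((Subgroup.index_map_equiv _ _).trans DA.index)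
    ((E.subgroupOf N).equivMapOfInjective _ (cx : N ≃* N).injective).symm
  refine mem_normalizer_of_maps fun y hy => ?_
  have h1 := Subgroup.mem_map_of_mem (cx : N ≃* N).toMonoidHom (K := E.subgroupOf N) (x := ⟨y, hEN hy⟩)
    (Subgroup.mem_subgroupOf.2 hy)
  rw [h, Subgroup.mem_subgroupOf, MulEquiv.coe_toMonoidHom, hcx] at h1
  exact h1

/-- An essential subgroup needing three generators is normal. -/
theorem normal_of_rank_three (hS : IsPGroup p S) (hF : F.IsSaturated p) (h5 : 5 ≤ p)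
    (hsr : Cfsg.SectionalPRankLE p 3 S) {E : Subgroup Ω} (hE : F.IsEssential p E)
    (hrk : (frattini E).index = p ^ 3) : normalizerIn S E = S := by
  have hES := hE.1.1
  have hle := le_normalizerIn_self (S := S) hES
  by_contra hne
  set N := normalizerIn S E with hNdef
  have hNS : N ≤ S := normalizerIn_le
  haveI : Finite N := finite_of_le hNS
  haveI : Finite E := finite_of_le hES
  have hN : IsPGroup p N := hS.to_le hNS
  have hsrN := sectional_of_injective (Subgroup.inclusion hNS) (Subgroup.inclusion_injective _) hsr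
  rcases kinds hS hF h5 hsr hE hle with ⟨DA, -⟩ | ⟨h2, -⟩ | ⟨-, t, n, w, c, l, ht, D, hcl, -, -⟩
  · obtain ⟨x, hx, hxN⟩ := SetLike.exists_of_lt (FusionSys.lt_normalizerIn hS (lt_of_le_of_ne hNS hne))
    exact hxN ⟨hx.1, regular_conj hle DA hN hsrN h5 hx.2⟩
  · rw [h2] at hrk
    exact absurd (Nat.pow_right_injective hp.out.two_le hrk) (by norm_num)
  · obtain ⟨Q, hNQ, hQ⟩ := exists_isFullyNormalized F hNS
    obtain ⟨g, hgm, hgi, -⟩ := exists_map_to_fullyNormalized hS hF hQ hNQ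
    haveI : Finite Q := finite_of_le hQ.1
    set E0 := imgSub g E
    have hgE : IsMap F E g := hgi.isMap.mono hle
    have hE0Q : E0 ≤ Q := fun y hy => by
      obtain ⟨x, hx, rfl⟩ := hgE.mem_imgSub.1 hy
      exact hgi.mem (hle hx)
    have hQE : normalizerIn S E0 = Q := by
      have h1 : Q ≤ normalizerIn S E0 := fun y hy => by
        obtain ⟨x, hx, rfl⟩ := hgi.exists_preimage hy
        exact hgi.isMap.mem_normalizerIn hle hx hx.2
      haveI : Finite (normalizerIn S E0) := finite_of_le normalizerIn_le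
      refine (Subgroup.eq_of_le_of_card_ge h1 ?_).symm
      rw [← hgi.card_eq]
      exact hE.2.1.2 E0 hgE.isIso.isConj
    have hQS : Q < S := lt_of_le_of_ne hQ.1 fun h => hne (Subgroup.eq_of_le_of_card_ge hNS (by
      rw [hgi.card_eq, h]))
    obtain ⟨g', hg', hgg', hgg⟩ := hgi.exists_symm
    set t0 := (hgi.equiv.symm.trans t).trans hgi.equiv
    have ht0 : t0 ∈ F.autGroup Q := by
      refine mem_autGroup_of_isMap (((hg'.comp (isIso_autMap hNS ht)).comp hgi).isMap.congr fun y hy => ?_)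
      rw [autMap_apply _ hy]
      obtain ⟨x, hx⟩ : ∃ x, hgi.equiv x = ⟨y, hy⟩ := ⟨hgi.equiv.symm ⟨y, hy⟩, MulEquiv.apply_symm_apply _ _⟩
      have hxy : g x = y := congrArg Subtype.val hx
      show ((t0 ⟨y, hy⟩ : Q) : Ω) = g (autMap t (g' y))
      have hgy : g' y = x := by rw [← hxy]; exact hgg' _ x.2
      rw [hgy, autMap_coe, ← hgi.coe_equiv]
      refine congrArg Subtype.val ?_
      show hgi.equiv (t (hgi.equiv.symm ⟨y, hy⟩)) = _
      rw [← hx, MulEquiv.symm_apply_apply]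
    have hcl0 : E0.subgroupOf Q = closure {⁅hgi.equiv n, hgi.equiv w⁆, hgi.equiv w, hgi.equiv c} := by
      have hmap : (E.subgroupOf N).map hgi.equiv.toMonoidHom = E0.subgroupOf Q := by
        ext y
        constructor
        · rintro ⟨x, hx, rfl⟩
          exact Subgroup.mem_subgroupOf.2 (hgE.mem_imgSub.2 ⟨x, Subgroup.mem_subgroupOf.1 hx, rfl⟩)
        · intro hy
          obtain ⟨x, hx, he⟩ := hgE.mem_imgSub.1 (Subgroup.mem_subgroupOf.1 hy)
          exact ⟨⟨x, hle hx⟩, Subgroup.mem_subgroupOf.2 hx, Subtype.ext he⟩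
      rw [← hmap, hcl, MonoidHom.map_closure, Set.image_insert_eq, Set.image_pair,
        ← map_commutatorElement hgi.equiv]
      rfl
    exact no_move hS hF h5 hsr hE0Q hQ hQS hQE.le ht0 (D.equiv hgi.equiv) hcl0

end Cfsg.Agent.H91.Rank3
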