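import Cfsg.Agent.H91.Rank3.PairTools
import Cfsg.Agent.H91.Rank3.CaseOne

/-!
A pair of members where a span leaves the other member.
-/

set_option autoImplicit false
set_option linter.unusedSectionVars false
set_option linter.style.haveILetI false

namespace Cfsg.Agent.H91.Rank3

open Subgroup
open scoped commutatorElement

namespace Fam

variable {M : Type*} [Group M] [Finite M] {p : ℕ} [hp : Fact p.Prime] {F : Fam p M} {E1 E2 : Subgroup M}

theorem exists_mem_diff (h1 : F.Ess E1) (h2 : F.Ess E2) (hne : E1 ≠ E2) : ∃ x ∈ E2, x ∉ E1 := by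
  by_contra h
  push Not at h
  refine hne (Eq.symm ?_)
  refine Subgroup.eq_of_le_of_card_ge h (le_of_eq (Nat.eq_of_mul_eq_mul_right hp.out.pos ?_))
  conv_lhs => rw [← F.index h1, Subgroup.card_mul_index]
  rw [← Subgroup.card_mul_index E2, F.index h2]

/-- A central displacement and a span inside: impossible. -/
theorem central_false (h1 : F.Ess E1) (h2 : F.Ess E2) {z x : M} (hz : z ∈ F.span E1) (hz2 : z ∉ E2)
    (hx1 : x ∉ E1) (hd : x * (z⁻¹ * (x * z * x⁻¹)) * x⁻¹ = z⁻¹ * (x * z * x⁻¹))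
    (hsp : F.span E2 ≤ E1) : False := by
  set d := z⁻¹ * (x * z * x⁻¹) with hddef
  haveI := span_normal h1
  haveI := span_normal h2
  have hdV : d ∈ F.span E1 := mul_mem (inv_mem hz) ((inferInstance : (F.span E1).Normal).conj_mem z hz x)
  have hdc : d ∈ center M := mem_center_of h1 hx1 (fun e he => span_comm hdV he) (mul_inv_eq_iff_eq_mul.1 hd).symm
  have hdW : d ∈ F.span E2 := om_le_span h2 ⟨hdc, span_pow hdV⟩
  set π := QuotientGroup.mk' (F.span E2)
  refine no_series h2 hz2 inv_span (fun b hb => span_pow hb) (fun b hb _ => ?_) fun e he => ?_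
  · rw [(span_comm hz (hsp hb)).eq, mul_inv_cancel_right]
  · obtain ⟨t, ht, i, rfl⟩ := exists_dec h1 hx1 e
    have hzx : Commute (π z) (π x) := by
      have h : π d = 1 := (QuotientGroup.eq_one_iff _).2 hdW
      rw [hddef, map_mul, map_inv, inv_mul_eq_one, map_mul, map_mul, map_inv, eq_mul_inv_iff_mul_eq] at h
      exact h
    rw [← QuotientGroup.eq_one_iff, ← QuotientGroup.mk'_apply]
    have hze : Commute (π z) (π (t * x ^ i)) := by
      rw [map_mul, map_pow]
      exact (((span_comm hz ht).map π)).mul_right (hzx.pow_right i)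
    rw [map_mul π (t * x ^ i)⁻¹, map_inv, map_mul π (z * (t * x ^ i)), map_inv, map_mul π z, hze.eq,
      mul_inv_cancel_right, inv_mul_cancel]

/-- A span outside and a span inside: the symplectic pair. -/
theorem pair_sp (h1 : F.Ess E1) (h2 : F.Ess E2) {z : M} (hz : z ∈ F.span E1) (hz2 : z ∉ E2)
    (hsp : F.span E2 ≤ E1) : SpPair p E1 E2 := by
  have hne : E1 ≠ E2 := fun h => hz2 (h ▸ span_le hz)
  obtain ⟨x, hx2, hx1⟩ := exists_mem_diff h1 h2 hne
  exact caseOne_chain h1 h2 hz hz2 hx2 hx1 fun hd => central_false h1 h2 hz hz2 hx1 hd hsp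

/-- Every element in coordinates over the intersection. -/
theorem exists_dec2 (h1 : F.Ess E1) (h2 : F.Ess E2) {z z' : M} (hz : z ∉ E2) (hz' : z' ∈ E2) (hz'1 : z' ∉ E1)
    (m : M) : ∃ s ∈ E1 ⊓ E2, ∃ j i : ℕ, m = s * z' ^ j * z ^ i := by
  obtain ⟨t, ht, i, rfl⟩ := exists_dec h2 hz m
  obtain ⟨s, hs, j, rfl⟩ := exists_dec h1 hz'1 t
  refine ⟨s, ⟨hs, ?_⟩, j, i, rfl⟩
  have := E2.mul_mem ht (E2.inv_mem (E2.pow_mem hz' j))
  rwa [mul_inv_cancel_right] at this

/-- Both spans outside: both members are abelian. -/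
theorem both_abelian (h1 : F.Ess E1) (h2 : F.Ess E2) {z z' : M} (hz : z ∈ F.span E1) (hz2 : z ∉ E2)
    (hz' : z' ∈ F.span E2) (hz'1 : z' ∉ E1) :
    (∀ a ∈ E1, ∀ b ∈ E1, Commute a b) ∧ ∀ a ∈ E2, ∀ b ∈ E2, Commute a b := by
  haveI := normal h1
  haveI := normal h2
  set D := E1 ⊓ E2
  set d := ⁅z, z'⁆
  have hzE : ∀ e ∈ E1, Commute z e := fun e he => span_comm hz he
  have hzE' : ∀ e ∈ E2, Commute z' e := fun e he => span_comm hz' he
  have hdD : d ∈ D := ⟨comm_mem h1 z z', comm_mem h2 z z'⟩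
  have hdz : Commute d z := (hzE d hdD.1).symm
  have hdz' : Commute d z' := (hzE' d hdD.2).symm
  have hde : ∀ e ∈ D, Commute d e := fun e he => by
    have hle : zpowers z ⊔ zpowers z' ≤ centralizer ({e} : Set M) := sup_le
      (zpowers_le.2 (Subgroup.mem_centralizer_singleton_iff.2 (hzE e he.1).eq))
      (zpowers_le.2 (Subgroup.mem_centralizer_singleton_iff.2 (hzE' e he.2).eq))
    refine Subgroup.mem_centralizer_singleton_iff.1 (hle ?_)
    show z * z' * z⁻¹ * z'⁻¹ ∈ _
    exact mul_mem (mul_mem (mul_mem (mem_sup_left (mem_zpowers z)) (mem_sup_right (mem_zpowers z')))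
      (inv_mem (mem_sup_left (mem_zpowers z)))) (inv_mem (mem_sup_right (mem_zpowers z')))
  have hz'E2 : z' ∈ E2 := span_le hz'
  have hdec := exists_dec2 h1 h2 hz2 hz'E2 hz'1
  have hdc : d ∈ center M := Subgroup.mem_center_iff.2 fun m => by
    obtain ⟨s, hs, j, i, rfl⟩ := hdec m
    exact (((hde s hs).mul_right (hdz'.pow_right j)).mul_right (hdz.pow_right i)).symm.eq
  have hdp : d ^ p = 1 := by
    have h : (z' * z * z'⁻¹) ^ p = 1 := by rw [conj_pow, span_pow hz, mul_one, mul_inv_cancel]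
    rw [show z' * z * z'⁻¹ = d⁻¹ * z by simp only [d, commutatorElement_def]; group, hdz.inv_left.mul_pow,
      span_pow hz, mul_one, inv_pow, inv_eq_one] at h
    exact h
  have hDn : D.Normal := Subgroup.normal_inf_normal E1 E2
  haveI := hDn
  set K := pser p D 1 ⊔ zpowers d
  haveI : (zpowers d).Normal := PGroups.normal_of_le_center (zpowers_le.2 hdc)
  haveI : (pser p D 1).Normal := inferInstance
  haveI : K.Normal := Subgroup.sup_normal _ _
  set π := QuotientGroup.mk' K
  have hπ : ∀ g, π g = 1 ↔ g ∈ K := fun g => QuotientGroup.eq_one_iff g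
  have hπD : ∀ a ∈ D, ∀ b ∈ D, Commute (π a) (π b) := fun a ha b hb => by
    rw [← commutatorElement_eq_one_iff_commute, ← map_commutatorElement]
    exact (hπ _).2 (mem_sup_left (comm_mem_pser_one ha hb))
  have hzz : Commute (π z) (π z') := by
    rw [← commutatorElement_eq_one_iff_commute, ← map_commutatorElement]
    exact (hπ _).2 (mem_sup_right (mem_zpowers d))
  have key : ∀ m m' : M, Commute (π m) (π m') := by
    have h1' : ∀ s ∈ D, ∀ m, Commute (π s) (π m) := fun s hs m => by
      obtain ⟨s', hs', j, i, rfl⟩ := hdec m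
      rw [map_mul, map_mul, map_pow, map_pow]
      exact ((hπD s hs s' hs').mul_right (((hzE' s hs.2).map π).symm.pow_right j)).mul_right
        (((hzE s hs.1).map π).symm.pow_right i)
    have hz'm : ∀ m, Commute (π z') (π m) := fun m => by
      obtain ⟨s', hs', j, i, rfl⟩ := hdec m
      rw [map_mul, map_mul, map_pow, map_pow]
      exact (((h1' s' hs' z').symm).mul_right ((Commute.refl _).pow_right j)).mul_right (hzz.symm.pow_right i)
    have hzm : ∀ m, Commute (π z) (π m) := fun m => by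
      obtain ⟨s', hs', j, i, rfl⟩ := hdec m
      rw [map_mul, map_mul, map_pow, map_pow]
      exact (((h1' s' hs' z).symm).mul_right (hzz.pow_right j)).mul_right ((Commute.refl _).pow_right i)
    intro m m'
    obtain ⟨s', hs', j, i, rfl⟩ := hdec m
    rw [map_mul, map_mul, map_pow, map_pow]
    exact ((h1' s' hs' m').mul_left ((hz'm m').pow_left j)).mul_left ((hzm m').pow_left i)
  have hrel := relIndex_le_cube F.rank (H := (⊤ : Subgroup M)) (K := K)
    (fun a _ b _ => (hπ _).1 (by rw [map_commutatorElement, commutatorElement_eq_one_iff_commute]; exact key a b))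
    fun m _ => by
      obtain ⟨s, hs, j, i, rfl⟩ := hdec m
      rw [← hπ, map_pow, map_mul π (s * z' ^ j), map_mul π s, (show Commute (π s * π (z' ^ j)) (π (z ^ i)) by
          rw [← map_mul]; exact key _ _).mul_pow,
        (key s (z' ^ j)).mul_pow, ← map_pow, ← map_pow, ← map_pow, ← pow_mul, ← pow_mul, mul_comm j, mul_comm i,
        pow_mul, pow_mul, span_pow hz', span_pow hz, one_pow, one_pow, map_one, mul_one, mul_one]
      exact (hπ _).2 (mem_sup_left (pow_mem_pser_one hs))
  rw [Subgroup.relIndex_top_right] at hrel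
  have hKD : K ≤ D := sup_le (pser_le D 1) (zpowers_le.2 hdD)
  have e1 := mul_card_le F.isP (lt_of_le_not_ge (inf_le_right : D ≤ E2) fun h => hz'1 (h hz'E2).1)
  have e2 := Subgroup.card_mul_index E2
  rw [F.index h2] at e2
  have e3 := Subgroup.card_mul_index K
  have hD : Nat.card D ≤ p * Nat.card (zpowers d ⊔ pser p D 1 : Subgroup M) := by
    rw [sup_comm]
    refine Nat.le_of_mul_le_mul_left (c := p * p) ?_ (Nat.mul_pos hp.out.pos hp.out.pos)
    calc p * p * Nat.card D = p * Nat.card D * p := by ring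
      _ ≤ Nat.card E2 * p := Nat.mul_le_mul_right _ e1
      _ = Nat.card K * K.index := by rw [e2, e3]
      _ ≤ Nat.card K * p ^ 3 := Nat.mul_le_mul_left _ hrel
      _ = p * p * (p * Nat.card K) := by ring
  obtain ⟨c, hc, hDc⟩ := exists_eq_sup_zpowers F.isP (zpowers_le.2 hdD) hD
  have hDab : ∀ a ∈ D, ∀ b ∈ D, Commute a b := by
    rw [hDc]
    exact commute_sup (commute_zpowers d) (commute_zpowers c) fun a ha b _ => by
      obtain ⟨i, rfl⟩ := ha
      exact (show Commute d b from (Subgroup.mem_center_iff.1 hdc b).symm).zpow_left i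
  refine ⟨fun a ha b hb => ?_, fun a ha b hb => ?_⟩
  · have hd1 : ∀ a ∈ E1, ∃ s ∈ D, ∃ i : ℕ, a = s * z ^ i := fun a ha => by
      obtain ⟨s, hs, i, rfl⟩ := exists_dec h2 hz2 a
      refine ⟨s, ⟨?_, hs⟩, i, rfl⟩
      have := E1.mul_mem ha (E1.inv_mem (E1.pow_mem (span_le hz) i))
      rwa [mul_inv_cancel_right] at this
    obtain ⟨s, hs, i, rfl⟩ := hd1 a ha
    obtain ⟨s', hs', i', rfl⟩ := hd1 b hb
    exact (((hDab s hs s' hs').mul_right ((hzE s hs.1).symm.pow_right i'))).mul_left
      ((((hzE s' hs'.1).mul_right ((Commute.refl z).pow_right i'))).pow_left i)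
  · have hd2 : ∀ a ∈ E2, ∃ s ∈ D, ∃ i : ℕ, a = s * z' ^ i := fun a ha => by
      obtain ⟨s, hs, i, rfl⟩ := exists_dec h1 hz'1 a
      refine ⟨s, ⟨hs, ?_⟩, i, rfl⟩
      have := E2.mul_mem ha (E2.inv_mem (E2.pow_mem hz'E2 i))
      rwa [mul_inv_cancel_right] at this
    obtain ⟨s, hs, i, rfl⟩ := hd2 a ha
    obtain ⟨s', hs', i', rfl⟩ := hd2 b hb
    exact (((hDab s hs s' hs').mul_right ((hzE' s hs.2).symm.pow_right i'))).mul_left
      ((((hzE' s' hs'.2).mul_right ((Commute.refl z').pow_right i'))).pow_left i)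

end Fam

end Cfsg.Agent.H91.Rank3
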