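import Cfsg.Agent.H91.Rank3.PairTools
import Cfsg.Agent.H91.Rank3.Invert
import Cfsg.Agent.H91.Rank3.CaseTwoComm

/-!
A span of order `p ^ 3` of the only mover of a pair is invariant in the other member.
-/

set_option autoImplicit false
set_option linter.unusedSectionVars false
set_option linter.style.haveILetI false

namespace Cfsg.Agent.H91.Rank3

open Subgroup
open scoped commutatorElement

namespace Fam

variable {M : Type*} [Group M] [Finite M] {p : ℕ} [hp : Fact p.Prime] {F : Fam p M} {E1 E2 : Subgroup M}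
  (hu : ∀ E, F.Ess E → ¬ F.Inv (om p M) E → E = E1) (h1 : F.Ess E1) (hn1 : ¬ F.Inv (om p M) E1)
include hu h1 hn1

set_option maxHeartbeats 400000 in
/-- The line through the moved elements. -/
theorem cube_line (hall : ∀ E E', F.Ess E → F.Ess E' → F.span E ≤ E') (h2 : F.Ess E2)
    (hn2 : ¬ F.Inv (F.span E1) E2) (hcard : Nat.card (F.span E1) = p ^ 3) :
    ∃ d, d ≠ 1 ∧ d ∈ om p M ∧ (∀ (m : M), ∀ w ∈ F.span E1, ⁅m, w⁆ ∈ zpowers d) ∧ F.GInv (zpowers d) ∧
      F.span E1 ⊓ center M = om p M := by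
  set V := F.span E1 with hV
  haveI hVn : V.Normal := span_normal h1
  have hV2 : V ≤ E2 := hall E1 E2 h1 h2
  have hVc : ∀ a ∈ V, ∀ b ∈ V, Commute a b := fun a ha b hb => span_comm ha (span_le hb)
  have hVp : ∀ a ∈ V, a ^ p = 1 := fun a ha => span_pow ha
  obtain ⟨g, hg, hnc⟩ : ∃ g ∈ F.G E2, ¬ ∀ a ∈ V, ∀ b ∈ img g V, Commute a b := by
    by_contra h
    push Not at h
    exact hn2 fun g hg x hx => F.le_of_commute hVn hVc hVp (img_comm hVc) (img_pow hVp) (h g hg) hcard.ge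
      (mem_img.2 ⟨x, hx, rfl⟩)
  set B := img g V
  set D := V ⊓ B
  have hsup := sup_card F.odd F.rank hVn hVc hVp (img_comm (α := g) hVc) (img_pow (α := g) hVp)
    fun a ha b hb => img_comm_mem (hV2 ha) hb
  rw [card_img hV2, hcard] at hsup
  obtain ⟨j, hj⟩ := IsPGroup.iff_card.1 (F.isP.to_subgroup D)
  have hD2 : p ^ 2 ≤ Nat.card D := by
    rw [hj] at hsup ⊢
    rw [← pow_add, ← pow_add, ← pow_add] at hsup
    exact Nat.pow_le_pow_right hp.out.pos (by
      have := (Nat.pow_le_pow_iff_right hp.out.one_lt).1 hsup; omega)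
  obtain ⟨u, huB, hu1⟩ : ∃ u ∈ B, u ∉ E1 := by
    by_contra h
    push Not at h
    exact hnc fun a ha b hb => span_comm ha (h b hb)
  have hu2 : u ∈ E2 := img_le huB
  have hDom : D ≤ om p M := fun x hx =>
    ⟨mem_center_of h1 hu1 (fun e he => span_comm hx.1 he) (img_comm hVc x hx.2 u huB), hVp x hx.1⟩
  have hcom : Nat.card (om p M) = p ^ 2 := by
    refine le_antisymm ?_ (hD2.trans (Subgroup.card_le_of_le hDom))
    have := (mul_card_le F.isP (om_lt_span h1 hn1)).trans_eq hcard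
    rw [pow_succ'] at this
    exact Nat.le_of_mul_le_mul_left this hp.out.pos
  -- the displacement of `u`
  have hval : ∀ v ∈ V, ⁅u, v⁆ ∈ om p M := fun v hv => hDom ⟨by
    rw [commutatorElement_def]
    exact V.mul_mem (hVn.conj_mem v hv u) (V.inv_mem hv), by
    rw [← commutatorElement_inv]
    exact B.inv_mem (img_comm_mem (hV2 hv) huB)⟩
  have hcz : ∀ {t : M}, t ∈ om p M → ∀ g, Commute t g := fun ht g => ((mem_om.1 ht).1 g).symm
  let η : V →* M := MonoidHom.mk' (fun v => ⁅u, (v : M)⁆) fun a b => by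
    show ⁅u, (a : M) * b⁆ = ⁅u, (a : M)⁆ * ⁅u, (b : M)⁆
    rw [show ⁅u, (a : M) * b⁆ = ⁅u, (a : M)⁆ * ((a : M) * ⁅u, (b : M)⁆ * (a : M)⁻¹) by
      simp only [commutatorElement_def]; group, (hcz (hval b b.2) a).symm.eq, mul_inv_cancel_right]
  have hker : (om p M).subgroupOf V ≤ η.ker := fun v hv => by
    show ⁅u, (v : M)⁆ = 1
    rw [commutatorElement_eq_one_iff_commute]
    exact (mem_om.1 (Subgroup.mem_subgroupOf.1 hv)).1 u
  have hrange : Nat.card η.range ≤ p := by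
    have e1 := Subgroup.card_mul_index η.ker
    rw [Subgroup.index_ker, hcard] at e1
    have e2 := Subgroup.card_le_of_le hker
    rw [Nat.card_congr (Subgroup.subgroupOfEquivOfLe (om_le_span h1)).toEquiv, hcom] at e2
    refine (Nat.mul_le_mul_left_iff (Nat.pow_pos (n := 2) hp.out.pos)).1 ?_
    calc p ^ 2 * Nat.card η.range ≤ Nat.card η.ker * Nat.card η.range := Nat.mul_le_mul_right _ e2
      _ = p ^ 2 * p := by rw [e1]; ring
  obtain ⟨v0, hv0, hd1⟩ : ∃ v ∈ V, ⁅u, v⁆ ≠ 1 := by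
    by_contra h
    push Not at h
    exact hu1 (mem_of_commute h1 hn1 fun v hv => commutatorElement_eq_one_iff_commute.1 (h v hv))
  set d := ⁅u, v0⁆
  have hdom : d ∈ om p M := hval v0 hv0
  have hdr : d ∈ η.range := ⟨⟨v0, hv0⟩, rfl⟩
  have hdcard : Nat.card (zpowers d) = p := card_zpowers_prime (x := d) hdom.2 hd1
  have hrd : η.range = zpowers d :=
    (Subgroup.eq_of_le_of_card_ge (zpowers_le.2 hdr) (by rw [hdcard]; exact hrange)).symm
  have hline : ∀ (m : M), ∀ w ∈ V, ⁅m, w⁆ ∈ zpowers d := by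
    intro m w hw
    obtain ⟨e, he, i, rfl⟩ := exists_dec h1 hu1 m
    have hi : ∀ i : ℕ, ⁅u ^ i, w⁆ ∈ zpowers d := by
      intro i
      induction i with
      | zero => simp
      | succ i ih =>
        rw [show ⁅u ^ (i + 1), w⁆ = u ^ i * ⁅u, w⁆ * (u ^ i)⁻¹ * ⁅u ^ i, w⁆ by
          rw [pow_succ]; simp only [commutatorElement_def]; group,
          (hcz (hval w hw) _).symm.eq, mul_inv_cancel_right]
        exact mul_mem (hrd.le ⟨⟨w, hw⟩, rfl⟩) ih
    have h3 : ⁅u ^ i, w⁆ ∈ om p M := (zpowers_le.2 hdom : zpowers d ≤ om p M) (hi i)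
    rw [show ⁅e * u ^ i, w⁆ = e * ⁅u ^ i, w⁆ * e⁻¹ * ⁅e, w⁆ by simp only [commutatorElement_def]; group,
      (hcz h3 e).symm.eq, mul_inv_cancel_right, commutatorElement_eq_one_iff_commute.2 (span_comm hw he).symm,
      mul_one]
    exact hi i
  have hGd : F.GInv (zpowers d) := fun γ hγ y hy => by
    obtain ⟨k, rfl⟩ := hy
    simp only
    rw [map_zpow, map_commutatorElement]
    exact zpow_mem (hline _ _ (gInv_span hu h1 hn1 γ hγ v0 hv0)) k
  have hinf : V ⊓ center M = om p M :=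
    le_antisymm (fun x hx => ⟨hx.2, hVp x hx.1⟩) (le_inf (om_le_span h1) fun x hx => hx.1)
  exact ⟨d, hd1, hdom, hline, hGd, hinf⟩

set_option maxHeartbeats 1000000 in
/-- The span of order `p ^ 3` cannot move. -/
theorem mover_cube_false (hall : ∀ E E', F.Ess E → F.Ess E' → F.span E ≤ E') (h2 : F.Ess E2)
    (hom2 : F.Inv (om p M) E2) (hn2 : ¬ F.Inv (F.span E1) E2) (hcard : Nat.card (F.span E1) = p ^ 3)
    (hG1 : ∀ γ ∈ F.Γ, E1.map (γ : M ≃* M).toMonoidHom = E1)
    (hG2 : ∀ γ ∈ F.Γ, E2.map (γ : M ≃* M).toMonoidHom = E2) : False := by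
  classical
  obtain ⟨d, hd1, hdom, hline, hGd, hinf⟩ := cube_line hu h1 hn1 hall h2 hn2 hcard
  set V := F.span E1 with hVdef
  haveI hVn : V.Normal := span_normal h1
  haveI := normal h1
  haveI := normal h2
  haveI hLn : (om p M).Normal := om_normal
  have hV2 : V ≤ E2 := hall E1 E2 h1 h2
  have hVc : ∀ v ∈ V, ∀ e ∈ E1, Commute v e := fun v hv e he => span_comm hv he
  have hVp : ∀ v ∈ V, v ^ p = 1 := fun v hv => span_pow hv
  have hVab : ∀ a ∈ V, ∀ b ∈ V, Commute a b := fun a ha b hb => span_comm ha (span_le hb)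
  have hdz : d ∈ center M := hdom.1
  have hdle : zpowers d ≤ om p M := zpowers_le.2 hdom
  -- the element of `Γ`
  obtain ⟨γ, hγ, hγd, hγV⟩ := exists_invert (F := F.single h1 hG1) (E := E1) rfl (W := V)
    (fun α hα => inv_span α (conjClosure_le h1 hα)) span_le (fun w hw e he => (hVc w hw e he).symm) hVp hd1
    (om_le_span h1 hdom) hdz hline (fun hinv => hn1 (by
      rw [hinf] at hinv
      let H : Subgroup (MulAut E1) :=
        { carrier := {α | ∀ x : E1, (α x : M) ∈ om p M ↔ (x : M) ∈ om p M}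
          one_mem' := fun x => Iff.rfl
          mul_mem' := fun {α β} ha hb x => (ha (β x)).trans (hb x)
          inv_mem' := fun {α} ha x => by
            have := ha (α⁻¹ x)
            rw [MulAut.apply_inv_self] at this
            exact this.symm }
      have hle : F.G E1 ≤ H := gen_le h1 (fun α hα hn x => by
          obtain ⟨δ, hδ, hδe⟩ := F.ext h1 α hα hn
          rw [← hδe x]
          exact gInv_om.mem_iff hδ x) fun α hα β hβ x =>
        Inv.mem_iff (F := F.single h1 hG1) hinv (Subgroup.subset_closure ⟨α, hα, β, hβ, rfl⟩) x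
      exact fun α hα x hx => (hle hα x).2 hx))
  obtain ⟨hγΓ, β1, hβ1, hβ1e⟩ := mem_gammaOn.1 hγ
  set π := QuotientGroup.mk' (om p M)
  have hπ : ∀ g : M, π g = 1 ↔ g ∈ om p M := fun g => QuotientGroup.eq_one_iff g
  have hπV : ∀ (g : M), ∀ v ∈ V, Commute (π g) (π v) := fun g v hv => by
    rw [← commutatorElement_eq_one_iff_commute, ← map_commutatorElement]
    exact (hπ _).2 (hdle (hline g v hv))
  have hγinv : ∀ v ∈ V, π (γ v) = (π v)⁻¹ := fun v hv => by
    refine eq_inv_of_mul_eq_one_left ?_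
    rw [← map_mul, hπ, ← hinf]
    exact ⟨V.mul_mem (gInv_span hu h1 hn1 γ hγΓ v hv) hv, hγV v hv⟩
  -- elements of order `p` in `E1`
  have hordV : ∀ y ∈ E1, y ^ p = 1 → y ∈ V := fun y hy hyp => by
    by_contra hyV
    have hc := commute_sup hVab (commute_zpowers y) fun v hv u hu' => by
      obtain ⟨i, rfl⟩ := hu'
      exact (hVc v hv y hy).zpow_right i
    have h := F.card_le_cube hc (pow_sup hc hVp (pow_zpowers hyp))
    have h' := mul_card_le F.isP (lt_of_le_not_ge (le_sup_left : V ≤ V ⊔ zpowers y)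
      fun h => hyV (h (mem_sup_right (mem_zpowers y))))
    rw [hcard] at h'
    have h'' := h'.trans h
    rw [← pow_succ'] at h''
    exact absurd ((Nat.pow_le_pow_iff_right hp.out.one_lt).1 h'') (by norm_num)
  -- the images
  have hdinv : F.Inv (zpowers d) E2 :=
    inv_of_trivial h2 hom2 inv_bot bot_le hdle hGd fun m w hw => by
      rw [Subgroup.mem_bot, commutatorElement_eq_one_iff_commute]
      exact (mem_om.1 hw).1 m
  let Im : M → Prop := fun y => ∃ g ∈ F.G E2, y ∈ img g V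
  have hIm2 : ∀ {y}, Im y → y ∈ E2 := fun ⟨g, _, hy⟩ => img_le hy
  have hImp : ∀ {y}, Im y → y ^ p = 1 := fun ⟨g, _, hy⟩ => img_pow hVp _ hy
  have hImd : ∀ {y}, Im y → ∀ e ∈ E2, ⁅e, y⁆ ∈ zpowers d := fun ⟨g, hg, hy⟩ e he =>
    img_comm_le hdinv hline hg he hy
  have hImconj : ∀ {y}, Im y → ∀ m, Im (m * y * m⁻¹) := fun ⟨g, hg, hy⟩ m => by
    obtain ⟨x, hx, rfl⟩ := mem_img.1 hy
    exact ⟨cj h2 m * g, mul_mem (cjG h2 m) hg, mem_img.2 ⟨x, hx, by rw [MulAut.mul_apply, coe_cj]⟩⟩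
  have hdiff : ∀ {y y'}, Im y → Im y' → y' * y⁻¹ ∈ E1 → y' * y⁻¹ ∈ V := fun {y y'} hy hy' h => by
    refine hordV _ h ?_
    have he : ∀ g, Commute ((y⁻¹)⁻¹ * y'⁻¹ * y⁻¹ * y') g := fun g => by
      rw [show (y⁻¹)⁻¹ * y'⁻¹ * y⁻¹ * y' = ⁅y, y'⁻¹⁆ by rw [commutatorElement_def]; group]
      have h := hdle ((zpowers d).inv_mem (hImd hy _ (inv_mem (hIm2 hy'))))
      rw [commutatorElement_inv] at h
      exact ((mem_om.1 h).1 g).symm
    have he' : ((y⁻¹)⁻¹ * y'⁻¹ * y⁻¹ * y') ^ p = 1 := by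
      rw [show (y⁻¹)⁻¹ * y'⁻¹ * y⁻¹ * y' = ⁅y'⁻¹, y⁆⁻¹ by rw [commutatorElement_def]; group, inv_pow,
        (hdle (hImd hy _ (inv_mem (hIm2 hy')))).2, inv_one]
    rw [mul_pow_prime F.odd (he _) (he _) he', inv_pow, hImp hy, hImp hy', inv_one, one_mul]
  have hγIm : ∀ {y}, Im y → Im (γ y) := fun ⟨g, hg, hy⟩ => by
    obtain ⟨x, hx, rfl⟩ := mem_img.1 hy
    have key : ∀ X : Subgroup M, X = E2 → (∀ α ∈ F.G E2, ∃ β ∈ F.G X, ∀ z : E2, ∀ h : γ (z : M) ∈ X,
        (β ⟨γ (z : M), h⟩ : M) = γ (α z : M)) → Im (γ (g x : M)) := by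
      rintro X rfl h
      obtain ⟨β, hβ, hβe⟩ := h g hg
      exact ⟨β, hβ, mem_img.2 ⟨_, gInv_span hu h1 hn1 γ hγΓ _ hx,
        hβe x (hV2 (gInv_span hu h1 hn1 γ hγΓ _ hx))⟩⟩
    exact key _ (hG2 γ hγΓ) fun α hα => by
      obtain ⟨β, hβ, hβe⟩ := (F.transport h2 γ hγΓ).2 α hα
      exact ⟨β, hβ, fun z _ => hβe z⟩
  have hY : ∀ {y}, Im y → ∀ m, ⁅m, y⁆ ∈ V := fun {y} hy m => by
    rw [commutatorElement_def]
    refine hdiff hy (hImconj hy m) ?_
    rw [← commutatorElement_def]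
    exact comm_mem h1 m y
  obtain ⟨u0, hu0, hu01⟩ : ∃ u, Im u ∧ u ∉ E1 := by
    by_contra h
    push Not at h
    refine hn2 fun g hg x hx => ?_
    have him : Im (g x : M) := ⟨g, hg, mem_img.2 ⟨x, hx, rfl⟩⟩
    exact hordV _ (h _ him) (hImp him)
  -- the closure on `E1` is inner modulo `V`
  set πV := QuotientGroup.mk' V
  let H : Subgroup (MulAut E1) :=
    { carrier := {f | f ∈ F.G E1 ∧ ∃ e : E1, ∀ x : E1, πV (f x : M) = πV e * πV x * (πV e)⁻¹}
      one_mem' := ⟨one_mem _, 1, fun x => by simp⟩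
      mul_mem' := by
        rintro f g ⟨hf, e, he⟩ ⟨hg, e', he'⟩
        refine ⟨mul_mem hf hg, e * e', fun x => ?_⟩
        rw [MulAut.mul_apply, he, he', Subgroup.coe_mul, map_mul]
        group
      inv_mem' := by
        rintro f ⟨hf, e, he⟩
        refine ⟨inv_mem hf, e⁻¹, fun x => ?_⟩
        have h := he (f⁻¹ x)
        rw [MulAut.apply_inv_self] at h
        rw [Subgroup.coe_inv, map_inv, h]
        group }
  have hβH : β1 ∈ H := by
    refine conjClosure_le_of (H := H) (fun β hβ => ⟨F.indG h1 hβ, ?_⟩) (fun α hα h hh => ⟨?_, ?_⟩) hβ1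
    · obtain ⟨g, hg⟩ := hβ
      obtain ⟨t, ht, i, rfl⟩ := exists_dec h1 hu01 g
      refine ⟨⟨t, ht⟩, fun x => ?_⟩
      have hc : Commute (πV u0) (πV x) := Commute.symm (by
        rw [← commutatorElement_eq_one_iff_commute, ← map_commutatorElement]
        exact (QuotientGroup.eq_one_iff _).2 (hY hu0 x))
      rw [hg, map_mul, map_mul, map_inv, map_mul, map_pow, mul_inv_rev, mul_assoc (πV t), (hc.pow_left i).eq]
      group
    · exact mul_mem (mul_mem hα hh.1) (inv_mem hα)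
    · obtain ⟨e, he⟩ := hh.2
      refine ⟨α e, fun x => ?_⟩
      set z := α⁻¹ x
      have hcongr : ∀ a b : E1, πV (a : M) = πV b → πV (α a : M) = πV (α b : M) := fun a b hab => by
        rw [← inv_mul_eq_one, ← map_inv, ← map_mul, QuotientGroup.mk'_apply, QuotientGroup.eq_one_iff] at hab ⊢
        rw [← Subgroup.coe_inv, ← Subgroup.coe_mul] at hab ⊢
        rw [← map_inv, ← map_mul]
        exact inv_span α hα _ hab
      have h2' := hcongr (h z) (e * z * e⁻¹) (by
        rw [he z, Subgroup.coe_mul, Subgroup.coe_mul, Subgroup.coe_inv, map_mul, map_mul, map_inv])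
      rw [MulAut.mul_apply, MulAut.mul_apply, h2', map_mul, map_mul, map_inv, MulAut.apply_inv_self,
        Subgroup.coe_mul, Subgroup.coe_mul, Subgroup.coe_inv, map_mul, map_mul, map_inv]
  obtain ⟨-, e1, he1⟩ := hβH
  -- the displacement of images
  have hmov : ∀ {y}, Im y → ∀ m ∈ E1, ⁅m, y⁆ ∈ om p M := fun {y} hy m hm => by
    by_cases hy1 : y ∈ E1
    · rw [commutatorElement_eq_one_iff_commute.2 (hVc y (hordV y hy1 (hImp hy)) m hm).symm]
      exact one_mem _
    set w := ⁅m, y⁆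
    have hwV : w ∈ V := hY hy m
    obtain ⟨v, hv, hyv⟩ : ∃ v ∈ V, ⁅y, v⁆ ≠ 1 := by
      by_contra h
      push Not at h
      exact hy1 (mem_of_commute h1 hn1 fun v hv => commutatorElement_eq_one_iff_commute.1 (h v hv))
    have hγy : γ y * y⁻¹ ∈ E1 := by
      obtain ⟨t, ht, j, hj⟩ := exists_dec h1 hy1 (γ y)
      obtain ⟨i, hi⟩ := hline y v hv
      simp only at hi
      have hd0 : γ ⁅y, v⁆ = ⁅y, v⁆⁻¹ := by rw [← hi, map_zpow, hγd, inv_zpow]
      have ho : γ v * v ∈ om p M :=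
        hinf.le ⟨V.mul_mem (gInv_span hu h1 hn1 γ hγΓ v hv) hv, hγV v hv⟩
      have hc : ∀ g, Commute ⁅y, v⁆ g := fun g => ((mem_om.1 (hdle (hline y v hv))).1 g).symm
      rw [map_commutatorElement, hj, show γ v = γ v * v * v⁻¹ by group] at hd0
      have hoc : ∀ g, Commute (γ v * v) g := fun g => ((mem_om.1 ho).1 g).symm
      generalize γ v * v = o at hoc hd0
      have e1' : ⁅t * y ^ j, o * v⁻¹⁆ = ⁅y ^ j, v⁻¹⁆ := by
        have hcv : ⁅y ^ j, v⁻¹⁆ ∈ zpowers d := hline _ _ (inv_mem hv)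
        rw [show ⁅t * y ^ j, o * v⁻¹⁆ = ⁅t * y ^ j, o⁆ * (o * ⁅t * y ^ j, v⁻¹⁆ * o⁻¹) by
            simp only [commutatorElement_def]; group,
          commutatorElement_eq_one_iff_commute.2 (hoc (t * y ^ j)).symm, one_mul, (hoc _).eq, mul_inv_cancel_right,
          show ⁅t * y ^ j, v⁻¹⁆ = t * ⁅y ^ j, v⁻¹⁆ * t⁻¹ * ⁅t, v⁻¹⁆ by simp only [commutatorElement_def]; group,
          commutatorElement_eq_one_iff_commute.2 (hVc v⁻¹ (inv_mem hv) t ht).symm, mul_one,
          Subgroup.mem_center_iff.1 (hdle hcv).1 t, mul_inv_cancel_right]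
      have hpow : ∀ k : ℕ, ⁅y ^ k, v⁻¹⁆ = (⁅y, v⁆⁻¹) ^ k := by
        have e : ⁅y, v⁻¹⁆ = ⁅y, v⁆⁻¹ := by
          rw [show ⁅y, v⁻¹⁆ = v⁻¹ * ⁅y, v⁆⁻¹ * v by simp only [commutatorElement_def]; group,
            ← ((hc v⁻¹).inv_left).eq, inv_mul_cancel_right]
        intro k
        induction k with
        | zero => simp
        | succ k ih =>
          rw [show ⁅y ^ (k + 1), v⁻¹⁆ = y ^ k * ⁅y, v⁻¹⁆ * (y ^ k)⁻¹ * ⁅y ^ k, v⁻¹⁆ by
            rw [pow_succ]; simp only [commutatorElement_def]; group, e, ← ((hc (y ^ k)).inv_left).eq,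
            mul_inv_cancel_right, ih, pow_succ']
      rw [e1', hpow] at hd0
      have ho' : orderOf ⁅y, v⁆⁻¹ = p := orderOf_eq_prime (by
        rw [inv_pow, (hdle (hline y v hv)).2, inv_one]) (fun h => hyv (inv_eq_one.1 h))
      have hjp : j % p = 1 := by
        have h := (pow_eq_pow_iff_modEq (x := ⁅y, v⁆⁻¹) (n := j) (m := 1)).1 (by rw [hd0, pow_one])
        rw [ho', Nat.ModEq, Nat.mod_eq_of_lt hp.out.one_lt] at h
        exact h
      rw [hj, pow_eq_pow_mod j (hImp hy), hjp, pow_one, mul_inv_cancel_right]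
      exact ht
    have hv2 : γ y * y⁻¹ ∈ V := hdiff hy (hγIm hy) hγy
    set c := m⁻¹ * γ m
    have hc2 : c ∈ E2 := by
      have h := he1 ⟨m, hm⟩
      rw [← hβ1e ⟨m, hm⟩] at h
      have h' : ((e1 : M) * m * (e1 : M)⁻¹)⁻¹ * γ m ∈ V := by
        rw [← QuotientGroup.eq_one_iff, ← QuotientGroup.mk'_apply, map_mul, map_inv, map_mul, map_mul, map_inv, h,
          inv_mul_cancel]
      have := E2.mul_mem (comm_mem h2 m⁻¹ (e1 : M)) (hV2 h')
      rwa [show ⁅m⁻¹, (e1 : M)⁆ * (((e1 : M) * m * (e1 : M)⁻¹)⁻¹ * γ m) = c by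
        simp only [c, commutatorElement_def]; group] at this
    have hπw : π (γ w) = π w := by
      have hyc : Commute (π c) (π y) := by
        rw [← commutatorElement_eq_one_iff_commute, ← map_commutatorElement]
        exact (hπ _).2 (hdle (hImd hy c hc2))
      have ho : ∀ g, Commute (π g) (π (γ y * y⁻¹)) := fun g => hπV g _ hv2
      rw [map_commutatorElement, show γ m = m * c by simp [c], show γ y = γ y * y⁻¹ * y by group,
        map_commutatorElement, map_mul π _ y, map_commutatorElement π m y, map_mul π m c]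
      have h1' : Commute (π m * π c) (π (γ y * y⁻¹)) := (ho m).mul_left (ho c)
      have h2' : ∀ g, Commute (π g) (π (γ y * y⁻¹)) := ho
      generalize π (γ y * y⁻¹) = o at h1' h2'
      rw [show ⁅π m * π c, o * π y⁆ = ((π m * π c) * o) * π y * (π c)⁻¹ * (π m)⁻¹ * (π y)⁻¹ * o⁻¹ by
        simp only [commutatorElement_def]; group, h1'.eq,
        show o * (π m * π c) * π y * (π c)⁻¹ * (π m)⁻¹ * (π y)⁻¹ * o⁻¹ =
          o * (π m * (π c * π y) * (π c)⁻¹ * (π m)⁻¹ * (π y)⁻¹) * o⁻¹ by group, hyc.eq]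
      have h3' : Commute ⁅π m, π y⁆ o := by
        rw [← map_commutatorElement]
        exact h2' _
      rw [show π m * (π y * π c) * (π c)⁻¹ * (π m)⁻¹ * (π y)⁻¹ = ⁅π m, π y⁆ by
        simp only [commutatorElement_def]; group, ← h3'.eq, mul_inv_cancel_right]
    have h2' := hγinv w hwV
    rw [hπw] at h2'
    rw [← hπ]
    have hsq : π w ^ 2 = 1 := by rw [pow_two]; exact eq_inv_iff_mul_eq_one.1 h2'
    rw [← orderOf_eq_one_iff]
    exact Nat.eq_one_of_dvd_coprimes ((Nat.coprime_primes hp.out Nat.prime_two).2 F.odd)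
      (orderOf_dvd_of_pow_eq_one (by rw [← map_pow, hVp w hwV, map_one])) (orderOf_dvd_of_pow_eq_one hsq)
  -- the orbit of the span
  set U := F.orbitSpan E2 V
  have hUle : U ≤ (center (M ⧸ om p M)).comap π := (Subgroup.closure_le _).2 (by
    rintro y ⟨g, hg, x, hx, rfl⟩
    have him : Im (g x : M) := ⟨g, hg, mem_img.2 ⟨x, hx, rfl⟩⟩
    refine Subgroup.mem_center_iff.2 fun z => ?_
    obtain ⟨m, rfl⟩ := QuotientGroup.mk'_surjective (om p M) z
    obtain ⟨t, ht, i, rfl⟩ := exists_dec h1 hu01 m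
    show Commute (π (t * u0 ^ i)) (π (g x : M))
    rw [map_mul, map_pow]
    refine Commute.mul_left ?_ (Commute.pow_left ?_ i) <;>
      rw [← commutatorElement_eq_one_iff_commute, ← map_commutatorElement]
    · exact (hπ _).2 (hmov him t ht)
    · exact (hπ _).2 (hdle (hImd him u0 (hIm2 hu0))))
  refine hn2 (inv_of_trivial h2 inv_orbitSpan hom2 (om_le_span h1) (le_orbitSpan hV2) (gInv_span hu h1 hn1)
    fun m u hu' => (hπ _).1 ?_)
  rw [map_commutatorElement, commutatorElement_eq_one_iff_mul_comm]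
  exact Subgroup.mem_center_iff.1 (hUle hu') (π m)

end Fam

end Cfsg.Agent.H91.Rank3
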