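import Cfsg.Agent.H91.Rank3.PairLift

/-!
The quotient by the central elements of order `p`, fixed by both members, has no span leaving the other member.
-/

set_option autoImplicit false
set_option linter.unusedSectionVars false
set_option linter.style.haveILetI false

namespace Cfsg.Agent.H91.Rank3

open Subgroup
open scoped commutatorElement

namespace Fam

variable {M : Type*} [Group M] [Finite M] {p : ℕ} [hp : Fact p.Prime]
variable {F : Fam p M} {E1 E2 : Subgroup M}

set_option maxHeartbeats 1000000 in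
/-- Not both spans leave. -/
theorem lift_both_false (h1 : F.Ess E1) (h2 : F.Ess E2) (hI : ∀ E, F.Ess E → F.Inv (om p M) E)
    (hG1 : ∀ γ ∈ F.Γ, E1.map (γ : M ≃* M).toMonoidHom = E1)
    (hG2 : ∀ γ ∈ F.Γ, E2.map (γ : M ≃* M).toMonoidHom = E2) {z z' : M}
    (hz : haveI := om_normal (M := M) (p := p)
      QuotientGroup.mk' (om p M) z ∈ (omQuot F hI).span (E1.map (QuotientGroup.mk' (om p M))))
    (hz2 : z ∉ E2)
    (hz' : haveI := om_normal (M := M) (p := p)
      QuotientGroup.mk' (om p M) z' ∈ (omQuot F hI).span (E2.map (QuotientGroup.mk' (om p M))))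
    (hz'1 : z' ∉ E1) : False := by
  haveI := normal h1
  haveI := normal h2
  haveI hLn := om_normal (M := M) (p := p)
  have hdz := lift_comm h1 h2 hI hG1 hG2 hz hz2 hz' hz'1
  have hdz'' := lift_comm h2 h1 hI hG2 hG1 hz' hz'1 hz hz2
  set L := om p M
  set π := QuotientGroup.mk' L
  have hLc : L ≤ center M := fun _ hx => hx.1
  have hπ : ∀ g, π g = 1 ↔ g ∈ L := fun g => QuotientGroup.eq_one_iff g
  set Fq := omQuot F hI
  have hX1 := comap_map_ess (N := L) h1 hLc
  have hX2 := comap_map_ess (N := L) h2 hLc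
  have hq1 : Fq.Ess (E1.map π) := ⟨E1, h1, rfl⟩
  have hq2 : Fq.Ess (E2.map π) := ⟨E2, h2, rfl⟩
  have hmem1 : ∀ g, π g ∈ E1.map π ↔ g ∈ E1 := fun g => by rw [← Subgroup.mem_comap, hX1]
  have hmem2 : ∀ g, π g ∈ E2.map π ↔ g ∈ E2 := fun g => by rw [← Subgroup.mem_comap, hX2]
  have hz'2 : z' ∈ E2 := (hmem2 z').1 (span_le hz')
  set d := ⁅z, z'⁆
  have hdz' : Commute d z' := by
    have h := hdz''.inv_left
    rwa [commutatorElement_inv] at h
  have hzE : ∀ e ∈ E1, Commute (π z) (π e) := fun e he => span_comm hz ((hmem1 e).2 he)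
  have hzE' : ∀ e ∈ E2, Commute (π z') (π e) := fun e he => span_comm hz' ((hmem2 e).2 he)
  have hcen : ∀ {a g : M}, Commute (π a) (π g) → ⁅a, g⁆ ∈ center M := fun h => hLc ((hπ _).1 (by
    rw [map_commutatorElement, commutatorElement_eq_one_iff_commute]; exact h))
  have hde : ∀ e ∈ E1 ⊓ E2, Commute d e := fun e he => by
    have c1 := hcen (hzE e he.1)
    have c2 := hcen (hzE' e he.2)
    have e1 : e * z * e⁻¹ = ⁅z, e⁆⁻¹ * z := by simp only [commutatorElement_def]; group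
    have e2 : e * z' * e⁻¹ = ⁅z', e⁆⁻¹ * z' := by simp only [commutatorElement_def]; group
    refine Commute.symm (mul_inv_eq_iff_eq_mul.1 ?_)
    show e * d * e⁻¹ = d
    rw [← MulAut.conj_apply, show d = ⁅z, z'⁆ from rfl, map_commutatorElement, MulAut.conj_apply,
      MulAut.conj_apply, e1, e2]
    have hu : ∀ g, Commute ⁅z, e⁆⁻¹ g := fun g => (Subgroup.mem_center_iff.1 (inv_mem c1) g).symm
    have hv : ∀ g, Commute ⁅z', e⁆⁻¹ g := fun g => (Subgroup.mem_center_iff.1 (inv_mem c2) g).symm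
    exact commutator_mul_of_commute (hu _) (hu _) (hu _) (hv _) (hv _)
  have hdc : d ∈ center M := Subgroup.mem_center_iff.2 fun m => by
    obtain ⟨s, hs, j, i, rfl⟩ := exists_dec2 h1 h2 hz2 hz'2 hz'1 m
    exact (((hde s hs).mul_right (hdz'.pow_right j)).mul_right (hdz.pow_right i)).symm.eq
  have hzp : z ^ p ∈ L := (hπ _).1 (by rw [map_pow, span_pow hz])
  have hdp : d ^ p = 1 := by
    have h : (z' * z * z'⁻¹) ^ p = z ^ p := by
      rw [conj_pow, Subgroup.mem_center_iff.1 (hLc hzp) z', mul_inv_cancel_right]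
    rw [show z' * z * z'⁻¹ = d⁻¹ * z by simp only [d, commutatorElement_def]; group, hdz.inv_left.mul_pow,
      mul_eq_right, inv_pow, inv_eq_one] at h
    exact h
  have h : Commute (π z) (π z') := by
    rw [← commutatorElement_eq_one_iff_commute, ← map_commutatorElement]
    exact (hπ _).2 ⟨hdc, hdp⟩
  exact hz2 ((hmem2 z).1 (center_le hq2 (mem_center_of hq1 (fun h' => hz'1 ((hmem1 z').1 h'))
    (fun e he => span_comm hz he) h)))

set_option maxHeartbeats 2000000 in
/-- No span leaves alone. -/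
theorem lift_chain_false (h1 : F.Ess E1) (h2 : F.Ess E2) (hI : ∀ E, F.Ess E → F.Inv (om p M) E)
    (hLne : om p M ≠ ⊥) {z : M}
    (hz : haveI := om_normal (M := M) (p := p)
      QuotientGroup.mk' (om p M) z ∈ (omQuot F hI).span (E1.map (QuotientGroup.mk' (om p M))))
    (hz2 : z ∉ E2)
    (hsp : haveI := om_normal (M := M) (p := p)
      (omQuot F hI).span (E2.map (QuotientGroup.mk' (om p M))) ≤ E1.map (QuotientGroup.mk' (om p M))) :
    False := by
  classical
  haveI := normal h1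
  haveI := normal h2
  haveI hLn := om_normal (M := M) (p := p)
  set L := om p M
  set π := QuotientGroup.mk' L
  have hLc : L ≤ center M := fun _ hx => hx.1
  have hπ : ∀ g, π g = 1 ↔ g ∈ L := fun g => QuotientGroup.eq_one_iff g
  set Fq := omQuot F hI
  have hX1 := comap_map_ess (N := L) h1 hLc
  have hX2 := comap_map_ess (N := L) h2 hLc
  have hq1 : Fq.Ess (E1.map π) := ⟨E1, h1, rfl⟩
  have hq2 : Fq.Ess (E2.map π) := ⟨E2, h2, rfl⟩
  have hmem1 : ∀ g, π g ∈ E1.map π ↔ g ∈ E1 := fun g => by rw [← Subgroup.mem_comap, hX1]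
  have hmem2 : ∀ g, π g ∈ E2.map π ↔ g ∈ E2 := fun g => by rw [← Subgroup.mem_comap, hX2]
  have hne : E1 ≠ E2 := fun h => hz2 (h ▸ (hmem1 z).1 (span_le hz))
  obtain ⟨x, hx2, hx1⟩ := exists_mem_diff h1 h2 hne
  have hxq1 : π x ∉ E1.map π := fun h => hx1 ((hmem1 x).1 h)
  have hz2q : π z ∉ E2.map π := fun h => hz2 ((hmem2 z).1 h)
  obtain ⟨-, ⟨hab, hexp, hcard⟩, -⟩ := pair_sp hq1 hq2 hz hz2q hsp
  have hz1 : z ∈ E1 := (hmem1 z).1 (span_le hz)
  set d := z⁻¹ * (x * z * x⁻¹) with hddef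
  set e := d⁻¹ * (x * d * x⁻¹) with hedef
  have hd1 : d ∈ E1 := E1.mul_mem (E1.inv_mem hz1) ((inferInstance : E1.Normal).conj_mem z hz1 x)
  have hd2 : d ∈ E2 := by
    rw [show d = ⁅z⁻¹, x⁆ by rw [hddef, commutatorElement_def]; group]; exact comm_mem h2 _ _
  have he1 : e ∈ E1 := E1.mul_mem (E1.inv_mem hd1) ((inferInstance : E1.Normal).conj_mem d hd1 x)
  have he2 : e ∈ E2 := E2.mul_mem (E2.inv_mem hd2) ((inferInstance : E2.Normal).conj_mem d hd2 x)
  have hzd : x * z * x⁻¹ = z * d := by rw [hddef]; group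
  have hde : x * d * x⁻¹ = d * e := by rw [hedef]; group
  have hdnc : ¬ Commute (π x) (π d) := fun h => by
    refine central_false hq1 hq2 hz hz2q hxq1 ?_ hsp
    have hh : (π z)⁻¹ * (π x * π z * (π x)⁻¹) = π d := by
      rw [← map_inv π, ← map_inv π, ← map_mul π, ← map_mul π, ← map_mul π]
    rw [hh, h.eq, mul_inv_cancel_right]
  have heq1 : π e ≠ 1 := fun h => hdnc (by
    have h' : π (x * d * x⁻¹) = π d := by rw [hde, map_mul, h, mul_one]
    rwa [map_mul, map_mul, map_inv, mul_inv_eq_iff_eq_mul] at h')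
  -- the intersection in the quotient
  haveI := normal hq1
  haveI := normal hq2
  set W := E1.map π ⊓ E2.map π with hWdef
  haveI : W.Normal := Subgroup.normal_inf_normal _ _
  have hdW : π d ∈ W := ⟨(hmem1 d).2 hd1, (hmem2 d).2 hd2⟩
  have heW : π e ∈ W := ⟨(hmem1 e).2 he1, (hmem2 e).2 he2⟩
  have hzq1 : π z ∈ E1.map π := span_le hz
  have hWlt : W < E1.map π := lt_of_le_not_ge inf_le_left fun h => hz2q (h hzq1).2
  have hW2 : Nat.card W ≤ p ^ 2 := by
    have h := (mul_card_le Fq.isP hWlt).trans_eq hcard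
    rw [pow_succ'] at h
    exact Nat.le_of_mul_le_mul_left h hp.out.pos
  obtain ⟨f, hfW, hf, hf1⟩ := exists_mem_om Fq (N := W) fun h => heq1 (Subgroup.mem_bot.1 (h ▸ heW))
  haveI hfn : (zpowers f).Normal := PGroups.normal_of_le_center (zpowers_le.2 hf.1)
  have hec : π e ∈ center (M ⧸ L) := by
    have h := comm_mem_of_card_le Fq.isP (A := zpowers f) (B := W) (zpowers_le.2 hfW) (by
      rw [card_zpowers_prime hf.2 hf1, ← pow_two]; exact hW2) (π x) hdW
    have h' := hfn.conj_mem' _ h (π d)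
    have hπe : π e = (π d)⁻¹ * (π x * π d * (π x)⁻¹) := by
      rw [← map_inv π, ← map_inv π, ← map_mul π, ← map_mul π, ← map_mul π]
    rw [show (π d)⁻¹ * ⁅π x, π d⁆ * π d = π e by
      rw [hπe, commutatorElement_def]
      generalize π x = a, π d = b
      group] at h'
    exact (zpowers_le.2 hf.1) h'
  have hep : (π e) ^ p = 1 := hexp _ heW.1
  have hdq : π d ∉ zpowers (π e) := fun h => hdnc
    ((Subgroup.mem_center_iff.1 ((zpowers_le.2 hec) h) (π x) : π x * π d = π d * π x))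
  have hom : ∀ y ∈ om p (M ⧸ L), y ∈ zpowers (π e) := by
    intro y hy
    obtain ⟨a, b, rfl⟩ := exists_pair Fq.isP hW2 hdW heW hdq heq1 hep (hab _ hdW.1 _ heW.1)
      (⟨center_le hq1 hy.1, center_le hq2 hy.1⟩ : y ∈ W)
    refine mul_mem ?_ (pow_mem (mem_zpowers _) b)
    have hda : Commute ((π d) ^ a) (π x) := by
      have h1' : π d ^ a ∈ center (M ⧸ L) := by
        have := mul_mem hy.1 (inv_mem (pow_mem hec b))
        rwa [mul_inv_cancel_right] at this
      exact (Subgroup.mem_center_iff.1 h1' (π x)).symm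
    by_cases hpa : p ∣ a
    · obtain ⟨q, rfl⟩ := hpa
      rw [pow_mul, hexp _ hdW.1, one_pow]; exact one_mem _
    · exact absurd (commute_of_pow Fq.isP hda hpa).symm hdnc
  -- the generators of `E1`
  have hgen : E1 ≤ zpowers z ⊔ (zpowers d ⊔ (zpowers e ⊔ L)) := by
    have hWde : W ≤ zpowers (π d) ⊔ zpowers (π e) := fun w hw => by
      obtain ⟨a, b, rfl⟩ := exists_pair Fq.isP hW2 hdW heW hdq heq1 hep (hab _ hdW.1 _ heW.1) hw
      exact mul_mem (mem_sup_left (pow_mem (mem_zpowers _) a)) (mem_sup_right (pow_mem (mem_zpowers _) b))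
    have hEle : E1.map π ≤ zpowers (π z) ⊔ W := by
      refine (Subgroup.eq_of_le_of_card_ge (sup_le (zpowers_le.2 hzq1) inf_le_left) ?_).ge
      rw [hcard]
      have h1' := mul_card_le Fq.isP (lt_of_le_not_ge (le_sup_right : W ≤ zpowers (π z) ⊔ W)
        fun h => hz2q (h (mem_sup_left (mem_zpowers _))).2)
      have h2' := mul_card_le Fq.isP (lt_of_le_not_ge (le_sup_right : zpowers (π e) ≤ zpowers (π d) ⊔ zpowers (π e))
        fun h => hdq (h (mem_sup_left (mem_zpowers _))))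
      rw [card_zpowers_prime hep heq1, ← pow_two] at h2'
      refine le_trans ?_ h1'
      rw [pow_succ']
      exact Nat.mul_le_mul_left p (h2'.trans (Subgroup.card_le_of_le
        (sup_le (zpowers_le.2 hdW) (zpowers_le.2 heW))))
    have hle : E1.map π ≤ (zpowers z ⊔ (zpowers d ⊔ (zpowers e ⊔ L))).map π :=
      hEle.trans (sup_le (zpowers_le.2 ⟨z, mem_sup_left (mem_zpowers z), rfl⟩) (hWde.trans (sup_le
        (zpowers_le.2 ⟨d, mem_sup_right (mem_sup_left (mem_zpowers d)), rfl⟩)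
        (zpowers_le.2 ⟨e, mem_sup_right (mem_sup_right (mem_sup_left (mem_zpowers e))), rfl⟩))))
    intro u hu
    obtain ⟨v, hv, hvu⟩ := hle (Subgroup.mem_map_of_mem π hu)
    have h := (hπ (v⁻¹ * u)).1 (by rw [map_mul, map_inv, hvu, inv_mul_cancel])
    have := (zpowers z ⊔ (zpowers d ⊔ (zpowers e ⊔ L))).mul_mem hv
      (mem_sup_right (mem_sup_right (mem_sup_right h)))
    rwa [mul_inv_cancel_left] at this
  -- the commutators and powers in `E1`
  have hcom : ∀ a ∈ E1, ∀ b ∈ E1, ⁅a, b⁆ ∈ L := fun a ha b hb => (hπ _).1 (by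
    rw [map_commutatorElement, commutatorElement_eq_one_iff_commute]
    exact hab _ ((hmem1 a).2 ha) _ ((hmem1 b).2 hb))
  have hcc : ∀ a ∈ E1, ∀ b ∈ E1, ∀ g, Commute ⁅a, b⁆ g := fun a ha b hb g =>
    ((mem_om.1 (hcom a ha b hb)).1 g).symm
  have hconj : ∀ a ∈ E1, ∀ b ∈ E1, ⁅x * a * x⁻¹, x * b * x⁻¹⁆ = ⁅a, b⁆ := fun a ha b hb => by
    rw [← MulAut.conj_apply, ← MulAut.conj_apply, ← map_commutatorElement, MulAut.conj_apply,
      ← (hcc a ha b hb x).eq, mul_inv_cancel_right]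
  have hr : ∀ a ∈ E1, ∀ b ∈ E1, ∀ c ∈ E1, ⁅a, b * c⁆ = ⁅a, b⁆ * ⁅a, c⁆ := fun a ha b hb c hc => by
    rw [show ⁅a, b * c⁆ = ⁅a, b⁆ * (b * ⁅a, c⁆ * b⁻¹) by simp only [commutatorElement_def]; group,
      ← (hcc a ha c hc b).eq, mul_inv_cancel_right]
  have hl : ∀ a ∈ E1, ∀ b ∈ E1, ∀ c ∈ E1, ⁅a * b, c⁆ = ⁅a, c⁆ * ⁅b, c⁆ := fun a ha b hb c hc => by
    rw [show ⁅a * b, c⁆ = a * ⁅b, c⁆ * a⁻¹ * ⁅a, c⁆ by simp only [commutatorElement_def]; group,
      ← (hcc b hb c hc a).eq, mul_inv_cancel_right, (hcc b hb c hc _).eq]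
  have hde0 : ⁅d, e⁆ = 1 := by
    have hfe : x * e * x⁻¹ * e⁻¹ ∈ L := (hπ _).1 (by
      rw [map_mul, map_mul, map_mul, map_inv, map_inv, Subgroup.mem_center_iff.1 hec (π x), mul_inv_cancel_right,
        mul_inv_cancel])
    have h2 := hconj z hz1 e he1
    rw [hzd, show x * e * x⁻¹ = x * e * x⁻¹ * e⁻¹ * e by group] at h2
    generalize x * e * x⁻¹ * e⁻¹ = f0 at hfe h2
    have hf0 : f0 ∈ E1 := om_le h1 hfe
    rw [hr _ (mul_mem hz1 hd1) f0 hf0 e he1,
      commutatorElement_eq_one_iff_commute.2 ((mem_om.1 hfe).1 (z * d)), one_mul,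
      hl z hz1 d hd1 e he1, mul_eq_left] at h2
    exact h2
  have hze0 : ⁅z, e⁆ = 1 := by
    have h := hconj z hz1 d hd1
    rw [hzd, hde, hl z hz1 d hd1 _ (mul_mem hd1 he1), hr z hz1 d hd1 e he1, hr d hd1 d hd1 e he1,
      commutatorElement_self, one_mul, hde0, mul_one, mul_eq_left] at h
    exact h
  have hecomm : ∀ b ∈ E1, Commute e b := fun b hb => by
    have hle : zpowers z ⊔ (zpowers d ⊔ (zpowers e ⊔ L)) ≤ centralizer ({e} : Set M) := sup_le
      (zpowers_le.2 (Subgroup.mem_centralizer_singleton_iff.2 (commutatorElement_eq_one_iff_commute.1 hze0).eq))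
      (sup_le (zpowers_le.2 (Subgroup.mem_centralizer_singleton_iff.2
        (commutatorElement_eq_one_iff_commute.1 hde0).eq))
        (sup_le (zpowers_le.2 (Subgroup.mem_centralizer_singleton_iff.2 rfl))
          fun l hl' => Subgroup.mem_centralizer_singleton_iff.2 ((mem_om.1 hl').1 e).symm.eq))
    exact (show Commute b e from Subgroup.mem_centralizer_singleton_iff.1 (hle (hgen hb))).symm
  have hEp : ∀ a ∈ E1, a ^ p ∈ L := fun a ha => (hπ _).1 (by rw [map_pow, hexp _ ((hmem1 a).2 ha)])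
  have hep' : e ^ p = 1 := by
    have h : (d * e) ^ p = d ^ p := by
      rw [← hde, conj_pow, Subgroup.mem_center_iff.1 (hLc (hEp d hd1)) x, mul_inv_cancel_right]
    rwa [(hecomm d hd1).symm.mul_pow, mul_eq_left] at h
  -- the central elements of order `p` of `E1`
  let U : Subgroup M :=
    { carrier := {a | a ∈ E1 ∧ (∀ b ∈ E1, Commute a b) ∧ a ^ p = 1}
      one_mem' := ⟨one_mem _, fun b _ => Commute.one_left b, one_pow _⟩
      mul_mem' := fun {a b} ha hb => ⟨mul_mem ha.1 hb.1, fun c hc => (ha.2.1 c hc).mul_left (hb.2.1 c hc), by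
        rw [(ha.2.1 b hb.1).mul_pow, ha.2.2, hb.2.2, one_mul]⟩
      inv_mem' := fun {a} ha => ⟨inv_mem ha.1, fun c hc => (ha.2.1 c hc).inv_left, by
        rw [inv_pow, ha.2.2, inv_one]⟩ }
  have hUE : U ≤ E1 := fun a ha => ha.1
  have hLU : L ≤ U := fun l hl' => ⟨om_le h1 hl', fun b _ => ((mem_om.1 hl').1 b).symm, hl'.2⟩
  have heU : e ∈ U := ⟨he1, hecomm, hep'⟩
  have hUinv : F.Inv U E1 := fun α hα a ha => by
    refine ⟨(α a).2, fun b hb => ?_, ?_⟩
    · have hc : Commute a (α⁻¹ ⟨b, hb⟩) := Subtype.ext (ha.2.1 _ (α⁻¹ ⟨b, hb⟩).2).eq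
      have := (hc.map (α : E1 ≃* E1).toMonoidHom).map E1.subtype
      simpa using this
    · have hap : a ^ p = 1 := Subtype.ext (by rw [SubmonoidClass.coe_pow, ha.2.2, OneMemClass.coe_one])
      rw [← SubmonoidClass.coe_pow, ← map_pow, hap, map_one, OneMemClass.coe_one]
  have hUq : Fq.Inv (U.map π) (E1.map π) := by
    rintro β hβ y ⟨u, hu, hy⟩
    obtain ⟨α, hα, he⟩ := exists_lift hX1 hβ
    have hmem : π u ∈ E1.map π := (hmem1 u).2 hu.1
    rw [show y = ⟨π u, hmem⟩ from Subtype.ext hy.symm, he ⟨u, hu.1⟩ hmem]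
    exact Subgroup.mem_map_of_mem π (hUinv α hα _ hu)
  have hspanU : Fq.span (E1.map π) ≤ U.map π := span_le_of_inv hUq fun y hy =>
    (zpowers_le.2 (Subgroup.mem_map_of_mem π heU)) (hom y hy)
  have hzU : z ∈ U := by
    obtain ⟨u, hu, he⟩ := hspanU hz
    have h := (hπ (u⁻¹ * z)).1 (by rw [map_mul, map_inv, he, inv_mul_cancel])
    have := U.mul_mem hu (hLU h)
    rwa [mul_inv_cancel_left] at this
  haveI hUn := Inv.normal h1 hUinv hUE
  have hdU : d ∈ U := U.mul_mem (U.inv_mem hzU) (hUn.conj_mem z hzU x)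
  have hEU : E1 ≤ U := hgen.trans (sup_le (zpowers_le.2 hzU)
    (sup_le (zpowers_le.2 hdU) (sup_le (zpowers_le.2 heU) hLU)))
  have h3 := F.card_le_cube (H := E1) (fun a ha b hb => (hEU ha).2.1 b hb) fun a ha => (hEU ha).2.2
  have h4 := PGroups.card_eq_card_map_mul L E1
  rw [inf_eq_right.2 (om_le h1), hcard] at h4
  have hL1 : 1 < Nat.card L := by
    by_contra h
    push Not at h
    exact hLne (Subgroup.card_eq_one.1 (le_antisymm h Nat.card_pos))
  rw [h4] at h3
  have : p ^ 3 * 1 < p ^ 3 * Nat.card L := Nat.mul_lt_mul_of_pos_left hL1 (Nat.pow_pos hp.out.pos)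
  rw [mul_one] at this
  exact absurd h3 (not_le.2 (by linarith))

end Fam

end Cfsg.Agent.H91.Rank3
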