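import Cfsg.Agent.H91.Rank3.PairInvFalse
import Cfsg.Agent.H91.Rank3.PairCube
import Cfsg.Agent.H91.Rank3.PairLiftFalse
import Cfsg.Agent.H91.Rank3.CaseTwoComm

/-!
Two invariant members form the symplectic pair or are both abelian.
-/

set_option autoImplicit false
set_option linter.unusedSectionVars false
set_option linter.style.haveILetI false

namespace Cfsg.Agent.H91.Rank3

open Subgroup

universe u

namespace Fam

/-- One mover among two members with spans inside: impossible. -/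
theorem one_mover_false {M : Type*} [Group M] [Finite M] {p : ℕ} [hp : Fact p.Prime] {F : Fam p M}
    {E1 E2 : Subgroup M} (h1 : F.Ess E1) (h2 : F.Ess E2) (hEss : ∀ E, F.Ess E → E = E1 ∨ E = E2)
    (hG1 : ∀ γ ∈ F.Γ, E1.map (γ : M ≃* M).toMonoidHom = E1)
    (hG2 : ∀ γ ∈ F.Γ, E2.map (γ : M ≃* M).toMonoidHom = E2)
    (hall : ∀ E E', F.Ess E → F.Ess E' → F.span E ≤ E') (hn1 : ¬ F.Inv (om p M) E1)
    (hom2 : F.Inv (om p M) E2) : False := by
  have hu : ∀ E, F.Ess E → ¬ F.Inv (om p M) E → E = E1 := fun E hE hn =>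
    (hEss E hE).resolve_right fun h => hn (h ▸ hom2)
  by_cases hV : F.Inv (F.span E1) E2
  · exact mover_inv_false h1 h2 hn1 hom2 (hall E1 E2 h1 h2) hV
  by_cases hcard : Nat.card (F.span E1) = p ^ 3
  · exact mover_cube_false hu h1 hn1 hall h2 hom2 hV hcard hG1 hG2
  by_cases hcomm : ∀ g ∈ F.G E2, ∀ a ∈ F.span E1, ∀ b ∈ img g (F.span E1), Commute a b
  · exact caseTwo_comm h1 hn1 hall h2 hom2 hV hcard hcomm (gInv_span hu h1 hn1)
  · push Not at hcomm
    obtain ⟨g, hg, a, ha, b, hb, hab⟩ := hcomm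
    exact caseTwo_pair h1 hn1 hall h2 hom2 hcard hg ha hb hab

/-- Some span leaves the other member. -/
theorem escape {p : ℕ} [hp : Fact p.Prime] : ∀ (n : ℕ) {M : Type u} [Group M] [Finite M] (F : Fam p M)
    {E1 E2 : Subgroup M}, Nat.card M ≤ n → F.Ess E1 → F.Ess E2 → E1 ≠ E2 →
    (∀ E, F.Ess E → E = E1 ∨ E = E2) → (∀ γ ∈ F.Γ, E1.map (γ : M ≃* M).toMonoidHom = E1) →
    (∀ γ ∈ F.Γ, E2.map (γ : M ≃* M).toMonoidHom = E2) → ¬ (F.span E1 ≤ E2 ∧ F.span E2 ≤ E1) := by
  intro n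
  induction n with
  | zero =>
    intro M _ _ F E1 E2 hn _ _ _ _ _ _
    exact absurd Nat.card_pos (not_lt.2 hn)
  | succ n ih =>
    intro M _ _ F E1 E2 hn h1 h2 hne hEss hG1 hG2 ⟨hs1, hs2⟩
    have hall : ∀ E E', F.Ess E → F.Ess E' → F.span E ≤ E' := by
      intro E E' hE hE'
      rcases hEss E hE with rfl | rfl <;> rcases hEss E' hE' with rfl | rfl
      exacts [span_le, hs1, hs2, span_le]
    by_cases hom1 : F.Inv (om p M) E1
    swap
    · by_cases hom2 : F.Inv (om p M) E2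
      · exact one_mover_false h1 h2 hEss hG1 hG2 hall hom1 hom2
      · exact hne (caseTwo_unique hall h1 h2 hom1 hom2)
    by_cases hom2 : F.Inv (om p M) E2
    swap
    · exact one_mover_false h2 h1 (fun E hE => (hEss E hE).symm) hG2 hG1 hall hom2 hom1
    have hI : ∀ E, F.Ess E → F.Inv (om p M) E := fun E hE => by
      rcases hEss E hE with rfl | rfl
      exacts [hom1, hom2]
    have hLne : om p M ≠ ⊥ := by
      intro hbot
      obtain ⟨x, hx⟩ := exists_not_mem h1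
      obtain ⟨y, -, hy, hy1⟩ := exists_mem_om F (N := (⊤ : Subgroup M)) fun h => hx (by
        rw [Subgroup.mem_bot.1 (h.le (mem_top x))]
        exact one_mem _)
      exact hy1 (Subgroup.mem_bot.1 (hbot.le hy))
    haveI := om_normal (M := M) (p := p)
    set L := om p M
    set π := QuotientGroup.mk' L
    have hLc : L ≤ center M := fun _ hx => hx.1
    have hq1 : (omQuot F hI).Ess (E1.map π) := ⟨E1, h1, rfl⟩
    have hq2 : (omQuot F hI).Ess (E2.map π) := ⟨E2, h2, rfl⟩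
    have hX1 := comap_map_ess (N := L) h1 hLc
    have hX2 := comap_map_ess (N := L) h2 hLc
    have hneq : E1.map π ≠ E2.map π := fun h => hne (by rw [← hX1, ← hX2, h])
    have hEssq : ∀ X, (omQuot F hI).Ess X → X = E1.map π ∨ X = E2.map π := by
      rintro X ⟨E, hE, rfl⟩
      rcases hEss E hE with rfl | rfl
      exacts [Or.inl rfl, Or.inr rfl]
    have hGq : ∀ {E : Subgroup M}, (∀ γ ∈ F.Γ, E.map (γ : M ≃* M).toMonoidHom = E) →
        ∀ δ ∈ (omQuot F hI).Γ, (E.map π).map (δ : M ⧸ L ≃* M ⧸ L).toMonoidHom = E.map π := by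
      rintro E hG δ ⟨γ, hγ, hδ⟩
      rw [Subgroup.map_map]
      conv_rhs => rw [← hG γ hγ, Subgroup.map_map]
      exact congrArg (fun f => E.map f) (MonoidHom.ext fun x => hδ x)
    have hlt : Nat.card (M ⧸ L) ≤ n := by
      have h := Subgroup.card_mul_index L
      rw [Subgroup.index_eq_card] at h
      have h2' : 1 < Nat.card L := by
        by_contra h'
        push Not at h'
        exact hLne (Subgroup.card_eq_one.1 (le_antisymm h' Nat.card_pos))
      have h3 : 1 * Nat.card (M ⧸ L) < Nat.card L * Nat.card (M ⧸ L) :=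
        Nat.mul_lt_mul_of_pos_right h2' Nat.card_pos
      omega
    have hesc := ih (omQuot F hI) hlt hq1 hq2 hneq hEssq (hGq hG1) (hGq hG2)
    rw [not_and_or] at hesc
    have key : ∀ {A B : Subgroup M}, F.Ess A → F.Ess B → (∀ γ ∈ F.Γ, A.map (γ : M ≃* M).toMonoidHom = A) →
        (∀ γ ∈ F.Γ, B.map (γ : M ≃* M).toMonoidHom = B) →
        ¬ (omQuot F hI).span (A.map π) ≤ B.map π → False := by
      intro A B hA hB hGA hGB hAB
      obtain ⟨zq, hzq, hzB⟩ := SetLike.not_le_iff_exists.1 hAB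
      obtain ⟨z, rfl⟩ := QuotientGroup.mk'_surjective L zq
      have hz2 : z ∉ B := fun h => hzB (Subgroup.mem_map_of_mem π h)
      by_cases hBA : (omQuot F hI).span (B.map π) ≤ A.map π
      · exact lift_chain_false hA hB hI hLne hzq hz2 hBA
      · obtain ⟨zq', hzq', hzA⟩ := SetLike.not_le_iff_exists.1 hBA
        obtain ⟨z', rfl⟩ := QuotientGroup.mk'_surjective L zq'
        exact lift_both_false hA hB hI hGA hGB hzq hz2 hzq' fun h => hzA (Subgroup.mem_map_of_mem π h)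
    rcases hesc with h | h
    · exact key h1 h2 hG1 hG2 h
    · exact key h2 h1 hG2 hG1 h

variable {M : Type u} [Group M] [Finite M] {p : ℕ} [hp : Fact p.Prime] {F : Fam p M} {E1 E2 : Subgroup M}

/-- The dichotomy for two invariant members. -/
theorem pair_cases (h1 : F.Ess E1) (h2 : F.Ess E2) (hne : E1 ≠ E2) (hEss : ∀ E, F.Ess E → E = E1 ∨ E = E2)
    (hG1 : ∀ γ ∈ F.Γ, E1.map (γ : M ≃* M).toMonoidHom = E1)
    (hG2 : ∀ γ ∈ F.Γ, E2.map (γ : M ≃* M).toMonoidHom = E2) :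
    SpPair p E1 E2 ∨ SpPair p E2 E1 ∨
      ((∀ a ∈ E1, ∀ b ∈ E1, Commute a b) ∧ ∀ a ∈ E2, ∀ b ∈ E2, Commute a b) := by
  by_cases hs1 : F.span E1 ≤ E2 <;> by_cases hs2 : F.span E2 ≤ E1
  · exact absurd ⟨hs1, hs2⟩ (escape _ F le_rfl h1 h2 hne hEss hG1 hG2)
  · obtain ⟨z, hz, hz1⟩ := SetLike.not_le_iff_exists.1 hs2
    exact Or.inr (Or.inl (pair_sp h2 h1 hz hz1 hs1))
  · obtain ⟨z, hz, hz2⟩ := SetLike.not_le_iff_exists.1 hs1
    exact Or.inl (pair_sp h1 h2 hz hz2 hs2)
  · obtain ⟨z, hz, hz2⟩ := SetLike.not_le_iff_exists.1 hs1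
    obtain ⟨z', hz', hz1⟩ := SetLike.not_le_iff_exists.1 hs2
    exact Or.inr (Or.inr (both_abelian h1 h2 hz hz2 hz' hz1))

end Fam

end Cfsg.Agent.H91.Rank3
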