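import Cfsg.Agent.H91.Rank3.Glue
import Cfsg.Agent.H91.Rank3.PairMain
import Cfsg.Agent.H49.OrderFourth

/-!
Two essential subgroups invariant under the automorphisms of `S` give the symplectic pair.
-/

set_option autoImplicit false
set_option linter.unusedSectionVars false
set_option linter.style.haveILetI false

namespace Cfsg.Agent.H91.Rank3

open Subgroup
open Cfsg Cfsg.FusionSystem Cfsg.Agent.FusionSys

universe u

variable {Ω : Type u} [Group Ω] {S : Subgroup Ω} [Finite S] {p : ℕ} [hp : Fact p.Prime] {F : FusionSystem S}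

/-- An invariant subgroup is normalised by `S`. -/
theorem le_normalizer_of_invariant {E : Subgroup Ω} (hE : E ≤ S)
    (hc : ∀ φ : MulAut S, φ ∈ F.autGroup S → (E.subgroupOf S).map φ.toMonoidHom = E.subgroupOf S) :
    S ≤ Subgroup.normalizer (E : Set Ω) := fun s hs => by
  haveI : Finite E := finite_of_le hE
  refine mem_normalizer_of_maps fun y hy => ?_
  have h := (hc _ (conjAut_mem_autGroup F le_rfl ⟨hs, Subgroup.le_normalizer hs⟩)).le
    ⟨⟨y, hE hy⟩, Subgroup.mem_subgroupOf.2 hy, rfl⟩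
  exact Subgroup.mem_subgroupOf.1 h

/-- The pair in `Ω`. -/
theorem pair_conclusion {E₁ E₂ : Subgroup Ω} (h₁ : E₁ ≤ S) (h₂ : E₂ ≤ S)
    (h : SpPair p (E₁.subgroupOf S) (E₂.subgroupOf S)) :
    Cfsg.IsExtraspecial p E₂ ∧ Nat.card E₂ = p ^ 3 ∧ (∀ x ∈ E₂, x ^ p = 1) ∧
      Cfsg.IsElementaryAbelian p E₁ ∧ Nat.card E₁ = p ^ 3 := by
  obtain ⟨-, ⟨hab, hexp1, hc1⟩, ⟨⟨a, ha, b, hb, hne⟩, hexp2, hc2⟩⟩ := h
  haveI : Finite E₂ := finite_of_le h₂
  rw [Nat.card_congr (Subgroup.subgroupOfEquivOfLe h₁).toEquiv] at hc1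
  rw [Nat.card_congr (Subgroup.subgroupOfEquivOfLe h₂).toEquiv] at hc2
  refine ⟨Cfsg.Agent.H49.extraspecial_of_card_cube hc2 fun hcomm => hne ?_, hc2, fun x hx => ?_,
    ⟨⟨⟨fun x y => ?_⟩⟩, fun x hx => ?_⟩, hc1⟩
  · exact Subtype.ext (congrArg Subtype.val
      (hcomm ⟨(a : Ω), Subgroup.mem_subgroupOf.1 ha⟩ ⟨(b : Ω), Subgroup.mem_subgroupOf.1 hb⟩) :)
  · exact congrArg Subtype.val (hexp2 ⟨x, h₂ hx⟩ (Subgroup.mem_subgroupOf.2 hx))
  · exact Subtype.ext (congrArg Subtype.val (hab ⟨x, h₁ x.2⟩ (Subgroup.mem_subgroupOf.2 x.2) ⟨y, h₁ y.2⟩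
      (Subgroup.mem_subgroupOf.2 y.2)).eq :)
  · exact congrArg Subtype.val (hexp1 ⟨x, h₁ hx⟩ (Subgroup.mem_subgroupOf.2 hx))

set_option maxHeartbeats 800000 in
/-- Two invariant essential subgroups give the symplectic pair, in one of the two orders. -/
theorem invariant_pair (hS : IsPGroup p S) (hp2 : p ≠ 2) (hsr : Cfsg.SectionalPRankLE p 3 S)
    (hnt : ¬ Cfsg.SectionalPRankLE p 2 S) (hF : F.IsSaturated p) (hO : F.core = ⊥) {E₁ E₂ : Subgroup Ω}
    (hne : E₁ ≠ E₂) (hE₁ : F.IsEssential p E₁) (hE₂ : F.IsEssential p E₂)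
    (hc₁ : ∀ φ : MulAut S, φ ∈ F.autGroup S → (E₁.subgroupOf S).map φ.toMonoidHom = E₁.subgroupOf S)
    (hc₂ : ∀ φ : MulAut S, φ ∈ F.autGroup S → (E₂.subgroupOf S).map φ.toMonoidHom = E₂.subgroupOf S) :
    SpPair p (E₁.subgroupOf S) (E₂.subgroupOf S) ∨ SpPair p (E₂.subgroupOf S) (E₁.subgroupOf S) := by
  classical
  set A := E₁.subgroupOf S
  set B := E₂.subgroupOf S
  have hAB : A ≠ B := fun h => hne (by
    have h' := congrArg (Subgroup.map S.subtype) h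
    rwa [Subgroup.subgroupOf_map_subtype, Subgroup.subgroupOf_map_subtype, inf_eq_left.2 hE₁.1.1,
      inf_eq_left.2 hE₂.1.1] at h')
  obtain ⟨Φ, hΓ, hEss, hG⟩ := exists_fam (F := F) (fun E => E = A ∨ E = B) (fun γ hγ E hE => by
      rcases hE with rfl | rfl
      exacts [Or.inl (hc₁ γ hγ), Or.inr (hc₂ γ hγ)]) hS hp2 hsr hF
  have hA : Φ.Ess A := (hEss A).2 ⟨Or.inl rfl,
    good_of_essential hS hsr hF hE₁ (le_normalizer_of_invariant hE₁.1.1 hc₁)⟩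
  have hB : Φ.Ess B := (hEss B).2 ⟨Or.inr rfl,
    good_of_essential hS hsr hF hE₂ (le_normalizer_of_invariant hE₂.1.1 hc₂)⟩
  rcases Fam.pair_cases hA hB hAB (fun E hE => ((hEss E).1 hE).1) (fun γ hγ => hc₁ γ (hΓ ▸ hγ))
      (fun γ hγ => hc₂ γ (hΓ ▸ hγ)) with h | h | ⟨habA, habB⟩
  · exact Or.inl h
  · exact Or.inr h
  exfalso
  obtain ⟨x, hxB, hxA⟩ := Fam.exists_mem_diff hA hB hAB
  have hDc : A ⊓ B ≤ center S := fun d hd =>
    Fam.mem_center_of hA hxA (fun e he => habA d hd.1 e he) (habB d hd.2 x hxB)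
  have hall : ∀ E, F.IsEssential p E → S ≤ Subgroup.normalizer (E : Set Ω) := by
    intro E hE s hs
    haveI : Finite E := finite_of_le hE.1.1
    have hDE : ∀ d ∈ A ⊓ B, (d : Ω) ∈ E := fun d hd =>
      centralizerIn_le_of_isCentric hE.1 (FusionSys.mem_centralizerIn.2 ⟨d.2, fun y hy =>
        congrArg Subtype.val (Subgroup.mem_center_iff.1 (hDc hd) ⟨y, hE.1.1 hy⟩)⟩)
    refine mem_normalizer_of_maps fun y hy => ?_
    have h := E.mul_mem (hDE _ (Subgroup.mem_inf.2 ⟨Fam.comm_mem hA ⟨s, hs⟩ ⟨y, hE.1.1 hy⟩,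
      Fam.comm_mem hB ⟨s, hs⟩ ⟨y, hE.1.1 hy⟩⟩)) hy
    rw [commutatorElement_def] at h
    simpa using h
  obtain ⟨Ψ, hΓ', hEss', hG'⟩ := exists_fam (F := F) (fun _ => True) (fun _ _ _ _ => trivial) hS hp2 hsr hF
  rcases Fam.main Ψ hnt with ⟨X, Y, -, hY, -, ⟨-, -, hXc⟩, ⟨a, ha, b, hb, hab⟩, -, hYc⟩ | ⟨Q, hQ⟩
  swap
  · exact no_common hS hsr hF hO hall hΓ' (fun E hE => (hEss' E).2 ⟨trivial, hE⟩) hG' hQ
  have hM : Nat.card S = p ^ 4 := by
    rw [← Subgroup.card_mul_index Y, Ψ.index hY, hYc]; ring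
  have hcard : ∀ {E}, Φ.Ess E → Nat.card E = p ^ 3 := fun {E} hE => Nat.eq_of_mul_eq_mul_right hp.out.pos (by
    have h := Subgroup.card_mul_index E
    rw [Φ.index hE, hM] at h
    rw [h]; ring)
  haveI := Fam.normal hA
  have hD : p ^ 2 ≤ Nat.card (A ⊓ B : Subgroup S) := by
    have h := (card_mul_le_sup A B).trans (Nat.mul_le_mul_right _ (Subgroup.card_le_card_group _))
    rw [hcard hA, hcard hB, hM, ← pow_add] at h
    refine Nat.le_of_mul_le_mul_left (c := p ^ 4) ?_ (Nat.pow_pos hp.out.pos)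
    rwa [← pow_add]
  obtain ⟨c, hc, hcD⟩ : ∃ c ∈ Y, c ∉ A ⊓ B := by
    by_contra h
    push Not at h
    exact hab (Subgroup.mem_center_iff.1 (hDc (h b hb)) a)
  have hle : zpowers c ⊔ (A ⊓ B) ≤ Y :=
    sup_le (zpowers_le.2 hc) fun d hd => Fam.center_le hY (hDc hd)
  have heq : zpowers c ⊔ (A ⊓ B) = Y := by
    refine Subgroup.eq_of_le_of_card_ge hle ?_
    rw [hYc, pow_succ']
    exact (Nat.mul_le_mul_left p hD).trans (mul_card_le hS (lt_of_le_not_ge le_sup_right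
      fun h => hcD (h (mem_sup_left (mem_zpowers c)))))
  refine hab (commute_sup (commute_zpowers c)
    (fun d hd d' _ => (Subgroup.mem_center_iff.1 (hDc hd) d').symm)
    (fun u _ d hd => Subgroup.mem_center_iff.1 (hDc hd) u) a (heq.ge ha) b (heq.ge hb))

end Cfsg.Agent.H91.Rank3
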