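import Cfsg.Agent.H91.Rank3.Tools
import Cfsg.Agent.Coprime.External

/-!
Weights of a torus on the layers of the lower exponent-`p` central series of a maximal subgroup `E`.
-/

set_option autoImplicit false
set_option linter.unusedSectionVars false
set_option linter.style.haveILetI false

namespace Cfsg.Agent.H91.Rank3

open Subgroup
open scoped commutatorElement

variable {N : Type*} [Group N] [Finite N] {p : ℕ} [hp : Fact p.Prime]

section Bilinear

variable {E : Subgroup N} [hn : E.Normal] (hp2 : p ≠ 2)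
include hp2

theorem mk_comm_mul_right {i : ℕ} {x e e' : N} (hx : x ∈ pser p E i) (he : e ∈ E) (he' : e' ∈ E) :
    QuotientGroup.mk' (pser p E (i + 2)) ⁅x, e * e'⁆ =
      QuotientGroup.mk' (pser p E (i + 2)) ⁅x, e⁆ * QuotientGroup.mk' (pser p E (i + 2)) ⁅x, e'⁆ := by
  set π := QuotientGroup.mk' (pser p E (i + 2))
  have hc : Commute (π ⁅x, e'⁆) (π e) := by
    rw [← commutatorElement_eq_one_iff_commute, ← map_commutatorElement]
    exact (QuotientGroup.eq_one_iff _).2 (comm_mem_pser_succ (comm_mem_pser_succ hx he') he)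
  rw [show ⁅x, e * e'⁆ = ⁅x, e⁆ * (e * ⁅x, e'⁆ * e⁻¹) by simp only [commutatorElement_def]; group,
    map_mul π, map_mul π, map_mul π, map_inv, ← hc.eq, mul_inv_cancel_right]

theorem mk_comm_mul_left {i : ℕ} {x y e : N} (hx : x ∈ pser p E i) (hy : y ∈ pser p E i) (he : e ∈ E) :
    QuotientGroup.mk' (pser p E (i + 2)) ⁅x * y, e⁆ =
      QuotientGroup.mk' (pser p E (i + 2)) ⁅x, e⁆ * QuotientGroup.mk' (pser p E (i + 2)) ⁅y, e⁆ := by
  set π := QuotientGroup.mk' (pser p E (i + 2))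
  have hc : ∀ d ∈ E, Commute (π ⁅y, e⁆) (π d) := fun d hd => by
    rw [← commutatorElement_eq_one_iff_commute, ← map_commutatorElement]
    exact (QuotientGroup.eq_one_iff _).2 (comm_mem_pser_succ (comm_mem_pser_succ hy he) hd)
  rw [show ⁅x * y, e⁆ = (x * ⁅y, e⁆ * x⁻¹) * ⁅x, e⁆ by simp only [commutatorElement_def]; group,
    map_mul π, map_mul π, map_mul π, map_inv, ← (hc x (pser_le E i hx)).eq, mul_inv_cancel_right]
  exact (hc _ (pser_le E _ (comm_mem_pser_succ hx he))).eq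

theorem mk_comm_pow_left {i : ℕ} {x e : N} (hx : x ∈ pser p E i) (he : e ∈ E) (k : ℕ) :
    QuotientGroup.mk' (pser p E (i + 2)) ⁅x ^ k, e⁆ = QuotientGroup.mk' (pser p E (i + 2)) ⁅x, e⁆ ^ k := by
  induction k with
  | zero => simp
  | succ k ih => rw [pow_succ, pow_succ, mk_comm_mul_left hp2 (pow_mem hx k) hx he, ih]

theorem mk_comm_pow_right {i : ℕ} {x e : N} (hx : x ∈ pser p E i) (he : e ∈ E) (k : ℕ) :
    QuotientGroup.mk' (pser p E (i + 2)) ⁅x, e ^ k⁆ = QuotientGroup.mk' (pser p E (i + 2)) ⁅x, e⁆ ^ k := by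
  induction k with
  | zero => simp
  | succ k ih => rw [pow_succ, pow_succ, mk_comm_mul_right hp2 hx (pow_mem he k) he, ih]

/-- `pser 1` pairs a term into the term two steps further. -/
theorem comm_pser_pser_one {i : ℕ} {x f : N} (hx : x ∈ pser p E i) (hf : f ∈ pser p E 1) :
    ⁅x, f⁆ ∈ pser p E (i + 2) := by
  set π := QuotientGroup.mk' (pser p E (i + 2))
  let φ : E →* N ⧸ pser p E (i + 2) := MonoidHom.mk' (fun e => π ⁅x, (e : N)⁆) fun a b =>
    mk_comm_mul_right hp2 hx a.2 b.2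
  have hcomm : ∀ a b : E, Commute (φ a) (φ b) := fun a b => by
    show Commute (π ⁅x, (a : N)⁆) (π ⁅x, (b : N)⁆)
    rw [← commutatorElement_eq_one_iff_commute, ← map_commutatorElement]
    exact (QuotientGroup.eq_one_iff _).2
      (comm_mem_pser_succ (comm_mem_pser_succ hx a.2) (pser_le E _ (comm_mem_pser_succ hx b.2)))
  have hle : pser p E 1 ≤ φ.ker.map E.subtype := by
    refine pser_succ_le_of (fun y hy e he => ?_) fun y hy => ?_
    · refine ⟨⁅(⟨y, hy⟩ : E), (⟨e, he⟩ : E)⁆, ?_, by simp [map_commutatorElement, commutatorElement_def]⟩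
      show φ ⁅(⟨y, hy⟩ : E), (⟨e, he⟩ : E)⁆ = 1
      rw [map_commutatorElement, commutatorElement_eq_one_iff_commute]
      exact hcomm _ _
    · refine ⟨(⟨y, hy⟩ : E) ^ p, ?_, by simp⟩
      show φ ((⟨y, hy⟩ : E) ^ p) = 1
      rw [map_pow]
      show π ⁅x, y⁆ ^ p = 1
      rw [← map_pow]
      exact (QuotientGroup.eq_one_iff _).2 (pow_mem_pser_succ (comm_mem_pser_succ hx hy))
  obtain ⟨a, ha, rfl⟩ := hle hf
  exact (QuotientGroup.eq_one_iff _).1 ha

theorem mk_comm_congr {i : ℕ} {x x' e e' : N} (hx : x ∈ pser p E i) (hxx : x⁻¹ * x' ∈ pser p E (i + 1))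
    (he : e ∈ E) (hee : e⁻¹ * e' ∈ pser p E 1) :
    QuotientGroup.mk' (pser p E (i + 2)) ⁅x', e'⁆ = QuotientGroup.mk' (pser p E (i + 2)) ⁅x, e⁆ := by
  have he' : e' ∈ E := by simpa using E.mul_mem he (pser_le E 1 hee)
  conv_lhs => rw [show x' = x * (x⁻¹ * x') by group]
  rw [mk_comm_mul_left hp2 hx (pser_succ_le E i hxx) he',
    show QuotientGroup.mk' (pser p E (i + 2)) ⁅x⁻¹ * x', e'⁆ = 1 from
      (QuotientGroup.eq_one_iff _).2 (comm_mem_pser_succ hxx he'), mul_one]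
  conv_lhs => rw [show e' = e * (e⁻¹ * e') by group]
  rw [mk_comm_mul_right hp2 hx he (pser_le E 1 hee),
    show QuotientGroup.mk' (pser p E (i + 2)) ⁅x, e⁻¹ * e'⁆ = 1 from
      (QuotientGroup.eq_one_iff _).2 (comm_pser_pser_one hp2 hx hee), mul_one]

end Bilinear

/-- `x` is an eigenvector of `f` on the `i`-th layer. -/
def Wt (p : ℕ) (E : Subgroup N) (f : N → N) (i : ℕ) (x : N) (α : ℕ) : Prop :=
  x ∈ pser p E i ∧ (x ^ α)⁻¹ * f x ∈ pser p E (i + 1)

namespace Wt

variable {E : Subgroup N} [hn : E.Normal] {f : N → N} {i : ℕ} {x y z : N} {α β γ : ℕ}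

theorem mk_eq (h : Wt p E f i x α) :
    QuotientGroup.mk' (pser p E (i + 1)) (f x) = QuotientGroup.mk' (pser p E (i + 1)) x ^ α := by
  rw [← map_pow]
  exact (QuotientGroup.eq.2 h.2).symm

theorem commute_mk (hx : x ∈ pser p E i) (hy : y ∈ pser p E i) :
    Commute (QuotientGroup.mk' (pser p E (i + 1)) x) (QuotientGroup.mk' (pser p E (i + 1)) y) := by
  rw [← commutatorElement_eq_one_iff_commute, ← map_commutatorElement]
  exact (QuotientGroup.eq_one_iff _).2 (comm_mem_pser_succ hx (pser_le E i hy))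

theorem congr_exp (h : Wt p E f i x α) (he : (α : ZMod p) = β) : Wt p E f i x β := by
  refine ⟨h.1, ?_⟩
  rw [← QuotientGroup.eq]
  show QuotientGroup.mk' (pser p E (i + 1)) (x ^ β) = QuotientGroup.mk' (pser p E (i + 1)) (f x)
  have hxp : QuotientGroup.mk' (pser p E (i + 1)) x ^ p = 1 := by
    rw [← map_pow]
    exact (QuotientGroup.eq_one_iff _).2 (pow_mem_pser_succ h.1)
  rw [h.mk_eq, map_pow, pow_eq_pow_mod β hxp, pow_eq_pow_mod α hxp,
    (ZMod.natCast_eq_natCast_iff' α β p).1 he]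

variable (hf : AutOn E f)
include hf

theorem congr (h : Wt p E f i x α) (hy : x⁻¹ * y ∈ pser p E (i + 1)) : Wt p E f i y α := by
  have hy' : y ∈ pser p E i := by
    simpa using mul_mem h.1 (pser_succ_le E i hy)
  refine ⟨hy', ?_⟩
  rw [← QuotientGroup.eq]
  show QuotientGroup.mk' (pser p E (i + 1)) (y ^ α) = QuotientGroup.mk' (pser p E (i + 1)) (f y)
  have h1 : QuotientGroup.mk' (pser p E (i + 1)) y = QuotientGroup.mk' (pser p E (i + 1)) x :=
    (QuotientGroup.eq.2 hy).symm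
  rw [map_pow, h1, ← h.mk_eq]
  refine QuotientGroup.eq.2 ?_
  rw [← hf.map_inv (pser_le E i h.1), ← hf.mul _ (E.inv_mem (pser_le E i h.1)) _ (pser_le E i hy')]
  exact hf.mem_pser _ hy

theorem mul (h : Wt p E f i x α) (h' : Wt p E f i y α) : Wt p E f i (x * y) α := by
  refine ⟨mul_mem h.1 h'.1, ?_⟩
  rw [← QuotientGroup.eq]
  show QuotientGroup.mk' (pser p E (i + 1)) ((x * y) ^ α) = QuotientGroup.mk' (pser p E (i + 1)) (f (x * y))
  rw [hf.mul _ (pser_le E i h.1) _ (pser_le E i h'.1), map_pow, map_mul, map_mul, h.mk_eq, h'.mk_eq,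
    (commute_mk h.1 h'.1).mul_pow]

theorem pow (h : Wt p E f i x α) (k : ℕ) : Wt p E f i (x ^ k) α := by
  refine ⟨pow_mem h.1 k, ?_⟩
  rw [← QuotientGroup.eq]
  show QuotientGroup.mk' (pser p E (i + 1)) ((x ^ k) ^ α) = QuotientGroup.mk' (pser p E (i + 1)) (f (x ^ k))
  rw [hf.map_pow (pser_le E i h.1), map_pow _ (f x), h.mk_eq, map_pow, map_pow, ← pow_mul, ← pow_mul,
    mul_comm]

/-- Commutators multiply weights. -/
theorem comm (hp2 : p ≠ 2) (h : Wt p E f i x α) (h' : Wt p E f 0 y β) :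
    Wt p E f (i + 1) ⁅x, y⁆ (α * β) := by
  refine ⟨comm_mem_pser_succ h.1 h'.1, ?_⟩
  rw [← QuotientGroup.eq]
  show QuotientGroup.mk' (pser p E (i + 2)) (⁅x, y⁆ ^ (α * β)) = QuotientGroup.mk' (pser p E (i + 2)) (f ⁅x, y⁆)
  rw [hf.map_comm (pser_le E i h.1) h'.1,
    mk_comm_congr hp2 (pow_mem h.1 α) h.2 (E.pow_mem h'.1 β) h'.2,
    mk_comm_pow_left hp2 h.1 (E.pow_mem h'.1 β), mk_comm_pow_right hp2 h.1 h'.1, map_pow, ← pow_mul,
    mul_comm α β]

/-- `p`-th powers keep weights. -/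
theorem pow_p (hp2 : p ≠ 2) (h : Wt p E f i x α) : Wt p E f (i + 1) (x ^ p) α := by
  refine ⟨pow_mem_pser_succ h.1, ?_⟩
  rw [hf.map_pow (pser_le E i h.1), ← pow_mul, mul_comm p, pow_mul]
  exact pow_congr_pser hp2 (pow_mem h.1 α) h.2

theorem inv (h : Wt p E f i x α) : Wt p E f i x⁻¹ α := by
  refine ⟨inv_mem h.1, ?_⟩
  rw [← QuotientGroup.eq]
  show QuotientGroup.mk' (pser p E (i + 1)) (x⁻¹ ^ α) = QuotientGroup.mk' (pser p E (i + 1)) (f x⁻¹)
  rw [hf.map_inv (pser_le E i h.1), map_inv, h.mk_eq, map_pow, map_inv, inv_pow]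

theorem mem_of_two (h : Wt p E f i x α) (h' : Wt p E f i x β) (hne : (α : ZMod p) ≠ β) :
    x ∈ pser p E (i + 1) :=
  mem_of_pow_congr (pow_mem_pser_succ h.1) (QuotientGroup.eq.1 (by
    show QuotientGroup.mk' (pser p E (i + 1)) (x ^ α) = QuotientGroup.mk' (pser p E (i + 1)) (x ^ β)
    rw [map_pow, map_pow, ← h.mk_eq, ← h'.mk_eq])) hne

/-- Two different weights are independent. -/
theorem split_two (h : Wt p E f i x α) (h' : Wt p E f i y β) (hne : (α : ZMod p) ≠ β)
    (hxy : x * y ∈ pser p E (i + 1)) : x ∈ pser p E (i + 1) ∧ y ∈ pser p E (i + 1) := by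
  have hx : x ∈ pser p E (i + 1) := by
    refine mem_of_two hf h ((h'.inv hf).congr hf ?_) hne
    rw [inv_inv]
    have := (inferInstance : (pser p E (i + 1)).Normal).conj_mem _ hxy x⁻¹
    convert (inferInstance : (pser p E (i + 1)).Normal).conj_mem' _ hxy x using 1
    group
  exact ⟨hx, by simpa using mul_mem (inv_mem hx) hxy⟩

/-- Three different weights are independent. -/
theorem split_three (h : Wt p E f i x α) (h' : Wt p E f i y β) (h'' : Wt p E f i z γ)
    (hab : (α : ZMod p) ≠ β) (hac : (α : ZMod p) ≠ γ) (hbc : (β : ZMod p) ≠ γ)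
    (hxyz : x * y * z ∈ pser p E (i + 1)) :
    x ∈ pser p E (i + 1) ∧ y ∈ pser p E (i + 1) ∧ z ∈ pser p E (i + 1) := by
  set π := QuotientGroup.mk' (pser p E (i + 1)) with hπ
  have hπ1 : ∀ {v}, π v = 1 ↔ v ∈ pser p E (i + 1) := fun {v} => QuotientGroup.eq_one_iff v
  have cxy := commute_mk h.1 h'.1
  have cxz := commute_mk h.1 h''.1
  have cyz := commute_mk h'.1 h''.1
  have e1 : π x * π y * π z = 1 := by rw [← map_mul, ← map_mul, hπ1]; exact hxyz
  have e2 : π x ^ α * π y ^ β * π z ^ γ = 1 := by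
    rw [← h.mk_eq, ← h'.mk_eq, ← h''.mk_eq, ← map_mul, ← map_mul, hπ1,
      ← hf.mul _ (pser_le E i h.1) _ (pser_le E i h'.1),
      ← hf.mul _ (E.mul_mem (pser_le E i h.1) (pser_le E i h'.1)) _ (pser_le E i h''.1)]
    exact hf.mem_pser _ hxyz
  have e3 : π x ^ γ * π y ^ γ * π z ^ γ = 1 := by
    rw [← cxy.mul_pow, ← (cxz.mul_left cyz).mul_pow, e1, one_pow]
  have e4 : π x ^ α * π y ^ β = π x ^ γ * π y ^ γ := mul_right_cancel (e2.trans e3.symm)
  set x' := (x ^ γ)⁻¹ * x ^ α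
  set y' := (y ^ γ)⁻¹ * y ^ β
  have hx' : Wt p E f i x' α := ((h.pow hf γ).inv hf).mul hf (h.pow hf α)
  have hy' : Wt p E f i y' β := ((h'.pow hf γ).inv hf).mul hf (h'.pow hf β)
  have hsum : x' * y' ∈ pser p E (i + 1) := by
    rw [← hπ1, map_mul, map_mul, map_mul, map_inv, map_inv, map_pow, map_pow, map_pow, map_pow,
      mul_assoc (π x ^ γ)⁻¹, ← mul_assoc (π x ^ α), ((cxy.pow_pow α γ).inv_right).eq,
      mul_assoc ((π y ^ γ)⁻¹), e4, ← mul_assoc, ← mul_assoc, ← mul_inv_rev,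
      ← (cxy.pow_pow γ γ).eq, mul_assoc, inv_mul_cancel]
  obtain ⟨hx1, hy1⟩ := split_two hf hx' hy' hab hsum
  have hx := mem_of_pow_congr (pow_mem_pser_succ h.1) hx1 (Ne.symm hac)
  have hy := mem_of_pow_congr (pow_mem_pser_succ h'.1) hy1 (Ne.symm hbc)
  exact ⟨hx, hy, by simpa [mul_assoc] using mul_mem (inv_mem hy) (mul_mem (inv_mem hx) hxyz)⟩

theorem iterate (h : Wt p E f i x α) (k : ℕ) : Wt p E (f^[k]) i x (α ^ k) := by
  induction k with
  | zero => exact ⟨h.1, by simp⟩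
  | succ k ih =>
    refine ⟨h.1, ?_⟩
    rw [Function.iterate_succ_apply', ← QuotientGroup.eq]
    show QuotientGroup.mk' (pser p E (i + 1)) (x ^ α ^ (k + 1)) =
      QuotientGroup.mk' (pser p E (i + 1)) (f (f^[k] x))
    have h2 : Wt p E f i (f^[k] x) α := (h.pow hf (α ^ k)).congr hf ih.2
    rw [h2.mk_eq, ih.mk_eq, map_pow, ← pow_mul, pow_succ]

end Wt

/-- A fixed point of a `p'`-automorphism in an invariant coset. -/
theorem exists_fixed_coset (hN : IsPGroup p N) (t : MulAut N) {m : ℕ} (hm : m.Coprime p) (ht : t ^ m = 1)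
    (H : Subgroup N) (hH : ∀ x ∈ H, t x ∈ H) {g : N} (hg : g⁻¹ * t g ∈ H) :
    ∃ c, t c = c ∧ g⁻¹ * c ∈ H := by
  haveI : Finite (MulAut N) :=
    Finite.of_injective (fun e : MulAut N => ((e : N ≃* N) : N → N)) DFunLike.coe_injective
  set A := zpowers t
  haveI : IsMulCommutative A := inferInstance
  have hcop : (Nat.card A).Coprime (Nat.card N) := by
    obtain ⟨k, hk⟩ := IsPGroup.iff_card.1 hN
    rw [Nat.card_zpowers, hk]
    exact (Nat.Coprime.coprime_dvd_left (orderOf_dvd_of_pow_eq_one ht) hm).pow_right k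
  have hiter : ∀ (k : ℕ) (x : N), x ∈ H → (t ^ k) x ∈ H := by
    intro k
    induction k with
    | zero => exact fun x hx => hx
    | succ k ih => intro x hx; rw [pow_succ, MulAut.mul_apply]; exact ih _ (hH x hx)
  have hiter' : ∀ k : ℕ, g⁻¹ * (t ^ k) g ∈ H := by
    intro k
    induction k with
    | zero => simp
    | succ k ih =>
      rw [pow_succ, MulAut.mul_apply,
        show g⁻¹ * (t ^ k) (t g) = (g⁻¹ * (t ^ k) g) * (t ^ k) (g⁻¹ * t g) by
          rw [map_mul, map_inv]; group]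
      exact mul_mem ih (hiter k _ hg)
  have hgen : ∀ a : A, ∃ k : ℕ, (a : MulAut N) = t ^ k := fun a => by
    obtain ⟨k, hk⟩ := (isOfFinOrder_of_finite t).mem_powers_iff_mem_zpowers.2 a.2
    exact ⟨k, hk.symm⟩
  obtain ⟨c, hc, hgc⟩ := Coprime.exists_fixed_mem_coset (A := A) (G := N) hcop
    (Or.inl (Coprime.isSolvable_of_isMulCommutative)) (N := H)
    (fun a x hx => by
      obtain ⟨k, hk⟩ := hgen a
      show (a : MulAut N) x ∈ H
      rw [hk]
      exact hiter k x hx)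
    (g := g) (fun a => by
      obtain ⟨k, hk⟩ := hgen a
      show g⁻¹ * (a : MulAut N) g ∈ H
      rw [hk]
      exact hiter' k)
  exact ⟨c, hc ⟨t, mem_zpowers t⟩, hgc⟩

/-- An element of a `p`-group whose `m`-th power lies in `Y`, with `p` not dividing `m`, lies in `Y`. -/
theorem mem_of_pow_mem (hN : IsPGroup p N) {Y : Subgroup N} {x : N} {m : ℕ} (hm : x ^ m ∈ Y)
    (hpm : ¬ p ∣ m) : x ∈ Y := by
  obtain ⟨k, hk⟩ := hN x
  induction k generalizing x with
  | zero => rw [pow_zero, pow_one] at hk; exact hk ▸ one_mem _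
  | succ k ih =>
    refine mem_of_pow_mem_of_coprime (ih ?_ ?_) hm hpm
    · rw [← pow_mul, mul_comm, pow_mul]; exact pow_mem hm p
    · rw [← pow_mul, ← pow_succ']; exact hk

/-- An element commuting with a power prime to `p` of an element of a `p`-group commutes with it. -/
theorem commute_of_pow (hN : IsPGroup p N) {g x : N} {m : ℕ} (h : Commute (g ^ m) x) (hpm : ¬ p ∣ m) :
    Commute g x := by
  have := mem_of_pow_mem hN (Y := centralizer {x}) (x := g) (mem_centralizer_singleton_iff.2 h.eq) hpm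
  exact mem_centralizer_singleton_iff.1 this

/-- The `p`-th power of an element with a displacement chain of length four. -/
theorem norm_formula (h5 : 5 ≤ p) {Q : Type*} [Group Q] {G V T A B C : Q} (hTA : Commute T A) (hTB : Commute T B)
    (hTC : Commute T C) (hAB : Commute A B) (hAC : Commute A C) (hBC : Commute B C)
    (hGV : G * V * G⁻¹ = T * V) (hGT : G * T * G⁻¹ = A * T) (hGA : G * A * G⁻¹ = B * A)
    (hGB : G * B * G⁻¹ = C * B) (hGC : G * C * G⁻¹ = C)
    (hAp : A ^ p = 1) (hBp : B ^ p = 1) (hCp : C ^ p = 1) : G ^ p * V * (G ^ p)⁻¹ = T ^ p * V := by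
  have hiter : ∀ i : ℕ, G ^ i * V * (G ^ i)⁻¹ =
      C ^ i.choose 4 * B ^ i.choose 3 * A ^ i.choose 2 * T ^ i * V := by
    intro i
    induction i with
    | zero => simp
    | succ i ih =>
      rw [pow_succ', show G * G ^ i * V * (G * G ^ i)⁻¹ = G * (G ^ i * V * (G ^ i)⁻¹) * G⁻¹ by group, ih,
        show G * (C ^ i.choose 4 * B ^ i.choose 3 * A ^ i.choose 2 * T ^ i * V) * G⁻¹ =
          (G * C * G⁻¹) ^ i.choose 4 * (G * B * G⁻¹) ^ i.choose 3 * (G * A * G⁻¹) ^ i.choose 2 *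
            (G * T * G⁻¹) ^ i * (G * V * G⁻¹) by simp only [conj_pow]; group,
        hGC, hGB, hGA, hGT, hGV, hBC.symm.mul_pow, hAB.symm.mul_pow, hTA.symm.mul_pow,
        Nat.choose_succ_succ' i 3, Nat.choose_succ_succ' i 2, Nat.choose_succ_succ' i 1, Nat.choose_one_right]
      simp only [← mul_assoc]
      congr 1
      rw [pow_succ T i, ← mul_assoc]
      congr 2
      have e : ∀ (m n a b c d : ℕ), C ^ m * C ^ n * B ^ a * B ^ b * A ^ c * A ^ d =
          C ^ (n + m) * B ^ (b + a) * A ^ (d + c) := fun m n a b c d => by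
        rw [← pow_add, mul_assoc _ (B ^ a), ← pow_add, mul_assoc _ (A ^ c), ← pow_add, add_comm m, add_comm a,
          add_comm c]
      rw [← e]
  obtain ⟨k4, hk4⟩ := hp.out.dvd_choose_self (k := 4) (by norm_num) (by omega)
  obtain ⟨k3, hk3⟩ := hp.out.dvd_choose_self (k := 3) (by norm_num) (by omega)
  obtain ⟨k2, hk2⟩ := hp.out.dvd_choose_self (k := 2) (by norm_num) (by omega)
  rw [hiter, hk4, hk3, hk2, pow_mul, pow_mul, pow_mul, hAp, hBp, hCp, one_pow, one_pow, one_pow, one_mul,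
    one_mul, one_mul]

end Cfsg.Agent.H91.Rank3
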