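import Cfsg.Agent.H91.Rank3.PairTools
import Cfsg.Agent.H91.Rank3.CoreTwo
import Cfsg.Agent.H91.Rank3.Weights
import Cfsg.Agent.H91.Rank3.CaseTwoComm

/-!
The span of a mover cannot be invariant in a member fixing the central elements of order `p`.
-/

set_option autoImplicit false
set_option linter.unusedSectionVars false
set_option linter.style.haveILetI false

namespace Cfsg.Agent.H91.Rank3

open Subgroup
open scoped commutatorElement

namespace Fam

variable {M : Type*} [Group M] [Finite M] {p : ℕ} [hp : Fact p.Prime] {F : Fam p M} {E1 E2 : Subgroup M}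

set_option maxHeartbeats 2000000 in
/-- An invariant span is impossible. -/
theorem mover_inv_false (h1 : F.Ess E1) (h2 : F.Ess E2) (hn1 : ¬ F.Inv (om p M) E1) (hom2 : F.Inv (om p M) E2)
    (hV2 : F.span E1 ≤ E2) (hVinv : F.Inv (F.span E1) E2) : False := by
  classical
  set V := F.span E1 with hVdef
  haveI hVn : V.Normal := span_normal h1
  haveI := normal h1
  haveI := normal h2
  haveI := finite_aut (G := E2)
  have hVc : ∀ v ∈ V, ∀ e ∈ E1, Commute v e := fun v hv e he => span_comm hv he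
  have hVp : ∀ v ∈ V, v ^ p = 1 := fun v hv => span_pow hv
  have hVab : ∀ a ∈ V, ∀ b ∈ V, Commute a b := fun a ha b hb => span_comm ha (span_le hb)
  obtain ⟨x0, hx0, hx01⟩ : ∃ x ∈ E2, x ∉ E1 := by
    by_contra h
    push Not at h
    have heq : E2 = E1 := by
      refine Subgroup.eq_of_le_of_card_ge h (le_of_eq (Nat.eq_of_mul_eq_mul_right hp.out.pos ?_))
      conv_lhs => rw [← F.index h1, Subgroup.card_mul_index]
      rw [← Subgroup.card_mul_index E2, F.index h2]
    exact hn1 (heq ▸ hom2)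
  set D := E1 ⊓ E2 with hDdef
  have hVD : V ≤ D := le_inf span_le hV2
  have hcenD : ∀ e ∈ E2, (∀ v ∈ V, Commute e v) ↔ e ∈ E1 := fun e _ =>
    ⟨fun h => mem_of_commute h1 hn1 h, fun h v hv => (hVc v hv e h).symm⟩
  have hDinv : F.Inv D E2 := fun α hα y hy => by
    refine ⟨(hcenD _ (α y).2).1 fun v hv => ?_, (α y).2⟩
    have h := (((hcenD _ y.2).2 hy.1) _ (hVinv _ (inv_mem hα) ⟨v, hV2 hv⟩ hv))
    have h' : Commute y (α⁻¹ ⟨v, hV2 hv⟩) := Subtype.ext h.eq
    have h'' := (h'.map (α : E2 ≃* E2).toMonoidHom).map E2.subtype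
    simpa using h''
  have hTop : F.Inv E2 E2 := fun α _ x _ => (α x).2
  have hD2 : ∀ m : M, ∀ e ∈ E2, ⁅m, e⁆ ∈ D := fun m e _ => ⟨comm_mem h1 m e, comm_mem h2 m e⟩
  obtain ⟨τ, hτ, m, hm, hτm, hτ1⟩ := exists_coprime h2
  have hτG := conjClosure_le h2 hτ
  -- `τ` fixes `V`
  have hVconj : ∀ (e v : M), v ∈ V → e * v * e⁻¹ ∈ V := fun e v hv => hVn.conj_mem v hv e
  let H : Subgroup (MulAut E2) :=
    { carrier := {f | f ∈ F.G E2 ∧ ∃ e : E2, ∀ v : E2, (v : M) ∈ V → f v = e * v * e⁻¹}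
      one_mem' := ⟨one_mem _, 1, fun v _ => by simp⟩
      mul_mem' := by
        rintro f g ⟨hf, e, he⟩ ⟨hg, e', he'⟩
        refine ⟨mul_mem hf hg, e * e', fun v hv => ?_⟩
        rw [MulAut.mul_apply, he' v hv, he _ (by push_cast; exact hVconj _ _ hv)]
        group
      inv_mem' := by
        rintro f ⟨hf, e, he⟩
        refine ⟨inv_mem hf, e⁻¹, fun v hv => f.injective ?_⟩
        rw [MulAut.apply_inv_self, he _ (by push_cast; exact hVconj _ _ hv)]
        group }
  have hτH : τ ∈ H := by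
    refine conjClosure_le_of (H := H) (fun β hβ => ⟨F.indG h2 hβ, ?_⟩) (fun α hα h hh => ⟨?_, ?_⟩) hτ
    · obtain ⟨g, hg⟩ := hβ
      obtain ⟨t, ht, i, rfl⟩ := exists_dec h1 hx01 g
      refine ⟨⟨x0, hx0⟩ ^ i, fun v hv => Subtype.ext ?_⟩
      rw [hg, Subgroup.coe_mul, Subgroup.coe_mul, Subgroup.coe_inv, SubmonoidClass.coe_pow,
        show t * x0 ^ i * (v : M) * (t * x0 ^ i)⁻¹ = t * (x0 ^ i * (v : M) * (x0 ^ i)⁻¹) * t⁻¹ by group,
        ← (hVc _ (hVconj (x0 ^ i) v hv) t ht).eq, mul_inv_cancel_right]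
    · exact mul_mem (mul_mem hα hh.1) (inv_mem hα)
    · obtain ⟨e, he⟩ := hh.2
      refine ⟨α e, fun v hv => ?_⟩
      rw [MulAut.mul_apply, MulAut.mul_apply, he _ (hVinv _ (inv_mem hα) v hv), map_mul, map_mul, map_inv,
        MulAut.apply_inv_self]
  have hτV : ∀ v : E2, (v : M) ∈ V → τ v = v := by
    obtain ⟨-, e, he⟩ := hτH
    obtain ⟨a, ha⟩ := F.isP.to_subgroup E2 e
    have hk : ∀ k : ℕ, ∀ v : E2, (v : M) ∈ V → (τ ^ k) v = e ^ k * v * (e ^ k)⁻¹ := by
      intro k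
      induction k with
      | zero => intro v _; simp
      | succ k ih =>
        intro v hv
        rw [pow_succ τ, MulAut.mul_apply, he v hv, ih _ (by push_cast; exact hVconj _ _ hv), pow_succ]
        group
    have hco : (p ^ a).Coprime (orderOf τ) :=
      ((hm.symm.coprime_dvd_right (orderOf_dvd_of_pow_eq_one hτm)).pow_left a)
    obtain ⟨k, hk'⟩ := exists_pow_eq_self_of_coprime hco
    intro v hv
    have h1' : (τ ^ p ^ a) v = v := by
      rw [hk _ v hv, ha]; group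
    rw [← hk']
    exact fix_pow h1' k
  have hτdiff : ∀ y : E2, ((y⁻¹ * τ y : E2) : M) ∈ D := fun y => by
    have h := trivial_layer h2 hTop hDinv (fun g b hb => hD2 g b hb) hτ y y.2
    have h' := (inferInstance : (E1 ⊓ E2).Normal).conj_mem' _ h y
    rw [Subgroup.coe_mul, Subgroup.coe_inv] at h' ⊢
    rwa [show (y : M)⁻¹ * ((τ y : M) * (y : M)⁻¹) * y = (y : M)⁻¹ * (τ y : M) by group] at h'
  -- the faithful subgroup of `D`
  set D2 : Subgroup E2 := D.subgroupOf E2
  have hD2p : IsPGroup p D2 := (F.isP.to_subgroup E2).to_subgroup D2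
  obtain ⟨C, hCchar, hCexp, hCcomm, hCfaith⟩ := exists_small_core_two hD2p F.odd
  set K : Subgroup M := (C.map D2.subtype).map E2.subtype
  have hKD : K ≤ D := by
    rintro _ ⟨_, ⟨c, -, rfl⟩, rfl⟩
    exact c.2
  have hKexp : ∀ k ∈ K, k ^ p = 1 := by
    rintro _ ⟨_, ⟨c, hc, rfl⟩, rfl⟩
    rw [← map_pow, ← map_pow, hCexp c hc, map_one, map_one]
  have hKcomm : ∀ a ∈ K, ∀ b ∈ K, ∀ c ∈ K, Commute ⁅a, b⁆ c := by
    rintro _ ⟨_, ⟨a, ha, rfl⟩, rfl⟩ _ ⟨_, ⟨b, hb, rfl⟩, rfl⟩ _ ⟨_, ⟨c, hc, rfl⟩, rfl⟩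
    rw [← map_commutatorElement, ← map_commutatorElement]
    exact ((hCcomm a ha b hb c hc).map D2.subtype).map E2.subtype
  have hKinv : F.Inv K E2 := by
    rintro α hα y ⟨_, ⟨c, hc, rfl⟩, hy⟩
    obtain ⟨δ, hδ⟩ := exists_restrict (K := D2) α fun z hz =>
      Subgroup.mem_subgroupOf.2 (hDinv α hα z (Subgroup.mem_subgroupOf.1 hz))
    refine ⟨_, ⟨δ c, hCchar δ c hc, rfl⟩, ?_⟩
    rw [Subgroup.coe_subtype, Subgroup.coe_subtype, hδ, show (c : E2) = y from Subtype.ext hy]
  -- `W`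
  set W := K ⊔ V with hWdef
  have hKV : ∀ k ∈ K, ∀ v ∈ V, Commute k v := fun k hk v hv => (hVc v hv k (hKD hk).1).symm
  have hWdec : ∀ w ∈ W, ∃ k ∈ K, ∃ v ∈ V, w = k * v := fun w hw => by
    obtain ⟨k, hk, v, hv, h⟩ := Subgroup.mem_sup_of_normal_right.1 hw
    exact ⟨k, hk, v, hv, h.symm⟩
  have hWD : W ≤ D := sup_le hKD hVD
  have hW2 : W ≤ E2 := hWD.trans inf_le_right
  have hWexp : ∀ w ∈ W, w ^ p = 1 := fun w hw => by
    obtain ⟨k, hk, v, hv, rfl⟩ := hWdec w hw
    rw [(hKV k hk v hv).mul_pow, hKexp k hk, hVp v hv, one_mul]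
  have hWV : ∀ w ∈ W, ∀ v ∈ V, Commute w v := fun w hw v hv => (hVc v hv w (hWD hw).1).symm
  have hWinv : F.Inv W E2 := by
    intro α hα y hy
    obtain ⟨k, hk, v, hv, hy'⟩ := hWdec _ hy
    have hk2 : k ∈ E2 := (hKD hk).2
    rw [show y = ⟨k, hk2⟩ * ⟨v, hV2 hv⟩ from Subtype.ext hy', map_mul, Subgroup.coe_mul]
    exact mul_mem (mem_sup_left (hKinv α hα _ hk)) (mem_sup_right (hVinv α hα _ hv))
  have hmove : ¬ ∀ w : E2, (w : M) ∈ W → τ w = w := by
    intro hfix
    obtain ⟨δ, hδ⟩ := exists_restrict (K := D2) τ fun z hz =>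
      Subgroup.mem_subgroupOf.2 (hDinv τ hτG z (Subgroup.mem_subgroupOf.1 hz))
    have hδm : δ ^ m = 1 := by
      refine MulEquiv.ext fun y => Subtype.ext ?_
      have : ∀ k : ℕ, (((δ ^ k) y : D2) : E2) = (τ ^ k) (y : E2) := by
        intro k
        induction k with
        | zero => rfl
        | succ k ih => rw [pow_succ', pow_succ', MulAut.mul_apply, hδ, ih, MulAut.mul_apply]
      rw [this, hτm]
      rfl
    have hδ1 : δ = 1 := hCfaith δ ((Nat.Coprime.coprime_dvd_left (orderOf_dvd_of_pow_eq_one hδm) hm))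
      fun c hc => Subtype.ext (by
        rw [hδ]
        exact hfix _ (mem_sup_left ⟨_, ⟨c, hc, rfl⟩, rfl⟩))
    refine hτ1 (MulEquiv.ext fun y => fix_of_diff_fix (F.isP.to_subgroup E2) hm hτm ?_)
    have h := hδ ⟨_, Subgroup.mem_subgroupOf.2 (hτdiff y)⟩
    rw [hδ1] at h
    exact h.symm
  have hstep : ∀ A B : Subgroup M, F.Inv A E2 → F.Inv B E2 → A ≤ B → B ≤ E2 → Nat.card B ≤ p * Nat.card A →
      (∀ a : E2, (a : M) ∈ A → τ a = a) → ∀ b : E2, (b : M) ∈ B → τ b = b :=
    fun A B hA hB hAB hB2 hc hfix => fix_step h2 hA hB hAB hB2 hc hτ hm hτm hfix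
  -- the span has order `p ^ 2`
  have hV3 : Nat.card V ≠ p ^ 3 := fun hV3 => by
    refine hmove fun w hw => hτV w ?_
    by_contra hwV
    have hc := commute_sup hVab (commute_zpowers (w : M)) fun v hv u hu => by
      obtain ⟨i, rfl⟩ := hu
      exact ((hWV _ hw v hv).symm).zpow_right i
    have h := F.card_le_cube hc (pow_sup hc hVp (pow_zpowers (hWexp _ hw)))
    have h' := mul_card_le F.isP (lt_of_le_not_ge (le_sup_left : V ≤ V ⊔ zpowers (w : M))
      fun h => hwV (h (mem_sup_right (mem_zpowers _))))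
    rw [hV3] at h'
    have h'' := h'.trans h
    rw [← pow_succ'] at h''
    exact absurd ((Nat.pow_le_pow_iff_right hp.out.one_lt).1 h'') (by norm_num)
  obtain ⟨hV2c, hom, hline⟩ := small_span h1 hn1 hV3
  set L := om p M
  have hLV : L ≤ V := om_le_span h1
  haveI hLn : L.Normal := om_normal
  set πV := QuotientGroup.mk' V
  have hWlt : V < W := lt_of_le_not_ge le_sup_right fun h => hmove fun w hw => hτV w (h hw)
  -- `W` is not abelian
  obtain ⟨a0, ha0, b0, hb0, hab0⟩ : ∃ a ∈ W, ∃ b ∈ W, ¬ Commute a b := by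
    by_contra h
    push Not at h
    have h3 := F.card_le_cube h hWexp
    refine hmove (hstep V W hVinv hWinv le_sup_right hW2 ?_ hτV)
    rw [hV2c, ← pow_succ']
    exact h3
  -- its centre is `V`
  set Z := W ⊓ centralizer (W : Set M) with hZdef
  have hVZ : V ≤ Z := fun v hv =>
    ⟨mem_sup_right hv, Subgroup.mem_centralizer_iff.2 fun w hw => (hWV w hw v hv).eq⟩
  have hZV : Z ≤ V := by
    by_contra hle
    obtain ⟨y, hyW, hyZ⟩ : ∃ y ∈ W, y ∉ Z := by
      by_contra h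
      push Not at h
      exact hab0 (Subgroup.mem_centralizer_iff.1 (h b0 hb0).2 a0 ha0)
    have hc := commute_sup (A := Z) (fun u hu u' hu' => (Subgroup.mem_centralizer_iff.1 hu'.2 u hu.1))
      (commute_zpowers y) fun u hu w hw => by
        obtain ⟨i, rfl⟩ := hw
        exact ((show Commute y u from Subgroup.mem_centralizer_iff.1 hu.2 y hyW).zpow_left i).symm
    have h := F.card_le_cube hc (pow_sup hc (fun u hu => hWexp u hu.1) (pow_zpowers (hWexp y hyW)))
    have h' := mul_card_le F.isP (lt_of_le_not_ge (le_sup_left : Z ≤ Z ⊔ zpowers y)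
      fun h => hyZ (h (mem_sup_right (mem_zpowers y))))
    have h'' := mul_card_le F.isP (lt_of_le_not_ge hVZ hle)
    rw [hV2c] at h''
    have h''' := ((Nat.mul_le_mul_left p h'').trans h').trans h
    rw [← pow_succ', ← pow_succ'] at h'''
    exact absurd ((Nat.pow_le_pow_iff_right hp.out.one_lt).1 h''') (by norm_num)
  have hWcomV : ∀ a ∈ W, ∀ b ∈ W, ⁅a, b⁆ ∈ V := by
    intro a ha b hb
    refine hZV ⟨?_, Subgroup.mem_centralizer_iff.2 fun w hw => ?_⟩
    · rw [commutatorElement_def]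
      exact W.mul_mem (W.mul_mem (W.mul_mem ha hb) (W.inv_mem ha)) (W.inv_mem hb)
    · obtain ⟨k, hk, v, hv, rfl⟩ := hWdec a ha
      obtain ⟨k', hk', v', hv', rfl⟩ := hWdec b hb
      obtain ⟨k'', hk'', v'', hv'', rfl⟩ := hWdec w hw
      rw [(hKV k hk v hv).eq, (hKV k' hk' v' hv').eq,
        commutator_mul_of_commute (hVab v hv v' hv') (hKV k hk v hv).symm (hKV k' hk' v hv).symm
          (hKV k hk v' hv').symm (hKV k' hk' v' hv').symm]
      refine ((Commute.mul_right (hKcomm k hk k' hk' k'' hk'') ?_).symm).eq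
      rw [commutatorElement_def]
      exact (((hKV k hk v'' hv'').mul_left (hKV k' hk' v'' hv'')).mul_left
        (hKV k hk v'' hv'').inv_left).mul_left (hKV k' hk' v'' hv'').inv_left
  -- centralisers in `W`
  have hcent : ∀ a ∈ W, a ∉ V → ∀ w ∈ W, Commute a w → w ∈ zpowers a ⊔ V := by
    intro a ha haV w hw haw
    by_contra hwA
    have hA := commute_sup (A := zpowers a) (B := V) (commute_zpowers a) hVab fun u hu v hv => by
      obtain ⟨i, rfl⟩ := hu; exact (hWV a ha v hv).zpow_left i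
    have hAp := pow_sup hA (pow_zpowers (hWexp a ha)) hVp
    have hwA' : ∀ u ∈ zpowers w, ∀ v ∈ zpowers a ⊔ V, Commute u v := by
      rintro _ ⟨i, rfl⟩ v hv
      refine Commute.zpow_left ?_ i
      have : zpowers a ⊔ V ≤ centralizer ({w} : Set M) := sup_le
        (zpowers_le.2 (Subgroup.mem_centralizer_singleton_iff.2 haw.eq))
        (fun v hv => Subgroup.mem_centralizer_singleton_iff.2 (hWV w hw v hv).symm.eq)
      exact (Subgroup.mem_centralizer_singleton_iff.1 (this hv) : Commute v w).symm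
    have hc := commute_sup (commute_zpowers w) hA hwA'
    have h := F.card_le_cube hc (pow_sup hc (pow_zpowers (hWexp w hw)) hAp)
    have h' := mul_card_le F.isP (lt_of_le_not_ge (le_sup_right : zpowers a ⊔ V ≤ zpowers w ⊔ (zpowers a ⊔ V))
      fun h => hwA (h (mem_sup_left (mem_zpowers w))))
    have h'' := mul_card_le F.isP (lt_of_le_not_ge (le_sup_right : V ≤ zpowers a ⊔ V)
      fun h => haV (h (mem_sup_left (mem_zpowers a))))
    rw [hV2c] at h''
    have h''' := ((Nat.mul_le_mul_left p h'').trans h').trans h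
    rw [← pow_succ', ← pow_succ'] at h'''
    exact absurd ((Nat.pow_le_pow_iff_right hp.out.one_lt).1 h''') (by norm_num)
  have hA3 : ∀ a ∈ W, a ∉ V → Nat.card (zpowers a ⊔ V : Subgroup M) = p ^ 3 := by
    intro a ha haV
    refine le_antisymm ((card_sup_le_mul _ _).trans ?_) ?_
    · rw [card_zpowers_prime (hWexp a ha) (fun h => haV (h ▸ one_mem _)), hV2c, ← pow_succ']
    · have := mul_card_le F.isP (lt_of_le_not_ge (le_sup_right : V ≤ zpowers a ⊔ V)
        fun h => haV (h (mem_sup_left (mem_zpowers a))))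
      rwa [hV2c, ← pow_succ'] at this
  set πL := QuotientGroup.mk' L
  have hπL : ∀ g : M, πL g = 1 ↔ g ∈ L := fun g => QuotientGroup.eq_one_iff g
  -- the map `w ↦ ⁅a, w⁆`
  have hhom : ∀ a ∈ W, ∀ u ∈ W, ∀ u' ∈ W, ⁅a, u * u'⁆ = ⁅a, u⁆ * ⁅a, u'⁆ := fun a ha u hu u' hu' => by
    rw [show ⁅a, u * u'⁆ = ⁅a, u⁆ * (u * ⁅a, u'⁆ * u⁻¹) by simp only [commutatorElement_def]; group,
      (hWV u hu _ (hWcomV a ha u' hu')).eq, mul_inv_cancel_right]
  let η : ∀ a : W, (W : Subgroup M) →* M := fun a => MonoidHom.mk' (fun w => ⁅(a : M), (w : M)⁆)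
    fun u u' => hhom a a.2 u u.2 u' u'.2
  have hη : ∀ a : W, (η a).range ≤ V := by
    rintro a _ ⟨w, rfl⟩
    exact hWcomV a a.2 w w.2
  have hW5 : Nat.card W ≤ p ^ 5 := by
    obtain ⟨a, ha, haV⟩ := SetLike.not_le_iff_exists.1 (not_le_of_gt hWlt)
    have e1 := Subgroup.card_mul_index (η ⟨a, ha⟩).ker
    rw [Subgroup.index_ker] at e1
    have e2 : Nat.card (η ⟨a, ha⟩).ker ≤ p ^ 3 := by
      refine le_trans (le_of_eq (Subgroup.card_map_of_injective (f := W.subtype) W.subtype_injective).symm) ?_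
      rw [← hA3 a ha haV]
      refine Subgroup.card_le_of_le ?_
      rintro _ ⟨w, hw, rfl⟩
      exact hcent a ha haV w w.2 (commutatorElement_eq_one_iff_commute.1 hw)
    rw [← e1, show p ^ 5 = p ^ 3 * p ^ 2 by ring]
    exact Nat.mul_le_mul e2 ((Subgroup.card_le_of_le (hη _)).trans_eq hV2c)
  -- kernels modulo `L`
  have hVbar : Nat.card (V.map πL) ≤ p := by
    have h := PGroups.card_eq_card_map_mul L V
    rw [inf_eq_right.2 hLV, hV2c, hom, pow_two] at h
    exact le_of_eq (Nat.eq_of_mul_eq_mul_right hp.out.pos h.symm)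
  have hnotL : ∀ a ∈ W, a ∉ V → p ^ 5 ≤ Nat.card W → ∃ w ∈ W, ⁅a, w⁆ ∉ L := by
    intro a ha haV h5
    by_contra h
    push Not at h
    have e1 := Subgroup.card_mul_index (η ⟨a, ha⟩).ker
    rw [Subgroup.index_ker] at e1
    have e2 : Nat.card (η ⟨a, ha⟩).range ≤ p := (Subgroup.card_le_of_le (show (η ⟨a, ha⟩).range ≤ L by
      rintro _ ⟨w, rfl⟩; exact h w w.2)).trans_eq hom
    have e3 : Nat.card (η ⟨a, ha⟩).ker ≤ p ^ 3 := by
      refine le_trans (le_of_eq (Subgroup.card_map_of_injective (f := W.subtype) W.subtype_injective).symm) ?_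
      rw [← hA3 a ha haV]
      refine Subgroup.card_le_of_le ?_
      rintro _ ⟨w, hw, rfl⟩
      exact hcent a ha haV w w.2 (commutatorElement_eq_one_iff_commute.1 hw)
    have h4 : p ^ 5 ≤ p ^ 3 * p := h5.trans (e1.ge.trans (Nat.mul_le_mul e3 e2))
    rw [← pow_succ] at h4
    exact absurd ((Nat.pow_le_pow_iff_right hp.out.one_lt).1 h4) (by norm_num)
  have hW4 : Nat.card W ≤ p ^ 4 := by
    obtain ⟨j, hj⟩ := IsPGroup.iff_card.1 (F.isP.to_subgroup W)
    rw [hj]
    refine Nat.pow_le_pow_right hp.out.pos ?_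
    by_contra hj5
    have h5 : p ^ 5 ≤ Nat.card W := hj ▸ Nat.pow_le_pow_right hp.out.pos (by omega)
    obtain ⟨a, ha, haV⟩ := SetLike.not_le_iff_exists.1 (not_le_of_gt hWlt)
    let f : (W : Subgroup M) →* M ⧸ L := πL.comp (η ⟨a, ha⟩)
    set H := f.ker.map W.subtype
    have hfr : Nat.card f.range ≤ p := (Subgroup.card_le_of_le (show f.range ≤ V.map πL by
      rintro _ ⟨w, rfl⟩; exact Subgroup.mem_map_of_mem πL (hη ⟨a, ha⟩ ⟨w, rfl⟩))).trans hVbar
    have hH4 : p ^ 4 ≤ Nat.card H := by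
      have e1 := Subgroup.card_mul_index f.ker
      rw [Subgroup.index_ker] at e1
      rw [Subgroup.card_map_of_injective W.subtype_injective]
      refine Nat.le_of_mul_le_mul_right (c := p) ?_ hp.out.pos
      calc p ^ 4 * p = p ^ 5 := by ring
        _ ≤ Nat.card W := h5
        _ = Nat.card f.ker * Nat.card f.range := e1.symm
        _ ≤ _ := Nat.mul_le_mul_left _ hfr
    have hHW : H ≤ W := Subgroup.map_subtype_le _
    have hHmem : ∀ w, w ∈ H ↔ w ∈ W ∧ ⁅a, w⁆ ∈ L := fun w => ⟨by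
      rintro ⟨w, hw, rfl⟩
      exact ⟨w.2, (hπL _).1 hw⟩, fun h => ⟨⟨w, h.1⟩, (hπL _).2 h.2, rfl⟩⟩
    set A := zpowers a ⊔ V
    have haA : a ∈ A := mem_sup_left (mem_zpowers a)
    obtain ⟨b, hbH, hbA⟩ : ∃ b ∈ H, b ∉ A := by
      by_contra h
      push Not at h
      have := (hH4.trans (Subgroup.card_le_of_le h)).trans_eq (hA3 a ha haV)
      exact absurd ((Nat.pow_le_pow_iff_right hp.out.one_lt).1 this) (by norm_num)
    obtain ⟨hbW, hab⟩ := (hHmem b).1 hbH
    set H' := zpowers b ⊔ A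
    have hAW : A ≤ W := sup_le (zpowers_le.2 ha) le_sup_right
    have hH'W : H' ≤ W := sup_le (zpowers_le.2 hbW) hAW
    have hH'4 : p ^ 4 ≤ Nat.card H' := by
      have := mul_card_le F.isP (lt_of_le_not_ge (le_sup_right : A ≤ H')
        fun h => hbA (h (mem_sup_left (mem_zpowers b))))
      rwa [hA3 a ha haV, ← pow_succ'] at this
    obtain ⟨c, hc, hcH⟩ := hnotL a ha haV h5
    let g : (H' : Subgroup M) →* M ⧸ L := MonoidHom.mk' (fun h => πL ⁅c, (h : M)⁆) fun u u' => by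
      rw [← map_mul, Subgroup.coe_mul, hhom c hc u (hH'W u.2) u' (hH'W u'.2)]
    have hgr : Nat.card g.range ≤ p := (Subgroup.card_le_of_le (show g.range ≤ V.map πL by
      rintro _ ⟨w, rfl⟩; exact Subgroup.mem_map_of_mem πL (hWcomV c hc w (hH'W w.2)))).trans hVbar
    obtain ⟨r, hr, hrV⟩ : ∃ r ∈ g.ker.map H'.subtype, r ∉ V := by
      by_contra h
      push Not at h
      have e1 := Subgroup.card_mul_index g.ker
      rw [Subgroup.index_ker] at e1
      have h6 := Subgroup.card_le_of_le (show g.ker.map H'.subtype ≤ V from h)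
      rw [Subgroup.card_map_of_injective H'.subtype_injective, hV2c] at h6
      have h7 : p ^ 4 ≤ p ^ 2 * p := hH'4.trans (e1.ge.trans (Nat.mul_le_mul h6 hgr))
      rw [← pow_succ] at h7
      exact absurd ((Nat.pow_le_pow_iff_right hp.out.one_lt).1 h7) (by norm_num)
    obtain ⟨⟨r, hrH⟩, hrk, rfl⟩ := hr
    have hcr : ⁅c, r⁆ ∈ L := (hπL _).1 hrk
    have hπc : ∀ u v : M, ⁅u, v⁆ ∈ L → Commute (πL u) (πL v) := fun u v h => by
      rw [← commutatorElement_eq_one_iff_commute, ← map_commutatorElement]; exact (hπL _).2 h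
    have hV' : ∀ u ∈ W, ∀ v ∈ V, Commute (πL u) (πL v) := fun u hu v hv => (hWV u hu v hv).map πL
    have hAb : ∀ u ∈ A.map πL, ∀ u' ∈ A.map πL, Commute u u' := by
      rintro _ ⟨u, hu, rfl⟩ _ ⟨u', hu', rfl⟩
      exact (commute_sup (commute_zpowers a) hVab (fun u hu v hv => by
        obtain ⟨i, rfl⟩ := hu; exact (hWV a ha v hv).zpow_left i) u hu u' hu').map πL
    have hHab : ∀ u ∈ H', ∀ u' ∈ H', Commute (πL u) (πL u') := by
      have key := commute_sup (A := (zpowers b).map πL) (B := A.map πL) (by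
          rintro _ ⟨u, hu, rfl⟩ _ ⟨u', hu', rfl⟩; exact (commute_zpowers b u hu u' hu').map πL) hAb (by
          rintro _ ⟨_, ⟨i, rfl⟩, rfl⟩ _ ⟨v, hv, rfl⟩
          simp only
          rw [map_zpow]
          refine Commute.zpow_left ?_ i
          have hle : A ≤ (centralizer ({πL b} : Set (M ⧸ L))).comap πL := sup_le
            (zpowers_le.2 (Subgroup.mem_centralizer_singleton_iff.2 (hπc a b hab).eq))
            (fun v hv => Subgroup.mem_centralizer_singleton_iff.2 (hV' b hbW v hv).symm.eq)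
          exact (Subgroup.mem_centralizer_singleton_iff.1 (hle hv) : Commute (πL v) (πL b)).symm)
      rw [← Subgroup.map_sup] at key
      exact fun u hu u' hu' => key _ ⟨u, hu, rfl⟩ _ ⟨u', hu', rfl⟩
    set X := W ⊓ (centralizer ({πL r} : Set (M ⧸ L))).comap πL
    have hXle : H' ⊔ zpowers c ≤ X := sup_le
      (fun u hu => ⟨hH'W hu, Subgroup.mem_centralizer_singleton_iff.2 (hHab u hu r hrH).eq⟩)
      (zpowers_le.2 ⟨hc, Subgroup.mem_centralizer_singleton_iff.2 (hπc c r hcr).eq⟩)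
    have hcH' : c ∉ H' := fun h => hcH ((hπL _).1 (by
      rw [map_commutatorElement, commutatorElement_eq_one_iff_commute]
      exact hHab a (mem_sup_right haA) c h))
    have hX5 : p ^ 5 ≤ Nat.card X := by
      refine le_trans ?_ (Subgroup.card_le_of_le hXle)
      have := mul_card_le F.isP (lt_of_le_not_ge (le_sup_left : H' ≤ H' ⊔ zpowers c)
        fun h => hcH' (h (mem_sup_right (mem_zpowers c))))
      refine le_trans ?_ this
      rw [pow_succ']
      exact Nat.mul_le_mul_left p hH'4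
    have hXW : X = W := Subgroup.eq_of_le_of_card_ge inf_le_left (hW5.trans hX5)
    obtain ⟨w, hw, hwL⟩ := hnotL r (hH'W hrH) hrV h5
    refine hwL ((hπL _).1 ?_)
    rw [map_commutatorElement, commutatorElement_eq_one_iff_commute]
    exact (Subgroup.mem_centralizer_singleton_iff.1 (hXW.ge hw).2 : Commute (πL w) (πL r)).symm
  obtain ⟨a, ha, haV⟩ := SetLike.not_le_iff_exists.1 (not_le_of_gt hWlt)
  obtain ⟨b, hb, hbA⟩ : ∃ b ∈ W, b ∉ zpowers a ⊔ V := by
    by_contra h
    push Not at h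
    exact hab0 (commute_sup (commute_zpowers a) hVab (fun u hu v hv => by
      obtain ⟨i, rfl⟩ := hu; exact (hWV a ha v hv).zpow_left i) a0 (h a0 ha0) b0 (h b0 hb0))
  have hWgen : zpowers b ⊔ (zpowers a ⊔ V) = W := by
    refine Subgroup.eq_of_le_of_card_ge (sup_le (zpowers_le.2 hb) (sup_le (zpowers_le.2 ha) le_sup_right))
      (hW4.trans ?_)
    have := mul_card_le F.isP (lt_of_le_not_ge (le_sup_right : zpowers a ⊔ V ≤ zpowers b ⊔ (zpowers a ⊔ V))
      fun h => hbA (h (mem_sup_left (mem_zpowers b))))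
    rwa [hA3 a ha haV, ← pow_succ'] at this
  have hW4' : Nat.card W = p ^ 4 := by
    refine le_antisymm hW4 ?_
    have := mul_card_le F.isP (lt_of_le_not_ge (sup_le (zpowers_le.2 ha) le_sup_right : zpowers a ⊔ V ≤ W)
      fun h => hbA (h hb))
    rwa [hA3 a ha haV, ← pow_succ'] at this
  set d := ⁅a, b⁆
  have hdV : d ∈ V := hWcomV a ha b hb
  have hWform : ∀ w ∈ W, ∃ v ∈ V, ∃ k ∈ closure ({a, b} : Set M), w = v * k := fun w hw => by
    have hle : W ≤ V ⊔ closure ({a, b} : Set M) := hWgen.ge.trans (sup_le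
      (zpowers_le.2 (mem_sup_right (subset_closure (by simp))))
      (sup_le (zpowers_le.2 (mem_sup_right (subset_closure (by simp)))) le_sup_left))
    obtain ⟨v, hv, k, hk, h⟩ := Subgroup.mem_sup_of_normal_left.1 (hle hw)
    exact ⟨v, hv, k, hk, h.symm⟩
  have hcl : closure ({a, b} : Set M) ≤ W := (closure_le _).2 (by rintro u (rfl | rfl) <;> assumption)
  have hWd : ∀ u ∈ W, ∀ u' ∈ W, ⁅u, u'⁆ ∈ zpowers d := by
    intro u hu u' hu'
    obtain ⟨v, hv, k, hk, rfl⟩ := hWform u hu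
    obtain ⟨v', hv', k', hk', rfl⟩ := hWform u' hu'
    rw [commutator_mul_of_commute (hVab v hv v' hv') (hWV k (hcl hk) v hv).symm (hWV k' (hcl hk') v hv).symm
      (hWV k (hcl hk) v' hv').symm (hWV k' (hcl hk') v' hv').symm]
    exact comm_mem_zpowers (hWV a ha d hdV).symm (hWV b hb d hdV).symm hk hk'
  have hdL : d ∈ L := by
    haveI hdn : (zpowers d).Normal := by
      refine ⟨fun u hu g => ?_⟩
      obtain ⟨i, rfl⟩ := hu
      simp only
      haveI := Inv.normal h2 hWinv hW2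
      rw [← conj_zpow, ← MulAut.conj_apply, map_commutatorElement]
      exact zpow_mem (hWd _ ((inferInstance : W.Normal).conj_mem a ha g) _
        ((inferInstance : W.Normal).conj_mem b hb g)) i
    refine ⟨Subgroup.mem_center_iff.2 fun g => commutatorElement_eq_one_iff_mul_comm.1 (Subgroup.mem_bot.1
      (comm_mem_of_card_le F.isP (A := ⊥) bot_le ?_ g (mem_zpowers d))), hVp d hdV⟩
    rw [Subgroup.card_bot, mul_one, Nat.card_zpowers]
    exact Nat.le_of_dvd hp.out.pos (orderOf_dvd_of_pow_eq_one (hVp d hdV))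
  have hWL : ∀ u ∈ W, ∀ u' ∈ W, ⁅u, u'⁆ ∈ L := fun u hu u' hu' => (zpowers_le.2 hdL) (hWd u hu u' hu')
  -- `E2` moves `W` into `V`
  let W1 : Subgroup M := W ⊓ (centralizer (↑(E2.map πV) : Set (M ⧸ V))).comap πV
  have hW1mem : ∀ w, w ∈ W1 ↔ w ∈ W ∧ ∀ e ∈ E2, ⁅e, w⁆ ∈ V := fun w => by
    show w ∈ W ⊓ (centralizer (↑(E2.map πV) : Set (M ⧸ V))).comap πV ↔ _
    rw [Subgroup.mem_inf]
    refine and_congr_right' ?_
    rw [Subgroup.mem_comap, Subgroup.mem_centralizer_iff]
    constructor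
    · intro h e he
      rw [← QuotientGroup.eq_one_iff, ← QuotientGroup.mk'_apply, map_commutatorElement,
        commutatorElement_eq_one_iff_mul_comm]
      exact h _ ⟨e, he, rfl⟩
    · rintro h _ ⟨e, he, rfl⟩
      rw [← commutatorElement_eq_one_iff_mul_comm, ← map_commutatorElement, QuotientGroup.mk'_apply,
        QuotientGroup.eq_one_iff]
      exact h e he
  have hW1inv : F.Inv W1 E2 := fun α hα y hy => by
    obtain ⟨hyW, hye⟩ := (hW1mem _).1 hy
    refine (hW1mem _).2 ⟨hWinv α hα y hyW, fun e he => ?_⟩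
    have h : ((α ⁅α⁻¹ ⟨e, he⟩, y⁆ : E2) : M) ∈ V := hVinv α hα _ (by
      rw [← Subgroup.coe_subtype, map_commutatorElement]; exact hye _ (α⁻¹ ⟨e, he⟩).2)
    rwa [map_commutatorElement, MulAut.apply_inv_self, ← Subgroup.coe_subtype, map_commutatorElement] at h
  have hVW1 : V < W1 := by
    refine lt_of_le_not_ge (fun v hv => (hW1mem v).2 ⟨mem_sup_right hv, fun e _ => ?_⟩) fun hle => ?_
    · rw [commutatorElement_def]
      exact mul_mem (hVconj e v hv) (inv_mem hv)
    · haveI := Inv.normal h2 hWinv hW2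
      haveI : (W.map πV).Normal := Subgroup.Normal.map ‹_› _ (QuotientGroup.mk'_surjective V)
      obtain ⟨z, ⟨w, hw, rfl⟩, hzc, hzo⟩ := PGroups.exists_mem_center_orderOf_eq (F.isP.to_quotient V)
        (W.map πV) (fun h => not_le_of_gt hWlt (by
          rwa [Subgroup.map_eq_bot_iff, QuotientGroup.ker_mk'] at h))
      have hwV : w ∈ V := hle ((hW1mem w).2 ⟨hw, fun e _ => by
        rw [← QuotientGroup.eq_one_iff, ← QuotientGroup.mk'_apply, map_commutatorElement,
          commutatorElement_eq_one_iff_mul_comm]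
        exact Subgroup.mem_center_iff.1 hzc _⟩)
      rw [show πV w = 1 from (QuotientGroup.eq_one_iff w).2 hwV, orderOf_one] at hzo
      exact hp.out.one_lt.ne hzo
  have hW1 : ∀ w ∈ W, ∀ e ∈ E2, ⁅e, w⁆ ∈ V := by
    by_contra hne
    have hlt : W1 < W := lt_of_le_not_ge inf_le_left fun h => hne fun w hw => ((hW1mem w).1 (h hw)).2
    have e1 := mul_card_le F.isP hVW1
    have e2 := mul_card_le F.isP hlt
    rw [hV2c] at e1
    rw [hW4'] at e2
    have e3 : Nat.card W1 ≤ p ^ 3 :=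
      Nat.le_of_mul_le_mul_left (e2.trans_eq (by rw [pow_succ'])) hp.out.pos
    refine hmove (hstep W1 W hW1inv hWinv inf_le_left hW2 ?_ (hstep V W1 hVinv hW1inv hVW1.le
      (inf_le_left.trans hW2) ?_ hτV))
    · rw [hW4', pow_succ']
      exact Nat.mul_le_mul_left p (by rwa [← pow_succ'] at e1)
    · rw [hV2c, ← pow_succ']
      exact e3
  -- `τ` fixes nothing outside `V`
  have hnofix : ∀ u : E2, (u : M) ∈ W → τ u = u → (u : M) ∈ V := by
    intro u hu hfu
    by_contra huV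
    refine hmove fun w hw => fix_of_diff_fix (F.isP.to_subgroup E2) hm hτm ?_
    have hτw : ((τ w : E2) : M) ∈ W := hWinv τ hτG w hw
    have hd' : ((w⁻¹ * τ w : E2) : M) ∈ W := mul_mem (inv_mem hw) hτw
    have hmem : ((w⁻¹ * τ w : E2) : M) ∈ zpowers (u : M) ⊔ V := by
      refine hcent u hu huV _ hd' (commutatorElement_eq_one_iff_commute.1 ?_)
      have h1' : τ ⁅u, w⁆ = ⁅u, w⁆ := hτV _ (by
        rw [← Subgroup.coe_subtype, map_commutatorElement]; exact hWcomV _ hu _ hw)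
      rw [map_commutatorElement, hfu] at h1'
      have h2' : ⁅(u : M), ((τ w : E2) : M)⁆ = ⁅(u : M), (w : M)⁆ := by
        have := congrArg E2.subtype h1'
        rwa [map_commutatorElement, map_commutatorElement] at this
      have h3' := hhom u hu w hw _ hd'
      rw [Subgroup.coe_mul, Subgroup.coe_inv, mul_inv_cancel_left, h2', left_eq_mul] at h3'
      rw [Subgroup.coe_mul, Subgroup.coe_inv]
      exact h3'
    obtain ⟨u', hu', v, hv, he⟩ := Subgroup.mem_sup_of_normal_right.1 hmem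
    obtain ⟨i, rfl⟩ := hu'
    simp only at he
    rw [show w⁻¹ * τ w = u ^ i * ⟨v, hV2 hv⟩ from Subtype.ext (by push_cast at he ⊢; exact he.symm), map_mul,
      map_zpow, hfu, hτV _ hv]
  -- a fixed element outside `D`
  obtain ⟨x, hxfix, hxD⟩ := exists_fixed_coset (F.isP.to_subgroup E2) τ hm hτm D2
    (fun z hz => Subgroup.mem_subgroupOf.2 (hDinv τ hτG z (Subgroup.mem_subgroupOf.1 hz)))
    (g := (⟨x0, hx0⟩ : E2)) (Subgroup.mem_subgroupOf.2 (hτdiff _))
  have hx1 : (x : M) ∉ E1 := fun h => hx01 (by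
    have h' := mul_mem h (inv_mem (Subgroup.mem_subgroupOf.1 hxD).1)
    simpa using h')
  -- `x` moves `W` into `L`
  have hxW : ∀ w ∈ W, ⁅(x : M), w⁆ ∈ L := by
    let f : (W : Subgroup M) →* M ⧸ L := MonoidHom.mk' (fun w => πL ⁅(x : M), (w : M)⁆) fun u u' => by
      rw [← map_mul, Subgroup.coe_mul, show ⁅(x : M), (u : M) * u'⁆ = ⁅(x : M), (u : M)⁆ *
        ((u : M) * ⁅(x : M), (u' : M)⁆ * (u : M)⁻¹) by simp only [commutatorElement_def]; group,
        (hWV u u.2 _ (hW1 u' u'.2 x x.2)).eq, mul_inv_cancel_right]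
    set X := f.ker.map W.subtype
    have hXmem : ∀ w, w ∈ X ↔ w ∈ W ∧ ⁅(x : M), w⁆ ∈ L := fun w => ⟨by
      rintro ⟨w, hw, rfl⟩
      exact ⟨w.2, (hπL _).1 hw⟩, fun h => ⟨⟨w, h.1⟩, (hπL _).2 h.2, rfl⟩⟩
    intro w hw
    by_contra hwL
    have heq : ∀ u : E2, (u : M) ∈ W → πL ⁅(x : M), ((τ u : E2) : M)⁆ = πL ⁅(x : M), (u : M)⁆ := fun u hu => by
      have h1' : τ ⁅x, u⁆ = ⁅x, u⁆ := hτV _ (by
        rw [← Subgroup.coe_subtype, map_commutatorElement]; exact hW1 _ hu _ x.2)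
      rw [map_commutatorElement, hxfix] at h1'
      have := congrArg (fun e : E2 => πL (e : M)) h1'
      rwa [← Subgroup.coe_subtype, map_commutatorElement, map_commutatorElement] at this
    obtain ⟨c, hcfix, hcX⟩ := exists_fixed_coset (F.isP.to_subgroup E2) τ hm hτm (X.subgroupOf E2)
      (fun z hz => by
        obtain ⟨hzW, hzL⟩ := (hXmem _).1 (Subgroup.mem_subgroupOf.1 hz)
        refine Subgroup.mem_subgroupOf.2 ((hXmem _).2 ⟨hWinv τ hτG z hzW, (hπL _).1 ?_⟩)
        rw [heq z hzW]; exact (hπL _).2 hzL)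
      (g := (⟨w, hW2 hw⟩ : E2)) (by
        have hτw : ((τ ⟨w, hW2 hw⟩ : E2) : M) ∈ W := hWinv τ hτG _ hw
        refine Subgroup.mem_subgroupOf.2 ?_
        rw [Subgroup.coe_mul, Subgroup.coe_inv]
        refine ⟨⟨_, mul_mem (inv_mem hw) hτw⟩, ?_, rfl⟩
        show f ((⟨w, hw⟩ : W)⁻¹ * ⟨_, hτw⟩) = 1
        rw [map_mul, map_inv, inv_mul_eq_one]
        exact (heq ⟨w, hW2 hw⟩ hw).symm)
    have hcX' := Subgroup.mem_subgroupOf.1 hcX
    rw [Subgroup.coe_mul, Subgroup.coe_inv] at hcX'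
    have hcW : (c : M) ∈ W := by
      have := mul_mem hw ((hXmem _).1 hcX').1
      simpa using this
    refine hwL ?_
    have hcV := hnofix c hcW hcfix
    have hcXm : (c : M) ∈ X := (hXmem _).2 ⟨hcW, hline (x : M) _ hcV⟩
    have := X.mul_mem hcXm (X.inv_mem hcX')
    rw [mul_inv_rev, inv_inv, mul_inv_cancel_left] at this
    exact ((hXmem w).1 this).2
  -- the section of order `p ^ 4`
  set H := W ⊔ zpowers (x : M)
  set J := L ⊔ zpowers ((x : M) ^ p)
  have hJD : J ≤ D := sup_le (hLV.trans hVD) (zpowers_le.2 ⟨pow_mem' h1 _, pow_mem x.2 _⟩)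
  haveI := Inv.normal h2 hWinv hW2
  have hHab : ∀ u ∈ H, ∀ u' ∈ H, Commute (πL u) (πL u') := by
    have key := commute_sup (A := W.map πL) (B := (zpowers (x : M)).map πL) (by
        rintro _ ⟨u, hu, rfl⟩ _ ⟨u', hu', rfl⟩
        rw [← commutatorElement_eq_one_iff_commute, ← map_commutatorElement]
        exact (hπL _).2 (hWL u hu u' hu')) (by
        rintro _ ⟨u, hu, rfl⟩ _ ⟨u', hu', rfl⟩; exact (commute_zpowers _ u hu u' hu').map πL) (by
        rintro _ ⟨u, hu, rfl⟩ _ ⟨_, ⟨i, rfl⟩, rfl⟩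
        simp only
        rw [map_zpow]
        refine Commute.zpow_right ?_ i
        refine Commute.symm ?_
        rw [← commutatorElement_eq_one_iff_commute, ← map_commutatorElement]
        exact (hπL _).2 (hxW u hu))
    rw [← Subgroup.map_sup] at key
    exact fun u hu u' hu' => key _ ⟨u, hu, rfl⟩ _ ⟨u', hu', rfl⟩
  have hrel := relIndex_le_cube F.rank (H := H) (K := J)
    (fun u hu u' hu' => mem_sup_left ((hπL _).1 (by
      rw [map_commutatorElement, commutatorElement_eq_one_iff_commute]; exact hHab u hu u' hu')))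
    fun u hu => by
      obtain ⟨w, hw, _, ⟨i, rfl⟩, rfl⟩ := Subgroup.mem_sup_of_normal_left.1 hu
      have h : πL ((w * (x : M) ^ i) ^ p) = πL (((x : M) ^ p) ^ i) := by
        rw [map_pow, map_mul, (hHab w (mem_sup_left hw) _ (mem_sup_right (zpow_mem (mem_zpowers _) i))).mul_pow,
          ← map_pow, ← map_pow, hWexp w hw, map_one, one_mul, ← zpow_natCast, ← zpow_mul, mul_comm, zpow_mul,
          zpow_natCast]
      have h' : ((((x : M) ^ p) ^ i))⁻¹ * (w * (x : M) ^ i) ^ p ∈ L := (hπL _).1 (by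
        rw [map_mul, map_inv, h, inv_mul_cancel])
      have := mul_mem (mem_sup_right (zpow_mem (mem_zpowers _) i) : ((x : M) ^ p) ^ i ∈ J)
        (mem_sup_left h' : _ ∈ J)
      rwa [mul_inv_cancel_left] at this
  have hinf : W ⊓ J ≤ L := by
    rintro u ⟨huW, huJ⟩
    obtain ⟨l, hl, _, ⟨i, rfl⟩, rfl⟩ := Subgroup.mem_sup_of_normal_left.1 huJ
    simp only at huW ⊢
    have hl2 : l ∈ E2 := hV2 (hLV hl)
    have hfix : τ (⟨l, hl2⟩ * (x ^ p) ^ i) = ⟨l, hl2⟩ * (x ^ p) ^ i := by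
      rw [map_mul, map_zpow, map_pow, hxfix, hτV _ (hLV hl)]
    have hV' := hnofix (⟨l, hl2⟩ * (x ^ p) ^ i) (by push_cast; exact huW) hfix
    push_cast at hV'
    refine ⟨mem_center_of h1 hx1 (fun e he => hVc _ hV' e he) ?_, hVp _ hV'⟩
    exact (((mem_om.1 hl).1 (x : M)).symm).mul_left (((Commute.refl (x : M)).pow_left p).zpow_left i)
  have hJH : W ⊔ J ≤ H := sup_le le_sup_left
    (sup_le ((hLV.trans le_sup_right).trans le_sup_left) (zpowers_le.2 (mem_sup_right (pow_mem (mem_zpowers _) p))))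
  have hlt : W ⊔ J < H := lt_of_le_not_ge hJH fun h =>
    hx1 ((sup_le hWD hJD) (h (mem_sup_right (mem_zpowers _)))).1
  have e1 := card_mul_le_sup W J
  have e2 := mul_card_le F.isP hlt
  have e3 := card_mul_relIndex (show J ≤ H from le_sup_right.trans hJH)
  have e4 : Nat.card (W ⊓ J : Subgroup M) ≤ p := (Subgroup.card_le_of_le hinf).trans_eq hom
  rw [hW4'] at e1
  have h4 : p ^ 4 * Nat.card J ≤ p ^ 3 * Nat.card J := by
    calc p ^ 4 * Nat.card J ≤ Nat.card (W ⊔ J : Subgroup M) * p := e1.trans (Nat.mul_le_mul_left _ e4)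
      _ ≤ Nat.card H := by rw [mul_comm]; exact e2
      _ = Nat.card J * J.relIndex H := e3.symm
      _ ≤ Nat.card J * p ^ 3 := Nat.mul_le_mul_left _ hrel
      _ = _ := mul_comm _ _
  exact absurd ((Nat.pow_le_pow_iff_right hp.out.one_lt).1 (Nat.le_of_mul_le_mul_right h4 Nat.card_pos))
    (by norm_num)

end Fam

end Cfsg.Agent.H91.Rank3
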