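import Cfsg.Agent.H91.Rank3.ConjClosure

/-!
The quotient of a family by a central subgroup of exponent `p` invariant in all members.
-/

set_option autoImplicit false
set_option linter.unusedSectionVars false
set_option linter.style.haveILetI false

namespace Cfsg.Agent.H91.Rank3

open Subgroup
open scoped commutatorElement

/-- The sectional rank passes to images. -/
theorem sectional_of_surjective {p : ℕ} {G : Type*} [Group G] {Q : Type*} [Group Q] {k : ℕ} (f : G →* Q)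
    (hf : Function.Surjective f) (h : Cfsg.SectionalPRankLE p k G) : Cfsg.SectionalPRankLE p k Q := by
  intro H N hN A hA hexp
  let g : H.comap f →* H := f.subgroupComap H
  have hg : Function.Surjective g := fun x => by
    obtain ⟨a, ha⟩ := hf (x : Q)
    exact ⟨⟨a, by rw [Subgroup.mem_comap, ha]; exact x.2⟩, Subtype.ext ha⟩
  let φ := (QuotientGroup.mk' N).comp g
  let e := QuotientGroup.quotientKerEquivOfSurjective φ ((QuotientGroup.mk'_surjective N).comp hg)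
  haveI := hA
  have h1 := h (H.comap f) φ.ker (A.map e.symm.toMonoidHom) inferInstance (by
    rintro _ ⟨a, ha, rfl⟩
    rw [← map_pow, hexp a ha, map_one])
  rwa [Subgroup.card_map_of_injective (f := e.symm.toMonoidHom) e.symm.injective] at h1

/-- An automorphism preserving the kernel of a surjection descends. -/
theorem exists_descend {A B : Type*} [Group A] [Group B] (q : A →* B) (hq : Function.Surjective q) (α : MulAut A)
    (hker : ∀ a, q a = 1 ↔ q (α a) = 1) : ∃ β : MulAut B, ∀ a, β (q a) = q (α a) := by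
  let φ : A →* B := q.comp (α : A ≃* A).toMonoidHom
  have hφ : Function.Surjective φ := hq.comp (α : A ≃* A).surjective
  have he : q.ker = φ.ker := by
    ext a
    exact hker a
  let e := QuotientGroup.quotientKerEquivOfSurjective q hq
  let e' := QuotientGroup.quotientKerEquivOfSurjective φ hφ
  refine ⟨e.symm.trans ((QuotientGroup.quotientMulEquivOfEq he).trans e'), fun a => ?_⟩
  have h1 : e.symm (q a) = QuotientGroup.mk a := by
    rw [MulEquiv.symm_apply_eq]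
    rfl
  rw [MulEquiv.trans_apply, MulEquiv.trans_apply, h1]
  rfl

namespace Fam

variable {M : Type*} [Group M] [Finite M] {p : ℕ} [hp : Fact p.Prime] {F : Fam p M} {E : Subgroup M}

/-- Automorphisms fixing an invariant elementary subgroup and moving into it are induced. -/
theorem stab_le_indM (hE : F.Ess E) {N : Subgroup M} (hN : F.Inv N E) (hNp : ∀ n ∈ N, n ^ p = 1)
    {f : MulAut E} (hf : f ∈ F.G E) (hfix : ∀ b : E, (b : M) ∈ N → f b = b)
    (hmove : ∀ x : E, ((x⁻¹ * f x : E) : M) ∈ N) : f ∈ indM E := by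
  set T := N.subgroupOf E
  have hT : ∀ b ∈ T, b ^ p = 1 := fun b hb => Subtype.ext (by
    rw [SubmonoidClass.coe_pow, hNp _ (Subgroup.mem_subgroupOf.1 hb), OneMemClass.coe_one])
  set K : Subgroup (MulAut E) := serStab T T ⊓ F.G E
  have hfK : f ∈ K := ⟨⟨fun a ha => hfix a (Subgroup.mem_subgroupOf.1 ha),
    fun b _ => Subgroup.mem_subgroupOf.2 (hmove b), fun x => Subgroup.mem_subgroupOf.2 (hmove x)⟩, hf⟩
  have hKp : IsPGroup p K := (serStab_isPGroup hT hT).to_le inf_le_left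
  have hconj : ∀ α ∈ F.G E, ∀ δ ∈ K, α * δ * α⁻¹ ∈ K := by
    rintro α hα δ ⟨⟨hd1, -, hd3⟩, hδ⟩
    have hTinv : ∀ {α : MulAut E}, α ∈ F.G E → ∀ b ∈ T, α b ∈ T := fun hα b hb =>
      Subgroup.mem_subgroupOf.2 (hN _ hα b (Subgroup.mem_subgroupOf.1 hb))
    have h1 : ∀ b ∈ T, (α * δ * α⁻¹) b = b := fun b hb => by
      rw [MulAut.mul_apply, MulAut.mul_apply, hd1 _ (hTinv (inv_mem hα) b hb), MulAut.apply_inv_self]
    have h3 : ∀ x, x⁻¹ * (α * δ * α⁻¹) x ∈ T := fun x => by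
      have := hTinv hα _ (hd3 (α⁻¹ x))
      rwa [map_mul, map_inv, MulAut.apply_inv_self] at this
    exact Subgroup.mem_inf.2 ⟨⟨h1, fun b _ => h3 b, h3⟩, mul_mem (mul_mem hα hδ) (inv_mem hα)⟩
  have hn : indM E ≤ Subgroup.normalizer (K : Set (MulAut E)) := fun β hβ => by
    refine Subgroup.mem_normalizer_iff.2 fun h => ⟨hconj β (F.indG hE hβ) h, fun hh => ?_⟩
    have := hconj β⁻¹ (inv_mem (F.indG hE hβ)) _ hh
    rwa [show β⁻¹ * (β * h * β⁻¹) * β⁻¹⁻¹ = h by group] at this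
  exact F.sylow hE (indM E ⊔ K) (sup_le (F.indG hE) inf_le_right)
    ((indM_isPGroup hE).to_sup_of_normal_right' hKp hn) le_sup_left (mem_sup_right hfK)

variable (F) (N : Subgroup M) [N.Normal]

/-- The group on a subgroup of the quotient. -/
def qG (X : Subgroup (M ⧸ N)) : Subgroup (MulAut X) where
  carrier := {β | ∃ α ∈ F.G (X.comap (QuotientGroup.mk' N)), ∀ e : X.comap (QuotientGroup.mk' N),
    (β ⟨QuotientGroup.mk' N e, e.2⟩ : M ⧸ N) = QuotientGroup.mk' N (α e : M)}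
  one_mem' := ⟨1, one_mem _, fun e => rfl⟩
  mul_mem' := by
    rintro β δ ⟨α, hα, he⟩ ⟨α', hα', he'⟩
    refine ⟨α * α', mul_mem hα hα', fun e => ?_⟩
    rw [MulAut.mul_apply, MulAut.mul_apply,
      show δ ⟨QuotientGroup.mk' N e, e.2⟩ = ⟨QuotientGroup.mk' N (α' e : M), (α' e).2⟩ from Subtype.ext (he' e), he]
  inv_mem' := by
    rintro β ⟨α, hα, he⟩
    refine ⟨α⁻¹, inv_mem hα, fun e => ?_⟩
    have h : β ⟨QuotientGroup.mk' N (α⁻¹ e : M), (α⁻¹ e).2⟩ = ⟨QuotientGroup.mk' N e, e.2⟩ := Subtype.ext (by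
      rw [he, MulAut.apply_inv_self])
    exact congrArg Subtype.val (β.injective ((MulAut.apply_inv_self _ β _).trans h.symm))

variable {F} {N}

theorem comap_map_ess (hE : F.Ess E) (hNc : N ≤ center M) :
    (E.map (QuotientGroup.mk' N)).comap (QuotientGroup.mk' N) = E := by
  rw [Subgroup.comap_map_eq, QuotientGroup.ker_mk', sup_eq_left.2 (hNc.trans (center_le hE))]

theorem exists_lift {X : Subgroup (M ⧸ N)} (hX : X.comap (QuotientGroup.mk' N) = E) {β : MulAut X}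
    (hβ : β ∈ F.qG N X) :
    ∃ α ∈ F.G E, ∀ (e : E) (h : QuotientGroup.mk' N (e : M) ∈ X),
      (β ⟨QuotientGroup.mk' N e, h⟩ : M ⧸ N) = QuotientGroup.mk' N (α e : M) := by
  subst hX
  obtain ⟨α, hα, he⟩ := hβ
  exact ⟨α, hα, fun e h => he e⟩

theorem exists_down {X : Subgroup (M ⧸ N)} (hX : X.comap (QuotientGroup.mk' N) = E) (hN : F.Inv N E)
    {α : MulAut E} (hα : α ∈ F.G E) :
    ∃ β ∈ F.qG N X, ∀ (e : E) (h : QuotientGroup.mk' N (e : M) ∈ X),
      (β ⟨QuotientGroup.mk' N e, h⟩ : M ⧸ N) = QuotientGroup.mk' N (α e : M) := by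
  subst hX
  obtain ⟨β, hβ⟩ := exists_descend ((QuotientGroup.mk' N).subgroupComap X) (fun x => by
      obtain ⟨m, hm⟩ := QuotientGroup.mk'_surjective N (x : M ⧸ N)
      exact ⟨⟨m, by rw [Subgroup.mem_comap, hm]; exact x.2⟩, Subtype.ext hm⟩) α fun a => by
    rw [← OneMemClass.coe_eq_one, ← OneMemClass.coe_eq_one]
    show QuotientGroup.mk' N (a : M) = 1 ↔ QuotientGroup.mk' N (α a : M) = 1
    rw [QuotientGroup.mk'_apply, QuotientGroup.mk'_apply, QuotientGroup.eq_one_iff, QuotientGroup.eq_one_iff,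
      hN.mem_iff hα]
  exact ⟨β, ⟨α, hα, fun e => congrArg Subtype.val (hβ e)⟩, fun e h => congrArg Subtype.val (hβ e)⟩

/-- Automorphisms of a member of the quotient agreeing on representatives. -/
theorem eq_of_rel {X : Subgroup (M ⧸ N)} (hX : X.comap (QuotientGroup.mk' N) = E) {β β' : MulAut X}
    (h : ∀ (e : E) (h : QuotientGroup.mk' N (e : M) ∈ X),
      (β ⟨QuotientGroup.mk' N e, h⟩ : M ⧸ N) = β' ⟨QuotientGroup.mk' N e, h⟩) : β = β' := by
  refine MulEquiv.ext fun x => Subtype.ext ?_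
  obtain ⟨m, hm⟩ := QuotientGroup.mk'_surjective N (x : M ⧸ N)
  have hmX : QuotientGroup.mk' N m ∈ X := by rw [hm]; exact x.2
  have hmE : m ∈ E := hX.le (Subgroup.mem_comap.2 hmX)
  rw [show x = ⟨QuotientGroup.mk' N m, hmX⟩ from Subtype.ext hm.symm]
  exact h ⟨m, hmE⟩ hmX

theorem mem_map_mk {e : M} (he : e ∈ E) : QuotientGroup.mk' N e ∈ E.map (QuotientGroup.mk' N) :=
  Subgroup.mem_map_of_mem _ he

/-- The descent map on a member. -/
theorem exists_hom (hE : F.Ess E) (hNc : N ≤ center M) (hN : F.Inv N E) :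
    ∃ ρ : F.G E →* MulAut (E.map (QuotientGroup.mk' N)),
      (∀ (α : F.G E) (e : E), (ρ α ⟨QuotientGroup.mk' N e, mem_map_mk e.2⟩ : M ⧸ N) =
        QuotientGroup.mk' N ((α : MulAut E) e : M)) ∧
      ρ.range = F.qG N (E.map (QuotientGroup.mk' N)) := by
  have hX := comap_map_ess hE hNc
  choose f hf hfe using fun α : F.G E => exists_down hX hN α.2
  refine ⟨MonoidHom.mk' f fun α α' => eq_of_rel hX fun e h => ?_, fun α e => hfe α e _, le_antisymm ?_ ?_⟩
  · rw [MulAut.mul_apply, hfe, show f α' ⟨QuotientGroup.mk' N e, h⟩ = ⟨QuotientGroup.mk' N ((α' : MulAut E) e : M),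
      mem_map_mk ((α' : MulAut E) e).2⟩ from Subtype.ext (hfe α' e h), hfe]
    rfl
  · rintro _ ⟨α, rfl⟩
    exact hf α
  · intro β hβ
    obtain ⟨α, hα, he⟩ := exists_lift hX hβ
    exact ⟨⟨α, hα⟩, eq_of_rel hX fun e h => (hfe ⟨α, hα⟩ e h).trans (he e h).symm⟩

/-- Induced automorphisms of a member of the quotient. -/
theorem indM_quot (hE : F.Ess E) (hNc : N ≤ center M) {β : MulAut (E.map (QuotientGroup.mk' N))}
    {ρ : F.G E →* MulAut (E.map (QuotientGroup.mk' N))}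
    (hρ : ∀ (α : F.G E) (e : E), (ρ α ⟨QuotientGroup.mk' N e, mem_map_mk e.2⟩ : M ⧸ N) =
      QuotientGroup.mk' N ((α : MulAut E) e : M)) :
    β ∈ indM (E.map (QuotientGroup.mk' N)) ↔ ∃ m, β = ρ ⟨cj hE m, cjG hE m⟩ := by
  constructor
  · rintro ⟨u, hu⟩
    obtain ⟨m, rfl⟩ := QuotientGroup.mk'_surjective N u
    refine ⟨m, eq_of_rel (comap_map_ess hE hNc) fun e h => ?_⟩
    rw [hρ, hu, coe_cj, map_mul, map_mul, map_inv]
  · rintro ⟨m, rfl⟩
    refine ⟨QuotientGroup.mk' N m, fun x => ?_⟩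
    obtain ⟨e, he, hex⟩ := x.2
    rw [show x = ⟨QuotientGroup.mk' N e, mem_map_mk he⟩ from Subtype.ext hex.symm, hρ _ ⟨e, he⟩, coe_cj,
      map_mul, map_mul, map_inv]

variable (F) (N) in
/-- The image of `Γ`. -/
def qΓ : Subgroup (MulAut (M ⧸ N)) where
  carrier := {δ | ∃ γ ∈ F.Γ, ∀ m, δ (QuotientGroup.mk' N m) = QuotientGroup.mk' N (γ m)}
  one_mem' := ⟨1, one_mem _, fun m => rfl⟩
  mul_mem' := by
    rintro δ δ' ⟨γ, hγ, he⟩ ⟨γ', hγ', he'⟩
    exact ⟨γ * γ', mul_mem hγ hγ', fun m => by rw [MulAut.mul_apply, he', he, MulAut.mul_apply]⟩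
  inv_mem' := by
    rintro δ ⟨γ, hγ, he⟩
    refine ⟨γ⁻¹, inv_mem hγ, fun m => δ.injective ?_⟩
    rw [MulAut.apply_inv_self, he, MulAut.apply_inv_self]

theorem exists_qΓ (hNG : F.GInv N) {γ : MulAut M} (hγ : γ ∈ F.Γ) :
    ∃ δ ∈ F.qΓ N, ∀ m, δ (QuotientGroup.mk' N m) = QuotientGroup.mk' N (γ m) := by
  obtain ⟨δ, hδ⟩ := exists_descend (QuotientGroup.mk' N) (QuotientGroup.mk'_surjective N) γ fun a => by
    rw [QuotientGroup.mk'_apply, QuotientGroup.mk'_apply, QuotientGroup.eq_one_iff, QuotientGroup.eq_one_iff,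
      hNG.mem_iff hγ]
  exact ⟨δ, ⟨γ, hγ, hδ⟩, hδ⟩

variable (F) (N) in
/-- The quotient family. -/
def quot (hNc : N ≤ center M) (hNp : ∀ n ∈ N, n ^ p = 1) (hNG : F.GInv N)
    (hNI : ∀ E, F.Ess E → F.Inv N E) : Fam p (M ⧸ N) where
  isP := F.isP.to_quotient N
  odd := F.odd
  rank := sectional_of_surjective _ (QuotientGroup.mk'_surjective N) F.rank
  Γ := F.qΓ N
  inner := fun g => by
    obtain ⟨m, rfl⟩ := QuotientGroup.mk'_surjective N g
    exact ⟨MulAut.conj m, F.inner m, fun x => by simp [MulAut.conj_apply]⟩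
  r := F.r
  coprime := F.coprime
  pow := fun δ ⟨γ, hγ, he⟩ => by
    obtain ⟨g, hg⟩ := F.pow γ hγ
    refine ⟨QuotientGroup.mk' N g, MulEquiv.ext fun x => ?_⟩
    obtain ⟨m, rfl⟩ := QuotientGroup.mk'_surjective N x
    have hk : ∀ k : ℕ, (δ ^ k) (QuotientGroup.mk' N m) = QuotientGroup.mk' N ((γ ^ k) m) := by
      intro k
      induction k with
      | zero => rfl
      | succ k ih => rw [pow_succ', pow_succ', MulAut.mul_apply, ih, he, MulAut.mul_apply]
    rw [hk, hg, MulAut.conj_apply, MulAut.conj_apply, map_mul, map_mul, map_inv]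
  Ess := fun X => ∃ E, F.Ess E ∧ X = E.map (QuotientGroup.mk' N)
  G := F.qG N
  index := by
    rintro X ⟨E, hE, rfl⟩
    rw [Subgroup.index_map_eq _ (QuotientGroup.mk'_surjective N)
      ((QuotientGroup.ker_mk' N).le.trans (hNc.trans (center_le hE))), F.index hE]
  centric := by
    rintro X ⟨E, hE, rfl⟩ u hu
    obtain ⟨m, rfl⟩ := QuotientGroup.mk'_surjective N u
    by_contra hm
    have hmE : m ∉ E := fun h => hm (mem_map_mk h)
    obtain ⟨g, hg, hne⟩ := exists_moved hE hmE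
    have hfix : ∀ b : E, (b : M) ∈ N → cj hE m b = b := fun b hb => Subtype.ext (by
      rw [coe_cj, Subgroup.mem_center_iff.1 (hNc hb) m, mul_inv_cancel_right])
    have hmove : ∀ x : E, ((x⁻¹ * cj hE m x : E) : M) ∈ N := fun x => by
      rw [← QuotientGroup.eq_one_iff, ← QuotientGroup.mk'_apply, Subgroup.coe_mul, Subgroup.coe_inv, coe_cj,
        map_mul, map_inv, map_mul, map_mul, map_inv, (hu _ (mem_map_mk x.2)).eq, mul_inv_cancel_right,
        inv_mul_cancel]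
    refine hne (stab_le_indM hE (hNI E hE) hNp (mul_mem (mul_mem hg (cjG hE m)) (inv_mem hg))
      (fun b hb => ?_) fun x => ?_)
    · rw [MulAut.mul_apply, MulAut.mul_apply, hfix _ (hNI E hE _ (inv_mem hg) b hb), MulAut.apply_inv_self]
    · have := hNI E hE g hg _ (hmove (g⁻¹ x))
      rwa [map_mul, map_inv, MulAut.apply_inv_self] at this
  indG := by
    rintro X ⟨E, hE, rfl⟩ β hβ
    obtain ⟨ρ, hρ, hr⟩ := exists_hom hE hNc (hNI E hE)
    obtain ⟨m, rfl⟩ := (indM_quot hE hNc hρ).1 hβ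
    rw [← hr]
    exact ⟨_, rfl⟩
  sylow := by
    rintro X ⟨E, hE, rfl⟩ K hK hKp hle
    obtain ⟨ρ, hρ, hr⟩ := exists_hom hE hNc (hNI E hE)
    haveI := F.finite_G E
    obtain ⟨A0, hA0⟩ := exists_sylow hE
    set A := A0.mapSurjective ρ.rangeRestrict_surjective
    have hAc : (A : Subgroup ρ.range) = (A0 : Subgroup (F.G E)).map ρ.rangeRestrict := Sylow.coe_mapSurjective _ _
    have hAK : (A : Subgroup ρ.range) ≤ K.subgroupOf ρ.range := by
      rw [hAc]
      rintro _ ⟨a, ha, rfl⟩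
      obtain ⟨m, hm⟩ := eq_cj hE (Subgroup.mem_subgroupOf.1 (hA0.le ha))
      exact Subgroup.mem_subgroupOf.2 (hle ((indM_quot hE hNc hρ).2 ⟨m, congrArg ρ (Subtype.ext hm)⟩))
    have heq := A.is_maximal' (hKp.comap_of_injective ρ.range.subtype ρ.range.subtype_injective) hAK
    intro f hf
    have hfr : f ∈ ρ.range := hr ▸ hK hf
    have hfA : (⟨f, hfr⟩ : ρ.range) ∈ (A : Subgroup ρ.range) := heq.le (Subgroup.mem_subgroupOf.2 hf)
    obtain ⟨a, ha, hae⟩ := hAc.le hfA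
    obtain ⟨m, hm⟩ := eq_cj hE (Subgroup.mem_subgroupOf.1 (hA0.le ha))
    exact (indM_quot hE hNc hρ).2 ⟨m, (congrArg Subtype.val hae).symm.trans (congrArg ρ (Subtype.ext hm))⟩
  notNormal := by
    rintro X ⟨E, hE, rfl⟩
    obtain ⟨ρ, hρ, hr⟩ := exists_hom hE hNc (hNI E hE)
    by_contra hall
    push Not at hall
    obtain ⟨α, hα, β, hβ, hne⟩ := F.notNormal hE
    obtain ⟨m0, rfl⟩ := eq_cj hE hβ
    set c : F.G E := ⟨α, hα⟩ * ⟨cj hE m0, cjG hE m0⟩ * (⟨α, hα⟩ : F.G E)⁻¹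
    obtain ⟨m, hm⟩ : ∃ m, ρ c = ρ ⟨cj hE m, cjG hE m⟩ := (indM_quot hE hNc hρ).1 (by
      rw [map_mul, map_mul, map_inv]
      exact hall _ (hr ▸ ⟨_, rfl⟩) _ ((indM_quot hE hNc hρ).2 ⟨m0, rfl⟩))
    set f : F.G E := (⟨cj hE m, cjG hE m⟩ : F.G E)⁻¹ * c
    have hfX : (f : MulAut E) ∈ F.conjClosure E :=
      mul_mem (inv_mem (cj_mem_conjClosure hE m)) (conj_mem_conjClosure hα (cj_mem_conjClosure hE m0))
    have hf1 : ρ f = 1 := by rw [map_mul, map_inv, hm, inv_mul_cancel]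
    have hfi : (f : MulAut E) ∈ indM E := stab_le_indM hE (hNI E hE) hNp f.2
      (fun b hb => fix_central hE (hNI E hE) hNc hfX b hb) fun x => by
        have h := hρ f x
        rw [hf1, MulAut.one_apply] at h
        rw [← QuotientGroup.eq_one_iff, ← QuotientGroup.mk'_apply, Subgroup.coe_mul, Subgroup.coe_inv, map_mul,
          map_inv, ← h, inv_mul_cancel]
    refine hne ?_
    have := mul_mem (cj_mem hE m) hfi
    simpa [f, c] using this
  ext := by
    rintro X ⟨E, hE, rfl⟩ β hβ hn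
    obtain ⟨ρ, hρ, hr⟩ := exists_hom hE hNc (hNI E hE)
    obtain ⟨α, rfl⟩ := hr.ge hβ
    set K := ((indM (E.map (QuotientGroup.mk' N))).comap ρ).map (F.G E).subtype
    have hK : K ≤ F.G E := Subgroup.map_subtype_le _
    have hindK : indM E ≤ K := fun f hf => by
      obtain ⟨m, rfl⟩ := eq_cj hE hf
      exact ⟨⟨_, cjG hE m⟩, (indM_quot hE hNc hρ).2 ⟨m, rfl⟩, rfl⟩
    obtain ⟨_, ⟨k, hk, rfl⟩, hkG, hkn⟩ := exists_normalising hE hK hindK α.2 (by
      rintro _ ⟨f, hf, rfl⟩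
      refine ⟨α * f * α⁻¹, ?_, rfl⟩
      rw [SetLike.mem_coe, Subgroup.mem_comap, map_mul, map_mul, map_inv]
      exact hn _ hf)
    obtain ⟨γ, hγ, hγe⟩ := F.ext hE _ hkG hkn
    obtain ⟨m, hm⟩ := (indM_quot hE hNc hρ).1 hk
    obtain ⟨δ, hδ, hδe⟩ := exists_qΓ hNG (mul_mem (F.inner m) hγ)
    refine ⟨δ, hδ, fun x => ?_⟩
    obtain ⟨e, he, hex⟩ := x.2
    rw [show x = ⟨QuotientGroup.mk' N e, mem_map_mk he⟩ from Subtype.ext hex.symm, hδe, MulAut.mul_apply,
      show γ e = _ from hγe ⟨e, he⟩, MulAut.conj_apply, hρ _ ⟨e, he⟩, map_mul, map_mul, map_inv]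
    have h1 : QuotientGroup.mk' N ((k : MulAut E) ((((k : MulAut E))⁻¹ * (α : MulAut E)) ⟨e, he⟩) : M) =
        QuotientGroup.mk' N m * QuotientGroup.mk' N (((((k : MulAut E))⁻¹ * (α : MulAut E)) ⟨e, he⟩ : E) : M) *
          (QuotientGroup.mk' N m)⁻¹ := by
      rw [← hρ k, hm, hρ, coe_cj, map_mul, map_mul, map_inv]
    rw [MulAut.mul_apply, MulAut.apply_inv_self] at h1
    exact h1.symm
  transport := by
    rintro X ⟨E, hE, rfl⟩ δ ⟨γ, hγ, hδ⟩
    have hmap : (E.map (QuotientGroup.mk' N)).map (δ : M ⧸ N ≃* M ⧸ N).toMonoidHom =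
        (E.map (γ : M ≃* M).toMonoidHom).map (QuotientGroup.mk' N) := by
      rw [Subgroup.map_map, Subgroup.map_map]
      exact congrArg (fun f => E.map f) (MonoidHom.ext fun x => hδ x)
    obtain ⟨hE', htr⟩ := F.transport hE γ hγ
    refine ⟨⟨_, hE', hmap⟩, fun β hβ => ?_⟩
    obtain ⟨α, hα, hαe⟩ := exists_lift (comap_map_ess hE hNc) hβ
    obtain ⟨α', hα', hα'e⟩ := htr α hα
    obtain ⟨β', hβ', hβ'e⟩ := exists_down (comap_map_ess hE' hNc) (hNI _ hE') hα'
    have key : ∀ X' : Subgroup (M ⧸ N), X' = (E.map (γ : M ≃* M).toMonoidHom).map (QuotientGroup.mk' N) →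
        ∀ h : ∀ x : E.map (QuotientGroup.mk' N), δ (x : M ⧸ N) ∈ X', ∃ β'' ∈ F.qG N X',
          ∀ x : E.map (QuotientGroup.mk' N), (β'' ⟨δ (x : M ⧸ N), h x⟩ : M ⧸ N) = δ (β x : M ⧸ N) := by
      rintro X' rfl h
      refine ⟨β', hβ', fun x => ?_⟩
      obtain ⟨e, he, hex⟩ := x.2
      obtain rfl : x = ⟨QuotientGroup.mk' N e, mem_map_mk he⟩ := Subtype.ext hex.symm
      rw [show (⟨δ (QuotientGroup.mk' N e), h ⟨QuotientGroup.mk' N e, mem_map_mk he⟩⟩ : (E.map (γ : M ≃* M).toMonoidHom).map (QuotientGroup.mk' N)) =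
        ⟨QuotientGroup.mk' N (γ e), mem_map_mk ⟨e, he, rfl⟩⟩ from Subtype.ext (hδ e),
        hβ'e ⟨γ e, e, he, rfl⟩, hα'e ⟨e, he⟩, hαe ⟨e, he⟩, hδ]
    exact key _ hmap fun x => ⟨x, x.2, rfl⟩

end Fam

end Cfsg.Agent.H91.Rank3
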