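import Cfsg.Agent.H91.Rank3.PairBasic
import Cfsg.Agent.H91.Rank3.Quot
import Cfsg.Agent.H91.Rank3.Invert

/-!
Spans leaving the other member in the quotient by the central elements of order `p`, these being fixed by both
members: impossible.
-/

set_option autoImplicit false
set_option linter.unusedSectionVars false
set_option linter.style.haveILetI false

namespace Cfsg.Agent.H91.Rank3

open Subgroup
open scoped commutatorElement

namespace Fam

variable {M : Type*} [Group M] [Finite M] {p : ℕ} [hp : Fact p.Prime]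

/-- The quotient by the central elements of order `p`. -/
abbrev omQuot (F : Fam p M) (hI : ∀ E, F.Ess E → F.Inv (om p M) E) :
    haveI := om_normal (M := M) (p := p)
    Fam p (M ⧸ om p M) :=
  haveI := om_normal (M := M) (p := p)
  F.quot (om p M) (fun _ hx => hx.1) (fun _ hx => hx.2) gInv_om hI

variable {F : Fam p M} {E1 E2 : Subgroup M}

/-- Powers pass through a central commutator. -/
theorem comm_pow_of_central {a b : M} (hc : ∀ g, Commute ⁅a, b⁆ g) : ∀ k : ℕ, ⁅a, b ^ k⁆ = ⁅a, b⁆ ^ k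
  | 0 => by simp
  | k + 1 => by
    rw [show ⁅a, b ^ (k + 1)⁆ = ⁅a, b⁆ * (b * ⁅a, b ^ k⁆ * b⁻¹) by
      rw [pow_succ' b]; simp only [commutatorElement_def]; group, comm_pow_of_central hc k,
      (((hc b).pow_left k).symm).eq, mul_inv_cancel_right, pow_succ']

set_option maxHeartbeats 2000000 in
/-- The commutator of the lifts commutes with the first of them. -/
theorem lift_comm (h1 : F.Ess E1) (h2 : F.Ess E2) (hI : ∀ E, F.Ess E → F.Inv (om p M) E)
    (hG1 : ∀ γ ∈ F.Γ, E1.map (γ : M ≃* M).toMonoidHom = E1)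
    (hG2 : ∀ γ ∈ F.Γ, E2.map (γ : M ≃* M).toMonoidHom = E2) {z z' : M}
    (hz : haveI := om_normal (M := M) (p := p)
      QuotientGroup.mk' (om p M) z ∈ (omQuot F hI).span (E1.map (QuotientGroup.mk' (om p M))))
    (hz2 : z ∉ E2)
    (hz' : haveI := om_normal (M := M) (p := p)
      QuotientGroup.mk' (om p M) z' ∈ (omQuot F hI).span (E2.map (QuotientGroup.mk' (om p M))))
    (hz'1 : z' ∉ E1) : Commute ⁅z, z'⁆ z := by
  classical
  haveI := normal h1
  haveI := normal h2
  haveI hLn := om_normal (M := M) (p := p)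
  set L := om p M
  set π := QuotientGroup.mk' L
  have hLc : L ≤ center M := fun _ hx => hx.1
  have hLp : ∀ n ∈ L, n ^ p = 1 := fun _ hx => hx.2
  have hπ : ∀ g, π g = 1 ↔ g ∈ L := fun g => QuotientGroup.eq_one_iff g
  set Fq := omQuot F hI
  have hX1 := comap_map_ess (N := L) h1 hLc
  have hX2 := comap_map_ess (N := L) h2 hLc
  have hq1 : Fq.Ess (E1.map π) := ⟨E1, h1, rfl⟩
  have hq2 : Fq.Ess (E2.map π) := ⟨E2, h2, rfl⟩
  have hmem1 : ∀ g, π g ∈ E1.map π ↔ g ∈ E1 := fun g => by rw [← Subgroup.mem_comap, hX1]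
  have hmem2 : ∀ g, π g ∈ E2.map π ↔ g ∈ E2 := fun g => by rw [← Subgroup.mem_comap, hX2]
  have hz1 : z ∈ E1 := (hmem1 z).1 (span_le hz)
  have hz'2 : z' ∈ E2 := (hmem2 z').1 (span_le hz')
  set d := ⁅z, z'⁆
  set D := E1 ⊓ E2
  have hdD : d ∈ D := ⟨comm_mem h1 z z', comm_mem h2 z z'⟩
  have hdec := exists_dec2 h1 h2 hz2 hz'2 hz'1
  have hzE : ∀ e ∈ E1, Commute (π z) (π e) := fun e he => span_comm hz ((hmem1 e).2 he)
  have hzE' : ∀ e ∈ E2, Commute (π z') (π e) := fun e he => span_comm hz' ((hmem2 e).2 he)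
  have hcen : ∀ {a g : M}, Commute (π a) (π g) → ⁅a, g⁆ ∈ center M := fun h => hLc ((hπ _).1 (by
    rw [map_commutatorElement, commutatorElement_eq_one_iff_commute]; exact h))
  have hde : ∀ e ∈ D, Commute d e := fun e he => by
    have c1 := hcen (hzE e he.1)
    have c2 := hcen (hzE' e he.2)
    have e1 : e * z * e⁻¹ = ⁅z, e⁆⁻¹ * z := by simp only [commutatorElement_def]; group
    have e2 : e * z' * e⁻¹ = ⁅z', e⁆⁻¹ * z' := by simp only [commutatorElement_def]; group
    refine Commute.symm (mul_inv_eq_iff_eq_mul.1 ?_)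
    show e * d * e⁻¹ = d
    rw [← MulAut.conj_apply, show d = ⁅z, z'⁆ from rfl, map_commutatorElement, MulAut.conj_apply,
      MulAut.conj_apply, e1, e2]
    have hu : ∀ g, Commute ⁅z, e⁆⁻¹ g := fun g => (Subgroup.mem_center_iff.1 (inv_mem c1) g).symm
    have hv : ∀ g, Commute ⁅z', e⁆⁻¹ g := fun g => (Subgroup.mem_center_iff.1 (inv_mem c2) g).symm
    exact commutator_mul_of_commute (hu _) (hu _) (hu _) (hv _) (hv _)
  set dq := π d
  have hdq : dq = ⁅π z, π z'⁆ := map_commutatorElement π z z'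
  have hdq1 : dq ≠ 1 := fun h => by
    rw [hdq, commutatorElement_eq_one_iff_commute] at h
    have hc : π z ∈ center (M ⧸ L) := mem_center_of hq1 (fun h' => hz'1 ((hmem1 z').1 h'))
      (fun e he => span_comm hz he) h
    exact hz2 ((hmem2 z).1 (center_le hq2 hc))
  have hdqc : dq ∈ center (M ⧸ L) := Subgroup.mem_center_iff.2 fun g => by
    obtain ⟨m, rfl⟩ := QuotientGroup.mk'_surjective L g
    obtain ⟨s, hs, j, i, rfl⟩ := hdec m
    refine (Commute.symm ?_).eq
    rw [map_mul, map_mul, map_pow, map_pow]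
    exact (((hde s hs).map π).mul_right ((hzE' d hdD.2).symm.pow_right j)).mul_right
      ((hzE d hdD.1).symm.pow_right i)
  set W := Fq.span (E2.map π)
  haveI hWn : W.Normal := span_normal hq2
  have hdW : dq ∈ W := by
    rw [hdq, commutatorElement_def]
    exact mul_mem (hWn.conj_mem _ hz' (π z)) (inv_mem hz')
  haveI hdn : (zpowers dq).Normal := PGroups.normal_of_le_center (zpowers_le.2 hdqc)
  set ρ := QuotientGroup.mk' (zpowers dq)
  have hρ : ∀ g, ρ g = 1 ↔ g ∈ zpowers dq := fun g => QuotientGroup.eq_one_iff g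
  have hzq : ∀ e ∈ E2.map π, Commute (ρ (π z)) (ρ e) := fun e he => by
    obtain ⟨t, ht, j, rfl⟩ := exists_dec hq1 (fun h' => hz'1 ((hmem1 z').1 h')) e
    rw [map_mul, map_pow]
    refine ((span_comm hz ht).map ρ).mul_right (Commute.pow_right ?_ j)
    rw [← commutatorElement_eq_one_iff_commute, ← map_commutatorElement, hρ, ← hdq]
    exact mem_zpowers dq
  have hz2q : π z ∉ E2.map π := fun h => hz2 ((hmem2 z).1 h)
  have hline : ∀ g, ∀ w ∈ W, ⁅g, w⁆ ∈ zpowers dq := fun g w hw => by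
    rw [← hρ, map_commutatorElement, commutatorElement_eq_one_iff_commute]
    obtain ⟨e, he, i, rfl⟩ := exists_dec hq2 hz2q g
    rw [map_mul, map_pow]
    exact (((span_comm hw he).symm).map ρ).mul_left ((hzq w (span_le hw)).pow_left i)
  -- the family cut down at `E2`
  set F1 := F.single h2 hG2
  have hI1 : ∀ E, F1.Ess E → F1.Inv L E := by
    rintro E (rfl : E = E2)
    exact fun α hα x hx => hI E h2 α (conjClosure_le h2 hα) x hx
  set Fq1 := F1.quot L hLc hLp gInv_om hI1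
  have hq12 : Fq1.Ess (E2.map π) := ⟨E2, rfl, rfl⟩
  have hmono : ∀ β ∈ Fq1.G (E2.map π), β ∈ Fq.G (E2.map π) := by
    intro β hβ
    obtain ⟨α, hα, he⟩ := exists_lift (F := F1) hX2 hβ
    obtain ⟨β', hβ', he'⟩ := exists_down (F := F) (X := E2.map π) hX2 (hI E2 h2) (conjClosure_le h2 hα)
    rwa [eq_of_rel hX2 (β := β) (β' := β') fun e h => (he e h).trans (he' e h).symm]
  obtain ⟨δ, ⟨γ, hγ, hδ⟩, hδd, hδW⟩ := exists_invert (F := Fq1) hq12 (W := W)
    (fun β hβ => inv_span β (hmono β hβ)) span_le (fun w hw e he => (span_comm hw he).symm)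
    (fun w hw => span_pow hw) hdq1 hdW hdqc hline (fun hinv => by
      refine no_series (F := Fq1) hq12 hz2q hinv (fun b hb => span_pow hb.1) (fun b hb _ => ?_) fun e he => ?_
      · rw [Subgroup.mem_center_iff.1 hb.2 (π z), mul_inv_cancel_right]
      · refine ⟨(zpowers_le.2 hdW) ?_, (zpowers_le.2 hdqc) ?_⟩ <;>
          rw [← hρ, map_mul, map_inv, map_mul, map_mul, map_inv, (hzq e he).eq, mul_inv_cancel_right,
            inv_mul_cancel])
  obtain ⟨hγΓ, β, hβ, hβe⟩ := mem_gammaOn.1 hγ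
  have hγL : ∀ l ∈ L, γ l = l := fun l hl => by
    rw [hβe ⟨l, om_le h2 hl⟩, fix_central h2 (hI E2 h2) hLc hβ ⟨l, om_le h2 hl⟩ hl]
  -- the action on the generators
  have hγz : γ z ∈ E1 := (hG1 γ hγΓ).le ⟨z, hz1, rfl⟩
  obtain ⟨t, ht2, i, hti⟩ := exists_dec h2 hz2 (γ z)
  have htD : t ∈ D := by
    refine ⟨?_, ht2⟩
    have := E1.mul_mem hγz (E1.inv_mem (E1.pow_mem hz1 i))
    rwa [hti, mul_inv_cancel_right] at this
  set e := γ z' * z'
  have hec : π e ∈ center (M ⧸ L) := by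
    have := hδW _ hz'
    rwa [hδ, ← map_mul] at this
  have heD : e ∈ D := ⟨(hmem1 e).1 (center_le hq1 hec), (hmem2 e).1 (center_le hq2 hec)⟩
  have hdqp : dq ^ p = 1 := span_pow hdW
  have hord : orderOf dq = p := orderOf_eq_prime hdqp hdq1
  have hi1 : i % p = 1 := by
    have h := hδd
    rw [hδ, show d = ⁅z, z'⁆ from rfl, map_commutatorElement, map_commutatorElement, hti,
      show γ z' = e * z'⁻¹ by simp [e], map_mul, map_mul, map_pow, map_inv] at h
    have hec' : ∀ g, Commute (π e) g := fun g => (Subgroup.mem_center_iff.1 hec g).symm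
    have hzt : Commute (π t) (π z ^ i) := (hzE t htD.1).symm.pow_right i
    rw [commutator_mul_of_commute (hec' (π t)).symm hzt ((hzE' t htD.2).symm.inv_right) (hec' _)
      (hec' _)] at h
    have e'' : ⁅(π z')⁻¹, π z⁆ = dq := by
      rw [show ⁅(π z')⁻¹, π z⁆ = (π z')⁻¹ * ⁅π z, π z'⁆ * π z' by simp only [commutatorElement_def]; group,
        ← hdq, Subgroup.mem_center_iff.1 hdqc, inv_mul_cancel_right]
    have hc : ∀ g, Commute ⁅(π z')⁻¹, π z⁆ g := fun g => e''.symm ▸ (Subgroup.mem_center_iff.1 hdqc g).symm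
    rw [← commutatorElement_inv (π z')⁻¹ (π z ^ i), comm_pow_of_central hc, e'', inv_inj] at h
    have h' := (pow_eq_pow_iff_modEq (x := dq) (n := i) (m := 1)).1 (by rw [h, pow_one])
    rw [hord, Nat.ModEq, Nat.mod_eq_of_lt hp.out.one_lt] at h'
    exact h'
  -- the commutator with `z`
  set l := ⁅d, z⁆
  have hlL : l ∈ L := (hπ _).1 (by
    rw [map_commutatorElement, commutatorElement_eq_one_iff_commute]
    exact (hzE d hdD.1).symm)
  have hlc : ∀ g, Commute l g := fun g => ((mem_om.1 hlL).1 g).symm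
  obtain ⟨l0, hl0, hγd⟩ : ∃ l0 ∈ L, γ d = l0 * d⁻¹ := by
    refine ⟨γ d * d, (hπ _).1 ?_, by group⟩
    have h := hδd
    rw [hδ] at h
    rw [map_mul, h, inv_mul_cancel]
  have hl0c : ∀ g, Commute l0 g := fun g => ((mem_om.1 hl0).1 g).symm
  have hγl : γ l = (l⁻¹) ^ i := by
    have e1 : ∀ g, ⁅l0 * d⁻¹, g⁆ = ⁅d⁻¹, g⁆ := fun g => by
      rw [show ⁅l0 * d⁻¹, g⁆ = l0 * ⁅d⁻¹, g⁆ * l0⁻¹ * ⁅l0, g⁆ by simp only [commutatorElement_def]; group,
        commutatorElement_eq_one_iff_commute.2 (hl0c g), mul_one, (hl0c _).eq, mul_inv_cancel_right]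
    have e2 : ⁅d⁻¹, z⁆ = l⁻¹ := by
      rw [show ⁅d⁻¹, z⁆ = d⁻¹ * l⁻¹ * d by simp only [l, commutatorElement_def]; group,
        ← ((hlc d⁻¹).inv_left).eq, inv_mul_cancel_right]
    have e3 : ∀ g, Commute ⁅d⁻¹, z⁆ g := fun g => e2 ▸ (hlc g).inv_left
    have e4 : γ l = ⁅d⁻¹, t * z ^ i⁆ := by
      rw [show γ l = ⁅γ d, γ z⁆ from map_commutatorElement γ d z, hγd, hti, e1]
    rw [e4, show ⁅d⁻¹, t * z ^ i⁆ = ⁅d⁻¹, t⁆ * (t * ⁅d⁻¹, z ^ i⁆ * t⁻¹) by
        simp only [commutatorElement_def]; group,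
      commutatorElement_eq_one_iff_commute.2 (hde t htD).inv_left, one_mul, comm_pow_of_central e3, e2,
      ← (((hlc t).inv_left).pow_left i).eq, mul_inv_cancel_right]
  have hlp : l ^ p = 1 := hLp l hlL
  rw [hγL l hlL, pow_eq_pow_mod i (by rw [inv_pow, hlp, inv_one] : l⁻¹ ^ p = 1), hi1, pow_one] at hγl
  have hl2 : l ^ 2 = 1 := by rw [pow_two]; exact eq_inv_iff_mul_eq_one.1 hγl
  rw [← commutatorElement_eq_one_iff_commute]
  show l = 1
  rw [← orderOf_eq_one_iff]
  exact Nat.eq_one_of_dvd_coprimes ((Nat.coprime_primes hp.out Nat.prime_two).2 F.odd)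
    (orderOf_dvd_of_pow_eq_one hlp) (orderOf_dvd_of_pow_eq_one hl2)

end Fam

end Cfsg.Agent.H91.Rank3
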