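import Cfsg.Agent.H91.Rank3.ConjClosure
import Cfsg.Agent.H91.Rank3.CaseTwoPair

/-!
Small tools for pairs of members.
-/

set_option autoImplicit false
set_option linter.unusedSectionVars false
set_option linter.style.haveILetI false

namespace Cfsg.Agent.H91.Rank3

open Subgroup
open scoped commutatorElement

/-- Two commuting abelian subgroups generate an abelian subgroup. -/
theorem commute_sup {G : Type*} [Group G] {A B : Subgroup G} (hA : ∀ x ∈ A, ∀ y ∈ A, Commute x y)
    (hB : ∀ x ∈ B, ∀ y ∈ B, Commute x y) (hAB : ∀ x ∈ A, ∀ y ∈ B, Commute x y) :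
    ∀ x ∈ A ⊔ B, ∀ y ∈ A ⊔ B, Commute x y := by
  have h1 : A ≤ centralizer ((A ⊔ B : Subgroup G) : Set G) := Subgroup.le_centralizer_iff.1 (sup_le
    (fun x hx => Subgroup.mem_centralizer_iff.2 fun y hy => (hA y hy x hx).eq)
    (fun x hx => Subgroup.mem_centralizer_iff.2 fun y hy => (hAB y hy x hx).eq))
  have h2 : B ≤ centralizer ((A ⊔ B : Subgroup G) : Set G) := Subgroup.le_centralizer_iff.1 (sup_le
    (fun x hx => Subgroup.mem_centralizer_iff.2 fun y hy => (hAB x hx y hy).symm.eq)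
    (fun x hx => Subgroup.mem_centralizer_iff.2 fun y hy => (hB y hy x hx).eq))
  exact fun x hx y hy => Subgroup.mem_centralizer_iff.1 (sup_le h1 h2 hy) x hx

/-- Exponent `p` passes to the join of commuting subgroups. -/
theorem pow_sup {G : Type*} [Group G] {p : ℕ} {A B : Subgroup G}
    (hc : ∀ x ∈ A ⊔ B, ∀ y ∈ A ⊔ B, Commute x y) (hA : ∀ x ∈ A, x ^ p = 1) (hB : ∀ x ∈ B, x ^ p = 1) :
    ∀ x ∈ A ⊔ B, x ^ p = 1 := by
  let K : Subgroup G :=
    { carrier := {x | x ∈ A ⊔ B ∧ x ^ p = 1}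
      one_mem' := ⟨one_mem _, one_pow _⟩
      mul_mem' := fun {x y} hx hy => ⟨mul_mem hx.1 hy.1, by
        rw [(hc x hx.1 y hy.1).mul_pow, hx.2, hy.2, one_mul]⟩
      inv_mem' := fun {x} hx => ⟨inv_mem hx.1, by rw [inv_pow, hx.2, inv_one]⟩ }
  exact fun x hx => ((sup_le (fun a ha => ⟨mem_sup_left ha, hA a ha⟩)
    (fun b hb => ⟨mem_sup_right hb, hB b hb⟩) : A ⊔ B ≤ K) hx).2

/-- The powers of one element commute. -/
theorem commute_zpowers {G : Type*} [Group G] (a : G) : ∀ x ∈ zpowers a, ∀ y ∈ zpowers a, Commute x y := by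
  rintro _ ⟨i, rfl⟩ _ ⟨j, rfl⟩
  exact (Commute.refl a).zpow_zpow i j

/-- The powers of an element of order dividing `n`. -/
theorem pow_zpowers {G : Type*} [Group G] {a : G} {n : ℕ} (ha : a ^ n = 1) : ∀ x ∈ zpowers a, x ^ n = 1 := by
  rintro _ ⟨i, rfl⟩
  simp only
  rw [← zpow_natCast, ← zpow_mul, mul_comm, zpow_mul, zpow_natCast, ha, one_zpow]

/-- The product formula for orders with a normal factor. -/
theorem card_mul_le_sup {M : Type*} [Group M] [Finite M] (A B : Subgroup M) [A.Normal] :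
    Nat.card A * Nat.card B ≤ Nat.card (A ⊔ B : Subgroup M) * Nat.card (A ⊓ B : Subgroup M) := by
  have h1 := card_mul_relIndex (le_sup_left : A ≤ A ⊔ B)
  have h2 := card_mul_relIndex (inf_le_right : A ⊓ B ≤ B)
  rw [sup_comm A B, Subgroup.relIndex_sup_right, sup_comm B A] at h1
  rw [Subgroup.inf_relIndex_right] at h2
  exact le_of_eq (by rw [← h1, ← h2]; ring)

/-- An automorphism mapping a finite subgroup into itself restricts to it. -/
theorem exists_restrict {A : Type*} [Group A] {K : Subgroup A} [Finite K] (α : MulAut A)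
    (h : ∀ x ∈ K, α x ∈ K) : ∃ δ : MulAut K, ∀ y : K, (δ y : A) = α y := by
  let f : K →* K := MonoidHom.mk' (fun y => ⟨α y, h y y.2⟩) fun a b => Subtype.ext (map_mul α (a : A) b)
  have hf : Function.Injective f := fun a b hab => Subtype.ext (α.injective (congrArg Subtype.val hab))
  exact ⟨MulEquiv.ofBijective f (Finite.injective_iff_bijective.1 hf), fun y => rfl⟩

namespace Fam

variable {M : Type*} [Group M] [Finite M] {p : ℕ} [hp : Fact p.Prime] {F : Fam p M} {E : Subgroup M}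

/-- A `p'`-element of the closure fixing an invariant subgroup fixes an invariant one larger by at most `p`. -/
theorem fix_step (hE : F.Ess E) {A B : Subgroup M} (hA : F.Inv A E) (hB : F.Inv B E) (hAB : A ≤ B) (hBE : B ≤ E)
    (hc : Nat.card B ≤ p * Nat.card A) {τ : MulAut E} (hτ : τ ∈ F.conjClosure E) {m : ℕ} (hm : m.Coprime p)
    (hτm : τ ^ m = 1) (hfix : ∀ a : E, (a : M) ∈ A → τ a = a) : ∀ b : E, (b : M) ∈ B → τ b = b := by
  intro b hb
  haveI hAn := Inv.normal hE hA (hAB.trans hBE)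
  haveI := Inv.normal hE hB hBE
  have h1 := trivial_layer hE hB hA (fun m' b' hb' => comm_mem_of_card_le F.isP hAB hc m' hb') hτ b hb
  refine fix_of_diff_fix (F.isP.to_subgroup E) hm hτm (hfix _ ?_)
  have h2 := hAn.conj_mem' _ h1 b
  rwa [Subgroup.coe_mul, Subgroup.coe_inv,
    show (b : M)⁻¹ * ((τ b : M) * (b : M)⁻¹) * b = (b : M)⁻¹ * (τ b : M) by group] at h2

end Fam

end Cfsg.Agent.H91.Rank3
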