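import Cfsg.Agent.H91.Rank3.Normal
import Cfsg.Agent.H91.Rank3.Clash
import Cfsg.Agent.H49.OrderFourth

/-!
A saturated system with trivial core on a `p`-group of sectional rank three has a small essential subgroup.
-/

set_option autoImplicit false
set_option linter.unusedSectionVars false
set_option linter.style.haveILetI false

namespace Cfsg.Agent.H91.Rank3

open Subgroup
open Cfsg Cfsg.FusionSystem Cfsg.Agent.FusionSys
open Cfsg.FusionSystem (centralizerIn normalizerIn)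
open scoped commutatorElement

universe u

variable {Ω : Type u} [Group Ω] {S : Subgroup Ω} [Finite S] {p : ℕ} [hp : Fact p.Prime] {F : FusionSystem S}

/-- The third kind, relative to any overgroup. -/
def EssB (p : ℕ) [Fact p.Prime] (F : FusionSystem S) (E N : Subgroup Ω) : Prop :=
  ∃ (hle : E ≤ N) (t : MulAut N) (n w c : N) (l : (ZMod p)ˣ), t ∈ F.autGroup N ∧ BData p t n w c l ∧
    c ∈ E.subgroupOf N ∧ ∀ ω ∈ F.autGroup E, ∀ x : E, Subgroup.inclusion hle x = c →
      Subgroup.inclusion hle (ω x) ∈ zpowers c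

/-- Two-generator data moves only with the subgroup. -/
theorem rankTwo_conj {E N : Subgroup Ω} [Finite N] (hEN : E ≤ N) (D : RankTwoData p (E.subgroupOf N))
    (hN : IsPGroup p N) (hsr : Cfsg.SectionalPRankLE p 3 N) (hp2 : p ≠ 2) {x : Ω}
    (hx : x ∈ Subgroup.normalizer (N : Set Ω)) : x ∈ Subgroup.normalizer (E : Set Ω) := by
  haveI : Finite E := finite_of_le hEN
  obtain ⟨cx, hcx⟩ : ∃ cx : MulAut N, ∀ z : N, ((cx z : N) : Ω) = x * (z : Ω) * x⁻¹ :=
    ⟨conjAut hx, fun z => coe_conjAut hx z⟩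
  have h := D.eq_of_data hN (D.map cx) hsr hp2
  refine mem_normalizer_of_maps fun y hy => ?_
  have h1 := Subgroup.mem_map_of_mem (cx : N ≃* N).toMonoidHom (K := E.subgroupOf N) (x := ⟨y, hEN hy⟩)
    (Subgroup.mem_subgroupOf.2 hy)
  rw [h, Subgroup.mem_subgroupOf, MulEquiv.coe_toMonoidHom, hcx] at h1
  exact h1

/-- An automorphism mapping a subgroup into itself fixes it. -/
theorem image_eq_of_mem {P Q : Subgroup Ω} (hP : P ≤ S) (hQ : Q ≤ P) {α : MulAut P} (hα : α ∈ F.autGroup P)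
    (h : ∀ x ∈ Q, autMap α x ∈ Q) : autMap α '' (Q : Set Ω) = Q := by
  haveI := finite_of_le (hQ.trans hP)
  exact (((mem_autGroup_iff hP).1 hα).mono hQ).image_eq_of_mapsTo h

/-- A normal subgroup in a system with trivial core is trivial. -/
theorem eq_bot_of_isNormal (hO : F.core = ⊥) {Q : Subgroup Ω} (hQ : F.IsNormal Q) : Q = ⊥ :=
  le_bot_iff.1 (hO ▸ le_sSup (show Q ∈ {R : Subgroup Ω | F.IsNormal R} from hQ))

/-- Each essential subgroup is small, or normal of one of three kinds. -/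
theorem essential_cases (hS : IsPGroup p S) (hF : F.IsSaturated p) (h5 : 5 ≤ p)
    (hsr : Cfsg.SectionalPRankLE p 3 S) {E : Subgroup Ω} (hE : F.IsEssential p E) :
    ((Cfsg.IsElementaryAbelian p E ∧ Nat.card E = p ^ 2) ∨
        (Cfsg.IsExtraspecial p E ∧ Nat.card E = p ^ 3 ∧ ∀ x ∈ E, x ^ p = 1)) ∨
      RegularData p (E.subgroupOf S) ∨ RankTwoData p (E.subgroupOf S) ∨ EssB p F E S := by
  have hES := hE.1.1
  have hle := le_normalizerIn_self (S := S) hES
  have hp2 : p ≠ 2 := by omega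
  haveI : Finite E := finite_of_le hES
  haveI : Finite (normalizerIn S E) := finite_of_le normalizerIn_le
  rcases kinds hS hF h5 hsr hE hle with ⟨DA, h3⟩ | ⟨-, h2⟩ | ⟨h3, t, n, w, c, l, ht, D, hcl, -, hinv⟩
  · rw [normal_of_rank_three hS hF h5 hsr hE h3] at DA
    exact Or.inr (Or.inl DA)
  · have hcard : Nat.card (E.subgroupOf (normalizerIn S E)) = Nat.card E :=
      Nat.card_congr (Subgroup.subgroupOfEquivOfLe hle).toEquiv
    have hmem : ∀ {x : Ω} (hx : x ∈ E), (⟨x, hle hx⟩ : normalizerIn S E) ∈ E.subgroupOf (normalizerIn S E) :=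
      fun {x} hx => Subgroup.mem_subgroupOf.2 hx
    rcases h2 with ⟨hc, hab, hexp⟩ | ⟨hc, ⟨x, hx, y, hy, hna⟩, hexp⟩ | D
    · refine Or.inl (Or.inl ⟨⟨⟨⟨fun a b => Subtype.ext ?_⟩⟩, fun a ha => ?_⟩, hcard ▸ hc⟩)
      · exact (congrArg Subtype.val (hab _ (hmem a.2) _ (hmem b.2)).eq :)
      · exact congrArg Subtype.val (hexp _ (hmem ha))
    · refine Or.inl (Or.inr ⟨H49.extraspecial_of_card_cube (hcard ▸ hc) fun h => hna ?_, hcard ▸ hc,
        fun a ha => congrArg Subtype.val (hexp _ (hmem ha))⟩)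
      exact Subtype.ext (congrArg Subtype.val (h ⟨x, Subgroup.mem_subgroupOf.1 hx⟩ ⟨y, Subgroup.mem_subgroupOf.1 hy⟩) :)
    · have hNS : normalizerIn S E = S := by
        by_contra hne
        obtain ⟨x, hx, hxN⟩ := SetLike.exists_of_lt
          (FusionSys.lt_normalizerIn hS (lt_of_le_of_ne normalizerIn_le hne))
        exact hxN ⟨hx.1, rankTwo_conj hle D (hS.to_le normalizerIn_le)
          (sectional_of_injective (Subgroup.inclusion normalizerIn_le) (Subgroup.inclusion_injective _) hsr)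
          hp2 hx.2⟩
      rw [hNS] at D
      exact Or.inr (Or.inr (Or.inl D))
  · have hB : EssB p F E (normalizerIn S E) :=
      ⟨hle, t, n, w, c, l, ht, D, hcl ▸ Subgroup.subset_closure (by simp), hinv⟩
    rw [normal_of_rank_three hS hF h5 hsr hE h3] at hB
    exact Or.inr (Or.inr (Or.inr hB))

/-- There is a small essential subgroup. -/
theorem has_pearl (hS : IsPGroup p S) (hF : F.IsSaturated p) (h5 : 5 ≤ p)
    (hsr : Cfsg.SectionalPRankLE p 3 S ∧ ¬ Cfsg.SectionalPRankLE p 2 S) (hO : F.core = ⊥) :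
    ∃ E : Subgroup Ω, (F.IsEssential p E ∧ ((Cfsg.IsElementaryAbelian p E ∧ Nat.card E = p ^ 2) ∨
        (Cfsg.IsExtraspecial p ↥E ∧ Nat.card E = p ^ 3 ∧ ∀ x ∈ E, x ^ p = 1))) := by
  by_contra hno
  push Not at hno
  have hp2 : p ≠ 2 := by omega
  have hSne : S ≠ ⊥ := by
    intro h
    refine hsr.2 fun H N _ A _ _ => ?_
    haveI : Subsingleton S := by rw [h]; infer_instance
    haveI : Subsingleton (H ⧸ N) := inferInstance
    rw [Nat.card_unique]
    exact Nat.one_le_pow _ _ hp.out.pos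
  have hall : ∀ P, F.IsEssential p P →
      RegularData p (P.subgroupOf S) ∨ RankTwoData p (P.subgroupOf S) ∨ EssB p F P S := fun P hP =>
    (essential_cases hS hF h5 hsr.1 hP).resolve_left fun h => by
      rcases h with ⟨h1, h2⟩ | ⟨h1, h2, h3⟩
      · exact (hno P hP).1 h1 h2
      · obtain ⟨x, hx, hne⟩ := (hno P hP).2 h1 h2
        exact hne (h3 x hx)
  -- an essential subgroup of the first two kinds is the only one
  have huniq : ∀ E0, F.IsEssential p E0 →
      (RegularData p (E0.subgroupOf S) ∨ RankTwoData p (E0.subgroupOf S)) → False := by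
    intro E0 hE0 h0
    have hES := hE0.1.1
    have hinj : ∀ {P}, F.IsEssential p P → P.subgroupOf S = E0.subgroupOf S → P = E0 := fun {P} hP h => by
      have := Subgroup.subgroupOf_inj.1 h
      rwa [inf_eq_left.2 hP.1.1, inf_eq_left.2 hES] at this
    have huni : ∀ P, F.IsEssential p P → P = E0 := fun P hP => by
      refine hinj hP ?_
      rcases hall P hP with hA | hR | ⟨-, t, n, w, c, l, -, D, -, -⟩ <;> rcases h0 with h | h
      · exact h.eq_of_regular hS hsr.1 h5 hA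
      · exact (hA.not_rankTwo h hS hsr.1 h5).elim
      · exact (h.not_rankTwo hR hS hsr.1 h5).elim
      · exact h.eq_of_data hS hR hsr.1 hp2
      · exact (D.not_regular hS h).elim
      · exact (D.not_rankTwo hS h).elim
    have hbot : E0 = ⊥ := eq_bot_of_isNormal hO (isNormal_of_essential hS hF fun P hP => by
      rcases hP with rfl | hP
      · refine ⟨hES, fun α hα => image_eq_of_mem le_rfl hES hα fun x hx => ?_⟩
        have hm : (E0.subgroupOf P).map (α : P ≃* P).toMonoidHom = E0.subgroupOf P := by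
          rcases h0 with h | h
          · exact h.eq_of_mulEquiv hS hsr.1 h5 ((Subgroup.index_map_equiv _ _).trans h.index)
              ((E0.subgroupOf P).equivMapOfInjective _ (α : P ≃* P).injective).symm
          · exact h.eq_of_data hS (h.map α) hsr.1 hp2
        rw [autMap_apply _ (hES hx)]
        exact Subgroup.mem_subgroupOf.1 (hm.le ⟨⟨x, hES hx⟩, Subgroup.mem_subgroupOf.2 hx, rfl⟩)
      · obtain rfl := huni P hP
        exact ⟨le_rfl, fun α hα => image_autMap α⟩)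
    apply hSne
    have hc := centralizerIn_le_of_isCentric hE0.1
    subst hbot
    refine le_bot_iff.1 fun x hx => hc (FusionSys.mem_centralizerIn.2 ⟨hx, fun y hy => ?_⟩)
    rw [Subgroup.mem_bot.1 hy, one_mul, mul_one]
  by_cases hex : ∃ E0, F.IsEssential p E0
  swap
  · refine hSne (eq_bot_of_isNormal hO (isNormal_of_essential hS hF fun P hP => ?_))
    rcases hP with rfl | hP
    · exact ⟨le_rfl, fun α _ => image_autMap α⟩
    · exact absurd ⟨P, hP⟩ hex
  have hB : ∀ P, F.IsEssential p P → EssB p F P S := fun P hP =>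
    (hall P hP).elim (fun h => (huniq P hP (Or.inl h)).elim)
      fun h => h.elim (fun h => (huniq P hP (Or.inr h)).elim) id
  obtain ⟨E0, hE0⟩ := hex
  obtain ⟨-, t, n, w, c, l, ht, D, -, -⟩ := hB E0 hE0
  haveI := finite_autGroup F (le_refl S)
  -- powers prime to `p` of automorphisms of `S` are inner
  obtain ⟨-, R, hR⟩ := isFullyAutomized_of_isFullyNormalized hS hF (isFullyNormalized_S F)
  haveI : (R : Subgroup (F.autGroup S)).Normal := by
    rw [hR, ← inn_eq_autInducedBy_self]; exact inn_subgroupOf_normal S _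
  have hfix : ∀ γ ∈ F.autGroup S, ∀ x : S, (∀ g, Commute x g) →
      (γ ^ (R : Subgroup (F.autGroup S)).index) x = x := by
    intro γ hγ x hx
    have h := Subgroup.pow_index_mem (R : Subgroup (F.autGroup S)) ⟨γ, hγ⟩
    generalize (R : Subgroup (F.autGroup S)).index = r at h ⊢
    rw [hR, Subgroup.mem_subgroupOf, ← inn_eq_autInducedBy_self] at h
    obtain ⟨g, hg⟩ := h
    rw [show γ ^ _ = MulAut.conj g from hg.symm, MulAut.conj_apply, ← (hx g).eq, mul_inv_cancel_right]
  -- the invariant cyclic subgroup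
  obtain ⟨q, hqne, hqinv, hqP⟩ : ∃ q : S, q ≠ 1 ∧ (∀ α ∈ F.autGroup S, α q ∈ zpowers q) ∧
      ∀ {t₁ : MulAut S} {n₁ w₁ c₁ : S} {l₁ : (ZMod p)ˣ}, t₁ ∈ F.autGroup S → BData p t₁ n₁ w₁ c₁ l₁ →
        ∃ k : ℕ, zpowers q = zpowers (c₁ ^ k) := by
    have hsub : ∀ {t₁ : MulAut S} {n₁ w₁ c₁ : S} {l₁ : (ZMod p)ˣ}, BData p t₁ n₁ w₁ c₁ l₁ →
        zpowers (c ^ p) = zpowers (c₁ ^ p) := fun D₁ =>
      le_antisymm (zpowers_le.2 (D₁.pow_mem hp2 c)) (zpowers_le.2 (D.pow_mem hp2 _))
    have hne : ∀ {t₁ : MulAut S} {n₁ w₁ c₁ : S} {l₁ : (ZMod p)ˣ}, BData p t₁ n₁ w₁ c₁ l₁ → c₁ ≠ 1 :=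
      fun D₁ h => D₁.index_step.2.2.2 (by rw [h]; exact one_mem _)
    by_cases hD : c ^ p = 1
    · refine ⟨c, hne D, fun α hα => D.fixed_line hD h5 (F.autGroup S) ht R.not_dvd_index
        (fun γ hγ => hfix γ hγ c D.cc) hα, fun {t₁ n₁ w₁ c₁ l₁} ht₁ D₁ => ⟨1, ?_⟩⟩
      have hD₁ : c₁ ^ p = 1 := by
        rw [← Subgroup.zpowers_eq_bot, ← hsub D₁, hD, Subgroup.zpowers_one_eq_bot]
      rw [pow_one]
      refine (Subgroup.eq_of_le_of_card_ge (zpowers_le.2 (D.same_line hD h5 D₁ hD₁ (F.autGroup S) ht ht₁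
        R.not_dvd_index fun γ hγ => hfix γ hγ c₁ D₁.cc)) ?_).symm
      rw [Nat.card_zpowers, Nat.card_zpowers, orderOf_eq_prime hD (hne D), orderOf_eq_prime hD₁ (hne D₁)]
    · exact ⟨c ^ p, hD, fun α _ => (D.invariant hp2 α).1 _ (mem_zpowers _), fun _ D₁ => ⟨p, hsub D₁⟩⟩
  set Q := (zpowers q).map S.subtype with hQ
  have hQS : Q ≤ S := map_subtype_le _
  have hQbot : Q = ⊥ := eq_bot_of_isNormal hO (isNormal_of_essential hS hF fun P hP => by
    rcases hP with rfl | hP
    · refine ⟨hQS, fun α hα => image_eq_of_mem le_rfl hQS hα ?_⟩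
      rintro _ ⟨x, ⟨i, rfl⟩, rfl⟩
      refine ⟨α (q ^ i), ?_, (autMap_coe α (q ^ i)).symm⟩
      rw [map_zpow]
      exact zpow_mem (hqinv α hα) i
    · obtain ⟨hPS, t₁, n₁, w₁, c₁, l₁, ht₁, D₁, hc₁, hinv⟩ := hB P hP
      obtain ⟨k, hk⟩ := hqP ht₁ D₁
      set x : P := ⟨c₁, Subgroup.mem_subgroupOf.1 hc₁⟩
      have hQP : Q ≤ P := by
        rw [hQ, hk, MonoidHom.map_zpowers, zpowers_le, map_pow]
        exact Subgroup.pow_mem _ x.2 k
      refine ⟨hQP, fun α hα => image_eq_of_mem hP.1.1 hQP hα fun y hy => ?_⟩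
      rw [hQ, hk] at hy
      obtain ⟨_, ⟨i, rfl⟩, rfl⟩ := hy
      rw [hQ, hk]
      obtain ⟨j, hj⟩ := hinv α hα x (Subtype.ext rfl)
      refine ⟨((c₁ ^ j) ^ k) ^ i, zpow_mem ?_ i, ?_⟩
      · refine ⟨j, ?_⟩
        simp only [← zpow_natCast]
        rw [← zpow_mul, ← zpow_mul, mul_comm]
      · have h1 : S.subtype ((c₁ ^ k) ^ i) = ((x ^ k) ^ i : P) := by simp [x]
        rw [h1, autMap_coe, map_zpow, map_pow, show c₁ ^ j = Subgroup.inclusion hPS (α x) from hj]
        simp)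
  rw [hQ, MonoidHom.map_zpowers, Subgroup.zpowers_eq_bot] at hQbot
  exact hqne (Subtype.ext hQbot)

end Cfsg.Agent.H91.Rank3
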