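import Cfsg.Agent.H91.Rank3.Image
import Cfsg.Agent.H91.Rank3.RankTwo
import Cfsg.Agent.FusionSys.Normal
import Cfsg.Agent.H91.Small.Essential

/-!
An essential subgroup in a `p`-group of sectional rank three has index `p` in its normalizer, where it is
regular or has a torus.
-/

set_option autoImplicit false
set_option linter.unusedSectionVars false
set_option linter.style.haveILetI false

namespace Cfsg.Agent.H91.Rank3

open Subgroup
open Cfsg Cfsg.FusionSystem Cfsg.Agent.FusionSys
open Cfsg.FusionSystem (centralizerIn normalizerIn)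
open Cfsg.Agent.H49 (frattiniQuot frattiniQuot_mk)
open scoped commutatorElement

section Transport

variable {p : ℕ} {G : Type*} [Group G]

/-- The sectional rank passes to embedded groups. -/
theorem sectional_of_injective {M : Type*} [Group M] {k : ℕ} (f : M →* G) (hf : Function.Injective f)
    (h : Cfsg.SectionalPRankLE p k G) : Cfsg.SectionalPRankLE p k M := by
  intro H N hN A hA hexp
  let e := H.equivMapOfInjective f hf
  haveI : (N.map e.toMonoidHom).Normal := hN.map _ e.surjective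
  let q := QuotientGroup.congr N (N.map e.toMonoidHom) e rfl
  haveI := hA
  have h1 := h (H.map f) (N.map e.toMonoidHom) (A.map q.toMonoidHom) inferInstance (by
    rintro _ ⟨a, ha, rfl⟩
    rw [← map_pow, hexp a ha, map_one])
  rwa [Subgroup.card_map_of_injective (f := q.toMonoidHom) q.injective] at h1

variable {Ω : Type*} [Group Ω] {E N : Subgroup Ω}

/-- An automorphism of a subgroup, on its copy inside a larger one. -/
noncomputable def liftFun (hle : E ≤ N) (α : MulAut E) : ↥N → ↥N :=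
  autMap (P := E.subgroupOf N)
    (((Subgroup.subgroupOfEquivOfLe hle).trans α).trans (Subgroup.subgroupOfEquivOfLe hle).symm)

theorem liftFun_incl (hle : E ≤ N) (α : MulAut E) (x : E) :
    liftFun hle α (Subgroup.inclusion hle x) = Subgroup.inclusion hle (α x) := by
  have h : liftFun hle α (((Subgroup.subgroupOfEquivOfLe hle).symm x : E.subgroupOf N) : N) =
      (((Subgroup.subgroupOfEquivOfLe hle).symm (α x) : E.subgroupOf N) : N) := by
    unfold liftFun
    rw [autMap_coe, MulEquiv.trans_apply, MulEquiv.trans_apply, MulEquiv.apply_symm_apply]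
  exact h

theorem autOn_liftFun (hle : E ≤ N) (α : MulAut E) : AutOn (E.subgroupOf N) (liftFun hle α) :=
  autOn_mulAut _ _ fun x => autMap_coe _ x

theorem incl_mem (hle : E ≤ N) (x : E) : Subgroup.inclusion hle x ∈ E.subgroupOf N :=
  Subgroup.mem_subgroupOf.2 x.2

theorem exists_incl (hle : E ≤ N) {y : N} (hy : y ∈ E.subgroupOf N) :
    ∃ x : E, Subgroup.inclusion hle x = y :=
  ⟨⟨y, Subgroup.mem_subgroupOf.1 hy⟩, Subtype.ext rfl⟩

theorem frattini_map_incl [Fact p.Prime] [Finite E] (hle : E ≤ N) (hE : IsPGroup p E) :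
    (frattini E).map (Subgroup.inclusion hle) = pser p (E.subgroupOf N) 1 := by
  have htop : (⊤ : Subgroup E).map (Subgroup.inclusion hle) = E.subgroupOf N := by
    ext y
    exact ⟨fun ⟨x, _, hx⟩ => hx ▸ incl_mem hle x, fun hy => (exists_incl hle hy).imp fun x hx => ⟨mem_top x, hx⟩⟩
  have h0 : pser p (⊤ : Subgroup E) 1 = frattini E := by
    rw [PGroups.frattini_eq hE, _root_.commutator_def]
    show ⁅(⊤ : Subgroup E), (⊤ : Subgroup E)⁆ ⊔ Cfsg.powerClosure p 1 (⊤ : Subgroup E) = _
    rw [Cfsg.powerClosure]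
    congr 2
    ext y
    constructor
    · rintro ⟨x, -, rfl⟩
      exact ⟨x, by simp⟩
    · rintro ⟨x, rfl⟩
      exact ⟨x, mem_top x, by simp⟩
  rw [← h0, pser_map, htop]

theorem incl_mem_pser_one [Fact p.Prime] [Finite E] (hle : E ≤ N) (hE : IsPGroup p E) (x : E) :
    Subgroup.inclusion hle x ∈ pser p (E.subgroupOf N) 1 ↔ x ∈ frattini E := by
  rw [← frattini_map_incl hle hE]
  exact Subgroup.mem_map_iff_mem (Subgroup.inclusion_injective hle)

end Transport

universe u

variable {Ω : Type u} [Group Ω] {S : Subgroup Ω} [Finite S] {p : ℕ} [hp : Fact p.Prime] {F : FusionSystem S}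

/-- The conclusion for one essential subgroup. -/
def Classified (p : ℕ) [Fact p.Prime] (F : FusionSystem S) (E : Subgroup Ω) (hle : E ≤ normalizerIn S E) : Prop :=
  (RegularData p (E.subgroupOf (normalizerIn S E)) ∧ (frattini E).index = p ^ 3) ∨
    ∃ (t : MulAut (normalizerIn S E)) (s : ↥(normalizerIn S E) → ↥(normalizerIn S E))
      (n a w c : ↥(normalizerIn S E)) (l : (ZMod p)ˣ),
      t ∈ F.autGroup (normalizerIn S E) ∧ Torus p (E.subgroupOf (normalizerIn S E)) t s n a w c l ∧
        ((c = 1 ∧ (frattini E).index = p ^ 2) ∨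
          (c ∉ pser p (E.subgroupOf (normalizerIn S E)) 1 ∧ (frattini E).index = p ^ 3)) ∧
        ∀ ω ∈ F.autGroup E, ∀ x : E, Subgroup.inclusion hle x = c →
          Subgroup.inclusion hle (ω x) ∈ zpowers c ⊔ pser p (E.subgroupOf (normalizerIn S E)) 1

/-- An essential subgroup has index `p` in its normalizer and is regular or has a torus. -/
theorem classify (hS : IsPGroup p S) (hF : F.IsSaturated p) (h5 : 5 ≤ p)
    (hsr : Cfsg.SectionalPRankLE p 3 S) {E : Subgroup Ω} (hE : F.IsEssential p E)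
    (hle : E ≤ normalizerIn S E) :
    (E.subgroupOf (normalizerIn S E)).index = p ∧ Classified p F E hle := by
  classical
  obtain ⟨⟨hES, hcen⟩, hEn, hn, Y0, hY0⟩ := id hE
  haveI : Finite E := finite_of_le hES
  haveI : Finite (normalizerIn S E) := finite_of_le normalizerIn_le
  haveI := finite_autGroup F hES
  have hEp : IsPGroup p E := hS.to_le hES
  have hC : centralizerIn S E ≤ E := centralizerIn_le_of_isCentric hE.1
  set G := F.autGroup E with hG
  set fq := frattiniQuot E with hfq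
  set π := QuotientGroup.mk' (frattini E) with hπ
  have hone : ∀ {x : E}, π x = 1 ↔ x ∈ frattini E := fun {x} => QuotientGroup.eq_one_iff x
  have hdiv : ∀ {x y : E}, π x = π y ↔ x⁻¹ * y ∈ frattini E := fun {x y} => QuotientGroup.eq
  have happ : ∀ (ω : MulAut E) (x : E), π (ω x) = fq ω (π x) := fun ω x => (frattiniQuot_mk ω x).symm
  set I := (Inn E).subgroupOf G
  have hfqinn : ∀ ω ∈ Inn E, fq ω = 1 := by
    rintro _ ⟨e, rfl⟩
    refine MulEquiv.ext fun v => ?_
    obtain ⟨x, rfl⟩ := QuotientGroup.mk'_surjective (frattini E) v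
    rw [← happ, MulAut.conj_apply, MulAut.one_apply, hπ]
    refine (QuotientGroup.eq.2 ?_).symm
    rw [show x⁻¹ * (e * x * e⁻¹) = ⁅x⁻¹, e⁆ by rw [commutatorElement_def]; group]
    exact PGroups.commutator_le_frattini hEp (commutator_mem_commutator (mem_top _) (mem_top _))
  -- the kernel on the Frattini quotient consists of inner automorphisms
  have hkerI : ∀ g : G, fq (g : MulAut E) = 1 → g ∈ I := fun g hg => by
    have hle' : ((fq.comp G.subtype).ker : Subgroup G) ≤ pCore p G :=
      le_sSup (show (fq.comp G.subtype).ker ∈ {K : Subgroup G | K.Normal ∧ IsPGroup p K} from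
        ⟨inferInstance, H49.isPGroup_ker hEp G⟩)
    exact Subgroup.mem_subgroupOf.2 ((isRadical_of_isEssential hS hE).2.le ⟨g, hle' hg, rfl⟩)
  set ρ := fq.subgroupMap G with hρdef
  have hρ : Function.Surjective ρ := MonoidHom.subgroupMap_surjective _ _
  set σI := QuotientGroup.mk' I
  have hσI : Function.Surjective σI := QuotientGroup.mk'_surjective _
  have hker : ρ.ker = I := by
    ext g
    rw [MonoidHom.mem_ker, Subtype.ext_iff]
    exact ⟨hkerI g, fun h => hfqinn _ (Subgroup.mem_subgroupOf.1 h)⟩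
  have hkerσ : σI.ker = I := QuotientGroup.ker_mk' I
  obtain ⟨-, AG, hAG⟩ := isFullyAutomized_of_isFullyNormalized hS hF hEn
  have hIA : I ≤ (AG : Subgroup G) := by
    rw [hAG]
    exact fun g hg => inn_le_autInducedBy hES hg
  obtain ⟨Y1, hY1, hA1, hemb1⟩ := exists_stronglyEmbedded_over hY0 (AG.mapSurjective hσI)
  rw [Sylow.coe_mapSurjective] at hA1 hemb1
  set AX := AG.mapSurjective hρ with hAXdef
  have hAXc : (AX : Subgroup (G.map fq)) = (AG : Subgroup G).map ρ := Sylow.coe_mapSurjective _ _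
  have hcomap : (AX : Subgroup (G.map fq)).comap ρ = AG := by
    rw [hAXc, Subgroup.comap_map_eq, hker, sup_eq_left.2 hIA]
  obtain ⟨Y, hY, hA, hemb⟩ : ∃ Y : Subgroup (G.map fq), Y ≠ ⊤ ∧ (AX : Subgroup (G.map fq)) ≠ ⊥ ∧
      ∀ Q : Subgroup (G.map fq), Q ≤ AX → Q ≠ ⊥ → Subgroup.normalizer (Q : Set (G.map fq)) ≤ Y := by
    refine ⟨(Y1.comap σI).map ρ, fun h => hY1 ?_, fun h => hA1 ?_, fun Q hQ hQne x hx => ?_⟩
    · have h' := congrArg (Subgroup.comap ρ) h
      rw [Subgroup.comap_map_eq, Subgroup.comap_top, hker,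
        sup_eq_left.2 (hkerσ.ge.trans (Subgroup.ker_le_comap σI Y1))] at h'
      rw [← Subgroup.map_comap_eq_self_of_surjective hσI Y1, h', Subgroup.map_top_of_surjective _ hσI]
    · rw [Subgroup.map_eq_bot_iff, hkerσ, ← hker, ← Subgroup.map_eq_bot_iff, ← hAXc]
      exact h
    · obtain ⟨g, rfl⟩ := hρ x
      refine ⟨g, hemb1 ((Q.comap ρ).map σI) (Subgroup.map_mono ((Subgroup.comap_mono hQ).trans hcomap.le))
        (fun h => hQne ?_) (Subgroup.le_normalizer_map σI ⟨g, ?_, rfl⟩), rfl⟩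
      · rw [Subgroup.map_eq_bot_iff, hkerσ, ← hker] at h
        rw [← Subgroup.map_comap_eq_self_of_surjective hρ Q, Subgroup.map_eq_bot_iff]
        exact h
      · refine Subgroup.mem_normalizer_iff.2 fun h => ?_
        rw [Subgroup.mem_comap, Subgroup.mem_comap, map_mul, map_mul, map_inv]
        exact Subgroup.mem_normalizer_iff.1 hx _
  -- at most three generators
  have hidx : (frattini E).index ≤ p ^ 3 := by
    rw [← Subgroup.relIndex_top_right]
    exact relIndex_le_cube (sectional_of_injective (Subgroup.inclusion hES) (Subgroup.inclusion_injective hES) hsr)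
      (fun x _ y _ => PGroups.commutator_le_frattini hEp (commutator_mem_commutator (mem_top _) (mem_top _)))
      (fun x _ => PGroups.pow_mem_frattini hEp x)
  obtain ⟨hAc, hdata⟩ := image_data (G := G) hEp h5 hidx AX Y hY hA hemb
  -- conjugation on the Frattini quotient
  set ι := Subgroup.inclusion hle with hι
  have hιinj : Function.Injective ι := Subgroup.inclusion_injective hle
  let φ : ↥(normalizerIn S E) →* MulAut (E ⧸ frattini E) :=
    fq.comp ((conjAutHom E).comp (Subgroup.inclusion (inf_le_right : normalizerIn S E ≤ _)))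
  have hφ : ∀ x : ↥(normalizerIn S E), φ x = fq (conjAut x.2.2) := fun x => rfl
  have hconjG : ∀ x : ↥(normalizerIn S E), conjAut x.2.2 ∈ G := fun x => conjAut_mem_autGroup F hES x.2
  have hφker : φ.ker = E.subgroupOf (normalizerIn S E) := by
    ext x
    rw [MonoidHom.mem_ker, hφ, Subgroup.mem_subgroupOf]
    constructor
    · intro h
      exact mem_of_conjAut_mem_inn hC hES x.2.1 x.2.2 (Subgroup.mem_subgroupOf.1 (hkerI ⟨_, hconjG x⟩ h))
    · intro hx
      exact hfqinn _ ⟨⟨x, hx⟩, MulEquiv.ext fun y => Subtype.ext rfl⟩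
  have himA : ∀ {ω : MulAut E} (hω : ω ∈ G), fq ω ∈ imA AX ↔ ω ∈ autInducedBy S E := by
    intro ω hω
    constructor
    · rintro ⟨x, hx, he⟩
      have : (⟨ω, hω⟩ : G) ∈ (AX : Subgroup (G.map fq)).comap ρ := by
        rw [Subgroup.mem_comap, show ρ ⟨ω, hω⟩ = x from Subtype.ext he.symm]
        exact hx
      rw [hcomap, hAG] at this
      exact this
    · intro h
      refine ⟨ρ ⟨ω, hω⟩, ?_, rfl⟩
      rw [hAXc]
      exact ⟨_, hAG.ge h, rfl⟩
  have hφrange : φ.range = imA AX := by
    refine le_antisymm ?_ ?_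
    · rintro _ ⟨x, rfl⟩
      exact (himA (hconjG x)).2 (mem_autInducedBy.2 ⟨x, x.2.1, x.2.2, rfl⟩)
    · rintro _ ⟨y, hy, rfl⟩
      obtain ⟨g, hg, rfl⟩ := hAXc.le hy
      obtain ⟨x, hxS, hxn, he⟩ := mem_autInducedBy.1 (hAG.le hg)
      exact ⟨⟨x, hxS, hxn⟩, (hφ _).trans (congrArg fq he.symm)⟩
  have hindex : (E.subgroupOf (normalizerIn S E)).index = p := by
    rw [← hφker, Subgroup.index_ker, hφrange]
    exact (Subgroup.card_map_of_injective (G.map fq).subtype_injective).trans hAc
  refine ⟨hindex, ?_⟩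
  have hP1 : ∀ x : E, ι x ∈ pser p (E.subgroupOf (normalizerIn S E)) 1 ↔ x ∈ frattini E :=
    incl_mem_pser_one hle hEp
  have hιE : ∀ x : E, ι x ∈ E.subgroupOf (normalizerIn S E) := incl_mem hle
  have hcomm : ∀ (x : ↥(normalizerIn S E)) (e : E), ⁅x, ι e⁆ = ι (conjAut x.2.2 e * e⁻¹) := fun x e => by
    refine Subtype.ext ?_
    simp only [commutatorElement_def, Subgroup.coe_mul, Subgroup.coe_inv, hι, Subgroup.coe_inclusion,
      coe_conjAut]
  rcases hdata with hreg | ⟨ζ, α, σ, a, w, c, l, T⟩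
  · left
    refine ⟨⟨hindex, ?_, fun C hC1 hC2 hinv => ?_, ?_⟩, hreg.index⟩
    · rw [← frattini_map_incl hle hEp, Subgroup.card_map_of_injective hιinj,
        Nat.card_congr (Subgroup.subgroupOfEquivOfLe hle).toEquiv, ← Subgroup.card_mul_index (frattini E),
        hreg.index, mul_comm]
    · rcases hreg.irr (C.comap ι) (fun x hx => hC1 ((hP1 x).2 hx)) (fun ω _ x hx => by
        rw [Subgroup.mem_comap, ← liftFun_incl hle]
        exact hinv _ (autOn_liftFun hle ω) _ hx) with h | h
      · left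
        refine le_antisymm (fun y hy => ?_) hC1
        obtain ⟨x, rfl⟩ := exists_incl hle (hC2 hy)
        exact (hP1 x).2 (h.le hy)
      · right
        refine le_antisymm hC2 fun y hy => ?_
        obtain ⟨x, rfl⟩ := exists_incl hle hy
        exact h.ge (mem_top x)
    · obtain ⟨ζ, -, hζA, v, hv⟩ := hreg.reg
      obtain ⟨n, hn⟩ := hφrange.ge hζA
      rw [hφ] at hn
      refine ⟨n, ι v, hιE v, fun h => hv ?_⟩
      have hcl : ∀ (ω : MulAut E) (e : E), π (ω e * e⁻¹) = fq ω (π e) * (π e)⁻¹ := fun ω e => by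
        rw [map_mul π, map_inv π, happ]
      rw [hcomm, hcomm, hP1, ← hone, hcl, hcl] at h
      rw [← hone, hcl, hcl, ← hn]
      exact h
  right
  have hζA : fq ζ ∈ imA AX := T.zA.ge (mem_zpowers _)
  have hζne : fq ζ ≠ 1 := fun h => by
    have h1 := T.zA
    rw [h, Subgroup.zpowers_one_eq_bot, Subgroup.map_eq_bot_iff_of_injective _
      (G.map fq).subtype_injective] at h1
    exact hA h1
  have hnormA : ∀ {x : MulAut (E ⧸ frattini E)}, x ∈ imA AX → fq α * x * (fq α)⁻¹ ∈ imA AX := by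
    intro x hx
    obtain ⟨i, rfl⟩ := T.zA.le hx
    rw [← conj_zpow, T.norm]
    exact T.zA.ge (zpow_mem (pow_mem (mem_zpowers _) _) i)
  -- extension of the torus
  obtain ⟨g, hg, hge⟩ := receptive_extend (receptive_of_isFullyNormalized hS hF hEn)
    (isIso_autMap hES T.aG) (N := normalizerIn S E) fun x hx => inExt_autMap hx.1 hx.2 (by
      have hω : α * conjAut hx.2 * α⁻¹ ∈ G :=
        mul_mem (mul_mem T.aG (hconjG ⟨x, hx⟩)) (inv_mem T.aG)
      refine (himA hω).1 ?_
      rw [map_mul, map_mul, map_inv]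
      exact hnormA (hφrange.le ⟨⟨x, hx⟩, rfl⟩))
  rw [sup_eq_left.2 hle] at hg
  have hgN : ∀ x ∈ normalizerIn S E, g x ∈ normalizerIn S E := fun x hx =>
    (isIso_autMap hES T.aG).mem_normalizerIn_of_extends hg hle hge hx hx.2
  obtain ⟨t0, ht0, ht0e⟩ := (IsIso.mk hg (hg.image_eq_of_mapsTo hgN)).exists_aut
  have ht0ι : ∀ e : E, t0 (ι e) = ι (α e) := fun e => Subtype.ext (by
    rw [← autMap_coe t0 (ι e), ht0e _ (ι e).2, hι, Subgroup.coe_inclusion, Subgroup.coe_inclusion,
      hge e e.2, autMap_coe])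
  have hit0 : ∀ (k : ℕ) (e : E), (t0 ^ k) (ι e) = ι ((α ^ k) e) := by
    intro k
    induction k with
    | zero => exact fun e => rfl
    | succ k ih => intro e; rw [pow_succ, MulAut.mul_apply, ht0ι, ih, pow_succ α k, MulAut.mul_apply]
  obtain ⟨j, hj⟩ := IsPGroup.iff_card.1 hEp
  set β := t0 ^ (p - 1) with hβ
  have hβι : ∀ e : E, β (ι e) = ι e := fun e => by rw [hβ, hit0, T.apow]; rfl
  have hβN : β ^ p ^ j = 1 := by
    refine MulEquiv.ext fun x => ?_
    have hd : ((x⁻¹ * β x : ↥(normalizerIn S E)) : Ω) ∈ E := by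
      refine hC (mem_centralizerIn.2 ⟨normalizerIn_le (x⁻¹ * β x).2, fun y hy => ?_⟩)
      have h1 := hβι ⟨y, hy⟩
      have h2 := hβι (conjAut x.2.2 ⟨y, hy⟩)
      have h3 : ι (conjAut x.2.2 ⟨y, hy⟩) = x * ι ⟨y, hy⟩ * x⁻¹ := Subtype.ext (by
        simp only [Subgroup.coe_mul, Subgroup.coe_inv, hι, Subgroup.coe_inclusion, coe_conjAut])
      rw [h3, map_mul, map_mul, map_inv, h1, mul_inv_eq_iff_eq_mul] at h2
      have h4 : ι ⟨y, hy⟩ * (x⁻¹ * β x) = x⁻¹ * β x * ι ⟨y, hy⟩ := by
        rw [mul_assoc x⁻¹ (β x), h2]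
        group
      exact congrArg Subtype.val h4
    obtain ⟨d, hd'⟩ := exists_incl hle (show x⁻¹ * β x ∈ E.subgroupOf _ from hd)
    have hk : ∀ k : ℕ, (β ^ k) x = x * ι d ^ k := by
      intro k
      induction k with
      | zero => simp
      | succ k ih =>
        rw [pow_succ', MulAut.mul_apply, ih, map_mul, map_pow, hβι,
          show β x = x * ι d by rw [hι, hd', mul_inv_cancel_left], pow_succ', mul_assoc]
    rw [hk, ← map_pow, ← hj, pow_card_eq_one', map_one, mul_one, MulAut.one_apply]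
  set t := t0 ^ p ^ j with ht
  have htp : t ^ (p - 1) = 1 := by rw [ht, ← pow_mul, mul_comm, pow_mul, ← hβ, hβN]
  have hmod : p ^ j % (p - 1) = 1 := by
    have h1 : p ≡ 1 [MOD p - 1] := ((Nat.modEq_iff_dvd' hp.out.one_le).2 dvd_rfl).symm
    have h2 := h1.pow j
    rw [one_pow, Nat.ModEq, Nat.one_mod_eq_one.2 (by omega)] at h2
    exact h2
  have htι : ∀ e : E, t (ι e) = ι (α e) := fun e => by
    rw [ht, hit0, pow_eq_pow_mod _ T.apow, hmod, pow_one]
  have htφ : ∀ x, φ (t x) = fq α * φ x * (fq α)⁻¹ := fun x => by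
    rw [hφ, hφ, ← map_inv, ← map_mul, ← map_mul]
    congr 1
    rw [eq_mul_inv_iff_mul_eq]
    refine MulEquiv.ext fun e => hιinj ?_
    have h3 : ∀ (y : ↥(normalizerIn S E)) (e : E), ι (conjAut y.2.2 e) = y * ι e * y⁻¹ := fun y e =>
      Subtype.ext (by simp only [Subgroup.coe_mul, Subgroup.coe_inv, hι, Subgroup.coe_inclusion, coe_conjAut])
    rw [MulAut.mul_apply, MulAut.mul_apply, h3, ← htι e, ← htι (conjAut x.2.2 e), h3, map_mul, map_mul, map_inv]
  have hitφ : ∀ (k : ℕ) x, φ ((t ^ k) x) = fq α ^ k * φ x * (fq α ^ k)⁻¹ := by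
    intro k
    induction k with
    | zero => simp
    | succ k ih =>
      intro x
      rw [pow_succ', MulAut.mul_apply, htφ, ih, pow_succ', mul_inv_rev]
      simp only [mul_assoc]
  obtain ⟨n0, hn0⟩ := hφrange.ge hζA
  set u := t ^ ((p - 1) / 2)
  have hu : u ^ 2 = 1 := by
    obtain ⟨r, hr⟩ := hp.out.odd_of_ne_two (by omega : p ≠ 2)
    rw [← pow_mul, show (p - 1) / 2 * 2 = p - 1 by omega, htp]
  have hmemE : ∀ x, x ∈ E.subgroupOf (normalizerIn S E) ↔ φ x = 1 := fun x => by
    rw [← hφker, MonoidHom.mem_ker]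
  obtain ⟨n, hnu, hn⟩ := exists_fixed_coset (hS.to_le normalizerIn_le) u
    (Nat.coprime_two_left.2 (hp.out.odd_of_ne_two (by omega))) hu (E.subgroupOf (normalizerIn S E))
    (fun x hx => (hmemE _).2 (by rw [hitφ, (hmemE x).1 hx, mul_one, mul_inv_cancel]))
    (g := n0) ((hmemE _).2 (by
      rw [map_mul, map_inv, hitφ, hn0, T.half.eq, mul_inv_cancel_right, inv_mul_cancel]))
  have hφn : φ n = fq ζ := by
    have h := (hmemE _).1 hn
    rw [map_mul, map_inv, inv_mul_eq_one, hn0] at h
    exact h.symm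
  rw [hφ] at hφn
  have hcongr : ∀ {x y : E}, x⁻¹ * y ∈ frattini E →
      (ι x)⁻¹ * ι y ∈ pser p (E.subgroupOf (normalizerIn S E)) 1 := fun {x y} h => by
    rw [← map_inv, ← map_mul, hP1]; exact h
  have hncomm : ∀ {x y : E}, π (ζ x) = π x * π y →
      (ι y)⁻¹ * ⁅n, ι x⁆ ∈ pser p (E.subgroupOf (normalizerIn S E)) 1 := fun {x y} h => by
    rw [hcomm, ← map_inv, ← map_mul, hP1, ← hdiv, map_mul, map_inv, happ, hφn, ← happ, h]
    have hc : Commute (π x) (π y) := by
      rw [← commutatorElement_eq_one_iff_commute, ← map_commutatorElement]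
      exact hone.2 (PGroups.commutator_le_frattini hEp (commutator_mem_commutator (mem_top _) (mem_top _)))
    rw [hc.eq, mul_inv_cancel_right]
  refine ⟨t, liftFun hle σ, n, ι a, ι w, ι c, l, pow_mem ht0 _, ?_, ?_, fun ω hω x hx => ?_⟩
  · refine ⟨hindex, T.lord, ?_, htp, hnu, fun h => ?_, hιE a, hιE w, hιE c, fun x hx => ?_,
      fun h => T.a1 ((hP1 a).1 h), fun h => T.w1 ((hP1 w).1 h), ?_, ?_, ?_, ?_, ?_, ?_,
      autOn_liftFun hle σ, ?_, ?_, ?_⟩
    · ext y
      constructor
      · rintro ⟨x, hx, rfl⟩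
        obtain ⟨e, rfl⟩ := exists_incl hle hx
        exact (htι e).symm ▸ hιE (α e)
      · intro hy
        obtain ⟨e, rfl⟩ := exists_incl hle hy
        exact ⟨ι (α.symm e), hιE _, (htι _).trans (congrArg ι (α.apply_symm_apply e))⟩
    · rw [hmemE, hφ, hφn] at h
      exact hζne h
    · obtain ⟨e, rfl⟩ := exists_incl hle hx
      obtain ⟨i, i', k, hk⟩ := T.gen e
      exact ⟨i, i', k, by rw [← map_pow, ← map_pow, ← map_pow, ← map_mul, ← map_mul]; exact hcongr hk⟩
    · rw [← map_pow, htι]; exact hcongr T.al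
    · rw [← map_pow, htι]; exact hcongr T.wl
    · rw [htι, T.ac]
    · have := hncomm (x := a) (y := 1) (by rw [map_one, mul_one, (hdiv.2 T.za)])
      rwa [map_one, inv_one, one_mul] at this
    · refine hncomm ?_
      rw [hdiv.2 T.zw, ← map_mul, mul_inv_cancel_left]
    · have := hncomm (x := c) (y := 1) (by rw [map_one, mul_one, (hdiv.2 T.zc)])
      rwa [map_one, inv_one, one_mul] at this
    · rw [liftFun_incl, ← map_mul, hP1]; exact T.sa
    · rw [liftFun_incl]; exact hcongr T.sw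
    · rw [liftFun_incl]; exact hcongr T.sc
  · rcases T.rank with ⟨h1, h2⟩ | ⟨h1, h2⟩
    · exact Or.inl ⟨by rw [h1, map_one], h2⟩
    · exact Or.inr ⟨fun h => h1 ((hP1 c).1 h), h2⟩
  · rw [hιinj hx]
    have h := Subgroup.mem_map_of_mem ι (T.inv ω hω)
    rwa [Subgroup.map_sup, MonoidHom.map_zpowers, frattini_map_incl hle hEp] at h

end Cfsg.Agent.H91.Rank3
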