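import Cfsg.Agent.H91.Rank3.Basic

/-!
Counting tools inside a normal subgroup `E` of a `p`-group, relative to its lower exponent-`p` central series.
-/

set_option autoImplicit false
set_option linter.unusedSectionVars false
set_option linter.style.haveILetI false

namespace Cfsg.Agent.H91.Rank3

open Subgroup
open scoped commutatorElement

variable {N : Type*} [Group N] [Finite N] {p : ℕ}

/-- Cardinalities along an inclusion. -/
theorem card_mul_relIndex {K H : Subgroup N} (h : K ≤ H) :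
    Nat.card K * K.relIndex H = Nat.card H := by
  have := Subgroup.card_mul_index (K.subgroupOf H)
  rwa [Nat.card_congr (Subgroup.subgroupOfEquivOfLe h).toEquiv] at this

theorem comm_mem_pser_one {E : Subgroup N} {x y : N} (hx : x ∈ E) (hy : y ∈ E) : ⁅x, y⁆ ∈ pser p E 1 :=
  comm_mem_pser_succ (i := 0) hx hy

theorem pow_mem_pser_one {E : Subgroup N} {x : N} (hx : x ∈ E) : x ^ p ∈ pser p E 1 :=
  pow_mem_pser_succ (i := 0) hx

/-- Subgroups between `pser 1` and `E` are normal in `E`. -/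
theorem conj_mem_of_pser_one_le {E H : Subgroup N} (h1 : pser p E 1 ≤ H) (hH : H ≤ E) {e h : N} (he : e ∈ E)
    (hh : h ∈ H) : e * h * e⁻¹ ∈ H := by
  rw [show e * h * e⁻¹ = ⁅e, h⁆ * h by rw [commutatorElement_def]; group]
  exact mul_mem (h1 (comm_mem_pser_one he (hH hh))) hh

theorem normal_subgroupOf_of_pser_one_le {E H : Subgroup N} (h1 : pser p E 1 ≤ H) (hH : H ≤ E) :
    (H.subgroupOf E).Normal :=
  ⟨fun h hh e => by
    rw [Subgroup.mem_subgroupOf] at hh ⊢
    exact conj_mem_of_pser_one_le h1 hH e.2 hh⟩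

variable [hp : Fact p.Prime]

/-- Adjoining an element above `pser 1` multiplies the order by `p`. -/
theorem card_step {E H : Subgroup N} (h1 : pser p E 1 ≤ H) (hH : H ≤ E) {x : N} (hx : x ∈ E) (hxH : x ∉ H) :
    Nat.card (H ⊔ zpowers x : Subgroup N) = p * Nat.card H := by
  haveI := normal_subgroupOf_of_pser_one_le h1 hH
  have h := PGroups.card_sup_zpowers (p := p) (H.subgroupOf E) (x := (⟨x, hx⟩ : E))
    (by rwa [Subgroup.mem_subgroupOf])
    (by rw [Subgroup.mem_subgroupOf, SubmonoidClass.coe_pow]; exact h1 (pow_mem_pser_one hx))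
  rw [Nat.card_congr (Subgroup.subgroupOfEquivOfLe hH).toEquiv] at h
  have he : (H.subgroupOf E ⊔ zpowers (⟨x, hx⟩ : E)).map E.subtype = H ⊔ zpowers x := by
    rw [Subgroup.map_sup, MonoidHom.map_zpowers, Subgroup.subgroupOf_map_subtype, inf_eq_left.2 hH]
    rfl
  rw [← he, Subgroup.card_map_of_injective E.subtype_injective, h]

/-- Adjoining elements above `pser 1` until the index is exhausted. -/
theorem eq_of_step {E H : Subgroup N} (h1 : pser p E 1 ≤ H) (hH : H ≤ E) {x : N} (hx : x ∈ E) (hxH : x ∉ H)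
    (hc : Nat.card E = p * Nat.card H) : H ⊔ zpowers x = E :=
  Subgroup.eq_of_le_of_card_ge (sup_le hH (zpowers_le.2 hx)) (by rw [card_step h1 hH hx hxH, hc])

/-- Elements above `pser 1` as products. -/
theorem exists_mul_zpow {E H : Subgroup N} (h1 : pser p E 1 ≤ H) (hH : H ≤ E) {x g : N} (hx : x ∈ E)
    (hg : g ∈ H ⊔ zpowers x) : ∃ h ∈ H, ∃ i : ℤ, g = h * x ^ i := by
  have hn : zpowers x ≤ normalizer (H : Set N) := by
    refine zpowers_le.2 (mem_normalizer_iff.2 fun h => ⟨fun hh => conj_mem_of_pser_one_le h1 hH hx hh,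
      fun hh => ?_⟩)
    have := conj_mem_of_pser_one_le h1 hH (inv_mem hx) hh
    simpa [mul_assoc] using this
  rw [← SetLike.mem_coe, Subgroup.coe_mul_of_right_le_normalizer_left _ _ hn] at hg
  obtain ⟨h, hh, y, ⟨i, rfl⟩, rfl⟩ := hg
  exact ⟨h, hh, i, rfl⟩

/-- A subgroup of index `p` is normal and contains commutators and `p`-th powers. -/
theorem mem_of_index_eq (hN : IsPGroup p N) {E : Subgroup N} (hE : E.index = p) :
    E.Normal ∧ (∀ g, g ^ p ∈ E) ∧ ∀ g h : N, ⁅g, h⁆ ∈ E := by
  haveI := PGroups.normal_of_index_eq hN hE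
  refine ⟨inferInstance, fun g => hE ▸ E.pow_index_mem g, fun g h => ?_⟩
  haveI : IsCyclic (N ⧸ E) := isCyclic_of_prime_card (p := p) (by rw [← Subgroup.index_eq_card, hE])
  rw [← QuotientGroup.eq_one_iff]
  show QuotientGroup.mk' E ⁅g, h⁆ = 1
  rw [map_commutatorElement, commutatorElement_eq_one_iff_mul_comm]
  exact mul_comm' _ _

/-- The Frattini subgroup of `E` is the first term of the series. -/
theorem frattini_map (hN : IsPGroup p N) (E : Subgroup N) :
    (frattini E).map E.subtype = pser p E 1 := by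
  rw [PGroups.frattini_eq (hN.to_subgroup E), Subgroup.map_sup, commutator_def, map_commutator,
    MonoidHom.map_closure, ← MonoidHom.range_eq_map, Subgroup.range_subtype]
  show ⁅E, E⁆ ⊔ _ = ⁅E, E⁆ ⊔ Cfsg.powerClosure p 1 E
  congr 2
  ext y
  constructor
  · rintro ⟨_, ⟨x, rfl⟩, rfl⟩
    exact ⟨x, x.2, by simp⟩
  · rintro ⟨x, hx, rfl⟩
    exact ⟨_, ⟨⟨x, hx⟩, rfl⟩, by simp⟩

theorem mem_pser_one_iff (hN : IsPGroup p N) {E : Subgroup N} (x : E) :
    (x : N) ∈ pser p E 1 ↔ x ∈ frattini E := by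
  rw [← frattini_map hN]
  exact Subgroup.mem_map_iff_mem E.subtype_injective

end Cfsg.Agent.H91.Rank3
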