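import Cfsg.Agent.H91.Rank3.Weights

/-!
A maximal subgroup `E` with a transvection from outside and a torus: the first two layers of its series.
-/

set_option autoImplicit false
set_option linter.unusedSectionVars false
set_option linter.style.haveILetI false

namespace Cfsg.Agent.H91.Rank3

open Subgroup
open scoped commutatorElement

variable {N : Type*} [Group N]

/-- The natural number representing a unit modulo `p`. -/
abbrev uval {p : ℕ} (l : (ZMod p)ˣ) : ℕ := (l : ZMod p).val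

/-- `E` is maximal in `N`; `t` is a torus normalising it and scaling `a`, `w` inversely and fixing `c`;
`n` moves `w` to `a` and centralises `a`, `c` on `E/Φ(E)`; `s` interchanges the lines of `a` and `w`. -/
structure Torus (p : ℕ) (E : Subgroup N) (t : MulAut N) (s : N → N) (n a w c : N) (l : (ZMod p)ˣ) : Prop where
  index : E.index = p
  lord : orderOf l = p - 1
  tE : E.map (t : N ≃* N).toMonoidHom = E
  tpow : t ^ (p - 1) = 1
  tn : (t ^ ((p - 1) / 2)) n = n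
  nE : n ∉ E
  aE : a ∈ E
  wE : w ∈ E
  cE : c ∈ E
  gen : ∀ x ∈ E, ∃ i j k : ℕ, (a ^ i * w ^ j * c ^ k)⁻¹ * x ∈ pser p E 1
  a1 : a ∉ pser p E 1
  w1 : w ∉ pser p E 1
  ta : (a ^ uval l)⁻¹ * t a ∈ pser p E 1
  tw : (w ^ uval l⁻¹)⁻¹ * t w ∈ pser p E 1
  tc : t c = c
  na : ⁅n, a⁆ ∈ pser p E 1
  nw : a⁻¹ * ⁅n, w⁆ ∈ pser p E 1
  nc : ⁅n, c⁆ ∈ pser p E 1
  sA : AutOn E s
  sa : w * s a ∈ pser p E 1
  sw : a⁻¹ * s w ∈ pser p E 1
  sc : c⁻¹ * s c ∈ pser p E 1

namespace Torus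

variable {p : ℕ} [hp : Fact p.Prime] [Finite N] {E : Subgroup N} {t : MulAut N} {s : N → N} {n a w c : N}
  {l : (ZMod p)ˣ} (D : Torus p E t s n a w c l)

include D

theorem cast_uval (u : (ZMod p)ˣ) : ((uval u : ℕ) : ZMod p) = u := ZMod.natCast_zmod_val _

theorem l_pow_ne {k : ℕ} (hk : 0 < k) (hk' : k < p - 1) : (l : ZMod p) ^ k ≠ 1 := fun h =>
  pow_ne_one_of_lt_orderOf hk.ne' (D.lord.symm ▸ hk') (Units.ext (by simpa using h))

theorem l_ne (h5 : 5 ≤ p) :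
    (l : ZMod p) ≠ 1 ∧ ((l⁻¹ : (ZMod p)ˣ) : ZMod p) ≠ 1 ∧ (l : ZMod p) ≠ ((l⁻¹ : (ZMod p)ˣ) : ZMod p) ∧
      (l : ZMod p) ^ 2 ≠ 1 ∧ (l : ZMod p) ^ 3 ≠ 1 := by
  have h1 := D.l_pow_ne (k := 1) one_pos (by omega)
  have h2 := D.l_pow_ne (k := 2) two_pos (by omega)
  have h3 := D.l_pow_ne (k := 3) (by omega) (by omega)
  rw [pow_one] at h1
  refine ⟨h1, fun h => h1 ?_, fun h => h2 ?_, h2, h3⟩
  · have := l.mul_inv
    rwa [h, mul_one] at this
  · have := l.mul_inv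
    rwa [← h, ← pow_two] at this

theorem l_half (h5 : 5 ≤ p) :
    (l : ZMod p) ^ ((p - 1) / 2) = -1 ∧ ((l⁻¹ : (ZMod p)ˣ) : ZMod p) ^ ((p - 1) / 2) = -1 := by
  obtain ⟨m, hm⟩ := hp.out.odd_of_ne_two (by omega)
  have hm' : (p - 1) / 2 = m := by omega
  have hsq : (l : ZMod p) ^ m * (l : ZMod p) ^ m = 1 := by
    rw [← pow_add, show m + m = p - 1 by omega, ← Units.val_pow_eq_pow_val,
      ZMod.units_pow_card_sub_one_eq_one, Units.val_one]
  have h1 : (l : ZMod p) ^ m = -1 :=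
    (mul_self_eq_one_iff.1 hsq).resolve_left (D.l_pow_ne (by omega) (by omega))
  rw [hm']
  refine ⟨h1, ?_⟩
  have h2 : (l : ZMod p) ^ m * ((l⁻¹ : (ZMod p)ˣ) : ZMod p) ^ m = 1 := by rw [← mul_pow, l.mul_inv, one_pow]
  rw [h1, neg_one_mul, neg_eq_iff_eq_neg] at h2
  exact h2

variable (hN : IsPGroup p N)
include hN

theorem normal : E.Normal := (mem_of_index_eq hN D.index).1

theorem autT : AutOn E (fun x => t x) := autOn_mulEquiv t D.tE

theorem autT_iter (k : ℕ) : AutOn E (fun x => t x)^[k] := by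
  induction k with
  | zero => exact ⟨fun x hx => hx, fun x _ y _ => rfl, fun y hy => ⟨y, hy, rfl⟩, fun x _ h => h⟩
  | succ k ih => rw [Function.iterate_succ']; exact ih.comp (D.autT hN)

theorem iter_eq (k : ℕ) (x : N) : (fun x => t x)^[k] x = (t ^ k) x := by
  induction k with
  | zero => rfl
  | succ k ih => rw [Function.iterate_succ_apply', ih, pow_succ', MulAut.mul_apply]

theorem wt_a : Wt p E (fun x => t x) 0 a (uval l) := ⟨D.aE, D.ta⟩

theorem wt_w : Wt p E (fun x => t x) 0 w (uval l⁻¹) := ⟨D.wE, D.tw⟩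

theorem wt_c : Wt p E (fun x => t x) 0 c 1 := ⟨D.cE, by simp [D.tc]⟩

/-- Independence modulo `pser 1`. -/
theorem indep (h5 : 5 ≤ p) {i j k : ℕ} (h : a ^ i * w ^ j * c ^ k ∈ pser p E 1) :
    p ∣ i ∧ p ∣ j ∧ c ^ k ∈ pser p E 1 := by
  haveI := D.normal hN
  obtain ⟨h1, h2, h3, -, -⟩ := D.l_ne h5
  obtain ⟨ha, hw, hc⟩ := Wt.split_three (D.autT hN) ((D.wt_a hN).pow (D.autT hN) i)
    ((D.wt_w hN).pow (D.autT hN) j) ((D.wt_c hN).pow (D.autT hN) k)
    (by rw [cast_uval D, cast_uval D]; exact h3) (by rw [cast_uval D, Nat.cast_one]; exact h1)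
    (by rw [cast_uval D, Nat.cast_one]; exact h2) h
  refine ⟨?_, ?_, hc⟩
  · by_contra hd
    exact D.a1 (mem_of_pow_mem_of_coprime (pow_mem_pser_one D.aE) ha hd)
  · by_contra hd
    exact D.w1 (mem_of_pow_mem_of_coprime (pow_mem_pser_one D.wE) hw hd)

/-- A subgroup containing the generators contains `E`. -/
theorem le_of_gen {H : Subgroup N} (h1 : pser p E 1 ≤ H) (ha : a ∈ H) (hw : w ∈ H) (hc : c ∈ H) : E ≤ H := by
  intro x hx
  obtain ⟨i, j, k, hk⟩ := D.gen x hx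
  rw [show x = a ^ i * w ^ j * c ^ k * ((a ^ i * w ^ j * c ^ k)⁻¹ * x) by group]
  exact mul_mem (mul_mem (mul_mem (pow_mem ha i) (pow_mem hw j)) (pow_mem hc k)) (h1 hk)

/-- A homomorphism on `E` killing `pser 1` and the generators is trivial. -/
theorem hom_eq_one {Q : Type*} [Group Q] (φ : E →* Q) (h1 : ∀ x (hx : x ∈ E), x ∈ pser p E 1 → φ ⟨x, hx⟩ = 1)
    (ha : φ ⟨a, D.aE⟩ = 1) (hw : φ ⟨w, D.wE⟩ = 1) (hc : φ ⟨c, D.cE⟩ = 1) (x : E) : φ x = 1 := by
  have := D.le_of_gen hN (H := φ.ker.map E.subtype) (fun y hy => ⟨⟨y, pser_le E 1 hy⟩, h1 y _ hy, rfl⟩)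
    ⟨_, ha, rfl⟩ ⟨_, hw, rfl⟩ ⟨_, hc, rfl⟩ x.2
  obtain ⟨y, hy, he⟩ := this
  rwa [← Subtype.ext (a1 := y) (a2 := x) he]

/-- Displacement on `E/Φ(E)` as a homomorphism. -/
theorem disp_hom (g : N) {x y : N} (hx : x ∈ E) (hy : y ∈ E) :
    haveI := D.normal hN
    QuotientGroup.mk' (pser p E 1) ⁅g, x * y⁆ =
      QuotientGroup.mk' (pser p E 1) ⁅g, x⁆ * QuotientGroup.mk' (pser p E 1) ⁅g, y⁆ := by
  haveI := D.normal hN
  set π := QuotientGroup.mk' (pser p E 1)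
  have hc : Commute (π ⁅g, y⁆) (π x) := Wt.commute_mk (i := 0) ((mem_of_index_eq hN D.index).2.2 g y) hx
  rw [show ⁅g, x * y⁆ = ⁅g, x⁆ * (x * ⁅g, y⁆ * x⁻¹) by simp only [commutatorElement_def]; group,
    map_mul π, map_mul π, map_mul π, map_inv, ← hc.eq, mul_inv_cancel_right]

/-- Elements fixed by the involution in the torus lie over `c`. -/
theorem fixed_mem (h5 : 5 ≤ p) {x : N} (hx : x ∈ E) (hfix : (t ^ ((p - 1) / 2)) x = x) :
    ∃ k : ℕ, (c ^ k)⁻¹ * x ∈ pser p E 1 := by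
  haveI := D.normal hN
  obtain ⟨i, j, k, hk⟩ := D.gen x hx
  set m := (p - 1) / 2
  have hf := D.autT_iter hN m
  have hT : (fun y => t y)^[m] x = x := by rw [D.iter_eq hN]; exact hfix
  obtain ⟨hla, hlw⟩ := D.l_half h5
  have wa : Wt p E (fun y => t y)^[m] 0 (a ^ i * w ^ j) (p - 1) := by
    have h1 := ((D.wt_a hN).pow (D.autT hN) i).iterate (D.autT hN) m
    have h2 := ((D.wt_w hN).pow (D.autT hN) j).iterate (D.autT hN) m
    refine (h1.congr_exp ?_).mul hf (h2.congr_exp ?_) <;>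
      rw [Nat.cast_pow, cast_uval D, Nat.cast_sub hp.out.one_lt.le, ZMod.natCast_self, Nat.cast_one, zero_sub]
    · exact hla
    · exact hlw
  have wc : Wt p E (fun y => t y)^[m] 0 (c ^ k) 1 :=
    (((D.wt_c hN).pow (D.autT hN) k).iterate (D.autT hN) m).congr_exp (by simp)
  have wx : Wt p E (fun y => t y)^[m] 0 x 1 := ⟨hx, by rw [hT]; simp⟩
  refine ⟨k, ?_⟩
  have h2 := Wt.split_two hf wa (wc.mul hf (wx.inv hf)) (by
      rw [Nat.cast_sub hp.out.one_lt.le, ZMod.natCast_self, Nat.cast_one, zero_sub]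
      intro h
      have : ((2 : ℕ) : ZMod p) = 0 := by push_cast; linear_combination -h
      rw [ZMod.natCast_eq_zero_iff] at this
      exact absurd (Nat.le_of_dvd two_pos this) (by omega))
    (by
      have := (inferInstance : (pser p E 1).Normal).conj_mem _ (inv_mem hk) (a ^ i * w ^ j * c ^ k)
      convert this using 1
      group)
  have := inv_mem h2.2
  rw [mul_inv_rev, inv_inv] at this
  have := (inferInstance : (pser p E 1).Normal).conj_mem _ this ((c ^ k)⁻¹)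
  convert this using 1
  group

/-- The torus moves `n` by the square weight, up to an element fixed by its involution. -/
theorem exists_tn (h5 : 5 ≤ p) :
    ∃ e ∈ E, t n = n ^ (uval l * uval l) * e ∧ (t ^ ((p - 1) / 2)) e = e := by
  haveI := D.normal hN
  set π := QuotientGroup.mk' (pser p E 1)
  have hπ1 : ∀ {x}, π x = 1 ↔ x ∈ pser p E 1 := fun {x} => QuotientGroup.eq_one_iff x
  set q := uval l * uval l
  have hq : Nat.card (N ⧸ E) = p := by rw [← Subgroup.index_eq_card, D.index]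
  obtain ⟨j, hj⟩ : QuotientGroup.mk' E (t n) ∈ Submonoid.powers (QuotientGroup.mk' E n) :=
    mem_powers_of_prime_card hq fun h => D.nE ((QuotientGroup.eq_one_iff n).1 h)
  have he : (n ^ j)⁻¹ * t n ∈ E := by
    refine QuotientGroup.eq.1 ?_
    simpa using hj
  -- the displacement of a power
  have hδa : π ⁅n, a⁆ = 1 := hπ1.2 D.na
  have hnj : ∀ j : ℕ, π ⁅n ^ j, w⁆ = π a ^ j := by
    intro j
    induction j with
    | zero => simp
    | succ j ih =>
      have hmem : ⁅n ^ j, w⁆ ∈ E := (mem_of_index_eq hN D.index).2.2 _ _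
      have hxa : (a ^ j)⁻¹ * ⁅n ^ j, w⁆ ∈ pser p E 1 := QuotientGroup.eq.1 (by
        show π (a ^ j) = π ⁅n ^ j, w⁆
        rw [ih, map_pow])
      have hd : π ⁅n, ⁅n ^ j, w⁆⁆ = 1 := by
        rw [show ⁅n ^ j, w⁆ = a ^ j * ((a ^ j)⁻¹ * ⁅n ^ j, w⁆) by group,
          D.disp_hom hN n (E.pow_mem D.aE j) (pser_le E 1 hxa),
          show π ⁅n, (a ^ j)⁻¹ * ⁅n ^ j, w⁆⁆ = 1 by
            rw [hπ1, commutatorElement_def n]
            exact mul_mem ((inferInstance : (pser p E 1).Normal).conj_mem _ hxa n) (inv_mem hxa), mul_one]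
        clear ih hmem hxa
        induction j with
        | zero => simp
        | succ j ih => rw [pow_succ, D.disp_hom hN n (E.pow_mem D.aE j) D.aE, ih, hδa, one_mul]
      rw [pow_succ', show ⁅n * n ^ j, w⁆ = ⁅n, ⁅n ^ j, w⁆⁆ * ⁅n ^ j, w⁆ * ⁅n, w⁆ by
          simp only [commutatorElement_def]; group, map_mul, map_mul, hd, one_mul, ih,
        show π ⁅n, w⁆ = π a from (QuotientGroup.eq.2 D.nw).symm, pow_succ]
  have hcongr : (j : ZMod p) = (q : ℕ) := by
    -- compare the images of `⁅n, w⁆`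
    have h1 : π (t ⁅n, w⁆) = π a ^ uval l := by
      have h := (D.autT hN).mem_pser 1 D.nw
      have hh : π (t a) = π (t ⁅n, w⁆) := QuotientGroup.eq.2 (by rw [← map_inv, ← map_mul]; exact h)
      rw [← hh, ← map_pow]
      exact (QuotientGroup.eq.2 D.ta).symm
    have h2 : π (t ⁅n, w⁆) = π a ^ (j * uval l⁻¹) := by
      set e := (n ^ j)⁻¹ * t n
      rw [map_commutatorElement, show t n = n ^ j * e by simp [e],
        show ⁅n ^ j * e, t w⁆ = n ^ j * ⁅e, t w⁆ * (n ^ j)⁻¹ * ⁅n ^ j, t w⁆ by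
          simp only [commutatorElement_def]; group, map_mul, map_mul, map_mul,
        hπ1.2 (comm_mem_pser_one he ((D.autT hN).mem w D.wE)), mul_one, map_inv, mul_inv_cancel, one_mul,
        show t w = w ^ uval l⁻¹ * ((w ^ uval l⁻¹)⁻¹ * t w) by group,
        D.disp_hom hN _ (E.pow_mem D.wE _) (pser_le E 1 D.tw),
        show π ⁅n ^ j, (w ^ uval l⁻¹)⁻¹ * t w⁆ = 1 by
          rw [hπ1, commutatorElement_def]
          exact mul_mem ((inferInstance : (pser p E 1).Normal).conj_mem _ D.tw (n ^ j)) (inv_mem D.tw), mul_one]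
      generalize uval l⁻¹ = k
      induction k with
      | zero => simp
      | succ k ih => rw [pow_succ, D.disp_hom hN _ (E.pow_mem D.wE k) D.wE, ih, hnj, ← pow_add, Nat.mul_succ]
    have hapow : π a ^ p = 1 := by rw [← map_pow, hπ1]; exact pow_mem_pser_one D.aE
    have hne : π a ≠ 1 := fun h => D.a1 (hπ1.1 h)
    have h3 : ((j * uval l⁻¹ : ℕ) : ZMod p) = (uval l : ℕ) := by
      refine (ZMod.natCast_eq_natCast_iff _ _ _).2 ?_
      have := pow_eq_pow_iff_modEq.1 (h2.symm.trans h1)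
      rwa [orderOf_eq_prime hapow hne] at this
    rw [Nat.cast_mul, cast_uval D, cast_uval D] at h3
    rw [Nat.cast_mul, cast_uval D]
    calc (j : ZMod p) = (j : ZMod p) * ((l⁻¹ : (ZMod p)ˣ) : ZMod p) * l := by rw [mul_assoc, l.inv_mul, mul_one]
      _ = _ := by rw [h3]
  have hqE : (n ^ q)⁻¹ * t n ∈ E := by
    have h1 : (n ^ q)⁻¹ * n ^ j ∈ E := by
      refine QuotientGroup.eq.1 ?_
      show QuotientGroup.mk' E (n ^ q) = QuotientGroup.mk' E (n ^ j)
      rw [map_pow, map_pow]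
      have hnp : QuotientGroup.mk' E n ^ p = 1 := hq ▸ pow_card_eq_one'
      rw [pow_eq_pow_mod q hnp, pow_eq_pow_mod j hnp, (ZMod.natCast_eq_natCast_iff' j q p).1 hcongr]
    simpa [mul_assoc] using mul_mem h1 he
  refine ⟨(n ^ q)⁻¹ * t n, hqE, by group, ?_⟩
  rw [map_mul, map_inv, map_pow, D.tn, ← MulAut.mul_apply, ← pow_succ, pow_succ', MulAut.mul_apply, D.tn]

/-- `n ^ p` lies in `Φ(E)`. -/
theorem pow_n (h5 : 5 ≤ p) : n ^ p ∈ pser p E 1 := by
  haveI := D.normal hN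
  have hnpE : n ^ p ∈ E := (mem_of_index_eq hN D.index).2.1 n
  obtain ⟨k, hk⟩ := D.fixed_mem hN h5 hnpE (by rw [map_pow, D.tn])
  obtain ⟨e, he, hte, hfe⟩ := D.exists_tn hN h5
  obtain ⟨i, hi⟩ := D.fixed_mem hN h5 he hfe
  set π := QuotientGroup.mk' (pser p E 1)
  have hπ1 : ∀ {x}, π x = 1 ↔ x ∈ pser p E 1 := fun {x} => QuotientGroup.eq_one_iff x
  -- `n` and `e` commute modulo `Φ(E)`
  have hcomm : Commute (π n) (π e) := by
    rw [← commutatorElement_eq_one_iff_commute, ← map_commutatorElement,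
      show e = c ^ i * ((c ^ i)⁻¹ * e) by group, D.disp_hom hN n (E.pow_mem D.cE i) (pser_le E 1 hi),
      show π ⁅n, (c ^ i)⁻¹ * e⁆ = 1 by
        rw [hπ1, commutatorElement_def]
        exact mul_mem ((inferInstance : (pser p E 1).Normal).conj_mem _ hi n) (inv_mem hi), mul_one]
    clear hi
    induction i with
    | zero => simp
    | succ i ih => rw [pow_succ, D.disp_hom hN n (E.pow_mem D.cE i) D.cE, ih, hπ1.2 D.nc, one_mul]
  set q := uval l * uval l
  have h1 : π (t (n ^ p)) = π (n ^ p) ^ q := by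
    rw [map_pow t, hte, map_pow π, map_mul π, map_pow π, (hcomm.pow_left q).mul_pow, ← map_pow π e,
      hπ1.2 (pow_mem_pser_one he), mul_one, map_pow, ← pow_mul, ← pow_mul, mul_comm]
  have hx : π (n ^ p) = π (c ^ k) := (QuotientGroup.eq.2 hk).symm
  have h2 : π (t (n ^ p)) = π (n ^ p) := by
    have := (D.autT hN).mem_pser 1 hk
    simp only [map_mul, map_inv, map_pow, D.tc] at this
    rw [hx]
    refine (QuotientGroup.eq.2 ?_).symm
    rwa [map_pow]
  refine mem_of_pow_congr (pow_mem_pser_one hnpE) (a := q) (b := 1) ?_ ?_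
  · rw [pow_one]
    refine QuotientGroup.eq.1 ?_
    show π ((n ^ p) ^ q) = π (n ^ p)
    rw [map_pow π (n ^ p), ← h1, h2]
  · rw [Nat.cast_mul, cast_uval D, Nat.cast_one, ← pow_two]
    exact (D.l_ne h5).2.2.2.1

variable (hsr : Cfsg.SectionalPRankLE p 3 N) (h5 : 5 ≤ p)
include hsr h5

/-- `a ^ p` and `w ^ p` lie in the second term. -/
theorem pow_aw : a ^ p ∈ pser p E 2 ∧ w ^ p ∈ pser p E 2 := by
  haveI := D.normal hN
  have hp2 : p ≠ 2 := by omega
  set π := QuotientGroup.mk' (pser p E 2)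
  have hπ1 : ∀ {x}, π x = 1 ↔ x ∈ pser p E 2 := fun {x} => QuotientGroup.eq_one_iff x
  set d0 := ⁅n, w⁆ with hd0
  set d1 := ⁅n, d0⁆ with hd1
  set d2 := ⁅n, d1⁆ with hd2
  set d3 := ⁅n, d2⁆ with hd3
  have hd0E : d0 ∈ E := (mem_of_index_eq hN D.index).2.2 n w
  have hnP : ∀ x ∈ pser p E 1, ⁅n, x⁆ ∈ pser p E 1 := fun x hx => by
    rw [commutatorElement_def]
    exact mul_mem ((inferInstance : (pser p E 1).Normal).conj_mem _ hx n) (inv_mem hx)
  have hd1P : d1 ∈ pser p E 1 := by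
    refine (QuotientGroup.eq_one_iff _).1 ?_
    show QuotientGroup.mk' (pser p E 1) ⁅n, d0⁆ = 1
    rw [show d0 = a * (a⁻¹ * d0) by group, D.disp_hom hN n D.aE (pser_le E 1 D.nw),
      show QuotientGroup.mk' (pser p E 1) ⁅n, a⁆ = 1 from (QuotientGroup.eq_one_iff _).2 D.na,
      show QuotientGroup.mk' (pser p E 1) ⁅n, a⁻¹ * d0⁆ = 1 from (QuotientGroup.eq_one_iff _).2 (hnP _ D.nw),
      one_mul]
  have hd2P : d2 ∈ pser p E 1 := hnP _ hd1P
  have hd3P : d3 ∈ pser p E 1 := hnP _ hd2P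
  have hbound : (pser p E 2).relIndex (pser p E 1) ≤ p ^ 3 := relIndex_le_cube hsr
    (fun x hx y hy => comm_mem_pser_succ hx (pser_le E 1 hy)) (fun x hx => pow_mem_pser_succ hx)
  have hd4 : ⁅n, d3⁆ ∈ pser p E 2 := iterate_comm_mem hN 3 (pser_succ_le E 1) hbound n d1 hd1P
  have hcom : ∀ x ∈ pser p E 1, ∀ y ∈ E, Commute (π x) (π y) := fun x hx y hy => by
    rw [← commutatorElement_eq_one_iff_commute, ← map_commutatorElement]
    exact hπ1.2 (comm_mem_pser_succ hx hy)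
  have hσ : ∀ y, π (n * y * n⁻¹) = π ⁅n, y⁆ * π y := fun y => by
    rw [← map_mul, commutatorElement_def]
    congr 1
    group
  have hnorm := norm_formula h5 (G := π n) (V := π w) (T := π d0) (A := π d1) (B := π d2) (C := π d3)
    (hcom d1 hd1P d0 hd0E).symm (hcom d2 hd2P d0 hd0E).symm (hcom d3 hd3P d0 hd0E).symm
    (hcom d1 hd1P d2 (pser_le E 1 hd2P)) (hcom d1 hd1P d3 (pser_le E 1 hd3P))
    (hcom d2 hd2P d3 (pser_le E 1 hd3P))
    (by rw [← map_inv, ← map_mul, ← map_mul, hσ]) (by rw [← map_inv, ← map_mul, ← map_mul, hσ])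
    (by rw [← map_inv, ← map_mul, ← map_mul, hσ]) (by rw [← map_inv, ← map_mul, ← map_mul, hσ])
    (by rw [← map_inv, ← map_mul, ← map_mul, hσ, hπ1.2 hd4, one_mul])
    (by rw [← map_pow, hπ1]; exact pow_mem_pser_succ hd1P)
    (by rw [← map_pow, hπ1]; exact pow_mem_pser_succ hd2P)
    (by rw [← map_pow, hπ1]; exact pow_mem_pser_succ hd3P)
  rw [← map_pow, ← map_inv, ← map_mul, ← map_mul,
    show n ^ p * w * (n ^ p)⁻¹ = ⁅n ^ p, w⁆ * w by rw [commutatorElement_def]; group, map_mul,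
    show π ⁅n ^ p, w⁆ = 1 from hπ1.2 (comm_mem_pser_succ (D.pow_n hN h5) D.wE)] at hnorm
  have hd0p : d0 ^ p ∈ pser p E 2 := hπ1.1 (by rw [map_pow]; simpa using hnorm.symm)
  have hap : a ^ p ∈ pser p E 2 := by
    have := pow_congr_pser hp2 (i := 0) D.aE D.nw
    have h3 := mul_mem hd0p (inv_mem this)
    rw [mul_inv_rev, inv_inv, mul_inv_cancel_left] at h3
    exact h3
  refine ⟨hap, ?_⟩
  have h1 := D.sA.mem_pser 2 hap
  rw [D.sA.map_pow D.aE] at h1
  have h2 : (w⁻¹)⁻¹ * s a ∈ pser p E 1 := by simpa using D.sa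
  have h3 := mul_mem h1 (inv_mem (pow_congr_pser hp2 (i := 0) (E.inv_mem D.wE) h2))
  rw [mul_inv_rev, inv_inv, mul_inv_cancel_left, inv_pow] at h3
  simpa using inv_mem h3

/-- `⁅a, c⁆` and `⁅w, c⁆` lie in the second term. -/
theorem comm_c : ⁅a, c⁆ ∈ pser p E 2 ∧ ⁅w, c⁆ ∈ pser p E 2 := by
  haveI := D.normal hN
  have hp2 : p ≠ 2 := by omega
  obtain ⟨hap, hwp⟩ := D.pow_aw hN hsr h5
  have hf := D.autT hN
  obtain ⟨hl1, hl2, hl3, -, -⟩ := D.l_ne h5
  set u := ⁅a, c⁆ with hu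
  set v := ⁅w, c⁆ with hv
  have hu1 : u ∈ pser p E 1 := comm_mem_pser_one D.aE D.cE
  have hv1 : v ∈ pser p E 1 := comm_mem_pser_one D.wE D.cE
  have wu : Wt p E (fun x => t x) 1 u (uval l) := by
    have := (D.wt_a hN).comm hf hp2 (D.wt_c hN)
    rwa [mul_one] at this
  have wv : Wt p E (fun x => t x) 1 v (uval l⁻¹) := by
    have := (D.wt_w hN).comm hf hp2 (D.wt_c hN)
    rwa [mul_one] at this
  have wz : Wt p E (fun x => t x) 1 ⁅a, w⁆ 1 :=
    ((D.wt_a hN).comm hf hp2 (D.wt_w hN)).congr_exp (by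
      rw [Nat.cast_mul, cast_uval D, cast_uval D, l.mul_inv, Nat.cast_one])
  have wcp : Wt p E (fun x => t x) 1 (c ^ p) 1 := (D.wt_c hN).pow_p hf hp2
  -- the fixed part of the first layer
  set Y := pser p E 2 ⊔ zpowers (c ^ p) ⊔ zpowers ⁅a, w⁆ with hY
  have hcp1 : c ^ p ∈ pser p E 1 := pow_mem_pser_one D.cE
  have hz1 : ⁅a, w⁆ ∈ pser p E 1 := comm_mem_pser_one D.aE D.wE
  have hY1 : Y ≤ pser p E 1 := sup_le (sup_le (pser_succ_le E 1) (zpowers_le.2 hcp1)) (zpowers_le.2 hz1)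
  have hYwt : ∀ y ∈ Y, Wt p E (fun x => t x) 1 y 1 := by
    let W1 : Subgroup N :=
      { carrier := {y | Wt p E (fun x => t x) 1 y 1}
        one_mem' := ⟨one_mem _, by simp⟩
        mul_mem' := fun hx hy => hx.mul hf hy
        inv_mem' := fun hx => hx.inv hf }
    have hle : Y ≤ W1 := sup_le (sup_le
      (fun y hy => ⟨pser_succ_le E 1 hy, mul_mem (inv_mem (by rw [pow_one]; exact hy)) (hf.mem_pser 2 hy)⟩)
      (zpowers_le.2 wcp)) (zpowers_le.2 wz)
    exact fun y hy => hle hy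
  have hYn : ∀ x ∈ E, x ∈ normalizer (Y : Set N) := by
    intro x hx
    have hd : ∀ x ∈ E, ∀ y ∈ Y, x * y * x⁻¹ ∈ Y := fun x hx y hy => by
      rw [show x * y * x⁻¹ = ⁅x, y⁆ * y by rw [commutatorElement_def]; group]
      exact mul_mem (mem_sup_left (mem_sup_left (comm_mem_pser_succ' (hY1 hy) hx))) hy
    refine mem_normalizer_iff.2 fun y => ⟨hd x hx y, fun hy => ?_⟩
    have := hd x⁻¹ (E.inv_mem hx) _ hy
    simpa [mul_assoc] using this
  have hsY : ∀ y ∈ Y, s y ∈ Y := by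
    have hle : Y ≤ D.sA.preimage Y := by
      refine sup_le (sup_le (fun y hy => ⟨pser_le E 2 hy, mem_sup_left (mem_sup_left (D.sA.mem_pser 2 hy))⟩)
        (zpowers_le.2 ⟨E.pow_mem D.cE p, ?_⟩)) (zpowers_le.2 ⟨pser_le E 1 hz1, ?_⟩)
      · rw [D.sA.map_pow D.cE, show s c ^ p = c ^ p * ((c ^ p)⁻¹ * s c ^ p) by group]
        exact mul_mem (mem_sup_left (mem_sup_right (mem_zpowers _)))
          (mem_sup_left (mem_sup_left (pow_congr_pser hp2 (i := 0) D.cE D.sc)))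
      · rw [D.sA.map_comm D.aE D.wE]
        have h1 := mk_comm_congr hp2 (i := 0) (x := w⁻¹) (x' := s a) (e := a) (e' := s w) (E.inv_mem D.wE)
          (by simpa using D.sa) D.aE D.sw
        have h2 : QuotientGroup.mk' (pser p E (0 + 2)) ⁅w⁻¹, a⁆ = QuotientGroup.mk' (pser p E (0 + 2)) ⁅a, w⁆ := by
          have h3 := mk_comm_mul_left hp2 (i := 0) (E.inv_mem D.wE) D.wE D.aE
          rw [inv_mul_cancel, commutatorElement_one_left, map_one, ← commutatorElement_inv a w,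
            map_inv] at h3
          exact (mul_inv_eq_one.1 h3.symm)
        rw [h2] at h1
        rw [show ⁅s a, s w⁆ = ⁅a, w⁆ * (⁅a, w⁆⁻¹ * ⁅s a, s w⁆) by group]
        exact mul_mem (mem_sup_right (mem_zpowers _)) (mem_sup_left (mem_sup_left (QuotientGroup.eq.1 h1.symm)))
    exact fun y hy => (hle hy).2
  -- `s` exchanges the two brackets
  have hsu : (v⁻¹)⁻¹ * s u ∈ pser p E 2 := by
    refine QuotientGroup.eq.1 ?_
    show QuotientGroup.mk' (pser p E (0 + 2)) v⁻¹ = QuotientGroup.mk' (pser p E (0 + 2)) (s u)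
    rw [hu, D.sA.map_comm D.aE D.cE, mk_comm_congr hp2 (i := 0) (x := w⁻¹) (E.inv_mem D.wE)
      (by simpa using D.sa) D.cE D.sc, map_inv]
    have h3 := mk_comm_mul_left hp2 (i := 0) (E.inv_mem D.wE) D.wE D.cE
    rw [inv_mul_cancel, commutatorElement_one_left, map_one] at h3
    exact (eq_inv_of_mul_eq_one_left h3.symm).symm
  have hsv : u⁻¹ * s v ∈ pser p E 2 := by
    refine QuotientGroup.eq.1 ?_
    show QuotientGroup.mk' (pser p E (0 + 2)) u = QuotientGroup.mk' (pser p E (0 + 2)) (s v)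
    rw [hv, D.sA.map_comm D.wE D.cE, mk_comm_congr hp2 (i := 0) (x := a) D.aE D.sw D.cE D.sc]
  have hcase : u ∈ Y → u ∈ pser p E 2 := fun h =>
    wu.mem_of_two hf (hYwt u h) (by rw [cast_uval D, Nat.cast_one]; exact hl1)
  by_cases huY : u ∈ Y
  · refine ⟨hcase huY, wv.mem_of_two hf (hYwt v ?_) (by rw [cast_uval D, Nat.cast_one]; exact hl2)⟩
    have h1 := hsY u huY
    have h2 := mul_mem h1 (inv_mem (mem_sup_left (mem_sup_left hsu) : (v⁻¹)⁻¹ * s u ∈ Y))
    rw [mul_inv_rev, inv_inv, mul_inv_cancel_left] at h2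
    simpa using inv_mem h2
  have hvY : v ∉ Y := fun h => huY (by
    have h2 := mul_mem (hsY v h) (inv_mem (mem_sup_left (mem_sup_left hsv) : u⁻¹ * s v ∈ Y))
    rwa [mul_inv_rev, inv_inv, mul_inv_cancel_left] at h2)
  exfalso
  refine no_four hsr Y ![a, w, u, v] ?_ ?_ ?_ ?_
  · intro i
    fin_cases i
    exacts [hYn a D.aE, hYn w D.wE, hYn u (pser_le E 1 hu1), hYn v (pser_le E 1 hv1)]
  · have h2 : ∀ {x}, x ∈ pser p E 2 → x ∈ Y := fun hx => mem_sup_left (mem_sup_left hx)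
    have hzY : ⁅a, w⁆ ∈ Y := mem_sup_right (mem_zpowers _)
    intro i j
    fin_cases i <;> fin_cases j
    exacts [by simp, hzY, h2 (comm_mem_pser_succ' hu1 D.aE), h2 (comm_mem_pser_succ' hv1 D.aE),
      by simpa using inv_mem hzY, by simp, h2 (comm_mem_pser_succ' hu1 D.wE), h2 (comm_mem_pser_succ' hv1 D.wE),
      h2 (comm_mem_pser_succ hu1 D.aE), h2 (comm_mem_pser_succ hu1 D.wE), by simp,
      h2 (comm_mem_pser_succ hu1 (pser_le E 1 hv1)),
      h2 (comm_mem_pser_succ hv1 D.aE), h2 (comm_mem_pser_succ hv1 D.wE),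
      h2 (comm_mem_pser_succ hv1 (pser_le E 1 hu1)), by simp]
  · intro i
    fin_cases i
    exacts [mem_sup_left (mem_sup_left hap), mem_sup_left (mem_sup_left hwp),
      mem_sup_left (mem_sup_left (pow_mem_pser_succ hu1)), mem_sup_left (mem_sup_left (pow_mem_pser_succ hv1))]
  · intro i j k m h
    simp only [Matrix.cons_val_zero, Matrix.cons_val_one, Matrix.cons_val_two, Matrix.cons_val_three,
      Matrix.tail_cons, Matrix.head_cons] at h
    have hij : a ^ i * w ^ j * c ^ 0 ∈ pser p E 1 := by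
      rw [pow_zero, mul_one]
      have := mul_mem (hY1 h) (inv_mem (mul_mem (pow_mem hu1 k) (pow_mem hv1 m)))
      convert this using 1
      group
    obtain ⟨hi, hj, -⟩ := D.indep hN h5 hij
    have hkm : u ^ k * v ^ m ∈ Y := by
      obtain ⟨i', rfl⟩ := hi
      obtain ⟨j', rfl⟩ := hj
      have hA : a ^ (p * i') * w ^ (p * j') ∈ Y := by
        rw [pow_mul, pow_mul]
        exact mem_sup_left (mem_sup_left (mul_mem (pow_mem hap i') (pow_mem hwp j')))
      have := mul_mem (inv_mem hA) h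
      convert this using 1
      group
    obtain ⟨hk, hm, -⟩ := Wt.split_three hf (wu.pow hf k) (wv.pow hf m) ((hYwt _ hkm).inv hf)
      (by rw [cast_uval D, cast_uval D]; exact hl3) (by rw [cast_uval D, Nat.cast_one]; exact hl1)
      (by rw [cast_uval D, Nat.cast_one]; exact hl2) (by simp)
    refine ⟨hi, hj, ?_, ?_⟩
    · by_contra hd
      exact huY (mem_sup_left (mem_sup_left (mem_of_pow_mem_of_coprime (pow_mem_pser_succ hu1) hk hd)))
    · by_contra hd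
      exact hvY (mem_sup_left (mem_sup_left (mem_of_pow_mem_of_coprime (pow_mem_pser_succ hv1) hm hd)))

/-- The first layer is generated by `⁅a, w⁆` and `c ^ p`. -/
theorem pser_one_gen {Y : Subgroup N} (h2 : pser p E 2 ≤ Y) (hz : ⁅a, w⁆ ∈ Y) (hc : c ^ p ∈ Y) :
    pser p E 1 ≤ Y := by
  haveI := D.normal hN
  have hp2 : p ≠ 2 := by omega
  obtain ⟨hap, hwp⟩ := D.pow_aw hN hsr h5
  obtain ⟨hac, hwc⟩ := D.comm_c hN hsr h5
  set π := QuotientGroup.mk' (pser p E 2)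
  have hY : ∀ x, π x ∈ Y.map π → x ∈ Y := fun x hx => by
    obtain ⟨y, hy, he⟩ := hx
    simpa using mul_mem hy (h2 (QuotientGroup.eq.1 he))
  have hbr : ∀ g ∈ E, (∀ h ∈ [a, w, c], ⁅g, h⁆ ∈ Y) → ∀ e ∈ E, ⁅g, e⁆ ∈ Y := by
    intro g hg hgen e he
    let H : Subgroup N :=
      { carrier := {e | e ∈ E ∧ ⁅g, e⁆ ∈ Y}
        one_mem' := ⟨E.one_mem, by simp⟩
        mul_mem' := fun {x y} hx hy => ⟨E.mul_mem hx.1 hy.1, hY _ (by
          rw [mk_comm_mul_right hp2 (i := 0) hg hx.1 hy.1]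
          exact mul_mem (mem_map_of_mem π hx.2) (mem_map_of_mem π hy.2))⟩
        inv_mem' := fun {x} hx => ⟨E.inv_mem hx.1, hY _ (by
          have h3 := mk_comm_mul_right hp2 (i := 0) hg hx.1 (E.inv_mem hx.1)
          rw [mul_inv_cancel, commutatorElement_one_right, map_one] at h3
          show π ⁅g, x⁻¹⁆ ∈ _
          rw [eq_inv_of_mul_eq_one_right h3.symm]
          exact inv_mem (mem_map_of_mem π hx.2))⟩ }
    exact (D.le_of_gen hN (H := H) (fun x hx => ⟨pser_le E 1 hx, h2 (comm_pser_pser_one hp2 (i := 0) hg hx)⟩)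
      ⟨D.aE, hgen a (by simp)⟩ ⟨D.wE, hgen w (by simp)⟩ ⟨D.cE, hgen c (by simp)⟩ he).2
  have hswap : ∀ {x y}, ⁅x, y⁆ ∈ Y → ⁅y, x⁆ ∈ Y := fun {x y} h => by simpa using inv_mem h
  have hca : ∀ e ∈ E, ⁅a, e⁆ ∈ Y := hbr a D.aE (by
    intro h hh
    simp only [List.mem_cons, List.not_mem_nil, or_false] at hh
    rcases hh with rfl | rfl | rfl
    exacts [by simp, hz, h2 hac])
  have hcw : ∀ e ∈ E, ⁅w, e⁆ ∈ Y := hbr w D.wE (by
    intro h hh
    simp only [List.mem_cons, List.not_mem_nil, or_false] at hh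
    rcases hh with rfl | rfl | rfl
    exacts [hswap hz, by simp, h2 hwc])
  have hcc : ∀ e ∈ E, ⁅c, e⁆ ∈ Y := hbr c D.cE (by
    intro h hh
    simp only [List.mem_cons, List.not_mem_nil, or_false] at hh
    rcases hh with rfl | rfl | rfl
    exacts [hswap (h2 hac), hswap (h2 hwc), by simp])
  refine pser_succ_le_of (fun x hx e he => ?_) fun x hx => ?_
  · refine hbr x hx (fun h hh => ?_) e he
    simp only [List.mem_cons, List.not_mem_nil, or_false] at hh
    rcases hh with rfl | rfl | rfl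
    exacts [hswap (hca x hx), hswap (hcw x hx), hswap (hcc x hx)]
  · let H : Subgroup N :=
      { carrier := {e | e ∈ E ∧ e ^ p ∈ Y}
        one_mem' := ⟨E.one_mem, by simp⟩
        mul_mem' := fun {x y} hx hy => ⟨E.mul_mem hx.1 hy.1, hY _ (by
          rw [show π ((x * y) ^ p) = π (x ^ p) * π (y ^ p) by
            rw [← map_mul]
            exact (QuotientGroup.eq.2 (mul_pow_congr hp2 (i := 0) hx.1 hy.1)).symm]
          exact mul_mem (mem_map_of_mem π hx.2) (mem_map_of_mem π hy.2))⟩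
        inv_mem' := fun {x} hx => ⟨E.inv_mem hx.1, by rw [inv_pow]; exact inv_mem hx.2⟩ }
    exact (D.le_of_gen hN (H := H) (fun y hy => ⟨pser_le E 1 hy, h2 (pow_mem_pser_succ hy)⟩)
      ⟨D.aE, h2 hap⟩ ⟨D.wE, h2 hwp⟩ ⟨D.cE, hc⟩ hx).2

/-- The second layer: the fixed generators commute with `c`, and only the brackets of `⁅a, w⁆` with `a`
and `w` and `c ^ (p * p)` survive. -/
theorem second_layer : ⁅a, w⁆ ^ p ∈ pser p E 3 ∧ ⁅⁅a, w⁆, c⁆ ∈ pser p E 3 ∧ ⁅c ^ p, a⁆ ∈ pser p E 3 ∧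
    ⁅c ^ p, w⁆ ∈ pser p E 3 ∧
    ∀ {Y : Subgroup N}, pser p E 3 ≤ Y → ⁅⁅a, w⁆, a⁆ ∈ Y → ⁅⁅a, w⁆, w⁆ ∈ Y → c ^ (p * p) ∈ Y →
      pser p E 2 ≤ Y := by
  haveI := D.normal hN
  have hp2 : p ≠ 2 := by omega
  obtain ⟨hap, hwp⟩ := D.pow_aw hN hsr h5
  obtain ⟨hac, hwc⟩ := D.comm_c hN hsr h5
  set z := ⁅a, w⁆ with hz
  have hz1 : z ∈ pser p E 1 := comm_mem_pser_one D.aE D.wE
  have hcp1 : c ^ p ∈ pser p E 1 := pow_mem_pser_one D.cE
  set π := QuotientGroup.mk' (pser p E 3) with hπdef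
  have hπ1 : ∀ {x}, π x = 1 ↔ x ∈ pser p E 3 := fun {x} => QuotientGroup.eq_one_iff x
  have hzp : z ^ p ∈ pser p E 3 := by
    have h1 := comm_pow_congr hp2 (i := 0) (x := a) (e := w) D.aE D.wE
    have h2 : ⁅w, a ^ p⁆ ∈ pser p E 3 := comm_mem_pser_succ' hap D.wE
    have h3 := mul_mem h2 (inv_mem h1)
    rw [mul_inv_rev, inv_inv, mul_inv_cancel_left, ← commutatorElement_inv a w, inv_pow] at h3
    exact (inv_mem_iff).1 h3
  have hzc : ⁅z, c⁆ ∈ pser p E 3 := by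
    -- conjugation by `c` moves `a` and `w` by central elements
    have hc2 : ∀ x ∈ pser p E 2, ∀ y ∈ E, Commute (π x) (π y) := fun x hx y hy => by
      rw [← commutatorElement_eq_one_iff_commute, ← map_commutatorElement]
      exact hπ1.2 (comm_mem_pser_succ hx hy)
    have hac' : ⁅c, a⁆ ∈ pser p E 2 := by simpa using inv_mem hac
    have hwc' : ⁅c, w⁆ ∈ pser p E 2 := by simpa using inv_mem hwc
    rw [← hπ1]
    have e : π (c * z * c⁻¹) = π z := by
      rw [show c * z * c⁻¹ = ⁅⁅c, a⁆ * a, ⁅c, w⁆ * w⁆ by rw [hz]; simp only [commutatorElement_def]; group,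
        hz, map_commutatorElement π (⁅c, a⁆ * a), map_commutatorElement π a, map_mul π, map_mul π]
      have d1 := hc2 _ hac' w D.wE
      have d1' := hc2 _ hac' a D.aE
      have d2 := hc2 _ hwc' a D.aE
      have d2' := hc2 _ hwc' w D.wE
      have d3 := hc2 _ hac' _ (pser_le E 2 hwc')
      set A := π a
      set W := π w
      set P := π ⁅c, a⁆
      set Q := π ⁅c, w⁆
      rw [commutatorElement_def, commutatorElement_def]
      calc P * A * (Q * W) * (P * A)⁻¹ * (Q * W)⁻¹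
          = P * (A * Q) * W * A⁻¹ * P⁻¹ * W⁻¹ * Q⁻¹ := by group
        _ = P * Q * (A * W * A⁻¹) * (P⁻¹ * W⁻¹) * Q⁻¹ := by rw [← d2.eq]; group
        _ = P * Q * (A * W * A⁻¹ * W⁻¹) * (P⁻¹ * Q⁻¹) := by rw [(d1.inv_inv).eq]; group
        _ = (A * W * A⁻¹ * W⁻¹) * (P * Q * (P⁻¹ * Q⁻¹)) := by
            have : Commute (P * Q) (A * W * A⁻¹ * W⁻¹) :=
              (((d1'.mul_left d2).mul_right (d1.mul_left d2')).mul_right (d1'.mul_left d2).inv_right).mul_right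
                (d1.mul_left d2').inv_right
            rw [this.eq]; group
        _ = A * W * A⁻¹ * W⁻¹ := by rw [d3.eq]; group
    rw [show ⁅z, c⁆ = z * (c * z * c⁻¹)⁻¹ by simp only [commutatorElement_def]; group, map_mul, map_inv, e,
      mul_inv_cancel]
  have hcpg : ∀ g ∈ E, ⁅g, c⁆ ∈ pser p E 2 → ⁅c ^ p, g⁆ ∈ pser p E 3 := fun g hg h => by
    have h1 := comm_pow_congr hp2 (i := 0) (x := c) (e := g) D.cE hg
    have h2 := mul_mem (pow_mem_pser_succ h) h1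
    rw [mul_inv_cancel_left] at h2
    simpa using inv_mem h2
  have hcpa := hcpg a D.aE hac
  have hcpw := hcpg w D.wE hwc
  refine ⟨hzp, hzc, hcpa, hcpw, fun {Y} h3 hza hzw hcc => ?_⟩
  have hY : ∀ x, π x ∈ Y.map π → x ∈ Y := fun x hx => by
    obtain ⟨y, hy, he⟩ := hx
    simpa using mul_mem hy (h3 (QuotientGroup.eq.1 he))
  let H : Subgroup N :=
    { carrier := {x | x ∈ pser p E 1 ∧ x ^ p ∈ Y ∧ ⁅x, a⁆ ∈ Y ∧ ⁅x, w⁆ ∈ Y ∧ ⁅x, c⁆ ∈ Y}
      one_mem' := ⟨one_mem _, by simp, by simp, by simp, by simp⟩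
      mul_mem' := fun {x y} hx hy => by
        have hmul : ∀ g ∈ E, ⁅x, g⁆ ∈ Y → ⁅y, g⁆ ∈ Y → ⁅x * y, g⁆ ∈ Y := fun g hg h h' => hY _ (by
          rw [hπdef, mk_comm_mul_left hp2 (i := 1) hx.1 hy.1 hg]
          exact mul_mem (mem_map_of_mem π h) (mem_map_of_mem π h'))
        refine ⟨mul_mem hx.1 hy.1, hY _ ?_, hmul a D.aE hx.2.2.1 hy.2.2.1, hmul w D.wE hx.2.2.2.1 hy.2.2.2.1,
          hmul c D.cE hx.2.2.2.2 hy.2.2.2.2⟩
        rw [show π ((x * y) ^ p) = π (x ^ p) * π (y ^ p) by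
          rw [← map_mul]
          exact (QuotientGroup.eq.2 (mul_pow_congr hp2 (i := 1) hx.1 hy.1)).symm]
        exact mul_mem (mem_map_of_mem π hx.2.1) (mem_map_of_mem π hy.2.1)
      inv_mem' := fun {x} hx => by
        have hinv : ∀ g ∈ E, ⁅x, g⁆ ∈ Y → ⁅x⁻¹, g⁆ ∈ Y := fun g hg h => hY _ (by
          have h4 := mk_comm_mul_left hp2 (i := 1) (inv_mem hx.1) hx.1 hg
          rw [inv_mul_cancel, commutatorElement_one_left, map_one] at h4
          rw [hπdef, eq_inv_of_mul_eq_one_left h4.symm]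
          exact inv_mem (mem_map_of_mem π h))
        exact ⟨inv_mem hx.1, by rw [inv_pow]; exact inv_mem hx.2.1, hinv a D.aE hx.2.2.1,
          hinv w D.wE hx.2.2.2.1, hinv c D.cE hx.2.2.2.2⟩ }
  have hP1 : pser p E 1 ≤ H := D.pser_one_gen hN hsr h5
    (fun x hx => ⟨pser_succ_le E 1 hx, h3 (pow_mem_pser_succ hx), h3 (comm_mem_pser_succ hx D.aE),
      h3 (comm_mem_pser_succ hx D.wE), h3 (comm_mem_pser_succ hx D.cE)⟩)
    ⟨hz1, h3 hzp, hza, hzw, h3 hzc⟩
    ⟨hcp1, by rw [← pow_mul]; exact hcc, h3 hcpa, h3 hcpw, by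
      rw [commutatorElement_eq_one_iff_commute.2 (Commute.pow_self c p)]; exact one_mem _⟩
  refine pser_succ_le_of (fun x hx e he => ?_) fun x hx => (hP1 hx).2.1
  let G : Subgroup N :=
    { carrier := {e | e ∈ E ∧ ⁅x, e⁆ ∈ Y}
      one_mem' := ⟨E.one_mem, by simp⟩
      mul_mem' := fun {u v} hu hv => ⟨E.mul_mem hu.1 hv.1, hY _ (by
        rw [hπdef, mk_comm_mul_right hp2 (i := 1) hx hu.1 hv.1]
        exact mul_mem (mem_map_of_mem π hu.2) (mem_map_of_mem π hv.2))⟩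
      inv_mem' := fun {u} hu => ⟨E.inv_mem hu.1, hY _ (by
        have h4 := mk_comm_mul_right hp2 (i := 1) hx hu.1 (E.inv_mem hu.1)
        rw [mul_inv_cancel, commutatorElement_one_right, map_one] at h4
        rw [hπdef, eq_inv_of_mul_eq_one_right h4.symm]
        exact inv_mem (mem_map_of_mem π hu.2))⟩ }
  exact (D.le_of_gen hN (H := G) (fun f hf => ⟨pser_le E 1 hf, h3 (comm_pser_pser_one hp2 hx hf)⟩)
    ⟨D.aE, (hP1 hx).2.2.1⟩ ⟨D.wE, (hP1 hx).2.2.2.1⟩ ⟨D.cE, (hP1 hx).2.2.2.2⟩ he).2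

end Torus

end Cfsg.Agent.H91.Rank3
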